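import Mathlib

/-!
Interface for the 3-local recognition of the triality extensions of `Ω⁺(8,2)`: the data read
from the centraliser `C` of a 3-central element `z`.

`Q = ⟨p,i₁⟩ ∘ ⟨a,i₂⟩` is extraspecial of order `3^5`, `y` completes a Sylow subgroup,
`J = ⟨z,i₁,i₂,y⟩` is elementary abelian of order 81 and carries the form
`q = ζ υ - ι₁² + ι₂²` (coordinates on `z,i₁,i₂,y`): `q = 0` conjugates of `z`, `q = 1` type of
`i₂`, `q = -1` type of `i₁`. `t` is the involution of the quaternion group `O` which acts on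
`⟨p,i₁⟩`; when `m = 2` the involution `u` inverts `⟨a,i₂⟩`; `ν` inverts `J`.
-/

set_option autoImplicit false

namespace CfsgLib.OEightLocal

variable (G : Type*) [Group G]

/-- The configuration. -/
structure Loc where
  z : G
  i₁ : G
  i₂ : G
  y : G
  p : G
  a : G
  t : G
  u : G
  ν : G
  O : Subgroup G
  m : ℕ
  hm : m = 1 ∨ m = 2
  -- orders
  cube_z : z ^ 3 = 1
  cube_i₁ : i₁ ^ 3 = 1
  cube_i₂ : i₂ ^ 3 = 1
  cube_y : y ^ 3 = 1
  cube_p : p ^ 3 = 1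
  cube_a : a ^ 3 = 1
  z_ne : z ≠ 1
  -- commutation
  comm_zp : Commute z p
  comm_za : Commute z a
  comm_zi₁ : Commute z i₁
  comm_zi₂ : Commute z i₂
  comm_zy : Commute z y
  comm_pa : Commute p a
  comm_pi₂ : Commute p i₂
  comm_ai₁ : Commute a i₁
  comm_i₁i₂ : Commute i₁ i₂
  comm_yi₁ : Commute y i₁
  comm_yi₂ : Commute y i₂
  rel_p : p * i₁ * p⁻¹ * i₁⁻¹ = z
  rel_a : i₂ * a * i₂⁻¹ * a⁻¹ = z
  rel_yp : y * p * y⁻¹ = p * i₁ * z
  rel_ya : y * a * y⁻¹ = a * i₂ * z⁻¹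
  -- the quaternion group
  card_O : Nat.card O = 8
  O_t : ∀ w ∈ O, orderOf w = 2 ↔ w = t
  O_comm : ∀ w ∈ O, Commute w z ∧ Commute w a ∧ Commute w i₂
  O_y : ∀ w ∈ O, y * w * y⁻¹ ∈ O
  O_Q : ∀ w ∈ O, w * p * w⁻¹ ∈ Subgroup.closure {z, i₁, p} ∧
    w * i₁ * w⁻¹ ∈ Subgroup.closure {z, i₁, p}
  t_mem : t ∈ O
  t_p : t * p * t⁻¹ = p⁻¹
  t_i₁ : t * i₁ * t⁻¹ = i₁⁻¹
  comm_ty : Commute t y
  -- the outer involution
  u_one : m = 1 → u = 1
  u_ord : m = 2 → orderOf u = 2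
  comm_uz : Commute u z
  comm_ut : Commute u t
  comm_uy : Commute u y
  comm_up : Commute u p
  comm_ui₁ : Commute u i₁
  u_O : ∀ w ∈ O, Commute u w
  u_a : m = 2 → u * a * u⁻¹ = a⁻¹
  u_i₂ : m = 2 → u * i₂ * u⁻¹ = i₂⁻¹
  -- the inversion
  ν_sq : ν * ν = 1
  ν_z : ν * z * ν⁻¹ = z⁻¹
  ν_i₁ : ν * i₁ * ν⁻¹ = i₁⁻¹
  ν_i₂ : ν * i₂ * ν⁻¹ = i₂⁻¹
  ν_y : ν * y * ν⁻¹ = y⁻¹
  comm_νt : Commute ν t
  comm_νu : Commute ν u
  comm_νp : Commute ν p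
  comm_νa : Commute ν a
  -- the centraliser of `z`, a Sylow subgroup
  card_C : Nat.card (Subgroup.centralizer ({z} : Set G)) = 5832 * m
  C_eq : Subgroup.centralizer ({z} : Set G) =
    Subgroup.closure {z, i₁, i₂, y, p, a, u} ⊔ O
  sylow : ∃ S : Sylow 3 G, (S : Subgroup G) = Subgroup.closure {z, i₁, i₂, y, p, a}
  card_S : Nat.card (Subgroup.closure {z, i₁, i₂, y, p, a} : Subgroup G) = 729
  card_Q : Nat.card (Subgroup.closure {z, i₁, i₂, p, a} : Subgroup G) = 243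
  card_J : Nat.card (Subgroup.closure {z, i₁, i₂, y} : Subgroup G) = 81
  -- fusion of `z`
  conj_y : IsConj z y
  conj_diag : IsConj z (i₁ * i₂) ∧ IsConj z (i₁ * i₂⁻¹)
  conj_mem_Q : ∀ g : G, g * z * g⁻¹ ∈ Subgroup.closure ({z, i₁, i₂, p, a} : Set G) →
    g * z * g⁻¹ ∈ Subgroup.zpowers z ∨
      ∃ k l : ℤ, ¬ (3 : ℤ) ∣ l ∧ ∃ q ∈ Subgroup.closure ({z, i₁, p} : Set G),
        q ∉ Subgroup.zpowers z ∧ g * z * g⁻¹ = q * z ^ k * i₂ ^ l
  -- `J` is the only abelian subgroup of its order in the Sylow subgroup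
  abelian_eq_J : ∀ A : Subgroup G, A ≤ Subgroup.closure {z, i₁, i₂, y, p, a} → IsMulCommutative A →
    Nat.card A = 81 → A = Subgroup.closure {z, i₁, i₂, y}
  cent_J : Subgroup.centralizer (Subgroup.closure {z, i₁, i₂, y} : Set G) =
    Subgroup.closure {z, i₁, i₂, y}
  signalizer : ∀ K : Subgroup G, ¬ 3 ∣ Nat.card K →
    (∀ j ∈ Subgroup.closure ({z, i₁, i₂, y} : Set G), ∀ k ∈ K, j * k * j⁻¹ ∈ K) → K = ⊥

variable {G}

/-- `Q`. -/
def Loc.Q (L : Loc G) : Subgroup G := Subgroup.closure {L.z, L.i₁, L.i₂, L.p, L.a}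

/-- `J`. -/
def Loc.J (L : Loc G) : Subgroup G := Subgroup.closure {L.z, L.i₁, L.i₂, L.y}

/-- The Sylow subgroup. -/
def Loc.S (L : Loc G) : Subgroup G := Subgroup.closure {L.z, L.i₁, L.i₂, L.y, L.p, L.a}

/-- The centraliser of `z`. -/
def Loc.C (L : Loc G) : Subgroup G := Subgroup.centralizer {L.z}

end CfsgLib.OEightLocal
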