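import Cfsg.Agent.Lib.OEightLocal.Basic

/-!
The centralisers of `i₁` and of `i₂` inside the centraliser of `z`.
-/

set_option autoImplicit false
set_option linter.unusedSectionVars false
set_option linter.style.haveILetI false

namespace CfsgLib.OEightLocal.Cent

variable {G : Type*} [Group G]

theorem pow_mem_imp {H : Subgroup G} {x : G} (h3 : x ^ 3 = 1) {n : ℕ} (hn : n % 3 ≠ 0) (h : x ^ n ∈ H) :
    x ∈ H := by
  have e : x ^ n = x ^ (n % 3) := by
    conv_lhs => rw [← Nat.mod_add_div n 3, pow_add, pow_mul, h3, one_pow, mul_one]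
  rcases (show n % 3 = 1 ∨ n % 3 = 2 by omega) with h1 | h1 <;> rw [h1] at e <;> rw [e] at h
  · simpa using h
  · have h2 := H.inv_mem h
    have e2 : (x ^ 2)⁻¹ = x := inv_eq_of_mul_eq_one_right (by rw [← pow_succ]; exact h3)
    rwa [e2] at h2

theorem pow_val_add {x : G} (h3 : x ^ 3 = 1) (a b : ZMod 3) : x ^ (a + b).val = x ^ a.val * x ^ b.val := by
  rw [← pow_add, ZMod.val_add]
  conv_rhs => rw [← Nat.mod_add_div (a.val + b.val) 3, pow_add, pow_mul, h3, one_pow, mul_one]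

theorem pow_eq_pow {x : G} (h3 : x ^ 3 = 1) {m n : ℕ} (h : m % 3 = n % 3) : x ^ m = x ^ n := by
  rw [← Nat.mod_add_div m 3, ← Nat.mod_add_div n 3, pow_add, pow_add, pow_mul, pow_mul, h3, one_pow,
    one_pow, h]

theorem pow_val_inj {x : G} (h3 : x ^ 3 = 1) (h1 : x ≠ 1) {a b : ZMod 3} (h : x ^ a.val = x ^ b.val) : a = b := by
  by_contra hne
  have hd : x ^ (a - b).val = 1 := by
    have := pow_val_add h3 (a - b) b
    rw [sub_add_cancel, h] at this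
    exact right_eq_mul.1 this
  have : (a - b).val % 3 ≠ 0 := by
    rw [Nat.mod_eq_of_lt (ZMod.val_lt _)]
    exact (ZMod.val_ne_zero _).2 (sub_ne_zero.2 hne)
  exact h1 (Subgroup.mem_bot.1 (pow_mem_imp h3 this (Subgroup.mem_bot.2 hd)))

variable [Finite G]

theorem card_mul_three_le {S H K : Subgroup G} (hS : IsPGroup 3 S) (hK : K ≤ S) (hlt : H < K) :
    3 * Nat.card H ≤ Nat.card K := by
  haveI : Fact (Nat.Prime 3) := ⟨Nat.prime_three⟩
  obtain ⟨n, hn⟩ := IsPGroup.iff_card.1 (hS.to_le hK)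
  obtain ⟨k, hk⟩ := IsPGroup.iff_card.1 (hS.to_le (hlt.le.trans hK))
  have hlt' : Nat.card H < Nat.card K := by
    by_contra hc
    exact hlt.ne (Subgroup.eq_of_le_of_card_ge hlt.le (not_lt.1 hc))
  rw [hn, hk] at hlt' ⊢
  rw [← pow_succ']
  exact Nat.pow_le_pow_right (by norm_num) ((Nat.pow_lt_pow_iff_right (by norm_num)).1 hlt')

/-- The orbit and the stabiliser. -/
theorem card_stab (C : Subgroup G) (x : G) :
    Nat.card C = Nat.card ↥(C ⊓ Subgroup.centralizer ({x} : Set G)) *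
      Nat.card (Set.range fun c : C => (c : G) * x * (c : G)⁻¹) := by
  set f := fun c : C => (c : G) * x * (c : G)⁻¹
  set K : Subgroup C := (C ⊓ Subgroup.centralizer ({x} : Set G)).subgroupOf C
  have key : ∀ a b : C, f a = f b ↔ a⁻¹ * b ∈ K := by
    intro a b
    rw [Subgroup.mem_subgroupOf, Subgroup.mem_inf, Subgroup.mem_centralizer_singleton_iff]
    simp only [Subgroup.coe_mul, Subgroup.coe_inv, f]
    constructor
    · intro h
      refine ⟨mul_mem (inv_mem a.2) b.2, ?_⟩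
      calc (a : G)⁻¹ * b * x = (a : G)⁻¹ * ((b : G) * x * (b : G)⁻¹) * b := by group
        _ = x * ((a : G)⁻¹ * b) := by rw [← h]; group
    · rintro ⟨-, h⟩
      calc (a : G) * x * (a : G)⁻¹ = (a : G) * (x * ((a : G)⁻¹ * b)) * (b : G)⁻¹ := by group
        _ = (b : G) * x * (b : G)⁻¹ := by rw [← h]; group
  let e : (C ⧸ K) → Set.range f := fun q => Quotient.liftOn' q (fun a => ⟨f a, a, rfl⟩) fun a b h =>
    Subtype.ext ((key a b).2 (QuotientGroup.leftRel_apply.1 h))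
  have he : Function.Bijective e := by
    constructor
    · intro q r h
      obtain ⟨a, rfl⟩ := QuotientGroup.mk_surjective q
      obtain ⟨b, rfl⟩ := QuotientGroup.mk_surjective r
      exact QuotientGroup.eq.2 ((key a b).1 (congrArg Subtype.val h))
    · rintro ⟨_, a, rfl⟩
      exact ⟨(a : C ⧸ K), rfl⟩
  rw [← Nat.card_eq_of_bijective e he, Subgroup.card_eq_card_quotient_mul_card_subgroup K,
    Nat.card_congr (Subgroup.subgroupOfEquivOfLe inf_le_left).toEquiv, mul_comm]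

theorem eq_one_of_coprime {x : G} {m n : ℕ} (hm : x ^ m = 1) (hn : x ^ n = 1) (h : Nat.Coprime m n) : x = 1 :=
  orderOf_eq_one_iff.1 (Nat.eq_one_of_dvd_coprimes h (orderOf_dvd_of_pow_eq_one hm) (orderOf_dvd_of_pow_eq_one hn))

end CfsgLib.OEightLocal.Cent

namespace CfsgLib.OEightLocal.Loc

open CfsgLib.OEightLocal.Cent

variable {G : Type*} [Group G] (L : Loc G)

theorem mem_gens :
    L.z ∈ L.S ∧ L.i₁ ∈ L.S ∧ L.i₂ ∈ L.S ∧ L.y ∈ L.S ∧ L.p ∈ L.S ∧ L.a ∈ L.S ∧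
      L.z ∈ L.J ∧ L.i₁ ∈ L.J ∧ L.i₂ ∈ L.J ∧ L.y ∈ L.J :=
  ⟨Subgroup.subset_closure (by simp), Subgroup.subset_closure (by simp), Subgroup.subset_closure (by simp),
    Subgroup.subset_closure (by simp), Subgroup.subset_closure (by simp), Subgroup.subset_closure (by simp),
    Subgroup.subset_closure (by simp), Subgroup.subset_closure (by simp), Subgroup.subset_closure (by simp),
    Subgroup.subset_closure (by simp)⟩

theorem J_comm {x w : G} (hx : x ∈ L.J) (hw : w ∈ L.J) : x * w = w * x := by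
  have h : L.J ≤ Subgroup.centralizer (L.J : Set G) := le_of_eq L.cent_J.symm
  exact (Subgroup.mem_centralizer_iff.1 (h hw) x hx)

theorem p_i₁ : L.p * L.i₁ = L.z * L.i₁ * L.p := by
  conv_rhs => rw [← L.rel_p]
  group

theorem a_i₂ : L.a * L.i₂ * L.a⁻¹ = L.z⁻¹ * L.i₂ := by
  conv_rhs => rw [← L.rel_a]
  group

theorem p_not_comm : ¬ Commute L.p L.i₁ := fun h => L.z_ne (by rw [← L.rel_p, h.eq]; group)

theorem a_not_comm : ¬ Commute L.a L.i₂ := fun h => L.z_ne (by rw [← L.rel_a, ← h.eq]; group)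

theorem p_not_J : L.p ∉ L.J := fun h => L.p_not_comm (L.J_comm h L.mem_gens.2.2.2.2.2.2.2.1)

theorem a_not_J : L.a ∉ L.J := fun h => L.a_not_comm (L.J_comm h L.mem_gens.2.2.2.2.2.2.2.2.1)

theorem i₁_not_Z : L.i₁ ∉ Subgroup.zpowers L.z := fun h => L.p_not_comm (by
  obtain ⟨n, hn⟩ := Subgroup.mem_zpowers_iff.1 h
  rw [← hn]; exact L.comm_zp.symm.zpow_right n)

theorem i₂_not_Z : L.i₂ ∉ Subgroup.zpowers L.z := fun h => L.a_not_comm (by
  obtain ⟨n, hn⟩ := Subgroup.mem_zpowers_iff.1 h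
  rw [← hn]; exact L.comm_za.symm.zpow_right n)

theorem i₁_ne : L.i₁ ≠ 1 := fun h => L.i₁_not_Z (h ▸ one_mem _)

theorem i₂_ne : L.i₂ ≠ 1 := fun h => L.i₂_not_Z (h ▸ one_mem _)

theorem t_ord : orderOf L.t = 2 := (L.O_t L.t L.t_mem).2 rfl

theorem t_sq : L.t * L.t = 1 := by rw [← pow_two, ← L.t_ord, pow_orderOf_eq_one]

theorem t_inv : L.t⁻¹ = L.t := inv_eq_of_mul_eq_one_right L.t_sq

variable [Finite G]

theorem S_pgroup : IsPGroup 3 L.S := by
  obtain ⟨S, hS⟩ := L.sylow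
  have h : IsPGroup 3 (S : Subgroup G) := S.2
  rw [hS] at h
  exact h

/-- A subgroup of the Sylow subgroup containing `J` properly, but not the whole of it. -/
theorem card_243 {K : Subgroup G} (hJ : L.J ≤ K) (hK : K ≤ L.S) {x w : G} (hx : x ∈ K) (hxJ : x ∉ L.J)
    (hw : w ∈ L.S) (hwK : w ∉ K) : Nat.card K = 243 := by
  have h1 := card_mul_three_le L.S_pgroup hK (lt_of_le_of_ne hJ fun e => hxJ (e ▸ hx))
  have h2 := card_mul_three_le L.S_pgroup le_rfl (lt_of_le_of_ne hK fun e => hwK (e ▸ hw))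
  rw [show Nat.card L.J = 81 from L.card_J] at h1
  rw [show Nat.card L.S = 729 from L.card_S] at h2
  omega

/-- `⟨z, i₁, i₂, y, p⟩`. -/
def S₀ : Subgroup G := Subgroup.closure {L.z, L.i₁, L.i₂, L.y, L.p}

/-- `⟨z, i₁, i₂, y, a⟩`. -/
def S₁ : Subgroup G := Subgroup.closure {L.z, L.i₁, L.i₂, L.y, L.a}

theorem S₀_le : L.S₀ ≤ Subgroup.centralizer ({L.i₂} : Set G) := (Subgroup.closure_le _).2 (by
  rintro x (rfl | rfl | rfl | rfl | rfl) <;>
    rw [SetLike.mem_coe, Subgroup.mem_centralizer_singleton_iff]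
  exacts [L.comm_zi₂, L.comm_i₁i₂, L.comm_yi₂, L.comm_pi₂])

theorem S₁_le : L.S₁ ≤ Subgroup.centralizer ({L.i₁} : Set G) := (Subgroup.closure_le _).2 (by
  rintro x (rfl | rfl | rfl | rfl | rfl) <;>
    rw [SetLike.mem_coe, Subgroup.mem_centralizer_singleton_iff]
  exacts [L.comm_zi₁, L.comm_i₁i₂.symm, L.comm_yi₁, L.comm_ai₁])

theorem card_S₀ : Nat.card L.S₀ = 243 := by
  refine L.card_243 ?_ ?_ (x := L.p) (Subgroup.subset_closure (by simp)) L.p_not_J L.mem_gens.2.2.2.2.2.1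
    fun h => L.a_not_comm (Subgroup.mem_centralizer_singleton_iff.1 (L.S₀_le h))
  · exact Subgroup.closure_mono (by simp [Set.insert_subset_iff])
  · exact Subgroup.closure_mono (by simp [Set.insert_subset_iff])

theorem card_S₁ : Nat.card L.S₁ = 243 := by
  refine L.card_243 ?_ ?_ (x := L.a) (Subgroup.subset_closure (by simp)) L.a_not_J L.mem_gens.2.2.2.2.1
    fun h => L.p_not_comm (Subgroup.mem_centralizer_singleton_iff.1 (L.S₁_le h))
  · exact Subgroup.closure_mono (by simp [Set.insert_subset_iff])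
  · exact Subgroup.closure_mono (by simp [Set.insert_subset_iff])

theorem gens_C : L.z ∈ L.C ∧ L.i₁ ∈ L.C ∧ L.i₂ ∈ L.C ∧ L.y ∈ L.C ∧ L.p ∈ L.C ∧ L.a ∈ L.C ∧ L.u ∈ L.C ∧
    L.O ≤ L.C := by
  simp only [Loc.C, Subgroup.mem_centralizer_singleton_iff]
  exact ⟨trivial, L.comm_zi₁.eq.symm, L.comm_zi₂.eq.symm, L.comm_zy.eq.symm, L.comm_zp.eq.symm, L.comm_za.eq.symm,
    L.comm_uz.eq, fun w hw => Subgroup.mem_centralizer_singleton_iff.2 (L.O_comm w hw).1⟩

/-- The subgroup of `C(z) ∩ C(i₂)`. -/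
theorem S₀_sup_le : L.S₀ ⊔ L.O ≤ L.C ⊓ Subgroup.centralizer ({L.i₂} : Set G) := by
  obtain ⟨h1, h2, h3, h4, h5, -, -, hO⟩ := L.gens_C
  refine sup_le (le_inf ((Subgroup.closure_le _).2 ?_) L.S₀_le)
    (le_inf hO fun w hw => Subgroup.mem_centralizer_singleton_iff.2 (L.O_comm w hw).2.2)
  rintro x (rfl | rfl | rfl | rfl | rfl) <;> assumption

theorem conj_i₂_pow (k : ℕ) : L.a ^ k * L.i₂ * (L.a ^ k)⁻¹ = L.z⁻¹ ^ k * L.i₂ := by
  induction k with
  | zero => simp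
  | succ k ih =>
    have hz : Commute L.a (L.z⁻¹ ^ k) := (L.comm_za.inv_left.pow_left k).symm
    calc L.a ^ (k + 1) * L.i₂ * (L.a ^ (k + 1))⁻¹
        = L.a * (L.a ^ k * L.i₂ * (L.a ^ k)⁻¹) * L.a⁻¹ := by rw [pow_succ']; group
      _ = L.z⁻¹ ^ k * (L.a * L.i₂ * L.a⁻¹) := by rw [ih, ← mul_assoc, hz.eq]; group
      _ = _ := by rw [L.a_i₂, pow_succ, mul_assoc]

theorem conj_i₁_pow (k : ℕ) : L.p ^ k * L.i₁ * (L.p ^ k)⁻¹ = L.z ^ k * L.i₁ := by
  induction k with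
  | zero => simp
  | succ k ih =>
    have hz : Commute L.p (L.z ^ k) := (L.comm_zp.pow_left k).symm
    calc L.p ^ (k + 1) * L.i₁ * (L.p ^ (k + 1))⁻¹
        = L.p * (L.p ^ k * L.i₁ * (L.p ^ k)⁻¹) * L.p⁻¹ := by rw [pow_succ']; group
      _ = L.z ^ k * (L.p * L.i₁ * L.p⁻¹) := by rw [ih, ← mul_assoc, hz.eq]; group
      _ = _ := by rw [show L.p * L.i₁ * L.p⁻¹ = L.z * L.i₁ by rw [L.p_i₁]; group, pow_succ, mul_assoc]

/-- The orbit of `i₂` under the centraliser of `z`. -/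
theorem cz_i₂_aux : Nat.card ↥(L.C ⊓ Subgroup.centralizer ({L.i₂} : Set G)) = 1944 ∧
    ∀ c ∈ L.C, ∃ k : ℕ, c * L.i₂ * c⁻¹ = L.z ^ k * L.i₂ ∨ (L.m = 2 ∧ c * L.i₂ * c⁻¹ = L.z ^ k * L.i₂⁻¹) := by
  classical
  set K := L.C ⊓ Subgroup.centralizer ({L.i₂} : Set G)
  have h243 : 243 ∣ Nat.card K := L.card_S₀ ▸ Subgroup.card_dvd_of_le (le_sup_left.trans L.S₀_sup_le)
  have h8 : 8 ∣ Nat.card K := L.card_O ▸ Subgroup.card_dvd_of_le (le_sup_right.trans L.S₀_sup_le)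
  obtain ⟨d, hd⟩ : 1944 ∣ Nat.card K := (show Nat.Coprime 243 8 by norm_num).mul_dvd_of_dvd_of_dvd h243 h8
  have key := card_stab L.C L.i₂
  rw [show Nat.card L.C = 5832 * L.m from L.card_C, show L.C ⊓ Subgroup.centralizer ({L.i₂} : Set G) = K from rfl,
    hd] at key
  have hzi : L.z⁻¹ ^ 3 = 1 := by rw [inv_pow, L.cube_z, inv_one]
  have hzi1 : L.z⁻¹ ≠ 1 := fun h => L.z_ne (inv_eq_one.1 h)
  obtain ⟨-, -, -, -, -, ha, hu, -⟩ := L.gens_C
  set R := Set.range fun c : L.C => (c : G) * L.i₂ * (c : G)⁻¹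
  let f : ZMod 3 × Fin L.m → R := fun q =>
    ⟨_, ⟨L.a ^ q.1.val * L.u ^ q.2.val, mul_mem (pow_mem ha _) (pow_mem hu _)⟩, rfl⟩
  have hfv : ∀ q, (f q : G) = L.z⁻¹ ^ q.1.val * L.i₂ ∨
      (L.m = 2 ∧ q.2.val = 1 ∧ (f q : G) = L.z ^ q.1.val * L.i₂⁻¹) := by
    rintro ⟨k, e⟩
    rcases (show e.val = 0 ∨ (L.m = 2 ∧ e.val = 1) by rcases L.hm with h | h <;> omega) with he | ⟨hm, he⟩
    · left
      show L.a ^ k.val * L.u ^ e.val * L.i₂ * (L.a ^ k.val * L.u ^ e.val)⁻¹ = _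
      rw [he, pow_zero, mul_one, L.conj_i₂_pow]
    · right
      refine ⟨hm, he, ?_⟩
      show L.a ^ k.val * L.u ^ e.val * L.i₂ * (L.a ^ k.val * L.u ^ e.val)⁻¹ = _
      rw [he, pow_one, show L.a ^ k.val * L.u * L.i₂ * (L.a ^ k.val * L.u)⁻¹ =
        (L.a ^ k.val * L.i₂⁻¹ * (L.a ^ k.val)⁻¹) by rw [← L.u_i₂ hm]; group, ← conj_inv, L.conj_i₂_pow,
        mul_inv_rev, inv_pow, inv_inv]
      exact ((L.comm_zi₂.pow_left k.val).inv_right).eq.symm
  have hinj : Function.Injective f := by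
    intro q r h
    have h' : (f q : G) = f r := congrArg Subtype.val h
    have hno : ∀ j l : ℕ, L.z⁻¹ ^ j * L.i₂ ≠ L.z ^ l * L.i₂⁻¹ := fun j l e => L.i₂_not_Z (by
      refine pow_mem_imp L.cube_i₂ (n := 2) (by norm_num) ?_
      have : L.i₂ ^ 2 = (L.z⁻¹ ^ j)⁻¹ * L.z ^ l := by
        rw [pow_two]
        calc L.i₂ * L.i₂ = (L.z⁻¹ ^ j)⁻¹ * (L.z⁻¹ ^ j * L.i₂) * L.i₂ := by group
          _ = _ := by rw [e]; group
      rw [this]
      exact mul_mem (inv_mem (pow_mem (inv_mem (Subgroup.mem_zpowers _)) _)) (pow_mem (Subgroup.mem_zpowers _) _))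
    rcases hfv q with hq | ⟨hm, hq2, hq⟩ <;> rcases hfv r with hr | ⟨hm', hr2, hr⟩ <;> rw [hq, hr] at h'
    · have h1 := pow_val_inj hzi hzi1 (mul_right_cancel h')
      have hq2 : q.2.val = r.2.val := by
        rcases L.hm with hm | hm
        · omega
        · by_contra hne
          rcases (show q.2.val = 0 ∧ r.2.val = 1 ∨ q.2.val = 1 ∧ r.2.val = 0 by omega) with ⟨-, hh⟩ | ⟨hh, -⟩
          · refine hno q.1.val r.1.val ?_
            rw [← hq, show (f q : G) = f r from congrArg Subtype.val h]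
            show L.a ^ r.1.val * L.u ^ r.2.val * L.i₂ * (L.a ^ r.1.val * L.u ^ r.2.val)⁻¹ = _
            rw [hh, pow_one, show L.a ^ r.1.val * L.u * L.i₂ * (L.a ^ r.1.val * L.u)⁻¹ =
              (L.a ^ r.1.val * L.i₂⁻¹ * (L.a ^ r.1.val)⁻¹) by rw [← L.u_i₂ hm]; group, ← conj_inv,
              L.conj_i₂_pow, mul_inv_rev, inv_pow, inv_inv]
            exact ((L.comm_zi₂.pow_left r.1.val).inv_right).eq.symm
          · refine hno r.1.val q.1.val ?_
            rw [← hr, show (f r : G) = f q from congrArg Subtype.val h.symm]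
            show L.a ^ q.1.val * L.u ^ q.2.val * L.i₂ * (L.a ^ q.1.val * L.u ^ q.2.val)⁻¹ = _
            rw [hh, pow_one, show L.a ^ q.1.val * L.u * L.i₂ * (L.a ^ q.1.val * L.u)⁻¹ =
              (L.a ^ q.1.val * L.i₂⁻¹ * (L.a ^ q.1.val)⁻¹) by rw [← L.u_i₂ hm]; group, ← conj_inv,
              L.conj_i₂_pow, mul_inv_rev, inv_pow, inv_inv]
            exact ((L.comm_zi₂.pow_left q.1.val).inv_right).eq.symm
      exact Prod.ext h1 (Fin.ext hq2)
    · exact absurd h' (hno _ _)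
    · exact absurd h'.symm (hno _ _)
    · exact Prod.ext (pow_val_inj L.cube_z L.z_ne (mul_right_cancel h')) (Fin.ext (hq2.trans hr2.symm))
  have hcard : Nat.card (ZMod 3 × Fin L.m) = 3 * L.m := by simp
  have hle := Nat.card_le_card_of_injective f hinj
  rw [hcard] at hle
  have hd0 : 1 ≤ d := Nat.one_le_iff_ne_zero.2 fun h0 => by
    rw [h0, mul_zero] at hd; exact Nat.card_pos.ne' hd
  have hd1 : d = 1 := by
    by_contra hd1
    have h2 : 2 * (3 * L.m) ≤ d * Nat.card R := Nat.mul_le_mul (by omega) hle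
    rcases L.hm with hm | hm <;> rw [hm] at key h2 <;> nlinarith
  refine ⟨by rw [hd, hd1], fun c hc => ?_⟩
  have hR : Nat.card R = 3 * L.m := by
    rw [hd1] at key
    omega
  obtain ⟨q, hq⟩ := ((Nat.bijective_iff_injective_and_card f).2 ⟨hinj, hcard.trans hR.symm⟩).2
    ⟨_, ⟨c, hc⟩, rfl⟩
  have e : (f q : G) = c * L.i₂ * c⁻¹ := congrArg Subtype.val hq
  rcases hfv q with h | ⟨hm, -, h⟩ <;> rw [e] at h
  · refine ⟨2 * q.1.val, Or.inl ?_⟩
    rw [h, pow_mul, show L.z ^ 2 = L.z⁻¹ from (inv_eq_of_mul_eq_one_left (by rw [← pow_succ]; exact L.cube_z)).symm]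
  · exact ⟨q.1.val, Or.inr ⟨hm, h⟩⟩

theorem card_cz_i₂ :
    Nat.card ↥(Subgroup.centralizer ({L.z} : Set G) ⊓ Subgroup.centralizer ({L.i₂} : Set G)) = 1944 :=
  L.cz_i₂_aux.1

theorem card_S₀_sup : Nat.card ↥(L.S₀ ⊔ L.O) = 1944 := by
  refine le_antisymm (L.cz_i₂_aux.1 ▸ Subgroup.card_le_of_le L.S₀_sup_le) (Nat.le_of_dvd Nat.card_pos ?_)
  exact (show Nat.Coprime 243 8 by norm_num).mul_dvd_of_dvd_of_dvd
    (L.card_S₀ ▸ Subgroup.card_dvd_of_le le_sup_left) (L.card_O ▸ Subgroup.card_dvd_of_le le_sup_right)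

theorem cz_i₂_eq : Subgroup.centralizer ({L.z} : Set G) ⊓ Subgroup.centralizer ({L.i₂} : Set G) =
    Subgroup.closure {L.z, L.i₁, L.i₂, L.y, L.p} ⊔ L.O :=
  (Subgroup.eq_of_le_of_card_ge L.S₀_sup_le (by rw [L.card_S₀_sup, L.cz_i₂_aux.1])).symm

theorem O_free {w : G} (hw : w ∈ L.O) (h : w * L.i₁ * w⁻¹ * L.i₁⁻¹ ∈ Subgroup.zpowers L.z) : w = 1 := by
  classical
  set Z := Subgroup.zpowers L.z
  let F : Subgroup G :=
    { carrier := {v | v ∈ L.O ∧ v * L.i₁ * v⁻¹ * L.i₁⁻¹ ∈ Z}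
      one_mem' := ⟨one_mem _, by simp⟩
      mul_mem' := fun {a b} ha hb => by
        refine ⟨mul_mem ha.1 hb.1, ?_⟩
        obtain ⟨k, hk⟩ := Subgroup.mem_zpowers_iff.1 hb.2
        have e : a * b * L.i₁ * (a * b)⁻¹ * L.i₁⁻¹ =
            a * (b * L.i₁ * b⁻¹ * L.i₁⁻¹) * a⁻¹ * (a * L.i₁ * a⁻¹ * L.i₁⁻¹) := by group
        rw [e, ← hk, ((L.O_comm a ha.1).1.zpow_right k).eq, mul_inv_cancel_right, hk]
        exact mul_mem hb.2 ha.2
      inv_mem' := fun {a} ha => by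
        refine ⟨inv_mem ha.1, ?_⟩
        obtain ⟨k, hk⟩ := Subgroup.mem_zpowers_iff.1 (inv_mem ha.2)
        have e : a⁻¹ * L.i₁ * a⁻¹⁻¹ * L.i₁⁻¹ = a⁻¹ * (a * L.i₁ * a⁻¹ * L.i₁⁻¹)⁻¹ * a := by group
        rw [e, ← hk, ((L.O_comm a ha.1).1.inv_left.zpow_right k).eq, inv_mul_cancel_right, hk]
        exact inv_mem ha.2 }
  by_contra hne
  have hwF : w ∈ F := ⟨hw, h⟩
  obtain ⟨k, -, hk⟩ := (Nat.dvd_prime_pow Nat.prime_two).1
    (show orderOf w ∣ 2 ^ 3 by rw [show 2 ^ 3 = Nat.card L.O from L.card_O.symm]; exact Subgroup.orderOf_dvd_natCard _ hw)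
  have hk1 : k ≠ 0 := fun h0 => hne (orderOf_eq_one_iff.1 (by rw [hk, h0, pow_zero]))
  have hv : orderOf (w ^ 2 ^ (k - 1)) = 2 := by
    rw [orderOf_pow' _ (by positivity), hk, Nat.gcd_eq_right (pow_dvd_pow 2 (Nat.sub_le k 1)),
      Nat.pow_div (Nat.sub_le k 1) (by norm_num), show k - (k - 1) = 1 by omega, pow_one]
  have ht : L.t ∈ F := (L.O_t _ (pow_mem hw _)).1 hv ▸ pow_mem hwF _
  have h2 := ht.2
  rw [L.t_i₁, ← pow_two] at h2
  have := pow_mem_imp (x := L.i₁⁻¹) (by rw [inv_pow, L.cube_i₁, inv_one]) (n := 2) (by norm_num) h2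
  exact L.i₁_not_Z (by simpa using inv_mem this)

theorem S₁_sup_le (hm : L.m = 2) :
    L.S₁ ⊔ Subgroup.zpowers L.u ≤ L.C ⊓ Subgroup.centralizer ({L.i₁} : Set G) := by
  obtain ⟨h1, h2, h3, h4, -, h6, h7, -⟩ := L.gens_C
  refine sup_le (le_inf ((Subgroup.closure_le _).2 ?_) L.S₁_le)
    (le_inf (Subgroup.zpowers_le.2 h7) (Subgroup.zpowers_le.2 (Subgroup.mem_centralizer_singleton_iff.2 L.comm_ui₁)))
  rintro x (rfl | rfl | rfl | rfl | rfl) <;> assumption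

theorem card_cz_i₁ (hm : L.m = 2) :
    Nat.card ↥(Subgroup.centralizer ({L.z} : Set G) ⊓ Subgroup.centralizer ({L.i₁} : Set G)) = 486 := by
  classical
  set K := L.C ⊓ Subgroup.centralizer ({L.i₁} : Set G)
  show Nat.card K = 486
  have h243 : 243 ∣ Nat.card K := L.card_S₁ ▸ Subgroup.card_dvd_of_le (le_sup_left.trans (L.S₁_sup_le hm))
  have h2 : 2 ∣ Nat.card K := by
    have := Subgroup.card_dvd_of_le (le_sup_right.trans (L.S₁_sup_le hm))
    rwa [Nat.card_zpowers, L.u_ord hm] at this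
  obtain ⟨d, hd⟩ : 486 ∣ Nat.card K := (show Nat.Coprime 243 2 by norm_num).mul_dvd_of_dvd_of_dvd h243 h2
  have key := card_stab L.C L.i₁
  rw [show Nat.card L.C = 5832 * L.m from L.card_C, show L.C ⊓ Subgroup.centralizer ({L.i₁} : Set G) = K from rfl,
    hd, hm] at key
  obtain ⟨-, -, -, -, hp, -, -, hO⟩ := L.gens_C
  set R := Set.range fun c : L.C => (c : G) * L.i₁ * (c : G)⁻¹
  let f : L.O × ZMod 3 → R := fun q => ⟨_, ⟨(q.1 : G) * L.p ^ q.2.val, mul_mem (hO q.1.2) (pow_mem hp _)⟩, rfl⟩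
  have hfv : ∀ q, (f q : G) = L.z ^ q.2.val * ((q.1 : G) * L.i₁ * (q.1 : G)⁻¹) := by
    rintro ⟨w, k⟩
    show (w : G) * L.p ^ k.val * L.i₁ * ((w : G) * L.p ^ k.val)⁻¹ = _
    calc (w : G) * L.p ^ k.val * L.i₁ * ((w : G) * L.p ^ k.val)⁻¹
        = (w : G) * (L.p ^ k.val * L.i₁ * (L.p ^ k.val)⁻¹) * (w : G)⁻¹ := by group
      _ = _ := by rw [L.conj_i₁_pow, ← mul_assoc (w : G), ((L.O_comm w w.2).1.pow_right _).eq]; group
  have hinj : Function.Injective f := by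
    intro q r h
    have h' : (f q : G) = f r := congrArg Subtype.val h
    rw [hfv, hfv] at h'
    set v := (r.1 : G)⁻¹ * q.1
    have hv : v ∈ L.O := mul_mem (inv_mem r.1.2) q.1.2
    have hc : ∀ j : ℕ, (r.1 : G)⁻¹ * L.z ^ j = L.z ^ j * (r.1 : G)⁻¹ := fun j =>
      ((L.O_comm r.1 r.1.2).1.inv_left.pow_right j).eq
    have e : L.z ^ q.2.val * (v * L.i₁ * v⁻¹) = L.z ^ r.2.val * L.i₁ := by
      have := congrArg (fun x => (r.1 : G)⁻¹ * x * r.1) h'
      simp only [← mul_assoc] at this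
      rw [hc, hc] at this
      calc L.z ^ q.2.val * (v * L.i₁ * v⁻¹)
          = L.z ^ q.2.val * (r.1 : G)⁻¹ * q.1 * L.i₁ * (q.1 : G)⁻¹ * r.1 := by simp only [v]; group
        _ = _ := by rw [this]; group
    have hv1 : v = 1 := L.O_free hv (by
      have e2 : v * L.i₁ * v⁻¹ * L.i₁⁻¹ = (L.z ^ q.2.val)⁻¹ * L.z ^ r.2.val := by
        calc v * L.i₁ * v⁻¹ * L.i₁⁻¹ = (L.z ^ q.2.val)⁻¹ * (L.z ^ q.2.val * (v * L.i₁ * v⁻¹)) * L.i₁⁻¹ := by group
          _ = _ := by rw [e]; group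
      rw [e2]
      exact mul_mem (inv_mem (pow_mem (Subgroup.mem_zpowers _) _)) (pow_mem (Subgroup.mem_zpowers _) _))
    rw [hv1, one_mul, inv_one, mul_one] at e
    exact Prod.ext (Subtype.ext (eq_of_inv_mul_eq_one hv1).symm) (pow_val_inj L.cube_z L.z_ne (mul_right_cancel e))
  have hle := Nat.card_le_card_of_injective f hinj
  rw [Nat.card_prod, L.card_O, Nat.card_zmod] at hle
  have hd0 : 1 ≤ d := Nat.one_le_iff_ne_zero.2 fun h0 => by
    rw [h0, mul_zero] at hd; exact Nat.card_pos.ne' hd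
  have hd1 : d = 1 := by
    by_contra hd1
    have h3 : 2 * 24 ≤ d * Nat.card R := Nat.mul_le_mul (by omega) hle
    nlinarith
  rw [hd, hd1]

theorem cz_i₁_eq (hm : L.m = 2) :
    Subgroup.centralizer ({L.z} : Set G) ⊓ Subgroup.centralizer ({L.i₁} : Set G) =
      Subgroup.closure {L.z, L.i₁, L.i₂, L.y, L.a, L.u} := by
  refine (Subgroup.eq_of_le_of_card_ge ((Subgroup.closure_le _).2 ?_) ?_).symm
  · intro x hx
    refine L.S₁_sup_le hm ?_
    simp only [Set.mem_insert_iff, Set.mem_singleton_iff] at hx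
    rcases hx with rfl | rfl | rfl | rfl | rfl | rfl
    iterate 5 exact Subgroup.mem_sup_left (Subgroup.subset_closure (by simp))
    exact Subgroup.mem_sup_right (Subgroup.mem_zpowers _)
  · rw [L.card_cz_i₁ hm]
    refine Nat.le_of_dvd Nat.card_pos ((show Nat.Coprime 243 2 by norm_num).mul_dvd_of_dvd_of_dvd ?_ ?_)
    · rw [← L.card_S₁]
      exact Subgroup.card_dvd_of_le (Subgroup.closure_mono (by simp [Set.insert_subset_iff]))
    · rw [← L.u_ord hm, ← Nat.card_zpowers]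
      exact Subgroup.card_dvd_of_le (Subgroup.zpowers_le.2 (Subgroup.subset_closure (by simp)))

end CfsgLib.OEightLocal.Loc
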