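import Cfsg.Agent.Lib.OEightLocal.CentBasic
import Cfsg.Agent.Lib.PSpFourLocal.Section

/-!
Coordinates on `⟨z, i₁, p⟩` and the action of `C(z) ∩ C(i₂)` on it.
-/

set_option autoImplicit false
set_option linter.unusedSectionVars false
set_option linter.style.haveILetI false

namespace CfsgLib.OEightLocal.Loc

open CfsgLib.OEightLocal.Cent Matrix

variable {G : Type*} [Group G] [Finite G] (L : Loc G)

/-- `⟨z, i₁, p⟩`. -/
def Q₁ : Subgroup G := Subgroup.closure {L.z, L.i₁, L.p}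

/-- An element of `Q₁` from its coordinates. -/
def E (k b c : ZMod 3) : G := L.z ^ k.val * L.i₁ ^ b.val * L.p ^ c.val

theorem p_pow_i₁_pow (c b : ℕ) : L.p ^ c * L.i₁ ^ b = L.z ^ (c * b) * L.i₁ ^ b * L.p ^ c := by
  have h := (conj_pow (i := b) (a := L.p ^ c) (b := L.i₁)).symm
  rw [L.conj_i₁_pow c, (L.comm_zi₁.pow_left c).mul_pow, ← pow_mul] at h
  rw [← h]
  group

theorem E_mul (k b c k' b' c' : ZMod 3) :
    L.E k b c * L.E k' b' c' = L.E (k + k' + c * b') (b + b') (c + c') := by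
  have hz : ∀ (n : ℕ) (x : G), Commute L.z x → x * L.z ^ n = L.z ^ n * x := fun n x h => (h.pow_left n).eq.symm
  simp only [E, pow_val_add L.cube_z, pow_val_add L.cube_i₁, pow_val_add L.cube_p]
  rw [show L.z ^ (c * b').val = L.z ^ (c.val * b'.val) from
    pow_eq_pow L.cube_z (by rw [ZMod.val_mul, Nat.mod_mod])]
  calc L.z ^ k.val * L.i₁ ^ b.val * L.p ^ c.val * (L.z ^ k'.val * L.i₁ ^ b'.val * L.p ^ c'.val)
      = L.z ^ k.val * L.i₁ ^ b.val * (L.p ^ c.val * L.z ^ k'.val) * L.i₁ ^ b'.val * L.p ^ c'.val := by group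
    _ = L.z ^ k.val * (L.i₁ ^ b.val * L.z ^ k'.val) * (L.p ^ c.val * L.i₁ ^ b'.val) * L.p ^ c'.val := by
        rw [hz _ _ (L.comm_zp.pow_right _)]; group
    _ = L.z ^ k.val * L.z ^ k'.val * (L.i₁ ^ b.val * L.z ^ (c.val * b'.val)) * L.i₁ ^ b'.val * L.p ^ c.val *
          L.p ^ c'.val := by
        rw [hz _ _ (L.comm_zi₁.pow_right _), L.p_pow_i₁_pow]; group
    _ = _ := by rw [hz _ _ (L.comm_zi₁.pow_right _)]; group

theorem E_zero : L.E 0 0 0 = 1 := by simp [E]

theorem E_cube (k b c : ZMod 3) : L.E k b c ^ 3 = 1 := by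
  rw [pow_succ, pow_two, E_mul, E_mul, ← L.E_zero]
  have h3 : ∀ k b c : ZMod 3, k + k + c * b + k + (c + c) * b = 0 ∧ b + b + b = 0 ∧ c + c + c = 0 := by decide
  obtain ⟨e1, e2, e3⟩ := h3 k b c
  rw [e1, e2, e3]

theorem E_gens : L.E 1 0 0 = L.z ∧ L.E 0 1 0 = L.i₁ ∧ L.E 0 0 1 = L.p := by simp [E, ZMod.val_one]

theorem mem_Q₁ {x : G} : x ∈ L.Q₁ ↔ ∃ k b c, x = L.E k b c := by
  obtain ⟨g1, g2, g3⟩ := L.E_gens
  constructor
  · intro h
    let R : Subgroup G :=
      { carrier := {x | ∃ k b c, x = L.E k b c}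
        one_mem' := ⟨0, 0, 0, L.E_zero.symm⟩
        mul_mem' := by
          rintro _ _ ⟨k, b, c, rfl⟩ ⟨k', b', c', rfl⟩
          exact ⟨_, _, _, L.E_mul ..⟩
        inv_mem' := by
          rintro _ ⟨k, b, c, rfl⟩
          refine ⟨-k + c * b, -b, -c, inv_eq_of_mul_eq_one_right ?_⟩
          rw [E_mul, ← L.E_zero]
          congr 1 <;> ring }
    refine (Subgroup.closure_le R).2 ?_ h
    rintro x (rfl | rfl | rfl)
    exacts [⟨1, 0, 0, g1.symm⟩, ⟨0, 1, 0, g2.symm⟩, ⟨0, 0, 1, g3.symm⟩]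
  · rintro ⟨k, b, c, rfl⟩
    exact mul_mem (mul_mem (pow_mem (Subgroup.subset_closure (by simp)) _)
      (pow_mem (Subgroup.subset_closure (by simp)) _)) (pow_mem (Subgroup.subset_closure (by simp)) _)

theorem E_mem_Q₁ (k b c : ZMod 3) : L.E k b c ∈ L.Q₁ := L.mem_Q₁.2 ⟨k, b, c, rfl⟩

theorem E_eq_one {k b c : ZMod 3} (h : L.E k b c = 1) : k = 0 ∧ b = 0 ∧ c = 0 := by
  have hK : L.z ^ k.val * L.i₁ ^ b.val ∈ Subgroup.centralizer ({L.i₁} : Set G) :=
    Subgroup.mem_centralizer_singleton_iff.2 ((L.comm_zi₁.pow_left _).mul_left ((Commute.refl L.i₁).pow_left _)).eq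
  obtain rfl : c = 0 := by
    by_contra hc
    refine L.p_not_comm (Subgroup.mem_centralizer_singleton_iff.1
      (pow_mem_imp (H := Subgroup.centralizer ({L.i₁} : Set G)) L.cube_p (n := c.val) ?_ ?_))
    · rw [Nat.mod_eq_of_lt (ZMod.val_lt _)]; exact (ZMod.val_ne_zero _).2 hc
    · have : L.p ^ c.val = (L.z ^ k.val * L.i₁ ^ b.val)⁻¹ := eq_inv_of_mul_eq_one_right h
      rw [this]; exact inv_mem hK
  simp only [E, ZMod.val_zero, pow_zero, mul_one] at h
  obtain rfl : b = 0 := by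
    by_contra hb
    refine L.i₁_not_Z (pow_mem_imp L.cube_i₁ (n := b.val) ?_ ?_)
    · rw [Nat.mod_eq_of_lt (ZMod.val_lt _)]; exact (ZMod.val_ne_zero _).2 hb
    · rw [eq_inv_of_mul_eq_one_right h]
      exact inv_mem (pow_mem (Subgroup.mem_zpowers _) _)
  simp only [ZMod.val_zero, pow_zero, mul_one] at h
  exact ⟨pow_val_inj L.cube_z L.z_ne (h.trans (by simp)), rfl, rfl⟩

theorem E_inj {k b c k' b' c' : ZMod 3} (h : L.E k b c = L.E k' b' c') : k = k' ∧ b = b' ∧ c = c' := by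
  have h1 : L.E k b c * L.E (-k' + c' * b') (-b') (-c') = 1 := by
    rw [h, E_mul, ← L.E_zero]
    congr 1 <;> ring
  rw [E_mul] at h1
  obtain ⟨e1, e2, e3⟩ := L.E_eq_one h1
  have hb : b = b' := by linear_combination e2
  have hc : c = c' := by linear_combination e3
  subst hb hc
  exact ⟨by linear_combination e1, rfl, rfl⟩

theorem card_Q₁ : Nat.card L.Q₁ = 27 := by
  have hf : Function.Bijective fun v : ZMod 3 × ZMod 3 × ZMod 3 =>
      (⟨L.E v.1 v.2.1 v.2.2, L.E_mem_Q₁ _ _ _⟩ : L.Q₁) := by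
    constructor
    · rintro ⟨k, b, c⟩ ⟨k', b', c'⟩ h
      obtain ⟨e1, e2, e3⟩ := L.E_inj (congrArg Subtype.val h)
      dsimp only at e1 e2 e3
      rw [e1, e2, e3]
    · rintro ⟨x, hx⟩
      obtain ⟨k, b, c, rfl⟩ := L.mem_Q₁.1 hx
      exact ⟨(k, b, c), rfl⟩
  rw [← Nat.card_eq_of_bijective _ hf, Nat.card_prod, Nat.card_prod, Nat.card_zmod]

/-- The coordinates modulo the centre. -/
noncomputable def bc (x : G) : Fin 2 → ZMod 3 :=
  letI := Classical.propDecidable (∃ k b c, x = L.E k b c)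
  if h : ∃ k b c, x = L.E k b c then ![h.choose_spec.choose, h.choose_spec.choose_spec.choose] else 0

theorem bc_E (k b c : ZMod 3) : L.bc (L.E k b c) = ![b, c] := by
  have h : ∃ k' b' c', L.E k b c = L.E k' b' c' := ⟨k, b, c, rfl⟩
  rw [bc, dif_pos h]
  obtain ⟨-, e2, e3⟩ := L.E_inj h.choose_spec.choose_spec.choose_spec
  exact congrArg₂ (fun u v => ![u, v]) e2.symm e3.symm

theorem bc_mul {x w : G} (hx : x ∈ L.Q₁) (hw : w ∈ L.Q₁) : L.bc (x * w) = L.bc x + L.bc w := by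
  obtain ⟨k, b, c, rfl⟩ := L.mem_Q₁.1 hx
  obtain ⟨k', b', c', rfl⟩ := L.mem_Q₁.1 hw
  rw [E_mul, bc_E, bc_E, bc_E]
  ext i; fin_cases i <;> simp

theorem bc_pow {x : G} (hx : x ∈ L.Q₁) (n : ℕ) : L.bc (x ^ n) = n • L.bc x := by
  induction n with
  | zero =>
    rw [pow_zero, ← L.E_zero, bc_E, zero_smul]
    ext i; fin_cases i <;> rfl
  | succ n ih => rw [pow_succ, L.bc_mul (pow_mem hx n) hx, ih, succ_nsmul]

/-- The commutator in coordinates. -/
theorem E_comm (k b c k' b' c' : ZMod 3) :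
    L.E k b c * L.E k' b' c' = L.E (c * b' - c' * b) 0 0 * (L.E k' b' c' * L.E k b c) := by
  rw [E_mul, E_mul, E_mul]
  congr 1 <;> ring

theorem center_Q₁ {x : G} (hx : x ∈ L.Q₁) (hp : Commute x L.p) (hi : Commute x L.i₁) :
    x ∈ Subgroup.zpowers L.z := by
  obtain ⟨k, b, c, rfl⟩ := L.mem_Q₁.1 hx
  obtain ⟨-, g2, g3⟩ := L.E_gens
  have h1 : L.E k b c * L.E 0 0 1 = L.E 0 0 1 * L.E k b c := by rw [g3]; exact hp.eq
  have h2 : L.E k b c * L.E 0 1 0 = L.E 0 1 0 * L.E k b c := by rw [g2]; exact hi.eq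
  rw [E_mul, E_mul] at h1 h2
  obtain ⟨e1, -, -⟩ := L.E_inj h1
  obtain ⟨e2, -, -⟩ := L.E_inj h2
  obtain rfl : b = 0 := by linear_combination -e1
  obtain rfl : c = 0 := by linear_combination e2
  simp only [E, ZMod.val_zero, pow_zero, mul_one]
  exact pow_mem (Subgroup.mem_zpowers _) _

theorem i₂_not_Q₁ : L.i₂ ∉ L.Q₁ := fun h =>
  L.i₂_not_Z (L.center_Q₁ h L.comm_pi₂.symm L.comm_i₁i₂.symm)

/-- `C(z) ∩ C(i₂)`. -/
abbrev K₂ : Subgroup G := Subgroup.centralizer ({L.z} : Set G) ⊓ Subgroup.centralizer ({L.i₂} : Set G)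

theorem K₂_norm {g : G} (hg : g ∈ L.K₂) {x : G} (hx : x ∈ L.Q₁) : g * x * g⁻¹ ∈ L.Q₁ := by
  have hle : L.K₂ ≤ Subgroup.normalizer (L.Q₁ : Set G) := by
    rw [show L.K₂ = _ from L.cz_i₂_eq]
    have key : ∀ g : G, g * L.z * g⁻¹ ∈ L.Q₁ → g * L.i₁ * g⁻¹ ∈ L.Q₁ → g * L.p * g⁻¹ ∈ L.Q₁ →
        g ∈ Subgroup.normalizer (L.Q₁ : Set G) := by
      intro g h1 h2 h3
      refine Subgroup.mem_normalizer_iff_map_conj_eq.mpr (Subgroup.eq_of_le_of_card_ge ?_
        (le_of_eq (Subgroup.card_map_of_injective (MulAut.conj g).injective).symm))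
      rw [Q₁, MonoidHom.map_closure]
      refine (Subgroup.closure_le _).2 ?_
      rintro _ ⟨x, rfl | rfl | rfl, rfl⟩
      exacts [h1, h2, h3]
    have hz : ∀ g : G, Commute g L.z → g * L.z * g⁻¹ ∈ L.Q₁ := fun g h => by
      rw [h.eq, mul_inv_cancel_right]; exact Subgroup.subset_closure (by simp)
    refine sup_le ((Subgroup.closure_le _).2 ?_) fun w hw => key w (hz w (L.O_comm w hw).1) (L.O_Q w hw).2 (L.O_Q w hw).1
    rintro g (rfl | rfl | rfl | rfl | rfl)
    · exact Subgroup.le_normalizer (Subgroup.subset_closure (by simp))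
    · exact Subgroup.le_normalizer (Subgroup.subset_closure (by simp))
    · refine key _ (hz _ L.comm_zi₂.symm) ?_ ?_
      · rw [L.comm_i₁i₂.symm.eq, mul_inv_cancel_right]; exact Subgroup.subset_closure (by simp)
      · rw [L.comm_pi₂.symm.eq, mul_inv_cancel_right]; exact Subgroup.subset_closure (by simp)
    · refine key _ (hz _ L.comm_zy.symm) ?_ ?_
      · rw [L.comm_yi₁.eq, mul_inv_cancel_right]; exact Subgroup.subset_closure (by simp)
      · rw [L.rel_yp]
        exact mul_mem (mul_mem (Subgroup.subset_closure (by simp)) (Subgroup.subset_closure (by simp)))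
          (Subgroup.subset_closure (by simp))
    · exact Subgroup.le_normalizer (Subgroup.subset_closure (by simp))
  exact (Subgroup.mem_normalizer_iff.1 (hle hg) x).1 hx

/-- The matrix of the conjugation. -/
noncomputable def mat (g : G) : Matrix (Fin 2) (Fin 2) (ZMod 3) :=
  fun i j => L.bc (g * ![L.i₁, L.p] j * g⁻¹) i

theorem bc_conj {g : G} (hg : g ∈ L.K₂) {x : G} (hx : x ∈ L.Q₁) :
    L.bc (g * x * g⁻¹) = L.mat g *ᵥ L.bc x := by
  obtain ⟨k, b, c, rfl⟩ := L.mem_Q₁.1 hx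
  have hz : g * L.z * g⁻¹ = L.z := by
    rw [Subgroup.mem_centralizer_singleton_iff.1 hg.1, mul_inv_cancel_right]
  have hm : ∀ q ∈ ({L.z, L.i₁, L.p} : Set G), g * q * g⁻¹ ∈ L.Q₁ := fun q hq =>
    L.K₂_norm hg (Subgroup.subset_closure hq)
  have e : g * L.E k b c * g⁻¹ =
      L.z ^ k.val * (g * L.i₁ * g⁻¹) ^ b.val * (g * L.p * g⁻¹) ^ c.val := by
    conv_rhs => rw [← hz, conj_pow, conj_pow, conj_pow, conj_mul, conj_mul]
    rfl
  rw [e, L.bc_mul (mul_mem (pow_mem (Subgroup.subset_closure (by simp)) _) (pow_mem (hm _ (by simp)) _))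
      (pow_mem (hm _ (by simp)) _),
    L.bc_mul (pow_mem (Subgroup.subset_closure (by simp)) _) (pow_mem (hm _ (by simp)) _),
    L.bc_pow (Subgroup.subset_closure (by simp)), L.bc_pow (hm _ (by simp)), L.bc_pow (hm _ (by simp)),
    show L.bc L.z = 0 by rw [← L.E_gens.1, bc_E]; ext i; fin_cases i <;> rfl, smul_zero, zero_add, bc_E]
  ext i
  simp only [Pi.add_apply, Pi.smul_apply, nsmul_eq_mul, Pi.mul_apply, Pi.natCast_apply, ZMod.natCast_zmod_val, Matrix.mulVec, dotProduct,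
    mat, Fin.sum_univ_two, Matrix.cons_val_zero, Matrix.cons_val_one]
  ring

theorem det_mat {g : G} (hg : g ∈ L.K₂) : (L.mat g).det = 1 := by
  obtain ⟨g1, g2, g3⟩ := L.E_gens
  have hz : Commute g L.z := Subgroup.mem_centralizer_singleton_iff.1 hg.1
  obtain ⟨k, b, c, hi⟩ := L.mem_Q₁.1 (L.K₂_norm hg (x := L.i₁) (Subgroup.subset_closure (by simp)))
  obtain ⟨k', b', c', hp⟩ := L.mem_Q₁.1 (L.K₂_norm hg (x := L.p) (Subgroup.subset_closure (by simp)))
  have key : L.E k' b' c' * L.E k b c = L.E 1 0 0 * (L.E k b c * L.E k' b' c') := by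
    rw [← hi, ← hp, g1, conj_mul, conj_mul]
    calc g * (L.p * L.i₁) * g⁻¹ = g * L.z * (L.i₁ * L.p) * g⁻¹ := by rw [L.p_i₁]; group
      _ = _ := by rw [hz.eq]; group
  rw [L.E_comm] at key
  have h1 : c' * b - c * b' = 1 := (L.E_inj (mul_right_cancel key)).1
  rw [Matrix.det_fin_two]
  simp only [mat, Matrix.cons_val_zero, Matrix.cons_val_one]
  rw [hi, hp, bc_E, bc_E]
  simp only [Matrix.cons_val_zero, Matrix.cons_val_one]
  linear_combination h1

/-- The action on `Q₁` modulo the centre. -/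
noncomputable def act₂ : L.K₂ →* CfsgLib.PSpFourLocal.S23 where
  toFun g := ⟨L.mat g, L.det_mat g.2⟩
  map_one' := Subtype.ext (by
    obtain ⟨-, g2, g3⟩ := L.E_gens
    have e1 : L.bc L.i₁ = ![1, 0] := by rw [← g2, bc_E]
    have e2 : L.bc L.p = ![0, 1] := by rw [← g3, bc_E]
    ext i j
    fin_cases i <;> fin_cases j <;> simp [mat, e1, e2])
  map_mul' g h := Subtype.ext (by
    show L.mat (g * h : G) = L.mat g * L.mat h
    ext i j
    have hx : ![L.i₁, L.p] j ∈ L.Q₁ := by fin_cases j <;> exact Subgroup.subset_closure (by simp)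
    have e : (g : G) * h * ![L.i₁, L.p] j * ((g : G) * h)⁻¹ =
        (g : G) * ((h : G) * ![L.i₁, L.p] j * (h : G)⁻¹) * (g : G)⁻¹ := by group
    show L.bc ((g : G) * h * ![L.i₁, L.p] j * ((g : G) * h)⁻¹) i = _
    rw [e, L.bc_conj g.2 (L.K₂_norm h.2 hx)]
    rfl)

theorem act₂_val (g : L.K₂) : (L.act₂ g).1 = L.mat g := rfl

theorem act₂_surj : Function.Surjective L.act₂ := by
  classical
  have hO : L.O ≤ L.K₂ := le_trans le_sup_right L.S₀_sup_le
  have h8 : 8 ∣ Nat.card L.act₂.range := by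
    have hinj : Function.Injective (L.act₂.comp (Subgroup.inclusion hO)) := by
      rw [injective_iff_map_eq_one]
      intro w hw
      refine Subtype.ext (L.O_free w.2 ?_)
      have h0 : (L.act₂ (Subgroup.inclusion hO w)).1 = 1 := congrArg Subtype.val hw
      rw [act₂_val] at h0
      have h00 := congrFun (congrFun h0 0) 0
      have h10 := congrFun (congrFun h0 1) 0
      simp [mat] at h00 h10
      obtain ⟨k, b, c, hi⟩ := L.mem_Q₁.1 (L.K₂_norm (hO w.2) (x := L.i₁) (Subgroup.subset_closure (by simp)))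
      rw [hi, bc_E] at h00 h10
      simp at h00 h10
      subst h00 h10
      rw [hi]
      simp only [E, ZMod.val_one, ZMod.val_zero, pow_zero, pow_one, mul_one]
      rw [mul_inv_cancel_right]
      exact pow_mem (Subgroup.mem_zpowers _) _
    have := Subgroup.card_dvd_of_le (show (L.act₂.comp (Subgroup.inclusion hO)).range ≤ L.act₂.range from
      fun x ⟨v, hv⟩ => ⟨_, hv⟩)
    rwa [← Nat.card_congr (MonoidHom.ofInjective hinj).toEquiv, L.card_O] at this
  have hy : L.y ∈ L.K₂ := L.S₀_sup_le (Subgroup.mem_sup_left (Subgroup.subset_closure (by simp)))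
  have h3 : 3 ∣ Nat.card L.act₂.range := by
    have hne : L.act₂ ⟨L.y, hy⟩ ≠ 1 := fun h => by
      have h0' : (L.act₂ ⟨L.y, hy⟩).1 = 1 := congrArg Subtype.val h
      rw [act₂_val] at h0'
      have h0 := congrFun (congrFun h0' 0) 1
      obtain ⟨g1, g2, g3⟩ := L.E_gens
      simp [mat, L.rel_yp] at h0
      rw [← g1, ← g2, ← g3, E_mul, E_mul, bc_E] at h0
      exact one_ne_zero (α := ZMod 3) (by simpa using h0)
    have hord : orderOf (L.act₂ ⟨L.y, hy⟩) = 3 := by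
      refine orderOf_eq_prime ?_ hne
      rw [← map_pow, show (⟨L.y, hy⟩ : L.K₂) ^ 3 = 1 from Subtype.ext L.cube_y, map_one]
    have hmem : L.act₂ ⟨L.y, hy⟩ ∈ L.act₂.range := ⟨⟨L.y, hy⟩, rfl⟩
    have hdvd := Subgroup.orderOf_dvd_natCard L.act₂.range hmem
    rwa [hord] at hdvd
  have h24 := (show Nat.Coprime 8 3 by norm_num).mul_dvd_of_dvd_of_dvd h8 h3
  refine MonoidHom.range_eq_top.1 (Subgroup.eq_top_of_le_card _ ?_)
  refine le_trans (le_of_eq ?_) (Nat.le_of_dvd Nat.card_pos h24)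
  rw [Nat.card_eq_fintype_card]
  decide +kernel

theorem act₂_ker {g : L.K₂} : L.act₂ g = 1 ↔ (g : G) ∈ L.Q₁ ⊔ Subgroup.zpowers L.i₂ := by
  classical
  have hle : L.Q₁ ⊔ Subgroup.zpowers L.i₂ ≤ L.K₂ := by
    refine sup_le ((Subgroup.closure_le _).2 ?_) (Subgroup.zpowers_le.2 ?_)
    · rintro x (rfl | rfl | rfl) <;>
        exact L.S₀_sup_le (Subgroup.mem_sup_left (Subgroup.subset_closure (by simp)))
    · exact L.S₀_sup_le (Subgroup.mem_sup_left (Subgroup.subset_closure (by simp)))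
  have hker : (L.Q₁ ⊔ Subgroup.zpowers L.i₂).subgroupOf L.K₂ ≤ L.act₂.ker := by
    obtain ⟨-, g2, g3⟩ := L.E_gens
    have hfix : ∀ x ∈ L.Q₁ ⊔ Subgroup.zpowers L.i₂, ∀ q ∈ L.Q₁, L.bc (x * q * x⁻¹) = L.bc q := by
      intro x hx
      refine Subgroup.closure_induction (p := fun x _ => ∀ q ∈ L.Q₁, L.bc (x * q * x⁻¹) = L.bc q) ?_ ?_ ?_ ?_
        (show x ∈ Subgroup.closure ((L.Q₁ : Set G) ∪ {L.i₂}) by
          rw [Subgroup.closure_union, Subgroup.closure_eq, ← Subgroup.zpowers_eq_closure]; exact hx)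
      · rintro x (hx | rfl) q hq
        · rw [L.bc_mul (mul_mem hx hq) (inv_mem hx), L.bc_mul hx hq]
          have h0 : L.bc x + L.bc x⁻¹ = 0 := by
            rw [← L.bc_mul hx (inv_mem hx), mul_inv_cancel, ← L.E_zero, bc_E]; ext i; fin_cases i <;> rfl
          linear_combination h0
        · have hc : Commute L.i₂ q := by
            refine Subgroup.mem_centralizer_singleton_iff.1 (show q ∈ Subgroup.centralizer ({L.i₂} : Set G) from ?_) |> fun h => h.symm
            exact (Subgroup.closure_le (Subgroup.centralizer ({L.i₂} : Set G))).2 (by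
              rintro w (rfl | rfl | rfl) <;> rw [SetLike.mem_coe, Subgroup.mem_centralizer_singleton_iff]
              exacts [L.comm_zi₂, L.comm_i₁i₂, L.comm_pi₂]) hq
          rw [hc.eq, mul_inv_cancel_right]
      · intro q _; simp
      · intro x w hx hw ihx ihw q hq
        have hwK : w ∈ L.K₂ := hle (by
          rw [show L.Q₁ ⊔ Subgroup.zpowers L.i₂ = Subgroup.closure ((L.Q₁ : Set G) ∪ {L.i₂}) by
            rw [Subgroup.closure_union, Subgroup.closure_eq, ← Subgroup.zpowers_eq_closure]]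
          exact hw)
        rw [show x * w * q * (x * w)⁻¹ = x * (w * q * w⁻¹) * x⁻¹ by group, ihx _ (L.K₂_norm hwK hq), ihw q hq]
      · intro x hx ihx q hq
        have hxK : x ∈ L.K₂ := hle (by
          rw [show L.Q₁ ⊔ Subgroup.zpowers L.i₂ = Subgroup.closure ((L.Q₁ : Set G) ∪ {L.i₂}) by
            rw [Subgroup.closure_union, Subgroup.closure_eq, ← Subgroup.zpowers_eq_closure]]
          exact hx)
        rw [← ihx _ (L.K₂_norm (inv_mem hxK) hq)]
        simp [mul_assoc]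
    intro g hg
    rw [MonoidHom.mem_ker]
    refine Subtype.ext ?_
    show L.mat g = 1
    ext i j
    have hx : ![L.i₁, L.p] j ∈ L.Q₁ := by fin_cases j <;> exact Subgroup.subset_closure (by simp)
    show L.bc ((g : G) * ![L.i₁, L.p] j * (g : G)⁻¹) i = _
    rw [hfix g hg _ hx]
    fin_cases j
    · show L.bc L.i₁ i = _
      rw [← g2, bc_E]; fin_cases i <;> rfl
    · show L.bc L.p i = _
      rw [← g3, bc_E]; fin_cases i <;> rfl
  have h81 : 81 ≤ Nat.card ((L.Q₁ ⊔ Subgroup.zpowers L.i₂).subgroupOf L.K₂) := by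
    rw [Nat.card_congr (Subgroup.subgroupOfEquivOfLe hle).toEquiv]
    have hS : L.Q₁ ⊔ Subgroup.zpowers L.i₂ ≤ L.S :=
      sup_le (Subgroup.closure_mono (by simp [Set.insert_subset_iff])) (Subgroup.zpowers_le.2 L.mem_gens.2.2.1)
    have := card_mul_three_le L.S_pgroup hS
      (lt_of_le_of_ne (le_sup_left : L.Q₁ ≤ _) fun e => L.i₂_not_Q₁ (e ▸ Subgroup.mem_sup_right (Subgroup.mem_zpowers _)))
    rw [L.card_Q₁] at this
    omega
  have hk : Nat.card L.act₂.ker = 81 := by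
    have h := Subgroup.card_eq_card_quotient_mul_card_subgroup L.act₂.ker
    rw [Nat.card_congr (QuotientGroup.quotientKerEquivOfSurjective _ L.act₂_surj).toEquiv,
      show Nat.card L.K₂ = 1944 from L.card_cz_i₂,
      show Nat.card CfsgLib.PSpFourLocal.S23 = 24 by rw [Nat.card_eq_fintype_card]; decide +kernel] at h
    omega
  rw [← MonoidHom.mem_ker, ← Subgroup.eq_of_le_of_card_ge hker (by omega), Subgroup.mem_subgroupOf]

end CfsgLib.OEightLocal.Loc
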