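import Cfsg.Agent.Lib.OEightLocal.CentBasic

/-!
Quotients of centralisers by a central element of order three: the subgroup is normal, and a group without
signalizers in `G` has none in the quotient.
-/

set_option autoImplicit false
set_option linter.unusedSectionVars false
set_option linter.style.haveILetI false

namespace CfsgLib.OEightLocal.Cent

variable {G : Type*} [Group G]

/-- The cyclic central subgroup of the centraliser. -/
abbrev Ker (c : G) : Subgroup ↥(Subgroup.centralizer ({c} : Set G)) :=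
  (Subgroup.zpowers c).subgroupOf (Subgroup.centralizer ({c} : Set G))

instance ker_normal (c : G) : (Ker c).Normal :=
  ⟨fun x hx g => by
    rw [Subgroup.mem_subgroupOf] at hx ⊢
    obtain ⟨n, hn⟩ := Subgroup.mem_zpowers_iff.1 hx
    have hg : Commute (g : G) c := Subgroup.mem_centralizer_singleton_iff.1 g.2
    rw [Subgroup.coe_mul, Subgroup.coe_mul, Subgroup.coe_inv, ← hn, (hg.zpow_right n).eq, mul_inv_cancel_right]
    exact Subgroup.zpow_mem _ (Subgroup.mem_zpowers c) n⟩

/-- The quotient. -/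
abbrev Bar (c : G) : Type _ := ↥(Subgroup.centralizer ({c} : Set G)) ⧸ Ker c

theorem mk_eq_iff {c : G} {x w : ↥(Subgroup.centralizer ({c} : Set G))} :
    QuotientGroup.mk' (Ker c) x = QuotientGroup.mk' (Ker c) w ↔ ∃ n : ℤ, (w : G) = (x : G) * c ^ n := by
  rw [QuotientGroup.mk'_apply, QuotientGroup.mk'_apply, QuotientGroup.eq, Subgroup.mem_subgroupOf,
    Subgroup.mem_zpowers_iff, Subgroup.coe_mul, Subgroup.coe_inv]
  exact exists_congr fun n => ⟨fun h => by rw [h]; group, fun h => by rw [h]; group⟩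

theorem mk_eq_one_iff {c : G} {x : ↥(Subgroup.centralizer ({c} : Set G))} :
    QuotientGroup.mk' (Ker c) x = 1 ↔ (x : G) ∈ Subgroup.zpowers c := by
  rw [QuotientGroup.mk'_apply, QuotientGroup.eq_one_iff, Subgroup.mem_subgroupOf]

/-- The image of a subgroup. -/
abbrev img (c : G) (H : Subgroup G) : Subgroup (Bar c) :=
  (H.subgroupOf (Subgroup.centralizer ({c} : Set G))).map (QuotientGroup.mk' (Ker c))

theorem card_img [Finite G] {c : G} {H : Subgroup G} (hH : H ≤ Subgroup.centralizer ({c} : Set G)) (hc : c ∈ H) :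
    Nat.card H = orderOf c * Nat.card (img c H) := by
  set f := (QuotientGroup.mk' (Ker c)).comp (Subgroup.inclusion hH)
  have hr : f.range = img c H := by
    ext x
    constructor
    · rintro ⟨v, rfl⟩
      exact ⟨Subgroup.inclusion hH v, v.2, rfl⟩
    · rintro ⟨v, hv, rfl⟩
      exact ⟨⟨v, hv⟩, rfl⟩
  have hk : f.ker = (Subgroup.zpowers c).subgroupOf H := by
    ext v
    rw [MonoidHom.mem_ker, Subgroup.mem_subgroupOf]
    exact mk_eq_one_iff
  rw [Subgroup.card_eq_card_quotient_mul_card_subgroup f.ker,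
    Nat.card_congr (QuotientGroup.quotientKerEquivRange f).toEquiv, hr, hk,
    Nat.card_congr (Subgroup.subgroupOfEquivOfLe (Subgroup.zpowers_le.2 hc)).toEquiv, Nat.card_zpowers, mul_comm]

/-- No signalizer in the quotient. -/
theorem bar_signalizer [Finite G] {c : G} (hc : orderOf c = 3) {J : Subgroup G}
    (hsig : ∀ K : Subgroup G, ¬ 3 ∣ Nat.card K → (∀ j ∈ J, ∀ k ∈ K, j * k * j⁻¹ ∈ K) → K = ⊥)
    (hJ : J ≤ Subgroup.centralizer ({c} : Set G)) (K : Subgroup (Bar c)) (hK : (Nat.card K).Coprime 3)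
    (hn : img c J ≤ Subgroup.normalizer (K : Set (Bar c))) : K = ⊥ := by
  classical
  set mk := QuotientGroup.mk' (Ker c)
  set N := Nat.card K
  set P := (K.comap mk).map (Subgroup.centralizer ({c} : Set G)).subtype
  have hPC : P ≤ Subgroup.centralizer ({c} : Set G) := Subgroup.map_subtype_le _
  have hcP : c ∈ P := ⟨⟨c, Subgroup.mem_centralizer_singleton_iff.2 rfl⟩,
    by rw [SetLike.mem_coe, Subgroup.mem_comap, mk_eq_one_iff.2 (Subgroup.mem_zpowers c)]; exact one_mem _, rfl⟩
  have hiP : img c P = K := by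
    show Subgroup.map mk ((K.comap mk).map _ |>.comap _) = K
    rw [Subgroup.comap_map_eq_self_of_injective (Subgroup.subtype_injective _),
      Subgroup.map_comap_eq_self_of_surjective (QuotientGroup.mk'_surjective _)]
  have hcard : Nat.card P = 3 * N := by rw [card_img hPC hcP, hiP, hc]
  set C := (Subgroup.zpowers c).subgroupOf P
  have hC3 : Nat.card C = 3 := by
    rw [Nat.card_congr (Subgroup.subgroupOfEquivOfLe (Subgroup.zpowers_le.2 hcP)).toEquiv, Nat.card_zpowers, hc]
  have hidx : C.index = N := by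
    have := C.card_mul_index
    rw [hC3, hcard] at this
    omega
  haveI : C.Normal := ⟨fun x hx g => by
    obtain ⟨i, hi⟩ := Subgroup.mem_zpowers_iff.1 (Subgroup.mem_subgroupOf.1 hx)
    have hg : Commute (g : G) c := Subgroup.mem_centralizer_singleton_iff.1 (hPC g.2)
    rw [Subgroup.mem_subgroupOf, Subgroup.coe_mul, Subgroup.coe_mul, Subgroup.coe_inv, ← hi,
      (hg.zpow_right i).eq, mul_inv_cancel_right]
    exact Subgroup.zpow_mem _ (Subgroup.mem_zpowers c) i⟩
  obtain ⟨H, hH⟩ := Subgroup.exists_right_complement'_of_coprime (N := C) (by rw [hC3, hidx]; exact hK.symm)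
  have hHc : Nat.card H = N := by
    have := hH.card_mul
    rw [hC3, hcard] at this
    omega
  -- the complement is the set of solutions of `x ^ N = 1`
  have hmem : ∀ x : P, x ^ N = 1 → x ∈ H := by
    intro x hx
    obtain ⟨⟨u, h⟩, e⟩ := hH.2 x
    dsimp only at e
    have hu3 : (u : P) ^ 3 = 1 := congrArg Subtype.val (show u ^ 3 = 1 by rw [← hC3]; exact pow_card_eq_one')
    have hcom : Commute (u : P) (h : P) := by
      obtain ⟨i, hi⟩ := Subgroup.mem_zpowers_iff.1 (Subgroup.mem_subgroupOf.1 u.2)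
      refine Subtype.ext ?_
      have hg : Commute ((h : P) : G) c := Subgroup.mem_centralizer_singleton_iff.1 (hPC (h : P).2)
      rw [Subgroup.coe_mul, Subgroup.coe_mul, ← hi]
      exact (hg.zpow_right i).eq.symm
    have hh : (h : P) ^ N = 1 := congrArg Subtype.val (show h ^ N = 1 by rw [← hHc]; exact pow_card_eq_one')
    have huN : (u : P) ^ N = 1 := by
      rw [← e, hcom.mul_pow, hh, mul_one] at hx
      exact hx
    have hu1 : (u : P) = 1 := eq_one_of_coprime hu3 huN hK.symm
    rw [← e, hu1, one_mul]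
    exact h.2
  have hpow : ∀ v ∈ H.map P.subtype, ∀ j ∈ J, j * v * j⁻¹ ∈ H.map P.subtype := by
    rintro _ ⟨h, hh, rfl⟩ j hj
    have hjP : j * (h : G) * j⁻¹ ∈ P := by
      obtain ⟨v, hv, hvh⟩ := h.2
      have hjn := Subgroup.mem_normalizer_iff.1 (hn ⟨⟨j, hJ hj⟩, hj, rfl⟩) (mk v)
      refine ⟨⟨j, hJ hj⟩ * v * ⟨j, hJ hj⟩⁻¹, ?_, ?_⟩
      · rw [SetLike.mem_coe, Subgroup.mem_comap, map_mul, map_mul, map_inv]
        exact hjn.1 hv
      · show j * (v : G) * j⁻¹ = _
        rw [show (v : G) = (h : G) from hvh]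
    have hhN : h ^ N = 1 :=
      congrArg Subtype.val (show (⟨h, hh⟩ : H) ^ N = 1 by rw [← hHc]; exact pow_card_eq_one')
    refine ⟨⟨_, hjP⟩, hmem _ (Subtype.ext ?_), rfl⟩
    rw [Subgroup.coe_pow]
    show (j * (h : G) * j⁻¹) ^ N = 1
    rw [conj_pow, ← Subgroup.coe_pow, hhN]
    simp
  have hM := hsig (H.map P.subtype) (by
    rw [Subgroup.card_map_of_injective P.subtype_injective, hHc]
    exact (Nat.prime_three.coprime_iff_not_dvd).1 hK.symm) fun j hj k hk => hpow k hk j hj
  rw [Subgroup.map_eq_bot_iff_of_injective _ P.subtype_injective] at hM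
  rw [hM, Subgroup.card_bot] at hHc
  exact Subgroup.eq_bot_of_card_eq _ hHc.symm

end CfsgLib.OEightLocal.Cent
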