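import Cfsg.Agent.Lib.OEightLocal.CentCoord
import Cfsg.Agent.Lib.OEightLocal.CentLift
import Cfsg.Agent.Lib.PSpFourThree.Eight.SmallFinal
import Cfsg.Agent.Lib.PSpFourThree.Eight.Big
import Cfsg.Agent.Lib.PSpFourThree.KindFour
import Cfsg.Agent.Lib.PSpFourThree.KindTwo

/-!
The centraliser of `i₂` modulo `⟨i₂⟩` as a group with a centraliser of type `3^(1+2).SL(2,3)`.
-/

set_option autoImplicit false
set_option linter.unusedSectionVars false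
set_option linter.style.haveILetI false

namespace CfsgLib.OEightLocal.Loc

open CfsgLib.OEightLocal.Cent

variable {G : Type*} [Group G] [Finite G] (L : Loc G)

/-- The projection. -/
abbrev q₂ : ↥(Subgroup.centralizer ({L.i₂} : Set G)) →* Bar L.i₂ := QuotientGroup.mk' (Ker L.i₂)

theorem z_mem_Γ : L.z ∈ Subgroup.centralizer ({L.i₂} : Set G) :=
  Subgroup.mem_centralizer_singleton_iff.2 L.comm_zi₂.eq

/-- The image of `z`. -/
abbrev zb : Bar L.i₂ := L.q₂ ⟨L.z, L.z_mem_Γ⟩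

theorem J_le_Γ : L.J ≤ Subgroup.centralizer ({L.i₂} : Set G) := fun x hx =>
  Subgroup.mem_centralizer_singleton_iff.2 (L.J_comm hx L.mem_gens.2.2.2.2.2.2.2.2.1)

theorem Q₁_le_Γ : L.Q₁ ≤ Subgroup.centralizer ({L.i₂} : Set G) :=
  ((Subgroup.closure_mono (by simp [Set.insert_subset_iff]) : L.Q₁ ≤ L.S₀)).trans L.S₀_le

theorem Q₁_le_K₂ : L.Q₁ ≤ L.K₂ :=
  ((Subgroup.closure_mono (by simp [Set.insert_subset_iff]) : L.Q₁ ≤ L.S₀)).trans (le_sup_left.trans L.S₀_sup_le)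

theorem Q_comm_i₂ {x : G} (hx : x ∈ L.Q₁) : Commute x L.i₂ :=
  Subgroup.mem_centralizer_singleton_iff.1 (L.Q₁_le_Γ hx)

theorem orderOf_i₂ : orderOf L.i₂ = 3 := by
  haveI : Fact (Nat.Prime 3) := ⟨Nat.prime_three⟩
  exact orderOf_eq_prime L.cube_i₂ L.i₂_ne

theorem i₂_zpow_Q₁ {n : ℤ} (h : L.i₂ ^ n ∈ L.Q₁) : L.i₂ ^ n = 1 := by
  by_contra hn
  have hd : ¬ (3 : ℤ) ∣ n := fun ⟨k, hk⟩ => hn (by
    rw [hk, zpow_mul, show L.i₂ ^ (3 : ℤ) = 1 by exact_mod_cast L.cube_i₂, one_zpow])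
  refine L.i₂_not_Q₁ ?_
  rcases (show n % 3 = 1 ∨ n % 3 = 2 by omega) with e | e
  · have : L.i₂ ^ n = L.i₂ := by
      conv_lhs => rw [← Int.emod_add_mul_ediv n 3, zpow_add, zpow_mul,
        show L.i₂ ^ (3 : ℤ) = 1 by exact_mod_cast L.cube_i₂, one_zpow, mul_one, e, zpow_one]
    rwa [this] at h
  · have : L.i₂ ^ n = L.i₂ ^ 2 := by
      conv_lhs => rw [← Int.emod_add_mul_ediv n 3, zpow_add, zpow_mul,
        show L.i₂ ^ (3 : ℤ) = 1 by exact_mod_cast L.cube_i₂, one_zpow, mul_one, e]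
      norm_cast
    rw [this] at h
    exact pow_mem_imp L.cube_i₂ (n := 2) (by norm_num) h

/-- A conjugate of `z` in `Z⟨i₂⟩` lies in `Z`. -/
theorem conj_z_i₂ {g w : G} (hw : w ∈ Subgroup.zpowers L.z) {n : ℤ} (h : g * L.z * g⁻¹ = w * L.i₂ ^ n) :
    L.i₂ ^ n = 1 := by
  have hzQ : Subgroup.zpowers L.z ≤ L.Q₁ := Subgroup.zpowers_le.2 (Subgroup.subset_closure (by simp))
  have hmem : g * L.z * g⁻¹ ∈ Subgroup.closure ({L.z, L.i₁, L.i₂, L.p, L.a} : Set G) := by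
    rw [h]
    exact mul_mem (Subgroup.zpowers_le.2 (Subgroup.subset_closure (by simp)) hw)
      (zpow_mem (Subgroup.subset_closure (by simp)) n)
  rcases L.conj_mem_Q g hmem with h1 | ⟨k, l, -, q, hq, hqz, h2⟩
  · rw [h] at h1
    exact L.i₂_zpow_Q₁ (hzQ (by simpa using mul_mem (inv_mem hw) h1))
  · exfalso
    have hq' : q * L.z ^ k * L.i₂ ^ l = w * L.i₂ ^ n := h2.symm.trans h
    have e : q = w * L.i₂ ^ (n - l) * (L.z ^ k)⁻¹ := by
      rw [zpow_sub]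
      calc q = q * L.z ^ k * L.i₂ ^ l * (L.i₂ ^ l)⁻¹ * (L.z ^ k)⁻¹ := by group
        _ = _ := by rw [hq']; group
    have hc : ∀ x : G, Commute x L.z → Commute x L.i₂ → Commute q x := fun x hxz hxi => by
      obtain ⟨i, hi⟩ := Subgroup.mem_zpowers_iff.1 hw
      rw [e, ← hi]
      exact (((hxz.zpow_right i).mul_right (hxi.zpow_right _)).mul_right (hxz.zpow_right k).inv_right).symm
    exact hqz (L.center_Q₁ hq (hc _ L.comm_zp.symm L.comm_pi₂) (hc _ L.comm_zi₁.symm L.comm_i₁i₂))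

theorem zb_comm {g : ↥(Subgroup.centralizer ({L.i₂} : Set G))}
    (h : L.q₂ g * L.zb = L.zb * L.q₂ g) : (g : G) ∈ L.K₂ := by
  refine ⟨Subgroup.mem_centralizer_singleton_iff.2 ?_, g.2⟩
  have h' : L.q₂ ⟨L.z, L.z_mem_Γ⟩ = L.q₂ (g * ⟨L.z, L.z_mem_Γ⟩ * g⁻¹) := by
    rw [map_mul, map_mul, map_inv, h, mul_inv_cancel_right]
  obtain ⟨n, hn⟩ := mk_eq_iff.1 h'
  have h1 := L.conj_z_i₂ (g := g) (Subgroup.mem_zpowers L.z) hn
  rw [h1, mul_one] at hn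
  exact mul_inv_eq_iff_eq_mul.1 hn

theorem K₂_comm_zb {g : G} (hg : g ∈ L.K₂) : L.q₂ ⟨g, hg.2⟩ * L.zb = L.zb * L.q₂ ⟨g, hg.2⟩ := by
  rw [← map_mul, ← map_mul]
  exact congrArg _ (Subtype.ext (Subgroup.mem_centralizer_singleton_iff.1 hg.1))

/-- `C(z) ∩ C(i₂)` onto the centraliser of the image of `z`. -/
noncomputable def toCz : L.K₂ →* ↥(Subgroup.centralizer ({L.zb} : Set (Bar L.i₂))) :=
  (L.q₂.comp (Subgroup.inclusion inf_le_right)).codRestrict _ fun g =>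
    Subgroup.mem_centralizer_singleton_iff.2 (L.K₂_comm_zb g.2)

theorem toCz_val (g : L.K₂) : (L.toCz g : Bar L.i₂) = L.q₂ ⟨g, g.2.2⟩ := rfl

theorem toCz_surj : Function.Surjective L.toCz := by
  rintro ⟨x, hx⟩
  obtain ⟨g, rfl⟩ := QuotientGroup.mk'_surjective (Ker L.i₂) x
  exact ⟨⟨g, L.zb_comm (Subgroup.mem_centralizer_singleton_iff.1 hx)⟩, rfl⟩

theorem toCz_ker : L.toCz.ker ≤ L.act₂.ker := by
  intro g hg
  rw [MonoidHom.mem_ker, L.act₂_ker]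
  have h1 : L.q₂ ⟨g, g.2.2⟩ = 1 := congrArg Subtype.val (MonoidHom.mem_ker.1 hg)
  exact Subgroup.mem_sup_right (mk_eq_one_iff.1 h1)

/-- The action of the centraliser of the image of `z`. -/
noncomputable def φz : ↥(Subgroup.centralizer ({L.zb} : Set (Bar L.i₂))) →* CfsgLib.PSpFourLocal.S23 :=
  L.toCz.liftOfSurjective L.toCz_surj ⟨L.act₂, L.toCz_ker⟩

theorem φz_toCz (g : L.K₂) : L.φz (L.toCz g) = L.act₂ g :=
  MonoidHom.liftOfRightInverse_comp_apply _ _ _ _ g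

/-- `Q₁` onto its image. -/
noncomputable def toR : L.Q₁ →* Bar L.i₂ := L.q₂.comp (Subgroup.inclusion L.Q₁_le_Γ)

theorem toR_inj : Function.Injective L.toR := by
  rw [injective_iff_map_eq_one]
  intro x hx
  obtain ⟨n, hn⟩ := Subgroup.mem_zpowers_iff.1 (mk_eq_one_iff.1 hx)
  refine Subtype.ext ?_
  show (x : G) = 1
  rw [show (x : G) = L.i₂ ^ n from hn.symm]
  exact L.i₂_zpow_Q₁ (by rw [hn]; exact x.2)

theorem toR_range : L.toR.range = img L.i₂ L.Q₁ := by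
  ext x
  constructor
  · rintro ⟨v, rfl⟩
    exact ⟨Subgroup.inclusion L.Q₁_le_Γ v, v.2, rfl⟩
  · rintro ⟨v, hv, rfl⟩
    exact ⟨⟨v, hv⟩, rfl⟩

theorem φz_ker (x : ↥(Subgroup.centralizer ({L.zb} : Set (Bar L.i₂)))) :
    L.φz x = 1 ↔ (x : Bar L.i₂) ∈ img L.i₂ L.Q₁ := by
  obtain ⟨g, rfl⟩ := L.toCz_surj x
  rw [φz_toCz, act₂_ker, toCz_val]
  constructor
  · intro h
    have hle : L.Q₁ ⊔ Subgroup.zpowers L.i₂ ≤
        ((img L.i₂ L.Q₁).comap L.q₂).map (Subgroup.centralizer ({L.i₂} : Set G)).subtype := by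
      refine sup_le (fun v hv => ⟨⟨v, L.Q₁_le_Γ hv⟩, ⟨⟨v, L.Q₁_le_Γ hv⟩, hv, rfl⟩, rfl⟩) (Subgroup.zpowers_le.2 ?_)
      refine ⟨⟨L.i₂, Subgroup.mem_centralizer_singleton_iff.2 rfl⟩, ?_, rfl⟩
      rw [SetLike.mem_coe, Subgroup.mem_comap, mk_eq_one_iff.2 (Subgroup.mem_zpowers _)]
      exact one_mem _
    obtain ⟨v, hv, hvg⟩ := hle h
    have : v = ⟨g, g.2.2⟩ := Subtype.ext hvg
    exact this ▸ hv
  · rintro ⟨v, hv, hvg⟩
    obtain ⟨n, hn⟩ := mk_eq_iff.1 hvg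
    rw [show (g : G) = (v : G) * L.i₂ ^ n from hn]
    exact mul_mem (Subgroup.mem_sup_left hv) (Subgroup.mem_sup_right (zpow_mem (Subgroup.mem_zpowers _) n))

theorem orderOf_zb : orderOf L.zb = 3 := by
  haveI : Fact (Nat.Prime 3) := ⟨Nat.prime_three⟩
  refine orderOf_eq_prime ?_ fun h => L.z_ne ?_
  · rw [← map_pow]
    exact (congrArg _ (Subtype.ext L.cube_z)).trans (map_one _)
  · obtain ⟨n, hn⟩ := Subgroup.mem_zpowers_iff.1 (mk_eq_one_iff.1 h)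
    have h1 : L.i₂ ^ n = 1 := L.i₂_zpow_Q₁ (by rw [hn]; exact Subgroup.subset_closure (by simp))
    rw [h1] at hn
    exact hn.symm

theorem center_toR : Nat.card (Subgroup.center L.toR.range) = 3 := by
  rw [← Nat.card_congr (Subgroup.centerCongr (MonoidHom.ofInjective L.toR_inj)).toEquiv]
  have hz3 : Nat.card (Subgroup.zpowers L.z) = 3 := by
    haveI : Fact (Nat.Prime 3) := ⟨Nat.prime_three⟩
    rw [Nat.card_zpowers, orderOf_eq_prime L.cube_z L.z_ne]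
  rw [← hz3]
  have hzQ : L.z ∈ L.Q₁ := Subgroup.subset_closure (by simp)
  refine Nat.card_congr
    { toFun := fun x => ⟨((x : L.Q₁) : G), L.center_Q₁ x.1.2
        (congrArg Subtype.val (Subgroup.mem_center_iff.1 x.2 ⟨L.p, Subgroup.subset_closure (by simp)⟩)).symm
        (congrArg Subtype.val (Subgroup.mem_center_iff.1 x.2 ⟨L.i₁, Subgroup.subset_closure (by simp)⟩)).symm⟩
      invFun := fun x => ⟨⟨(x : G), Subgroup.zpowers_le.2 hzQ x.2⟩, Subgroup.mem_center_iff.2 fun v => Subtype.ext (by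
        obtain ⟨i, hi⟩ := Subgroup.mem_zpowers_iff.1 x.2
        have hv : Commute (v : G) L.z :=
          Subgroup.mem_centralizer_singleton_iff.1 (L.Q₁_le_K₂ v.2).1
        rw [Subgroup.coe_mul, Subgroup.coe_mul, ← hi]
        exact (hv.zpow_right i).eq)⟩
      left_inv := fun x => rfl
      right_inv := fun x => rfl }

/-- The configuration in the quotient. -/
noncomputable def ctx₂ : CfsgLib.PSpFourThree.Ctx (Bar L.i₂) where
  a := L.zb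
  R := L.toR.range
  J := img L.i₂ L.J
  φ := L.φz
  ha := L.orderOf_zb
  surj u := by
    obtain ⟨g, rfl⟩ := L.act₂_surj u
    exact ⟨L.toCz g, L.φz_toCz g⟩
  hker x := by rw [L.toR_range]; exact L.φz_ker x
  R_le := by
    rintro _ ⟨v, rfl⟩
    exact Subgroup.mem_centralizer_singleton_iff.2 (L.K₂_comm_zb (L.Q₁_le_K₂ v.2))
  card_R := by rw [← Nat.card_congr (MonoidHom.ofInjective L.toR_inj).toEquiv, L.card_Q₁]
  center_R := L.center_toR
  exp_R := by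
    rintro _ ⟨v, rfl⟩
    obtain ⟨k, b, c, hv⟩ := L.mem_Q₁.1 v.2
    rw [← map_pow, show v ^ 3 = 1 from Subtype.ext (by rw [Subgroup.coe_pow, hv, L.E_cube]; rfl), map_one]
  J_le := by
    rintro _ ⟨v, hv, rfl⟩
    refine Subgroup.mem_centralizer_singleton_iff.2 ?_
    show L.q₂ v * L.q₂ _ = L.q₂ _ * L.q₂ v
    rw [← map_mul, ← map_mul]
    exact congrArg _ (Subtype.ext (L.J_comm hv L.mem_gens.2.2.2.2.2.2.1))
  comm := by
    rintro _ ⟨v, hv, rfl⟩ _ ⟨w, hw, rfl⟩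
    rw [← map_mul, ← map_mul]
    exact congrArg _ (Subtype.ext (L.J_comm hv hw))
  cube := by
    rintro _ ⟨v, hv, rfl⟩
    have hle : L.J ≤ Subgroup.centralizer (L.J : Set G) := le_of_eq L.cent_J.symm
    let T : Subgroup G :=
      { carrier := {x | x ∈ L.J ∧ x ^ 3 = 1}
        one_mem' := ⟨one_mem _, one_pow _⟩
        mul_mem' := fun {a b} ha hb => ⟨mul_mem ha.1 hb.1, by
          rw [(show Commute a b from L.J_comm ha.1 hb.1).mul_pow, ha.2, hb.2, one_mul]⟩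
        inv_mem' := fun {a} ha => ⟨inv_mem ha.1, by rw [inv_pow, ha.2, inv_one]⟩ }
    have hT : (v : G) ∈ T := (Subgroup.closure_le T).2 (by
      rintro x (rfl | rfl | rfl | rfl)
      exacts [⟨L.mem_gens.2.2.2.2.2.2.1, L.cube_z⟩, ⟨L.mem_gens.2.2.2.2.2.2.2.1, L.cube_i₁⟩,
        ⟨L.mem_gens.2.2.2.2.2.2.2.2.1, L.cube_i₂⟩, ⟨L.mem_gens.2.2.2.2.2.2.2.2.2, L.cube_y⟩]) hv
    rw [← map_pow, show v ^ 3 = 1 from Subtype.ext hT.2, map_one]
  card_J := by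
    have h := card_img L.J_le_Γ L.mem_gens.2.2.2.2.2.2.2.2.1
    rw [show Nat.card L.J = 81 from L.card_J, L.orderOf_i₂] at h
    omega
  sig K hK hn := bar_signalizer L.orderOf_i₂ L.signalizer L.J_le_Γ K hK hn

theorem y_mem_K₂ : L.y ∈ L.K₂ :=
  L.S₀_sup_le (Subgroup.mem_sup_left (Subgroup.subset_closure (by simp)))

/-- No element of the first kind inverts `z` in `C(i₂)`. -/
theorem not_real (hm : L.m = 1) (x : Bar L.i₂) : x * L.zb * x⁻¹ ≠ L.zb⁻¹ := by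
  intro h
  obtain ⟨g, rfl⟩ := QuotientGroup.mk'_surjective (Ker L.i₂) x
  rw [← map_inv, ← map_mul, ← map_mul, ← map_inv] at h
  obtain ⟨n, hn⟩ := mk_eq_iff.1 h.symm
  have h1 := L.conj_z_i₂ (g := g) (inv_mem (Subgroup.mem_zpowers L.z)) hn
  rw [h1, mul_one] at hn
  have hn' : (g : G) * L.z * (g : G)⁻¹ = L.z⁻¹ := hn
  have hνi : L.ν⁻¹ = L.ν := inv_eq_of_mul_eq_one_right L.ν_sq
  have hc : L.ν * g ∈ L.C := Subgroup.mem_centralizer_singleton_iff.2 (by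
    calc L.ν * g * L.z = L.ν * ((g : G) * L.z * (g : G)⁻¹) * g := by group
      _ = L.ν * L.z⁻¹ * L.ν⁻¹ * (L.ν * g) := by rw [hn']; group
      _ = _ := by rw [← conj_inv, L.ν_z, inv_inv])
  obtain ⟨k, hk⟩ := L.cz_i₂_aux.2 _ hc
  rcases hk with hk | ⟨h2, -⟩
  swap
  · omega
  have hgi : (g : G) * L.i₂ * (g : G)⁻¹ = L.i₂ := by
    rw [Subgroup.mem_centralizer_singleton_iff.1 g.2, mul_inv_cancel_right]
  rw [show L.ν * g * L.i₂ * (L.ν * g)⁻¹ = L.ν * ((g : G) * L.i₂ * (g : G)⁻¹) * L.ν⁻¹ by group, hgi, L.ν_i₂] at hk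
  refine L.i₂_not_Z (pow_mem_imp L.cube_i₂ (n := 2) (by norm_num) ?_)
  have : L.i₂ ^ 2 = (L.z ^ k)⁻¹ := by
    rw [pow_two]
    calc L.i₂ * L.i₂ = (L.z ^ k)⁻¹ * (L.z ^ k * L.i₂) * L.i₂ := by group
      _ = _ := by rw [← hk]; group
  rw [this]
  exact inv_mem (pow_mem (Subgroup.mem_zpowers _) _)

/-- A normal subgroup containing the quaternion group contains the radical. -/
theorem normal_contains (M : Subgroup (Bar L.i₂)) [M.Normal]
    (hO : ∀ w (hw : w ∈ L.O), L.q₂ ⟨w, Subgroup.mem_centralizer_singleton_iff.2 (L.O_comm w hw).2.2⟩ ∈ M) :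
    ∀ x (hx : x ∈ L.Q₁), L.q₂ ⟨x, L.Q₁_le_Γ hx⟩ ∈ M := by
  set P := (M.comap L.q₂).map (Subgroup.centralizer ({L.i₂} : Set G)).subtype
  have hmem : ∀ {x : G} (hx : x ∈ Subgroup.centralizer ({L.i₂} : Set G)), x ∈ P ↔ L.q₂ ⟨x, hx⟩ ∈ M :=
    fun {x} hx => ⟨fun ⟨v, hv, e⟩ => by rwa [show (⟨x, hx⟩ : ↥(Subgroup.centralizer ({L.i₂} : Set G))) = v from Subtype.ext e.symm],
      fun h => ⟨⟨x, hx⟩, h, rfl⟩⟩
  have ht : L.t ∈ P := (hmem _).2 (hO L.t L.t_mem)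
  have hcomm : ∀ x ∈ Subgroup.centralizer ({L.i₂} : Set G), L.t * x * L.t⁻¹ * x⁻¹ ∈ P := by
    intro x hx
    have htΓ : L.t ∈ Subgroup.centralizer ({L.i₂} : Set G) := Subgroup.map_subtype_le _ ht
    have h2 : L.q₂ (⟨x, hx⟩ * ⟨L.t, htΓ⟩⁻¹ * ⟨x, hx⟩⁻¹) ∈ M := by
      rw [map_mul, map_mul, map_inv, map_inv]
      exact Subgroup.Normal.conj_mem inferInstance _ (inv_mem (hO L.t L.t_mem)) _
    have h3 : x * L.t⁻¹ * x⁻¹ ∈ P := ⟨_, h2, rfl⟩
    rw [show L.t * x * L.t⁻¹ * x⁻¹ = L.t * (x * L.t⁻¹ * x⁻¹) by group]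
    exact mul_mem ht h3
  have half : ∀ x ∈ L.Q₁, x ^ 3 = 1 → L.t * x * L.t⁻¹ = x⁻¹ → x ∈ P := by
    intro x hx h3 hinv
    refine pow_mem_imp h3 (n := 2) (by norm_num) ?_
    have := inv_mem (hcomm x (L.Q₁_le_Γ hx))
    rw [hinv, ← mul_inv_rev, inv_inv, ← pow_two] at this
    exact this
  have hp : L.p ∈ P := half _ (Subgroup.subset_closure (by simp)) L.cube_p L.t_p
  have hi : L.i₁ ∈ P := half _ (Subgroup.subset_closure (by simp)) L.cube_i₁ L.t_i₁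
  have hz : L.z ∈ P := L.rel_p ▸ mul_mem (mul_mem (mul_mem hp hi) (inv_mem hp)) (inv_mem hi)
  intro x hx
  refine (hmem _).1 ((Subgroup.closure_le P).2 ?_ hx)
  rintro v (rfl | rfl | rfl) <;> assumption

/-- `C(i₂)/⟨i₂⟩` is `PSp(4,3)` in the first kind. -/
theorem bar₂_psp (hm : L.m = 1) (hmove : ∃ g : G, g * L.i₂ = L.i₂ * g ∧
    (g * L.z * g⁻¹ = L.y ∨ g * L.z * g⁻¹ = L.y⁻¹)) :
    Nonempty (Bar L.i₂ ≃* Cfsg.PSp 2 (ZMod 3)) := by
  obtain ⟨U⟩ := L.ctx₂.exists_coord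
  have hno : ∀ g, g * L.ctx₂.a * g⁻¹ ≠ L.ctx₂.a⁻¹ := L.not_real hm
  have hk : U.k = 0 ∨ U.k = 1 ∨ U.k = 2 ∨ U.k = 3 := by
    have h : ∀ k : Fin 4, k = 0 ∨ k = 1 ∨ k = 2 ∨ k = 3 := by decide
    exact h _
  have hflip : U.k = 1 ∨ U.k = 3 → ∃ g, g * L.ctx₂.a * g⁻¹ = L.ctx₂.a⁻¹ := by
    intro h
    have h129 : CfsgLib.SymNineThree.Mon.of 129 ∈ CfsgLib.SymNineThree.Mon.Kd U.k := by
      rcases h with h | h <;> rw [h] <;>
        exact CfsgLib.SymNineThree.mem_Kd_of (by norm_num) (by decide +kernel)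
    refine ⟨U.f (CfsgLib.SymNineThree.Mon.of 129), ?_⟩
    rw [U.inv_a, ← U.ι_thirteen, CfsgLib.PSpFourThree.Coord.ι, CfsgLib.PSpFourThree.Coord.ι,
      ← U.f_conj h129 (CfsgLib.SymNineThree.tr_mem (by norm_num))]
    exact congrArg U.f (by decide +kernel)
  rcases hk with h | h | h | h
  · exfalso
    haveI : Fact (Nat.Prime 3) := ⟨Nat.prime_three⟩
    obtain ⟨M, hMn, hM⟩ := U.index_three h hno
    haveI := hMn
    have hO : ∀ w (hw : w ∈ L.O),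
        L.q₂ ⟨w, Subgroup.mem_centralizer_singleton_iff.2 (L.O_comm w hw).2.2⟩ ∈ M := by
      intro w hw
      set x := L.q₂ ⟨w, Subgroup.mem_centralizer_singleton_iff.2 (L.O_comm w hw).2.2⟩
      have h8 : x ^ 8 = 1 := by
        rw [← map_pow, ← map_one L.q₂]
        refine congrArg _ (Subtype.ext ?_)
        have := congrArg Subtype.val (pow_card_eq_one' (x := (⟨w, hw⟩ : L.O)))
        rwa [L.card_O] at this
      have h3 : (x : Bar L.i₂ ⧸ M) ^ 3 = 1 := by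
        rw [← hM, Subgroup.index]; exact pow_card_eq_one'
      have hx8 : (x : Bar L.i₂ ⧸ M) ^ 8 = 1 := by rw [← QuotientGroup.mk_pow, h8]; rfl
      exact (QuotientGroup.eq_one_iff x).1 (eq_one_of_coprime h3 hx8 (by norm_num))
    have hQ := L.normal_contains M hO
    have hy : L.q₂ ⟨L.y, L.y_mem_K₂.2⟩ ∈ M := by
      obtain ⟨g, hgi, hgy⟩ := hmove
      have hzM : L.zb ∈ M := hQ L.z (Subgroup.subset_closure (by simp))
      have hg : g ∈ Subgroup.centralizer ({L.i₂} : Set G) := Subgroup.mem_centralizer_singleton_iff.2 hgi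
      have h1 : L.q₂ (⟨g, hg⟩ * ⟨L.z, L.z_mem_Γ⟩ * ⟨g, hg⟩⁻¹) ∈ M := by
        rw [map_mul, map_mul, map_inv]
        exact hMn.conj_mem _ hzM _
      rcases hgy with e | e
      · rwa [show (⟨L.y, L.y_mem_K₂.2⟩ : ↥(Subgroup.centralizer ({L.i₂} : Set G))) =
          ⟨g, hg⟩ * ⟨L.z, L.z_mem_Γ⟩ * ⟨g, hg⟩⁻¹ from Subtype.ext e.symm]
      · rw [show (⟨L.y, L.y_mem_K₂.2⟩ : ↥(Subgroup.centralizer ({L.i₂} : Set G))) =
          (⟨g, hg⟩ * ⟨L.z, L.z_mem_Γ⟩ * ⟨g, hg⟩⁻¹)⁻¹ from Subtype.ext (by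
            show L.y = (g * L.z * g⁻¹)⁻¹
            rw [e, inv_inv]), map_inv]
        exact inv_mem h1
    have hC : L.ctx₂.C ≤ M := by
      intro x hx
      obtain ⟨g, hg⟩ := L.toCz_surj ⟨x, hx⟩
      rw [show x = L.q₂ ⟨g, g.2.2⟩ from (congrArg Subtype.val hg).symm]
      have hK : L.K₂ ≤ (M.comap L.q₂).map (Subgroup.centralizer ({L.i₂} : Set G)).subtype := by
        rw [show L.K₂ = _ from L.cz_i₂_eq]
        refine sup_le ((Subgroup.closure_le _).2 ?_) fun w hw =>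
          ⟨⟨w, Subgroup.mem_centralizer_singleton_iff.2 (L.O_comm w hw).2.2⟩, hO w hw, rfl⟩
        rintro v (rfl | rfl | rfl | rfl | rfl)
        · exact ⟨_, hQ L.z (Subgroup.subset_closure (by simp)), rfl⟩
        · exact ⟨_, hQ L.i₁ (Subgroup.subset_closure (by simp)), rfl⟩
        · refine ⟨⟨L.i₂, Subgroup.mem_centralizer_singleton_iff.2 rfl⟩, ?_, rfl⟩
          rw [SetLike.mem_coe, Subgroup.mem_comap, mk_eq_one_iff.2 (Subgroup.mem_zpowers _)]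
          exact one_mem _
        · exact ⟨_, hy, rfl⟩
        · exact ⟨_, hQ L.p (Subgroup.subset_closure (by simp)), rfl⟩
      obtain ⟨v, hv, e⟩ := hK g.2
      exact (show v = ⟨g, g.2.2⟩ from Subtype.ext e) ▸ hv
    have hS : (L.ctx₂.sylow : Subgroup (Bar L.i₂)) ≤ M := fun v hv => hC (L.ctx₂.S_le hv)
    have h3 := Subgroup.index_dvd_of_le hS
    rw [hM] at h3
    exact Sylow.not_dvd_index _ h3
  · obtain ⟨g, hg⟩ := hflip (Or.inl h)
    exact absurd hg (hno g)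
  · obtain ⟨e1⟩ := U.iso_of_four h
    obtain ⟨e2⟩ := CfsgLib.PSpFourRecog.exists_iso (F := ZMod 3) (ZMod.card 3)
    exact ⟨e1.trans e2.symm⟩
  · obtain ⟨g, hg⟩ := hflip (Or.inr h)
    exact absurd hg (hno g)

end CfsgLib.OEightLocal.Loc
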