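import Cfsg.Agent.Lib.OEightLocal.CentTwo

/-!
The four points of `C(i₂)/⟨i₂⟩`: a frame on the part isomorphic to `PSp(4,3)`.
-/

set_option autoImplicit false
set_option linter.unusedSectionVars false
set_option linter.style.haveILetI false

namespace CfsgLib.OEightLocal.Loc

open CfsgLib.OEightLocal.Cent

variable {G : Type*} [Group G] [Finite G] (L : Loc G)

/-- `N(J) ∩ C(i₂)`. -/
abbrev N₂ : Subgroup G := L.NJ ⊓ Subgroup.centralizer ({L.i₂} : Set G)

theorem card_N₂ : Nat.card L.N₂ = 1944 * L.m := by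
  classical
  have h := card_stab L.NJ L.i₂
  rw [card_normJ] at h
  have hR : Set.range (fun c : L.NJ => (c : G) * L.i₂ * (c : G)⁻¹) =
      L.jel '' ↑(Finset.univ.filter fun v : V => qJ v = 1) := by
    have e1 : qJ ![0, 0, 1, 0] = 1 := by decide +kernel
    ext x
    simp only [Set.mem_range, Set.mem_image, Finset.coe_filter, Finset.mem_univ, true_and, Set.mem_ofPred_eq]
    constructor
    · rintro ⟨c, rfl⟩
      obtain ⟨f, hf⟩ := exists_act_map L c.2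
      exact ⟨f ![0, 0, 1, 0], by rw [qJ_act L hf, e1], by rw [← hf, jel_i2]⟩
    · rintro ⟨v, hv, rfl⟩
      obtain ⟨n, f, hf, hfv⟩ := exists_conj L (v := ![0, 0, 1, 0]) (w := v) (by decide)
        (fun h0 => by rw [h0] at hv; exact absurd hv (by decide +kernel)) (e1.trans hv.symm)
      exact ⟨⟨n, hf.mem_normalizer⟩, by show n * L.i₂ * n⁻¹ = L.jel v; rw [← jel_i2 L, hf, hfv]⟩
  rw [hR, Nat.card_image_of_injective (jel_injective L), Nat.card_coe_set_eq, Set.ncard_coe_finset,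
    count_ns 1 one_ne_zero] at h
  show Nat.card ↥(L.NJ ⊓ Subgroup.centralizer ({L.i₂} : Set G)) = 1944 * L.m
  omega

/-- The image of `J`. -/
abbrev Jb₂ : Subgroup (Bar L.i₂) := img L.i₂ L.J

theorem normalizer_Jb₂ : Subgroup.normalizer (L.Jb₂ : Set (Bar L.i₂)) = img L.i₂ L.N₂ := by
  ext x
  obtain ⟨g, rfl⟩ := QuotientGroup.mk'_surjective (Ker L.i₂) x
  constructor
  · intro hx
    refine ⟨g, ⟨?_, g.2⟩, rfl⟩
    have key : ∀ h : ↥(Subgroup.centralizer ({L.i₂} : Set G)),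
        L.q₂ h ∈ Subgroup.normalizer (L.Jb₂ : Set (Bar L.i₂)) →
        ∀ j ∈ L.J, (h : G) * j * (h : G)⁻¹ ∈ L.J := by
      intro h hh j hj
      have h1 : L.q₂ (h * ⟨j, L.J_le_Γ hj⟩ * h⁻¹) ∈ L.Jb₂ := by
        rw [map_mul, map_mul, map_inv]
        exact (Subgroup.mem_normalizer_iff.1 hh _).1 ⟨⟨j, L.J_le_Γ hj⟩, hj, rfl⟩
      obtain ⟨w, hw, hwe⟩ := h1
      obtain ⟨n, hn⟩ := mk_eq_iff.1 hwe
      rw [show (h : G) * j * (h : G)⁻¹ = (w : G) * L.i₂ ^ n from hn]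
      exact mul_mem hw (zpow_mem L.mem_gens.2.2.2.2.2.2.2.2.1 n)
    refine Subgroup.mem_normalizer_iff.2 fun j => ⟨key g hx j, fun h => ?_⟩
    have := key g⁻¹ (by rw [map_inv]; exact inv_mem hx) _ h
    rwa [Subgroup.coe_inv, Subgroup.coe_subtype, show (g : G)⁻¹ * ((g : G) * j * (g : G)⁻¹) * (g : G)⁻¹⁻¹ = j by group] at this
  · rintro ⟨h, hh, he⟩
    rw [← he]
    have key : ∀ k : ↥(Subgroup.centralizer ({L.i₂} : Set G)), (k : G) ∈ L.NJ →
        ∀ y ∈ L.Jb₂, L.q₂ k * y * (L.q₂ k)⁻¹ ∈ L.Jb₂ := by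
      rintro k hk _ ⟨j, hj, rfl⟩
      exact ⟨k * j * k⁻¹, (Subgroup.mem_normalizer_iff.1 hk _).1 hj, by rw [map_mul, map_mul, map_inv]⟩
    refine Subgroup.mem_normalizer_iff.2 fun y => ⟨key h hh.1 y, fun hy => ?_⟩
    have := key h⁻¹ (inv_mem hh.1) _ hy
    rwa [map_inv, show (L.q₂ h)⁻¹ * (L.q₂ h * y * (L.q₂ h)⁻¹) * (L.q₂ h)⁻¹⁻¹ = y by group] at this

theorem card_normalizer_Jb₂ : Nat.card (Subgroup.normalizer (L.Jb₂ : Set (Bar L.i₂))) = 648 * L.m := by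
  rw [L.normalizer_Jb₂]
  have hi : L.i₂ ∈ L.N₂ :=
    ⟨Subgroup.le_normalizer L.mem_gens.2.2.2.2.2.2.2.2.1, Subgroup.mem_centralizer_singleton_iff.2 rfl⟩
  have h := card_img inf_le_right hi
  rw [L.card_N₂, L.orderOf_i₂] at h
  exact Nat.eq_of_mul_eq_mul_left (show 0 < 3 by norm_num) (h.symm.trans (by ring))

open CfsgLib.PSpFourThree in
/-- A frame on a normal subgroup of index at most two. -/
theorem exists_frame : ∃ M : Subgroup (Bar L.i₂), M.Normal ∧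
    Subgroup.centralizer ({L.zb} : Set (Bar L.i₂)) ≤ M ∧
    (∀ x ∈ M, x * L.zb * x⁻¹ ≠ L.zb⁻¹) ∧
    (L.m = 1 → M = ⊤) ∧ (∀ x y, x ∉ M → y ∉ M → x * y ∈ M) ∧
    ∃ v : Fin 4 → M, CfsgLib.PSpFourLocal.IsFrame (L.Jb₂.subgroupOf M) v ∧ (v 0 : Bar L.i₂) = L.zb := by
  classical
  suffices h : ∃ M : Subgroup (Bar L.i₂), M.Normal ∧ Subgroup.centralizer ({L.zb} : Set (Bar L.i₂)) ≤ M ∧
      (L.m = 1 → M = ⊤) ∧ (∀ x y, x ∉ M → y ∉ M → x * y ∈ M) ∧
      Nat.card ↥(M ⊓ Subgroup.normalizer (L.Jb₂ : Set (Bar L.i₂))) = 648 by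
    obtain ⟨M, hMn, hC, h1, h2, hcard⟩ := h
    set X' := L.ctx₂.restrict M hC
    obtain ⟨U'⟩ := X'.exists_coord
    have hk : U'.k = 2 := by
      refine kind_by_card _ ?_
      rw [← U'.card_normalizer, ← hcard]
      have hJM : L.ctx₂.J ≤ M := L.ctx₂.J_le.trans hC
      refine Nat.card_congr
        { toFun := fun g => ⟨((g : M) : Bar L.i₂), (g : M).2, mem_of_map_conj _ fun j hj =>
            (Subgroup.mem_normalizer_iff.mp g.2 ⟨j, hJM hj⟩).mp hj⟩
          invFun := fun g => ⟨⟨g, g.2.1⟩, mem_of_map_conj _ fun j hj =>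
            (Subgroup.mem_normalizer_iff.mp g.2.2 _).mp hj⟩
          left_inv := fun _ => rfl
          right_inv := fun _ => rfl }
    refine ⟨M, hMn, hC, fun x hx hxz => ?_, h1, h2, fun i => U'.ι (frameCode i), U'.isFrame hk, ?_⟩
    · rcases U'.kind_odd (g := ⟨x, hx⟩) (Subtype.ext hxz) with e | e <;> rw [hk] at e <;>
        exact absurd e (by decide)
    · exact congrArg Subtype.val U'.ι_thirteen
  rcases L.hm with hm | hm
  · refine ⟨⊤, inferInstance, le_top, fun _ => rfl, fun x y _ _ => Subgroup.mem_top _, ?_⟩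
    rw [top_inf_eq, L.card_normalizer_Jb₂, hm]
  · obtain ⟨U⟩ := L.ctx₂.exists_coord
    rcases U.kind_odd (L.real hm) with h | h
    · exact absurd (U.normalizer_eq_top h) L.zb_not_normal
    rcases U.small_or_big h with hs | ⟨⟨B⟩⟩
    swap
    · exfalso
      exact L.no_big hm B
    set S := CfsgLib.PSpFourThree.Small.mk h hs
    haveI : Fact (Nat.Prime 2) := ⟨Nat.prime_two⟩
    obtain ⟨P, hP⟩ := S.exists_sylow_T7
    obtain ⟨hn2, -⟩ := U.flip_mul S.h8
    obtain ⟨M, hMn, hM, hnM⟩ := (Cfsg.Agent.S0111.result P S.T0 (hP ▸ S.T0_le) (hP ▸ S.T0_index) U.nF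
      (orderOf_eq_prime (by rw [pow_two]; exact hn2) (U.flip_ne S.h8).1.1) (hP ▸ S.n_T7) S.n_not_T0).resolve_right
      (fun ⟨g, hg⟩ => S.no_conj_T0 g hg)
    haveI := hMn
    refine ⟨M, hMn, L.ctx₂.C_le fun g _ => by rw [← pow_two]; exact Subgroup.sq_mem_of_index_two hM g,
      fun e => absurd e (by omega), fun x y hx hy => ?_, ?_⟩
    · exact (Subgroup.mul_mem_iff_of_index_two hM).2 ⟨fun a => absurd a hx, fun b => absurd b hy⟩
    set N := Subgroup.normalizer (L.Jb₂ : Set (Bar L.i₂))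
    have hN : Nat.card N = 1296 := by rw [L.card_normalizer_Jb₂, hm]
    have hrel : M.relIndex N = 2 := by
      have h1 : M.relIndex N ∣ 2 := hM ▸ Subgroup.relIndex_dvd_index_of_normal M N
      rcases (Nat.dvd_prime Nat.prime_two).mp h1 with e | e
      · exact absurd (Subgroup.relIndex_eq_one.mp e (U.f_mem_N (U.top8 S.h8 _))) hnM
      · exact e
    have h' := Subgroup.card_mul_index ((M ⊓ N).subgroupOf N)
    rw [Nat.card_congr (Subgroup.subgroupOfEquivOfLe (inf_le_right : M ⊓ N ≤ N)).toEquiv,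
      show ((M ⊓ N).subgroupOf N).index = (M ⊓ N).relIndex N from rfl, Subgroup.inf_relIndex_right, hrel, hN] at h'
    omega

end CfsgLib.OEightLocal.Loc
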