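import Mathlib

/-!
In the symmetric group of degree nine: an element of order three commuting with a product of three
disjoint three-cycles either centralises the base of the wreath product or is conjugate to it.
-/

set_option autoImplicit false
set_option linter.unusedSectionVars false
set_option linter.style.haveILetI false

namespace CfsgLib.OEightLocal.Cent.Nine

open Equiv

/-- The product of the three cycles. -/
def σ₀ : Perm (Fin 9) := swap 0 1 * swap 1 2 * swap 3 4 * swap 4 5 * swap 6 7 * swap 7 8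

/-- The cycles. -/
def cyc : Fin 3 → Perm (Fin 9) := ![swap 0 1 * swap 1 2, swap 3 4 * swap 4 5, swap 6 7 * swap 7 8]

/-- The first point of a block. -/
def pt : Fin 3 → Fin 9 := ![0, 3, 6]

/-- The block of a point. -/
def blk : Fin 9 → Fin 3 := ![0, 0, 0, 1, 1, 1, 2, 2, 2]

/-- The place in the block. -/
def ix : Fin 9 → ℕ := ![0, 1, 2, 0, 1, 2, 0, 1, 2]

theorem place : ∀ n : Fin 9, n = (⇑σ₀)^[ix n] (pt (blk n)) := by decide +kernel

theorem check : ∀ f : Fin 3 → Fin 9,
    let g := fun n : Fin 9 => (⇑σ₀)^[ix n] (f (blk n))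
    (∀ n, g (g (g n)) = n) → (∃ n, g n = n) → ∀ b n, g (cyc b n) = cyc b (g n) := by
  decide +kernel

theorem base_inj : Function.Injective
    fun e : Fin 3 × Fin 3 × Fin 3 => cyc 0 ^ (e.1 : ℕ) * cyc 1 ^ (e.2.1 : ℕ) * cyc 2 ^ (e.2.2 : ℕ) := by
  decide +kernel

theorem comm_σ : ∀ b n, σ₀ (cyc b n) = cyc b (σ₀ n) := by decide +kernel

theorem σ_type : σ₀.cycleType = Multiset.replicate 3 3 := by
  have h3 : σ₀ ^ 3 = 1 := by decide +kernel
  haveI : Fact (Nat.Prime 3) := ⟨Nat.prime_three⟩
  have ho : orderOf σ₀ = 3 := orderOf_eq_prime h3 (by decide +kernel)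
  obtain ⟨m, hm⟩ := Perm.cycleType_prime_order (ho ▸ Nat.prime_three)
  have hs := Perm.sum_cycleType σ₀
  rw [show σ₀.support.card = 9 by decide +kernel, hm, ho, Multiset.sum_replicate, smul_eq_mul] at hs
  rw [hm, ho, show m + 1 = 3 by omega]

theorem type_of_centralizer {Z : Perm (Fin 9)} (hZ : orderOf Z = 3)
    (hc : Nat.card (Subgroup.centralizer ({Z} : Set (Perm (Fin 9)))) = 162) :
    Z.cycleType = Multiset.replicate 3 3 := by
  obtain ⟨m, hm⟩ := Perm.cycleType_prime_order (hZ ▸ Nat.prime_three)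
  rw [hZ] at hm
  have hs := Perm.sum_cycleType Z
  have hle : Z.support.card ≤ 9 := le_trans (Finset.card_le_univ _) (by simp)
  rw [hm, Multiset.sum_replicate, smul_eq_mul] at hs
  rw [Perm.nat_card_centralizer, hm] at hc
  rcases (show m = 0 ∨ m = 1 ∨ m = 2 by omega) with rfl | rfl | rfl
  · exact absurd hc (by decide +kernel)
  · exact absurd hc (by decide +kernel)
  · rw [hm]

/-- The dichotomy. -/
theorem isConj_of_small {Z A : Perm (Fin 9)} (hZ : orderOf Z = 3)
    (hc : Nat.card (Subgroup.centralizer ({Z} : Set (Perm (Fin 9)))) = 162) (hA : A ^ 3 = 1)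
    (hAZ : Commute A Z)
    (hsmall : ¬ 27 ∣ Nat.card ↥(Subgroup.centralizer ({A} : Set (Perm (Fin 9))) ⊓
      Subgroup.centralizer ({Z} : Set (Perm (Fin 9))))) : IsConj Z A := by
  classical
  obtain ⟨π, hπ⟩ := isConj_iff.1 (Perm.isConj_iff_cycleType_eq.2 ((type_of_centralizer hZ hc).trans σ_type.symm))
  set B := π * A * π⁻¹ with hBdef
  have hBσ : Commute B σ₀ := by
    rw [← hπ, hBdef]; exact (hAZ.map (MulAut.conj π).toMonoidHom)
  have hB3 : B ^ 3 = 1 := by rw [hBdef, conj_pow, hA, mul_one, mul_inv_cancel]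
  have hg : ∀ n, B n = (⇑σ₀)^[ix n] (B (pt (blk n))) := fun n => by
    have h : Function.Commute ⇑B ⇑σ₀ := fun x => by
      have := Perm.ext_iff.1 hBσ.eq x
      rwa [Perm.mul_apply, Perm.mul_apply] at this
    conv_lhs => rw [place n]
    exact (h.iterate_right (ix n)) _
  by_cases hfix : ∃ n, B n = n
  · exfalso
    have h := check (fun b => B (pt b))
    simp only [← hg] at h
    have hcomm : ∀ b, Commute B (cyc b) := fun b => Perm.ext fun n => by
      rw [Perm.mul_apply, Perm.mul_apply]
      exact h (fun n => by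
        have := Perm.ext_iff.1 hB3 n
        rw [pow_succ, pow_two, Perm.mul_apply, Perm.mul_apply, Perm.one_apply] at this
        exact this) hfix b n
    let F : Fin 3 × Fin 3 × Fin 3 → ↥(Subgroup.centralizer ({A} : Set (Perm (Fin 9))) ⊓
        Subgroup.centralizer ({Z} : Set (Perm (Fin 9)))) := fun e =>
      ⟨π⁻¹ * (cyc 0 ^ (e.1 : ℕ) * cyc 1 ^ (e.2.1 : ℕ) * cyc 2 ^ (e.2.2 : ℕ)) * π, by
        have key : ∀ x, Commute x (π * A * π⁻¹) → Commute (π⁻¹ * x * π) A := fun x hx => by
          show π⁻¹ * x * π * A = A * (π⁻¹ * x * π)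
          calc π⁻¹ * x * π * A = π⁻¹ * (x * (π * A * π⁻¹)) * π := by group
            _ = _ := by rw [hx.eq]; group
        have keyZ : ∀ x, Commute x (π * Z * π⁻¹) → Commute (π⁻¹ * x * π) Z := fun x hx => by
          show π⁻¹ * x * π * Z = Z * (π⁻¹ * x * π)
          calc π⁻¹ * x * π * Z = π⁻¹ * (x * (π * Z * π⁻¹)) * π := by group
            _ = _ := by rw [hx.eq]; group
        refine ⟨Subgroup.mem_centralizer_singleton_iff.2 (key _ ?_),
          Subgroup.mem_centralizer_singleton_iff.2 (keyZ _ ?_)⟩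
        · exact (((hcomm 0).symm.pow_left _).mul_left ((hcomm 1).symm.pow_left _)).mul_left
            ((hcomm 2).symm.pow_left _)
        · rw [hπ]
          have hs : ∀ b, Commute (cyc b) σ₀ := fun b => Perm.ext fun n => by
            rw [Perm.mul_apply, Perm.mul_apply]; exact (comm_σ b n).symm
          exact (((hs 0).pow_left _).mul_left ((hs 1).pow_left _)).mul_left ((hs 2).pow_left _)⟩
    have hF : Function.Injective F := fun e e' he => base_inj (by
      have := congrArg Subtype.val he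
      exact mul_left_cancel (mul_right_cancel this))
    have h27 := Nat.card_le_card_of_injective F hF
    rw [Nat.card_prod, Nat.card_prod, Nat.card_fin] at h27
    have hdvd := Subgroup.card_dvd_of_le (inf_le_right : Subgroup.centralizer ({A} : Set (Perm (Fin 9))) ⊓
      Subgroup.centralizer ({Z} : Set (Perm (Fin 9))) ≤ _)
    rw [hc] at hdvd
    have hdiv : ∀ d ∈ Nat.divisors 162, 27 ≤ d → 27 ∣ d := by decide +kernel
    exact hsmall (hdiv _ (Nat.mem_divisors.2 ⟨hdvd, by norm_num⟩) h27)
  · rw [not_exists] at hfix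
    haveI : Fact (Nat.Prime 3) := ⟨Nat.prime_three⟩
    have ho : orderOf B = 3 := orderOf_eq_prime hB3 fun h => hfix 0 (by rw [h]; rfl)
    obtain ⟨m, hm⟩ := Perm.cycleType_prime_order (ho ▸ Nat.prime_three)
    have hs := Perm.sum_cycleType B
    rw [show B.support = Finset.univ by ext n; simp [hfix n], Finset.card_univ, Fintype.card_fin, hm, ho,
      Multiset.sum_replicate, smul_eq_mul] at hs
    have h1 : IsConj σ₀ B := Perm.isConj_iff_cycleType_eq.2 (by
      rw [σ_type, hm, ho, show m + 1 = 3 by omega])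
    exact ((isConj_iff.2 ⟨π, hπ⟩).trans h1).trans (isConj_iff.2 ⟨π, rfl⟩).symm

end CfsgLib.OEightLocal.Cent.Nine
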