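import Cfsg.Agent.Lib.OEightLocal.Coords

/-!
The orbit of `z` on `J` under the normaliser of `J`: the 32 singular vectors; the normaliser preserves
the form and is transitive on each value of the form.
-/

set_option autoImplicit false
set_option linter.style.haveILetI false

namespace CfsgLib.OEightLocal

open scoped Pointwise

/-! ### Computations on the form -/

theorem qJ_neg (v : V) : qJ (-v) = qJ v := by simp only [qJ, Pi.neg_apply]; ring

theorem qJ_fp (v : V) : qJ (fp v) = qJ v := by revert v; decide +kernel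
theorem qJ_fa (v : V) : qJ (fa v) = qJ v := by revert v; decide +kernel
theorem qJ_ft (v : V) : qJ (ft v) = qJ v := by revert v; decide +kernel
theorem qJ_fu (v : V) : qJ (fu v) = qJ v := by revert v; decide +kernel

theorem qJ_smul (c : ZMod 3) (v : V) : qJ (c • v) = c ^ 2 * qJ v := by
  simp only [qJ, Pi.smul_apply, smul_eq_mul]; ring

theorem bJ_smul (c d : ZMod 3) (v w : V) : bJ (c • v) (d • w) = c * d * bJ v w := by
  simp only [bJ, Pi.smul_apply, smul_eq_mul]; ring

theorem bJ_add_left (u v w : V) : bJ (u + v) w = bJ u w + bJ v w := by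
  simp only [bJ, Pi.add_apply]; ring

theorem qJ_lin (A : Fin 4 → V) (v : V) : qJ (lin A v) =
    v 0 ^ 2 * qJ (A 0) + v 1 ^ 2 * qJ (A 1) + v 2 ^ 2 * qJ (A 2) + v 3 ^ 2 * qJ (A 3) +
      v 0 * v 1 * bJ (A 0) (A 1) + v 0 * v 2 * bJ (A 0) (A 2) + v 0 * v 3 * bJ (A 0) (A 3) +
      v 1 * v 2 * bJ (A 1) (A 2) + v 1 * v 3 * bJ (A 1) (A 3) + v 2 * v 3 * bJ (A 2) (A 3) := by
  simp only [lin, qJ_add, bJ_add_left, qJ_smul, bJ_smul]
  ring

/-- A linear map sending singular vectors to singular vectors multiplies the form by a constant. -/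
theorem qJ_scale (A : Fin 4 → V) (h : ∀ v : V, qJ v = 0 → qJ (lin A v) = 0) (v : V) :
    qJ (lin A v) = bJ (A 0) (A 3) * qJ v := by
  have e0 := h ![1, 0, 0, 0] (by decide +kernel)
  have e3 := h ![0, 0, 0, 1] (by decide +kernel)
  have a := h ![0, 1, 1, 0] (by decide +kernel)
  have b := h ![0, 1, -1, 0] (by decide +kernel)
  have c := h ![1, 1, 1, 0] (by decide +kernel)
  have d := h ![1, 1, -1, 0] (by decide +kernel)
  have f := h ![0, 1, 1, 1] (by decide +kernel)
  have g := h ![0, 1, -1, 1] (by decide +kernel)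
  have k := h ![1, 1, 0, 1] (by decide +kernel)
  rw [qJ_lin] at e0 e3 a b c d f g k
  simp [Matrix.cons_val_zero, Matrix.cons_val_one] at e0 e3 a b c d f g k
  have two : ∀ x : ZMod 3, 2 * x = 0 → x = 0 := by decide
  have h12 : bJ (A 1) (A 2) = 0 := two _ (by linear_combination a - b)
  have h22 : qJ (A 2) = -qJ (A 1) := by linear_combination a - h12
  have h02 : bJ (A 0) (A 2) = 0 := two _ (by linear_combination c - d - 2 * h12)
  have h01 : bJ (A 0) (A 1) = 0 := by linear_combination c - e0 - h12 - h02 - h22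
  have h23 : bJ (A 2) (A 3) = 0 := two _ (by linear_combination f - g - 2 * h12)
  have h13 : bJ (A 1) (A 3) = 0 := by linear_combination f - e3 - h12 - h23 - h22
  have h11 : qJ (A 1) = -bJ (A 0) (A 3) := by linear_combination k - e0 - e3 - h01 - h13
  rw [qJ_lin, h12, h22, h02, h01, h23, h13, h11, e0, e3]
  simp only [qJ]
  ring

/-- The sign of a Boolean. -/
def sgn (b : Bool) (v : V) : V := bif b then -v else v

/-- The representatives off the hyperplane. -/
theorem reps_off : ∀ v : V, v 3 ≠ 0 → ∃ i j : Fin 3, ∃ b : Bool,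
    v = sgn b (fp^[i] (fa^[j] ![qJ v, 0, 0, 1])) := by decide +kernel

set_option synthInstance.maxSize 4000 in
/-- The representatives of the singular vectors in the hyperplane. -/
theorem reps_in : ∀ v : V, v ≠ 0 → v 3 = 0 → qJ v = 0 → ∃ i : Fin 3, ∃ b : Bool,
    v = sgn b (fp^[i] ![1, 0, 0, 0]) ∨ v = sgn b (fp^[i] ![0, 1, 1, 0]) ∨
      v = sgn b (fp^[i] ![0, 1, -1, 0]) := by decide +kernel

/-- The representatives of the non singular vectors in the hyperplane. -/
theorem reps_ns : ∀ v : V, v 3 = 0 → qJ v ≠ 0 → ∃ i j : Fin 3, ∃ b : Bool,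
    v = sgn b (fp^[i] (fa^[j] (if qJ v = 1 then ![0, 0, 1, 0] else ![0, 1, 0, 0]))) := by decide +kernel

theorem off_ne : ∀ c : ZMod 3, (![c, 0, 0, 1] : V) ≠ 0 ∧ qJ ![c, 0, 0, 1] = c ∧ (![c, 0, 0, 1] : V) 3 ≠ 0 := by
  decide +kernel

theorem count_sing : (Finset.univ.filter fun v : V => v ≠ 0 ∧ qJ v = 0).card = 32 := by decide +kernel

theorem count_big : ∀ S : Finset (ZMod 3), S = {1} ∨ S = {2} ∨ S = {1, 2} →
    ¬ (Finset.univ.filter fun v : V => v ≠ 0 ∧ (qJ v = 0 ∨ (v 3 ≠ 0 ∧ qJ v ∈ S))).card ∣ 24261120 := by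
  intro S hS
  rcases hS with rfl | rfl | rfl <;> decide +kernel

theorem count_off : (Finset.univ.filter fun v : V => v 3 ≠ 0 ∧ qJ v = 0).card = 18 := by decide +kernel

theorem count_ns : ∀ c : ZMod 3, c ≠ 0 → (Finset.univ.filter fun v : V => qJ v = c).card = 24 := by
  decide +kernel

theorem card_aut_V : Nat.card (V ≃ₗ[ZMod 3] V) = 24261120 := by
  haveI : Fact (Nat.Prime 3) := ⟨Nat.prime_three⟩
  rw [← Nat.card_congr (Matrix.GeneralLinearGroup.toLin.trans
    (LinearMap.GeneralLinearGroup.generalLinearEquiv (ZMod 3) V)).toEquiv, Matrix.card_GL_field]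
  simp [Fin.prod_univ_four]

variable {G : Type*} [Group G] (L : Loc G)

/-- The normaliser of `J`. -/
abbrev Loc.NJ (L : Loc G) : Subgroup G := Subgroup.normalizer (L.J : Set G)

theorem Loc.Act.inv {g : G} {f : V → V} (h : L.Act g f) :
    ∃ f', L.Act g⁻¹ f' ∧ ∀ v, f (f' v) = v := by
  obtain ⟨f', hf'⟩ := exists_act_map L (inv_mem h.mem_normalizer)
  refine ⟨f', hf', fun v => ?_⟩
  have := congrFun (((h.mul hf').congr fun _ => rfl).unique
    ((mul_inv_cancel g).symm ▸ Loc.Act.one (L := L))) v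
  exact this

theorem act_u : ∃ f, L.Act L.u f ∧ ∀ v, qJ (f v) = qJ v := by
  rcases L.hm with h | h
  · exact ⟨id, by rw [L.u_one h]; exact Loc.Act.one, fun _ => rfl⟩
  · exact ⟨fu, act_u_two L h, qJ_fu⟩

theorem Act_iterate {g : G} {f : V → V} (h : L.Act g f) (n : ℕ) : L.Act (g ^ n) f^[n] := by
  induction n with
  | zero => rw [pow_zero]; exact Loc.Act.one
  | succ n ih => rw [pow_succ, Function.iterate_succ]; exact ih.mul h

theorem act_sgn (b : Bool) : L.Act (bif b then L.ν else 1) (sgn b) := by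
  cases b
  · exact Loc.Act.one
  · exact act_nu L

/-- Conjugacy in `J` under an acting element. -/
theorem isConj_of_act {g : G} {f : V → V} (h : L.Act g f) (v : V) : IsConj (L.jel v) (L.jel (f v)) :=
  isConj_iff.2 ⟨g, h v⟩

theorem isConj_sgn (b : Bool) (i j : ℕ) (v : V) :
    IsConj (L.jel v) (L.jel (sgn b (fp^[i] (fa^[j] v)))) :=
  isConj_of_act L (((act_sgn L b).mul (Act_iterate L (act_p L) i)).mul (Act_iterate L (act_a L) j)) v

/-! ### Weak closure and fusion -/

theorem S_le_NJ : L.S ≤ L.NJ := by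
  refine (Subgroup.closure_le _).2 ?_
  intro x hx
  simp only [Set.mem_insert_iff, Set.mem_singleton_iff] at hx
  rcases hx with rfl | rfl | rfl | rfl | rfl | rfl
  · exact Subgroup.le_normalizer (Subgroup.subset_closure (by simp))
  · exact Subgroup.le_normalizer (Subgroup.subset_closure (by simp))
  · exact Subgroup.le_normalizer (Subgroup.subset_closure (by simp))
  · exact Subgroup.le_normalizer (Subgroup.subset_closure (by simp))
  · exact (act_p L).mem_normalizer
  · exact (act_a L).mem_normalizer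

theorem J_le_S : L.J ≤ L.S :=
  Subgroup.closure_mono (by intro x; simp only [Set.mem_insert_iff, Set.mem_singleton_iff]; tauto)

/-- `J` is weakly closed in the Sylow subgroup. -/
theorem J_weakly_closed {g : G} (h : L.J.map (MulAut.conj g).toMonoidHom ≤ L.S) :
    L.J.map (MulAut.conj g).toMonoidHom = L.J := by
  refine L.abelian_eq_J _ h ⟨⟨?_⟩⟩ ?_
  · rintro ⟨_, x, hx, rfl⟩ ⟨_, y, hy, rfl⟩
    exact Subtype.ext (((J_comm L hx hy).map (MulAut.conj g).toMonoidHom).eq)
  · rw [Subgroup.card_map_of_injective (MulAut.conj g).injective]; exact L.card_J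

/-- Two elements of `J` conjugate in `G` are conjugate in the normaliser of `J`. -/
theorem burnside [Finite G] {x g : G} (hx : x ∈ L.J) (hgx : g * x * g⁻¹ ∈ L.J) :
    ∃ n ∈ L.NJ, n * x * n⁻¹ = g * x * g⁻¹ := by
  haveI : Fact (Nat.Prime 3) := ⟨Nat.prime_three⟩
  set y := g * x * g⁻¹ with hy
  set Cy := Subgroup.centralizer ({y} : Set G)
  have hJ : L.J ≤ Cy := fun j hj => Subgroup.mem_centralizer_singleton_iff.2 (J_comm L hj hgx).eq
  have hJg : L.J.map (MulAut.conj g).toMonoidHom ≤ Cy := by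
    rintro _ ⟨j, hj, rfl⟩
    exact Subgroup.mem_centralizer_singleton_iff.2 ((J_comm L hj hx).map (MulAut.conj g).toMonoidHom).eq
  have hp : IsPGroup 3 L.J := IsPGroup.of_card (n := 4) (show Nat.card L.J = 3 ^ 4 from L.card_J)
  obtain ⟨T, hT⟩ := (hp.comap_of_injective Cy.subtype Cy.subtype_injective).exists_le_sylow
  obtain ⟨T', hT'⟩ := ((hp.map (MulAut.conj g).toMonoidHom).comap_of_injective Cy.subtype
    Cy.subtype_injective).exists_le_sylow
  obtain ⟨c, hc⟩ := MulAction.exists_smul_eq Cy T' T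
  obtain ⟨S, hS⟩ := L.sylow
  obtain ⟨U, hU⟩ := (T.2.map Cy.subtype).exists_le_sylow
  obtain ⟨h, hh⟩ := MulAction.exists_smul_eq G U S
  have inS : ∀ w ∈ (T : Subgroup Cy), h * (w : G) * h⁻¹ ∈ L.S := fun w hw => by
    have h1 : h * (w : G) * h⁻¹ ∈ (S : Subgroup G) := by
      rw [← hh, Sylow.coe_subgroup_smul, ← MulAut.conj_apply]
      exact Subgroup.smul_mem_pointwise_smul _ _ _ (hU ⟨w, hw, rfl⟩)
    rwa [hS] at h1
  have h1 : L.J.map (MulAut.conj h).toMonoidHom = L.J := J_weakly_closed L (by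
    rintro _ ⟨j, hj, rfl⟩; exact inS ⟨j, hJ hj⟩ (hT hj))
  have h2 : L.J.map (MulAut.conj (h * c * g)).toMonoidHom = L.J := J_weakly_closed L (by
    rintro _ ⟨j, hj, rfl⟩
    have hm : c * ⟨g * j * g⁻¹, hJg ⟨j, hj, rfl⟩⟩ * c⁻¹ ∈ (T : Subgroup Cy) := by
      rw [← hc, Sylow.coe_subgroup_smul, ← MulAut.conj_apply]
      exact Subgroup.smul_mem_pointwise_smul _ _ _ (hT' ⟨j, hj, rfl⟩)
    have := inS _ hm
    simpa [mul_assoc] using this)
  have hn : ∀ w : G, L.J.map (MulAut.conj w).toMonoidHom = L.J → w ∈ L.NJ := fun w hw => by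
    have hm : ∀ v, w * L.jel v * w⁻¹ ∈ L.J := fun v => by
      have h := Subgroup.mem_map_of_mem (MulAut.conj w).toMonoidHom (jel_mem L v)
      rw [hw] at h
      simpa using h
    choose f hf using fun v => (mem_J L).1 (hm v)
    exact Loc.Act.mem_normalizer (f := f) fun v => (hf v).symm
  refine ⟨(c : G) * g, ?_, ?_⟩
  · rw [show (c : G) * g = h⁻¹ * (h * c * g) by group]
    exact mul_mem (inv_mem (hn h h1)) (hn _ h2)
  · calc (c : G) * g * x * ((c : G) * g)⁻¹ = c * y * (c : G)⁻¹ := by rw [hy]; group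
      _ = y := by rw [Subgroup.mem_centralizer_singleton_iff.1 c.2, mul_inv_cancel_right]

theorem exists_moved [Finite G] {v w : V} (h : IsConj (L.jel v) (L.jel w)) :
    ∃ n, ∃ f, L.Act n f ∧ f v = w := by
  obtain ⟨g, hg⟩ := isConj_iff.1 h
  obtain ⟨n, hn, e⟩ := burnside L (jel_mem L v) (by rw [hg]; exact jel_mem L w)
  obtain ⟨f, hf⟩ := exists_act_map L hn
  exact ⟨n, f, hf, jel_injective L (by rw [← hf, e, hg])⟩

/-! ### The centraliser of `z` -/

theorem Q1_comm_a {x : G} (hx : x ∈ Subgroup.closure ({L.z, L.i₁, L.p} : Set G)) : Commute L.a x := by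
  induction hx using Subgroup.closure_induction with
  | mem x hx =>
    simp only [Set.mem_insert_iff, Set.mem_singleton_iff] at hx
    rcases hx with rfl | rfl | rfl
    exacts [L.comm_za.symm, L.comm_ai₁, L.comm_pa.symm]
  | one => exact Commute.one_right _
  | mul x y _ _ hx hy => exact hx.mul_right hy
  | inv x _ hx => exact hx.inv_right

theorem conj_R0 {v : V} (h3 : v 3 = 0) (h : IsConj L.z (L.jel v)) : qJ v = 0 := by
  obtain ⟨g, hg⟩ := isConj_iff.1 h
  have hv : L.jel v = L.jel (v 0 • ![1, 0, 0, 0] + v 1 • ![0, 1, 0, 0] + v 2 • ![0, 0, 1, 0]) := by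
    congr 1; funext i; fin_cases i <;> simp [h3]
  have hQ : g * L.z * g⁻¹ ∈ Subgroup.closure ({L.z, L.i₁, L.i₂, L.p, L.a} : Set G) := by
    rw [hg, hv, jel_add, jel_add, jel_smul, jel_smul, jel_smul, jel_z, jel_i1, jel_i2]
    exact mul_mem (mul_mem (pow_mem (Subgroup.subset_closure (by simp)) _)
      (pow_mem (Subgroup.subset_closure (by simp)) _)) (pow_mem (Subgroup.subset_closure (by simp)) _)
  let φ := AddMonoidHom.mk' (fun w => Additive.ofMul (L.jel w)) (fun a b => jel_add L a b)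
  have zp : ∀ (k : ℤ) (w : V), L.jel w ^ k = L.jel (k • w) := fun k w =>
    (congrArg Additive.toMul (map_zsmul φ k w)).symm
  rcases L.conj_mem_Q g hQ with hz | ⟨k, l, hl, x, hx, hxz, e⟩
  · obtain ⟨k, hk⟩ := Subgroup.mem_zpowers_iff.1 hz
    rw [hg, ← jel_z L, zp] at hk
    rw [← jel_injective L hk]
    simp [qJ]
  · rw [hg, ← jel_z L, ← jel_i2 L, zp, zp] at e
    have ea := act_a L v
    rw [e] at ea
    have hxj : x = L.jel (v - k • ![1, 0, 0, 0] - l • ![0, 0, 1, 0]) := by
      rw [sub_sub, sub_eq_add_neg, jel_add, jel_neg, jel_add, e]; group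
    set w : V := v - k • ![1, 0, 0, 0] - l • ![0, 0, 1, 0] with hw
    have hfix : fa w = w := jel_injective L (by
      rw [← act_a L w, ← hxj]; exact fix_eq (Q1_comm_a L hx))
    have h2 := congrFun hfix 2
    have h0 := congrFun hfix 0
    have hwi : ∀ n, w n = v n - k • (![1, 0, 0, 0] : V) n - l • (![0, 0, 1, 0] : V) n := fun n => by
      rw [hw]; rfl
    have w3 : w 3 = 0 := by rw [hwi, h3]; simp
    simp only [fa, Matrix.cons_val_zero] at h0
    have w2 : w 2 = 0 := by linear_combination (-1 : ZMod 3) * h0 - w3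
    have hl2 : v 2 = (l : ZMod 3) := by
      rw [hwi] at w2; simpa [sub_eq_zero] using w2
    have hv1 : v 1 ≠ 0 := fun h1 => hxz (Subgroup.mem_zpowers_iff.2 ⟨((w 0).val : ℕ), by
      rw [zpow_natCast, hxj, ← jel_z L, ← jel_smul]
      congr 1
      funext i
      fin_cases i
      · simp
      · simp [hwi, h1]
      · simpa using w2.symm
      · simpa using w3.symm⟩)
    have hv2 : v 2 ≠ 0 := by
      rw [hl2, Ne, ZMod.intCast_zmod_eq_zero_iff_dvd]; exact_mod_cast hl
    have key : ∀ a b : ZMod 3, a ≠ 0 → b ≠ 0 → -a ^ 2 + b ^ 2 = 0 := by decide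
    rw [qJ, h3, mul_zero, zero_sub]
    exact key _ _ hv1 hv2

theorem conj_inv_nu : L.ν ∈ L.NJ := (act_nu L).mem_normalizer

theorem isConj_sing {v : V} (hv : v ≠ 0) (hq : qJ v = 0) : IsConj L.z (L.jel v) := by
  by_cases h3 : v 3 = 0
  · obtain ⟨i, b, h | h | h⟩ := reps_in v hv h3 hq <;> rw [h]
    · have := isConj_sgn L b i 0 ![1, 0, 0, 0]
      rw [jel_z] at this; exact this
    · refine IsConj.trans ?_ (isConj_sgn L b i 0 ![0, 1, 1, 0])
      rw [show (![0, 1, 1, 0] : V) = ![0, 1, 0, 0] + ![0, 0, 1, 0] by decide, jel_add, jel_i1, jel_i2]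
      exact L.conj_diag.1
    · refine IsConj.trans ?_ (isConj_sgn L b i 0 ![0, 1, -1, 0])
      rw [show (![0, 1, -1, 0] : V) = ![0, 1, 0, 0] + -![0, 0, 1, 0] by decide, jel_add, jel_neg, jel_i1,
        jel_i2]
      exact L.conj_diag.2
  · obtain ⟨i, j, b, h⟩ := reps_off v h3
    rw [hq] at h
    rw [h]
    refine IsConj.trans ?_ (isConj_sgn L b i j _)
    rw [show (![0, 0, 0, 1] : V) = ![0, 0, 0, 1] from rfl, jel_y]
    exact L.conj_y

theorem mem_C_of_fix {g : G} {f : V → V} (h : L.Act g f) (hf : f ![1, 0, 0, 0] = ![1, 0, 0, 0]) :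
    g ∈ L.C := by
  have := h ![1, 0, 0, 0]
  rw [hf, jel_z] at this
  exact Subgroup.mem_centralizer_singleton_iff.2 (mul_inv_eq_iff_eq_mul.1 this)

/-- The linear automorphism of an element of the normaliser. -/
noncomputable def actEquiv (g : L.NJ) : V ≃ₗ[ZMod 3] V :=
  LinearEquiv.ofBijective
    ((AddMonoidHom.mk' _ (exists_act_map L g.2).choose_spec.add).toZModLinearMap 3)
    (exists_act_map L g.2).choose_spec.bijective

theorem actEquiv_spec (g : L.NJ) : L.Act (g : G) (actEquiv L g) :=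
  (exists_act_map L g.2).choose_spec

/-- The action as a homomorphism. -/
noncomputable def actHom : L.NJ →* (V ≃ₗ[ZMod 3] V) :=
  MonoidHom.mk' (actEquiv L) fun g h => LinearEquiv.toEquiv_injective (Equiv.ext fun v =>
    congrFun ((actEquiv_spec L (g * h)).unique ((actEquiv_spec L g).mul (actEquiv_spec L h))) v)

/-- An element of `J` is conjugate to `z` exactly when it is singular. -/
theorem isConj_z_iff [Finite G] {v : V} (hv : v ≠ 0) : IsConj L.z (L.jel v) ↔ qJ v = 0 := by
  classical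
  refine ⟨fun h => ?_, isConj_sing L hv⟩
  let S : Finset (ZMod 3) := Finset.univ.filter fun c => c ≠ 0 ∧ IsConj L.z (L.jel ![c, 0, 0, 1])
  suffices hS : S = ∅ by
    by_cases h3 : v 3 = 0
    · exact conj_R0 L h3 h
    · by_contra hq
      obtain ⟨i, j, b, e⟩ := reps_off v h3
      have hmem : qJ v ∈ S := Finset.mem_filter.2 ⟨Finset.mem_univ _, hq, by
        rw [e] at h; exact h.trans (isConj_sgn L b i j _).symm⟩
      rw [hS] at hmem
      exact Finset.notMem_empty _ hmem
  by_contra hne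
  have hcases : S = {1} ∨ S = {2} ∨ S = {1, 2} := by
    have h0 : (0 : ZMod 3) ∉ S := fun h => (Finset.mem_filter.1 h).2.1 rfl
    revert hne h0
    generalize S = T
    revert T
    decide
  refine count_big S hcases ?_
  have hset : {w | ∃ g : L.NJ, actHom L g ![1, 0, 0, 0] = w} =
      ↑(Finset.univ.filter fun v : V => v ≠ 0 ∧ (qJ v = 0 ∨ (v 3 ≠ 0 ∧ qJ v ∈ S))) := by
    ext w
    simp only [Set.mem_ofPred_eq, Finset.coe_filter, Finset.mem_univ, true_and]
    constructor
    · rintro ⟨g, rfl⟩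
      have hw : IsConj L.z (L.jel (actHom L g ![1, 0, 0, 0])) := by
        rw [← jel_z L]; exact isConj_of_act L (actEquiv_spec L g) _
      refine ⟨fun h0 => absurd ((actHom L g).injective (h0.trans (map_zero (actHom L g)).symm)) (by decide), ?_⟩
      by_cases h3 : actHom L g ![1, 0, 0, 0] 3 = 0
      · exact Or.inl (conj_R0 L h3 hw)
      · obtain ⟨i, j, b, e⟩ := reps_off _ h3
        by_cases hq : qJ (actHom L g ![1, 0, 0, 0]) = 0
        · exact Or.inl hq
        · refine Or.inr ⟨h3, Finset.mem_filter.2 ⟨Finset.mem_univ _, hq, ?_⟩⟩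
          rw [e] at hw; exact hw.trans (isConj_sgn L b i j _).symm
    · rintro ⟨hw0, hw⟩
      have hc : IsConj (L.jel ![1, 0, 0, 0]) (L.jel w) := by
        rw [jel_z]
        rcases hw with hq | ⟨h3, hS'⟩
        · exact isConj_sing L hw0 hq
        · obtain ⟨i, j, b, e⟩ := reps_off w h3
          rw [e]; exact (Finset.mem_filter.1 hS').2.2.trans (isConj_sgn L b i j _)
      obtain ⟨n, f, hf, e⟩ := exists_moved L hc
      exact ⟨⟨n, hf.mem_normalizer⟩, by rw [← e]; exact congrFun ((actEquiv_spec L _).unique hf) _⟩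
  have horb : MulAction.orbit (actHom L).range ![(1 : ZMod 3), 0, 0, 0] =
      {w | ∃ g : L.NJ, actHom L g ![1, 0, 0, 0] = w} := by
    ext w
    constructor
    · rintro ⟨⟨_, g, rfl⟩, rfl⟩; exact ⟨g, rfl⟩
    · rintro ⟨g, rfl⟩; exact ⟨⟨_, g, rfl⟩, rfl⟩
  have hd : Nat.card (MulAction.orbit (actHom L).range ![(1 : ZMod 3), 0, 0, 0]) ∣
      Nat.card (V ≃ₗ[ZMod 3] V) := by
    refine dvd_trans ?_ (Subgroup.card_subgroup_dvd_card (actHom L).range)
    rw [Nat.card_congr (MulAction.orbitEquivQuotientStabilizer _ _)]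
    exact Subgroup.index_dvd_card _
  rw [horb, hset, Nat.card_coe_set_eq, Set.ncard_coe_finset, card_aut_V] at hd
  exact hd

end CfsgLib.OEightLocal
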