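import Cfsg.Agent.Lib.OEightLocal.CentCtx
import Cfsg.Agent.Lib.OEightLocal.CentNine
import Cfsg.Agent.Lib.OEightLocal.Orbit
import Cfsg.Agent.S3343
import Cfsg.Agent.S3376

/-!
In the second kind the centraliser of `i₁` normalises `J`.
-/

set_option autoImplicit false
set_option linter.unusedSectionVars false
set_option linter.style.haveILetI false

namespace CfsgLib.OEightLocal.Loc

open CfsgLib.OEightLocal.Cent

variable {G : Type*} [Group G] [Finite G] (L : Loc G)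

/-- The projection. -/
abbrev q₁ : ↥(Subgroup.centralizer ({L.i₁} : Set G)) →* Bar L.i₁ := QuotientGroup.mk' (Ker L.i₁)

theorem z_mem_Δ : L.z ∈ Subgroup.centralizer ({L.i₁} : Set G) :=
  Subgroup.mem_centralizer_singleton_iff.2 L.comm_zi₁.eq

/-- The image of `z`. -/
abbrev zb₁ : Bar L.i₁ := L.q₁ ⟨L.z, L.z_mem_Δ⟩

theorem J_le_Δ : L.J ≤ Subgroup.centralizer ({L.i₁} : Set G) := fun _ hx =>
  Subgroup.mem_centralizer_singleton_iff.2 (L.J_comm hx L.mem_gens.2.2.2.2.2.2.2.1)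

theorem orderOf_i₁ : orderOf L.i₁ = 3 := by
  haveI : Fact (Nat.Prime 3) := ⟨Nat.prime_three⟩
  exact orderOf_eq_prime L.cube_i₁ L.i₁_ne

theorem i₁_zpow_Z {n : ℤ} (h : L.i₁ ^ n ∈ Subgroup.zpowers L.z) : L.i₁ ^ n = 1 :=
  (Cfsg.Agent.S3376.zpow_three_cases L.cube_i₁ h).resolve_right L.i₁_not_Z

/-- The power of `i₁` in the coordinates. -/
theorem i₁_zpow_jel (n : ℤ) : ∃ c : ZMod 3, L.i₁ ^ n = L.jel (c • ![0, 1, 0, 0]) := by
  refine ⟨(n : ZMod 3), ?_⟩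
  rw [jel_smul, jel_i1, ← zpow_natCast, ZMod.val_intCast]
  conv_lhs => rw [← Int.emod_add_mul_ediv n 3, zpow_add, zpow_mul,
    show L.i₁ ^ (3 : ℤ) = 1 by exact_mod_cast L.cube_i₁, one_zpow, mul_one]
  norm_cast

theorem zb₁_comm {g : ↥(Subgroup.centralizer ({L.i₁} : Set G))}
    (h : L.q₁ g * L.zb₁ = L.zb₁ * L.q₁ g) : (g : G) ∈ L.C := by
  refine Subgroup.mem_centralizer_singleton_iff.2 ?_
  have h' : L.zb₁ = L.q₁ (g * ⟨L.z, L.z_mem_Δ⟩ * g⁻¹) := by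
    rw [map_mul, map_mul, map_inv, h, mul_inv_cancel_right]
  obtain ⟨n, hn⟩ := mk_eq_iff.1 h'
  have hn' : (g : G) * L.z * (g : G)⁻¹ = L.z * L.i₁ ^ n := hn
  have hmem : (g : G) * L.z * (g : G)⁻¹ ∈ Subgroup.closure ({L.z, L.i₁, L.i₂, L.p, L.a} : Set G) := by
    rw [hn']
    exact mul_mem (Subgroup.subset_closure (by simp)) (zpow_mem (Subgroup.subset_closure (by simp)) n)
  rcases L.conj_mem_Q g hmem with h1 | ⟨k, l, hl, q, hq, -, h2⟩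
  · rw [hn'] at h1
    rw [L.i₁_zpow_Z (by simpa using mul_mem (inv_mem (Subgroup.mem_zpowers L.z)) h1), mul_one] at hn'
    exact mul_inv_eq_iff_eq_mul.1 hn'
  · exfalso
    refine hl ?_
    have e : L.i₂ ^ l = (q * L.z ^ k)⁻¹ * (L.z * L.i₁ ^ n) := by rw [← hn', h2]; group
    have hQ : L.i₂ ^ l ∈ L.Q₁ := by
      rw [e]
      exact mul_mem (inv_mem (mul_mem hq (zpow_mem (Subgroup.subset_closure (by simp)) k)))
        (mul_mem (Subgroup.subset_closure (by simp)) (zpow_mem (Subgroup.subset_closure (by simp)) n))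
    have := orderOf_dvd_iff_zpow_eq_one.2 (L.i₂_zpow_Q₁ hQ)
    rwa [L.orderOf_i₂] at this

/-- The part in the centraliser of `z`. -/
abbrev K₁ : Subgroup G := L.C ⊓ Subgroup.centralizer ({L.i₁} : Set G)

/-- The centraliser in the quotient. -/
abbrev C₁ : Subgroup (Bar L.i₁) := Subgroup.centralizer ({L.zb₁} : Set (Bar L.i₁))

theorem C₁_eq : L.C₁ = img L.i₁ L.K₁ := by
  ext x
  constructor
  · intro hx
    obtain ⟨g, rfl⟩ := QuotientGroup.mk'_surjective (Ker L.i₁) x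
    exact ⟨g, ⟨L.zb₁_comm (Subgroup.mem_centralizer_singleton_iff.1 hx), g.2⟩, rfl⟩
  · rintro ⟨g, hg, rfl⟩
    refine Subgroup.mem_centralizer_singleton_iff.2 ?_
    rw [← map_mul, ← map_mul]
    exact congrArg _ (Subtype.ext (Subgroup.mem_centralizer_singleton_iff.1 (Subgroup.mem_inf.1 hg).1))

theorem card_C₁ (hm : L.m = 2) : Nat.card L.C₁ = 162 := by
  have hi : L.i₁ ∈ L.K₁ :=
    ⟨Subgroup.mem_centralizer_singleton_iff.2 L.comm_zi₁.symm.eq, Subgroup.mem_centralizer_singleton_iff.2 rfl⟩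
  have h : Nat.card L.K₁ = 486 := L.card_cz_i₁ hm
  rw [card_img inf_le_right hi, L.orderOf_i₁] at h
  rw [L.C₁_eq]
  exact Nat.eq_of_mul_eq_mul_left (show 0 < 3 by norm_num) (h.trans (by norm_num))

theorem S₁_le_NJ : L.S₁ ≤ L.NJ :=
  (Subgroup.closure_mono (by simp [Set.insert_subset_iff]) : L.S₁ ≤ L.S).trans (S_le_NJ L)

theorem K₁_le_NJ (hm : L.m = 2) : L.K₁ ≤ L.NJ := by
  rw [show L.K₁ = _ from L.cz_i₁_eq hm]
  refine (Subgroup.closure_le _).2 ?_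
  rintro v (rfl | rfl | rfl | rfl | rfl | rfl)
  iterate 5 exact L.S₁_le_NJ (Subgroup.subset_closure (by simp))
  obtain ⟨f, hf, -⟩ := act_u L
  exact hf.mem_normalizer

theorem a_mem_Δ : L.a ∈ Subgroup.centralizer ({L.i₁} : Set G) :=
  Subgroup.mem_centralizer_singleton_iff.2 L.comm_ai₁.eq

/-- The image of `a`. -/
abbrev ab₁ : Bar L.i₁ := L.q₁ ⟨L.a, L.a_mem_Δ⟩

theorem cube_ab₁ : L.ab₁ ^ 3 = 1 := by
  rw [← map_pow]; exact (congrArg _ (Subtype.ext L.cube_a)).trans (map_one _)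

theorem orderOf_zb₁ : orderOf L.zb₁ = 3 := by
  haveI : Fact (Nat.Prime 3) := ⟨Nat.prime_three⟩
  refine orderOf_eq_prime ?_ fun h => L.z_ne ?_
  · rw [← map_pow]
    exact (congrArg _ (Subtype.ext L.cube_z)).trans (map_one _)
  · obtain ⟨n, hn⟩ := Subgroup.mem_zpowers_iff.1 (mk_eq_one_iff.1 h)
    refine (Cfsg.Agent.S3376.zpow_three_cases L.cube_i₁ (H := Subgroup.zpowers L.z)
      (i := n) (by rw [hn]; exact Subgroup.mem_zpowers _)).elim (fun h1 => hn.symm.trans h1) ?_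
    exact fun h1 => absurd h1 L.i₁_not_Z

/-- What commutes with `a` in the image of `J`. -/
theorem J_cent_ab₁ {v : V} (h : L.q₁ ⟨L.jel v, L.J_le_Δ (jel_mem L v)⟩ * L.ab₁ =
    L.ab₁ * L.q₁ ⟨L.jel v, L.J_le_Δ (jel_mem L v)⟩) :
    L.q₁ ⟨L.jel v, L.J_le_Δ (jel_mem L v)⟩ ∈ Subgroup.zpowers L.zb₁ := by
  have h' : L.q₁ ⟨L.jel v, L.J_le_Δ (jel_mem L v)⟩ =
      L.q₁ (⟨L.a, L.a_mem_Δ⟩ * ⟨L.jel v, L.J_le_Δ (jel_mem L v)⟩ * ⟨L.a, L.a_mem_Δ⟩⁻¹) := by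
    rw [map_mul, map_mul, map_inv, ← h, mul_inv_cancel_right]
  obtain ⟨n, hn⟩ := mk_eq_iff.1 h'
  obtain ⟨c, hc⟩ := L.i₁_zpow_jel n
  have hn' : L.a * L.jel v * L.a⁻¹ = L.jel v * L.i₁ ^ n := hn
  rw [act_a L v, hc, ← jel_add] at hn'
  have key : ∀ (v : V) (c : ZMod 3), fa v = v + c • ![0, 1, 0, 0] → v 2 = 0 ∧ v 3 = 0 := by decide +kernel
  obtain ⟨h2, h3⟩ := key v c (jel_inj L |>.1 hn')
  refine ⟨((v 0).val : ℤ), ?_⟩
  show L.zb₁ ^ ((v 0).val : ℤ) = _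
  rw [zpow_natCast, ← map_pow]
  refine mk_eq_iff.2 ⟨((v 1).val : ℤ), ?_⟩
  rw [zpow_natCast]
  simp [Loc.jel, h2, h3]

theorem S₁_decomp {x : G} (hx : x ∈ L.S₁) : ∃ v : V, ∃ k : ZMod 3, x = L.jel v * L.a ^ k.val := by
  classical
  let f : V × ZMod 3 → L.S₁ := fun q => ⟨L.jel q.1 * L.a ^ q.2.val, mul_mem
    ((Subgroup.closure_mono (by simp [Set.insert_subset_iff]) : L.J ≤ L.S₁) (jel_mem L _))
    (pow_mem (Subgroup.subset_closure (by simp)) _)⟩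
  have hinj : Function.Injective f := by
    rintro ⟨v, k⟩ ⟨w, l⟩ h
    have h' : L.jel v * L.a ^ k.val = L.jel w * L.a ^ l.val := congrArg Subtype.val h
    have e : L.a ^ (k - l).val ∈ L.J := by
      have := pow_val_add L.cube_a (k - l) l
      rw [sub_add_cancel] at this
      rw [this, ← mul_assoc] at h'
      rw [show L.a ^ (k - l).val = (L.jel v)⁻¹ * L.jel w by
        rw [← mul_right_cancel h']; group]
      exact mul_mem (inv_mem (jel_mem L v)) (jel_mem L w)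
    have hkl : k = l := by
      by_contra hne
      refine L.a_not_J (pow_mem_imp L.cube_a ?_ e)
      rw [Nat.mod_eq_of_lt (ZMod.val_lt _)]
      exact (ZMod.val_ne_zero _).2 (sub_ne_zero.2 hne)
    subst hkl
    exact Prod.ext ((jel_inj L).1 (mul_right_cancel h')) rfl
  obtain ⟨⟨v, k⟩, hq⟩ := ((Nat.bijective_iff_injective_and_card f).2 ⟨hinj, by
    rw [Nat.card_prod, card_V, Nat.card_zmod, L.card_S₁]⟩).2 ⟨x, hx⟩
  exact ⟨v, k, (congrArg Subtype.val hq).symm⟩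

/-- The centre of the image of the Sylow subgroup. -/
theorem center_S₁ {x : G} (hx : x ∈ L.S₁)
    (h : ∀ w (hw : w ∈ L.S₁), Commute (L.q₁ ⟨x, L.S₁_le hx⟩) (L.q₁ ⟨w, L.S₁_le hw⟩)) :
    L.q₁ ⟨x, L.S₁_le hx⟩ ∈ Subgroup.zpowers L.zb₁ := by
  obtain ⟨v, k, hxv⟩ := L.S₁_decomp hx
  have hi₂ : L.i₂ ∈ L.S₁ := Subgroup.subset_closure (by simp)
  have h1 : L.q₁ ⟨L.i₂, L.S₁_le hi₂⟩ =
      L.q₁ (⟨x, L.S₁_le hx⟩ * ⟨L.i₂, L.S₁_le hi₂⟩ * ⟨x, L.S₁_le hx⟩⁻¹) := by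
    rw [map_mul, map_mul, map_inv, (h _ hi₂).eq, mul_inv_cancel_right]
  obtain ⟨n, hn⟩ := mk_eq_iff.1 h1
  have hn' : x * L.i₂ * x⁻¹ = L.i₂ * L.i₁ ^ n := hn
  have hzJ : L.z⁻¹ ^ k.val * L.i₂ ∈ L.J :=
    mul_mem (pow_mem (inv_mem L.mem_gens.2.2.2.2.2.2.1) _) L.mem_gens.2.2.2.2.2.2.2.2.1
  rw [hxv, show L.jel v * L.a ^ k.val * L.i₂ * (L.jel v * L.a ^ k.val)⁻¹ =
    L.jel v * (L.a ^ k.val * L.i₂ * (L.a ^ k.val)⁻¹) * (L.jel v)⁻¹ by group, L.conj_i₂_pow,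
    L.J_comm (jel_mem L v) hzJ, mul_inv_cancel_right, (L.comm_zi₂.inv_left.pow_left _).eq] at hn'
  have e : L.z⁻¹ ^ k.val = L.i₁ ^ n := mul_left_cancel hn'
  have e1 := L.i₁_zpow_Z (by rw [← e]; exact pow_mem (inv_mem (Subgroup.mem_zpowers _)) _)
  rw [e1] at e
  have hk : k = 0 := pow_val_inj (x := L.z⁻¹) (by rw [inv_pow, L.cube_z, inv_one])
    (fun hh => L.z_ne (inv_eq_one.1 hh)) (by rw [e, ZMod.val_zero, pow_zero])
  subst hk
  rw [ZMod.val_zero, pow_zero, mul_one] at hxv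
  subst hxv
  exact L.J_cent_ab₁ (h L.a (Subgroup.subset_closure (by simp))).eq

/-- The image of `J`. -/
abbrev Jb₁ : Subgroup (Bar L.i₁) := img L.i₁ L.J

theorem card_Jb₁ : Nat.card L.Jb₁ = 27 := by
  have h := card_img L.J_le_Δ L.mem_gens.2.2.2.2.2.2.2.1
  rw [show Nat.card L.J = 81 from L.card_J, L.orderOf_i₁] at h
  exact Nat.eq_of_mul_eq_mul_left (show 0 < 3 by norm_num) (h.symm.trans (by norm_num))

theorem Jb₁_le_C₁ : L.Jb₁ ≤ L.C₁ := by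
  rintro _ ⟨v, hv, rfl⟩
  refine Subgroup.mem_centralizer_singleton_iff.2 ?_
  rw [← map_mul, ← map_mul]
  exact congrArg _ (Subtype.ext (L.J_comm hv L.mem_gens.2.2.2.2.2.2.1))

theorem Jb₁_comm {x w : Bar L.i₁} (hx : x ∈ L.Jb₁) (hw : w ∈ L.Jb₁) : x * w = w * x := by
  obtain ⟨v, hv, rfl⟩ := hx
  obtain ⟨v', hv', rfl⟩ := hw
  rw [← map_mul, ← map_mul]
  exact congrArg _ (Subtype.ext (L.J_comm hv hv'))

theorem Jb₁_cube {x : Bar L.i₁} (hx : x ∈ L.Jb₁) : x ^ 3 = 1 := by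
  obtain ⟨v, hv, rfl⟩ := hx
  obtain ⟨w, hw⟩ := (mem_J L).1 hv
  rw [← map_pow]
  refine (congrArg _ (Subtype.ext ?_)).trans (map_one _)
  rw [Subgroup.coe_pow, show (v : G) = L.jel w from hw.symm]
  exact cube_jel L w

theorem Jb₁_conj (hm : L.m = 2) {x g : Bar L.i₁} (hg : g ∈ L.C₁) (hx : x ∈ L.Jb₁) :
    g * x * g⁻¹ ∈ L.Jb₁ := by
  rw [L.C₁_eq] at hg
  obtain ⟨k, hk, rfl⟩ := hg
  obtain ⟨v, hv, rfl⟩ := hx
  refine ⟨k * v * k⁻¹, ?_, by rw [map_mul, map_mul, map_inv]⟩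
  exact (Subgroup.mem_normalizer_iff.1 (L.K₁_le_NJ hm hk) (v : G)).1 hv

theorem u_mem_K₁ (hm : L.m = 2) : L.u ∈ L.K₁ :=
  L.S₁_sup_le hm (Subgroup.mem_sup_right (Subgroup.mem_zpowers _))

theorem C₁_iso (hm : L.m = 2) :
    Nonempty (L.C₁ ≃* Subgroup.centralizer ({Equiv.swap (0 : Fin 9) 1 * Equiv.swap 1 2 * Equiv.swap 3 4 *
      Equiv.swap 4 5 * Equiv.swap 6 7 * Equiv.swap 7 8} : Set (Equiv.Perm (Fin 9)))) := by
  classical
  haveI : Fact (Nat.Prime 3) := ⟨Nat.prime_three⟩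
  haveI : Fact (Nat.Prime 2) := ⟨Nat.prime_two⟩
  have hS1C : img L.i₁ L.S₁ ≤ L.C₁ := by
    rw [L.C₁_eq]
    exact Subgroup.map_mono fun v hv => L.S₁_sup_le hm (Subgroup.mem_sup_left hv)
  have hcS : Nat.card (img L.i₁ L.S₁) = 81 := by
    have h := card_img L.S₁_le (Subgroup.subset_closure (by simp) : L.i₁ ∈ L.S₁)
    rw [L.card_S₁, L.orderOf_i₁] at h
    omega
  let S : Sylow 3 L.C₁ := Sylow.ofCard ((img L.i₁ L.S₁).subgroupOf L.C₁) (by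
    rw [Nat.card_congr (Subgroup.subgroupOfEquivOfLe hS1C).toEquiv, hcS, L.card_C₁ hm,
      Cfsg.Agent.S3376.factorization_162.1]; norm_num)
  have hmemS : ∀ x : L.C₁, x ∈ (S : Subgroup L.C₁) ↔ (x : Bar L.i₁) ∈ img L.i₁ L.S₁ :=
    fun x => Subgroup.mem_subgroupOf
  have hu : L.q₁ ⟨L.u, (L.u_mem_K₁ hm).2⟩ ∈ L.C₁ := by rw [L.C₁_eq]; exact ⟨_, L.u_mem_K₁ hm, rfl⟩
  set ub : L.C₁ := ⟨_, hu⟩
  have hub : ub ^ 2 = 1 := Subtype.ext (by
    show L.q₁ ⟨L.u, (L.u_mem_K₁ hm).2⟩ ^ 2 = 1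
    rw [← map_pow]
    refine (congrArg _ (Subtype.ext ?_)).trans (map_one _)
    show L.u ^ 2 = 1
    rw [← L.u_ord hm, pow_orderOf_eq_one])
  have hpu : IsPGroup 2 (Subgroup.zpowers ub) := fun x => ⟨1, by
    obtain ⟨n, hn⟩ := Subgroup.mem_zpowers_iff.1 x.2
    refine Subtype.ext ?_
    rw [pow_one, Subgroup.coe_pow, ← hn, ← zpow_natCast, ← zpow_mul, mul_comm, zpow_mul, zpow_natCast, hub, one_zpow,
      Subgroup.coe_one]⟩
  obtain ⟨T, hT⟩ := hpu.exists_le_sylow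
  haveI : (L.Jb₁.subgroupOf L.C₁).Normal := ⟨fun x hx g => Subgroup.mem_subgroupOf.2
    (L.Jb₁_conj hm g.2 (Subgroup.mem_subgroupOf.1 hx))⟩
  let zc : L.C₁ := ⟨L.zb₁, Subgroup.mem_centralizer_singleton_iff.2 rfl⟩
  have hzc : ∀ g : L.C₁, g * zc = zc * g := fun g =>
    Subtype.ext (Subgroup.mem_centralizer_singleton_iff.1 g.2)
  refine Cfsg.Agent.S3376.result (L.card_C₁ hm) S T (L.Jb₁.subgroupOf L.C₁) ⟨⟨fun a b =>
    Subtype.ext (Subtype.ext (L.Jb₁_comm (Subgroup.mem_subgroupOf.1 a.2) (Subgroup.mem_subgroupOf.1 b.2)))⟩⟩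
    (fun a ha => Subtype.ext (L.Jb₁_cube (Subgroup.mem_subgroupOf.1 ha)))
    (by rw [Nat.card_congr (Subgroup.subgroupOfEquivOfLe L.Jb₁_le_C₁).toEquiv, L.card_Jb₁])
    (Subgroup.zpowers zc) ?_ ?_ ?_ ?_
  · refine le_antisymm (Subgroup.zpowers_le.2 ⟨(hmemS _).2 ⟨⟨L.z, L.z_mem_Δ⟩, Subgroup.subset_closure (by simp), rfl⟩,
      Subgroup.mem_centralizer_iff.2 fun g _ => hzc g⟩) ?_
    rintro x ⟨hxS, hxc⟩
    obtain ⟨v, hv, hvx⟩ := (hmemS x).1 hxS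
    obtain ⟨n, hn⟩ := L.center_S₁ (x := v) hv (fun w hw => by
      have hwC : L.q₁ ⟨w, L.S₁_le hw⟩ ∈ img L.i₁ L.S₁ := ⟨_, hw, rfl⟩
      have := congrArg Subtype.val
        (Subgroup.mem_centralizer_iff.1 hxc ⟨_, hS1C hwC⟩ ((hmemS _).2 hwC))
      rw [Subgroup.coe_mul, Subgroup.coe_mul, ← hvx] at this
      exact this.symm)
    exact ⟨n, Subtype.ext (by rw [← hvx]; exact hn)⟩
  · rw [Nat.card_zpowers, ← Subgroup.orderOf_coe]
    exact L.orderOf_zb₁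
  · exact Subgroup.zpowers_le.2 (Subgroup.mem_centralizer_iff.2 fun g _ => hzc g)
  · intro heq
    have haS : L.a ∈ L.S₁ := Subgroup.subset_closure (by simp)
    have ha : L.ab₁ ∈ img L.i₁ L.S₁ := ⟨_, haS, rfl⟩
    have hac : (⟨L.ab₁, hS1C ha⟩ : L.C₁) ∈ (S : Subgroup L.C₁) := (hmemS _).2 ha
    rw [← heq] at hac
    have h1 : L.q₁ ⟨L.u, (L.u_mem_K₁ hm).2⟩ * L.ab₁ = L.ab₁ * L.q₁ ⟨L.u, (L.u_mem_K₁ hm).2⟩ :=
      congrArg Subtype.val (Subgroup.mem_centralizer_iff.1 hac.2 ub (hT (Subgroup.mem_zpowers _)))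
    have h2 : L.ab₁ = L.q₁ (⟨L.u, (L.u_mem_K₁ hm).2⟩ * ⟨L.a, L.a_mem_Δ⟩ * ⟨L.u, (L.u_mem_K₁ hm).2⟩⁻¹) := by
      rw [map_mul, map_mul, map_inv, h1, mul_inv_cancel_right]
    obtain ⟨n, hn⟩ := mk_eq_iff.1 h2
    have hn' : L.u * L.a * L.u⁻¹ = L.a * L.i₁ ^ n := hn
    rw [L.u_a hm] at hn'
    refine L.a_not_J ?_
    have e : L.a = L.i₁ ^ n := by
      calc L.a = (L.a * L.a * L.a) * L.a⁻¹ * L.a⁻¹ := by group
        _ = L.a⁻¹ * L.a⁻¹ := by rw [← pow_three', L.cube_a, one_mul]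
        _ = _ := by nth_rewrite 2 [hn']; group
    rw [e]
    exact zpow_mem L.mem_gens.2.2.2.2.2.2.2.1 n

theorem Jb₁_sig (K : Subgroup (Bar L.i₁)) (hK : (Nat.card K).Coprime 3)
    (hn : ∀ j ∈ L.Jb₁, K.map (MulAut.conj j).toMonoidHom = K) : K = ⊥ := by
  refine bar_signalizer L.orderOf_i₁ L.signalizer L.J_le_Δ K hK fun j hj => ?_
  rw [Subgroup.mem_normalizer_iff]
  intro k
  constructor
  · intro hk
    rw [← hn j hj]
    exact ⟨k, hk, rfl⟩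
  · intro hk
    rw [← hn j hj] at hk
    obtain ⟨w, hw, e⟩ := hk
    rwa [← (MulAut.conj j).injective e]

theorem a_not_conj_z {g : G} (n : ℤ) : g * L.z * g⁻¹ ≠ L.a * L.i₁ ^ n := by
  intro h
  have hmem : g * L.z * g⁻¹ ∈ Subgroup.closure ({L.z, L.i₁, L.i₂, L.p, L.a} : Set G) := by
    rw [h]
    exact mul_mem (Subgroup.subset_closure (by simp)) (zpow_mem (Subgroup.subset_closure (by simp)) n)
  have hD : ∀ x : G, x ∈ Subgroup.centralizer ({L.i₂} : Set G) → x = L.a * L.i₁ ^ n → False := fun x hx e => by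
    refine L.a_not_comm (Subgroup.mem_centralizer_singleton_iff.1 ?_)
    rw [show L.a = x * (L.i₁ ^ n)⁻¹ by rw [e]; group]
    exact mul_mem hx (inv_mem (zpow_mem (Subgroup.mem_centralizer_singleton_iff.2 L.comm_i₁i₂.eq) n))
  rcases L.conj_mem_Q g hmem with h1 | ⟨k, l, -, q, hq, -, h2⟩
  · refine hD _ ?_ h
    exact (Subgroup.zpowers_le.2 L.z_mem_Γ) h1
  · refine hD _ ?_ h
    rw [h2]
    exact mul_mem (mul_mem (L.Q₁_le_Γ hq) (zpow_mem L.z_mem_Γ k))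
      (zpow_mem (Subgroup.mem_centralizer_singleton_iff.2 rfl) l)

theorem small_ab₁ (hm : L.m = 2) :
    ¬ 27 ∣ Nat.card ↥(Subgroup.centralizer ({L.ab₁} : Set (Bar L.i₁)) ⊓ L.C₁) := by
  intro h27
  haveI : (L.Jb₁.subgroupOf L.C₁).Normal := ⟨fun x hx g => Subgroup.mem_subgroupOf.2
    (L.Jb₁_conj hm g.2 (Subgroup.mem_subgroupOf.1 hx))⟩
  set K := Subgroup.centralizer ({L.ab₁} : Set (Bar L.i₁)) ⊓ L.C₁
  let f := (QuotientGroup.mk' (L.Jb₁.subgroupOf L.C₁)).comp (Subgroup.inclusion (inf_le_right : K ≤ L.C₁))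
  have hidx : (L.Jb₁.subgroupOf L.C₁).index = 6 := by
    have := (L.Jb₁.subgroupOf L.C₁).card_mul_index
    rw [Nat.card_congr (Subgroup.subgroupOfEquivOfLe L.Jb₁_le_C₁).toEquiv, L.card_Jb₁, L.card_C₁ hm] at this
    omega
  have hr : Nat.card f.range ≤ 6 := hidx ▸ Nat.card_le_card_of_injective _ Subtype.val_injective
  have hker : Nat.card f.ker ≤ 3 := by
    rw [← L.orderOf_zb₁, ← Nat.card_zpowers]
    refine Nat.card_le_card_of_injective (fun x => ⟨((x : K) : Bar L.i₁), ?_⟩) fun a b e =>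
      Subtype.ext (Subtype.ext (congrArg (fun y : Subgroup.zpowers L.zb₁ => (y : Bar L.i₁)) e))
    obtain ⟨⟨x, hx⟩, hxk⟩ := x
    have hxJ : x ∈ L.Jb₁ := Subgroup.mem_subgroupOf.1
      ((QuotientGroup.eq_one_iff _).1 (MonoidHom.mem_ker.1 hxk))
    obtain ⟨w, hw, rfl⟩ := hxJ
    obtain ⟨v, hv⟩ := (mem_J L).1 hw
    have e : w = ⟨L.jel v, L.J_le_Δ (jel_mem L v)⟩ := Subtype.ext hv.symm
    subst e
    exact L.J_cent_ab₁ (Subgroup.mem_centralizer_singleton_iff.1 hx.1)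
  have key := Subgroup.card_eq_card_quotient_mul_card_subgroup f.ker
  rw [Nat.card_congr (QuotientGroup.quotientKerEquivRange f).toEquiv] at key
  have hpos : 0 < Nat.card K := Nat.card_pos
  have h18 : Nat.card K ≤ 18 := by
    rw [key]; exact Nat.mul_le_mul hr hker
  exact absurd (Nat.le_of_dvd hpos h27) (by omega)

theorem not_sym_nine (hm : L.m = 2) : IsEmpty (Bar L.i₁ ≃* Equiv.Perm (Fin 9)) := by
  refine ⟨fun e => ?_⟩
  have hmap : ∀ x : Bar L.i₁, (Subgroup.centralizer ({x} : Set (Bar L.i₁))).map e.toMonoidHom =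
      Subgroup.centralizer ({e x} : Set (Equiv.Perm (Fin 9))) := fun x => by
    ext w
    obtain ⟨w, rfl⟩ := e.surjective w
    rw [show e w = e.toMonoidHom w from rfl, Subgroup.mem_map_iff_mem e.injective,
      Subgroup.mem_centralizer_singleton_iff, Subgroup.mem_centralizer_singleton_iff,
      MulEquiv.toMonoidHom_eq_coe, MonoidHom.coe_coe, ← map_mul, ← map_mul, e.injective.eq_iff]
  have ha : L.ab₁ ∈ L.C₁ := by
    rw [L.C₁_eq]
    exact ⟨_, L.S₁_sup_le hm (Subgroup.mem_sup_left (Subgroup.subset_closure (by simp))), rfl⟩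
  have hconj := CfsgLib.OEightLocal.Cent.Nine.isConj_of_small (Z := e L.zb₁) (A := e L.ab₁)
    (by rw [← L.orderOf_zb₁]; exact orderOf_injective e.toMonoidHom e.injective _)
    (by rw [← hmap, Subgroup.card_map_of_injective e.injective, L.card_C₁ hm])
    (by rw [← map_pow, L.cube_ab₁, map_one])
    (by
      show e L.ab₁ * e L.zb₁ = e L.zb₁ * e L.ab₁
      rw [← map_mul e, ← map_mul e, Subgroup.mem_centralizer_singleton_iff.1 ha])
    (by rw [← hmap, ← hmap, ← Subgroup.map_inf _ _ _ e.injective, Subgroup.card_map_of_injective e.injective]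
        exact L.small_ab₁ hm)
  obtain ⟨c, hc⟩ := isConj_iff.1 hconj
  obtain ⟨c, rfl⟩ := e.surjective c
  rw [← map_inv, ← map_mul, ← map_mul, e.injective.eq_iff] at hc
  obtain ⟨g, rfl⟩ := QuotientGroup.mk'_surjective (Ker L.i₁) c
  rw [← map_inv, ← map_mul, ← map_mul] at hc
  obtain ⟨n, hn⟩ := mk_eq_iff.1 hc.symm
  exact L.a_not_conj_z n hn

theorem Jb₁_normal (hm : L.m = 2) : L.Jb₁.Normal := by
  obtain ⟨eC⟩ := L.C₁_iso hm
  rcases Cfsg.Agent.S3343.result L.zb₁ L.orderOf_zb₁ eC L.Jb₁ L.Jb₁_le_C₁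
      ⟨⟨fun a b => Subtype.ext (L.Jb₁_comm a.2 b.2)⟩⟩ (fun j hj => L.Jb₁_cube hj) L.card_Jb₁ L.Jb₁_sig with
    h | h
  · exact h
  · exact ((L.not_sym_nine hm).false h.some).elim

/-- In the second kind `C(i₁)` normalises `J`. -/
theorem cent_i₁_le (hm : L.m = 2) :
    Subgroup.centralizer ({L.i₁} : Set G) ≤ Subgroup.normalizer (L.J : Set G) := by
  have key : ∀ g ∈ Subgroup.centralizer ({L.i₁} : Set G), ∀ j ∈ L.J, g * j * g⁻¹ ∈ L.J := by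
    intro g hg j hj
    have h1 : L.q₁ (⟨g, hg⟩ * ⟨j, L.J_le_Δ hj⟩ * ⟨g, hg⟩⁻¹) ∈ L.Jb₁ := by
      rw [map_mul, map_mul, map_inv]
      exact (L.Jb₁_normal hm).conj_mem _ ⟨⟨j, L.J_le_Δ hj⟩, hj, rfl⟩ _
    obtain ⟨w, hw, hwe⟩ := h1
    obtain ⟨n, hn⟩ := mk_eq_iff.1 hwe
    rw [show g * j * g⁻¹ = (w : G) * L.i₁ ^ n from hn]
    exact mul_mem hw (zpow_mem L.mem_gens.2.2.2.2.2.2.2.1 n)
  intro g hg
  rw [Subgroup.mem_normalizer_iff]
  refine fun j => ⟨key g hg j, fun h => ?_⟩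
  have := key g⁻¹ (inv_mem hg) _ h
  rwa [show g⁻¹ * (g * j * g⁻¹) * g⁻¹⁻¹ = j by group] at this

/-- The order of `C(i₁)`. -/
theorem card_cent_i₁_dvd (hm : L.m = 2) : Nat.card (Subgroup.centralizer ({L.i₁} : Set G)) ∣ 3888 := by
  obtain ⟨eC⟩ := L.C₁_iso hm
  obtain ⟨U, hU⟩ := CfsgLib.SymNineThree.exists_setup eC L.Jb₁ L.Jb₁_le_C₁
    ⟨⟨fun a b => Subtype.ext (L.Jb₁_comm a.2 b.2)⟩⟩ (fun j hj => L.Jb₁_cube hj) L.card_Jb₁ L.orderOf_zb₁ L.Jb₁_sig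
  have htop : U.Φ.range = ⊤ := by
    rw [← U.normalizer_J, hU]
    haveI := L.Jb₁_normal hm
    exact Subgroup.normalizer_eq_top _
  have hB : Nat.card (Bar L.i₁) ∣ 1296 := by
    rw [← Subgroup.card_top, ← htop, ← Nat.card_congr (MonoidHom.ofInjective U.inj).toEquiv]
    have h := Subgroup.card_subgroup_dvd_card (CfsgLib.SymNineThree.Mon.Kd U.k)
    rwa [show Nat.card CfsgLib.SymNineThree.Mon = 1296 by
      rw [Nat.card_congr (⟨CfsgLib.SymNineThree.Mon.c, CfsgLib.SymNineThree.Mon.mk, fun _ => rfl, fun _ => rfl⟩ :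
        CfsgLib.SymNineThree.Mon ≃ Fin 1296), Nat.card_fin]] at h
  rw [Subgroup.card_eq_card_quotient_mul_card_subgroup (Ker L.i₁),
    Nat.card_congr (Subgroup.subgroupOfEquivOfLe (Subgroup.zpowers_le.2
      (Subgroup.mem_centralizer_singleton_iff.2 rfl))).toEquiv, Nat.card_zpowers, L.orderOf_i₁]
  exact (mul_dvd_mul_right hB 3)

end CfsgLib.OEightLocal.Loc
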