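import Cfsg.Agent.Lib.PSpFourLocal.Conf

/-!
Two commuting copies of `SL(2,3)` exchanged by an involution: where an element of order three and a
quaternion group centralising it must lie.
-/

set_option autoImplicit false
set_option linter.unusedSectionVars false
set_option linter.style.haveILetI false

namespace CfsgLib.OEightLocal.Cent

open CfsgLib.PSpFourLocal (S23)

/-- The structure of the centraliser of the involution. -/
structure Pair {Γ : Type*} [Group Γ] (t : Γ) where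
  θ : S23 →* Γ
  θ' : S23 →* Γ
  n : Γ
  inj : Function.Injective θ
  inj' : Function.Injective θ'
  neg : θ (-1) = t
  neg' : θ' (-1) = t
  comm : ∀ a b, θ a * θ' b = θ' b * θ a
  n2 : n * n = 1
  swap : ∀ a, n * θ a = θ' a * n
  swap' : ∀ a, n * θ' a = θ a * n
  ne : ∀ a b, θ a * θ' b ≠ n

namespace Pair

theorem sl_center : ∀ a : S23, (∀ b : S23, a * b = b * a) → a = 1 ∨ a = -1 := by decide +kernel

theorem sl_fix : ∀ a c : S23, a * a * a * (a * a * a) = 1 → a ≠ 1 → a ≠ -1 →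
    (a * c = c * a ∨ a * c = c * a * -1) → c * c * c * c * (c * c * c * c) = 1 → c = 1 ∨ c = -1 := by
  decide +kernel

theorem sl_three : ∀ a b : S23, a * a * a = 1 → b * b * b = 1 → a ≠ 1 → a * b = b * a →
    b = 1 ∨ b = a ∨ b = a * a := by decide +kernel

theorem sl_gen : ∀ a c : S23, a * a * a = 1 → a ≠ 1 → ∃ e : S23, e * e * e * e = 1 ∧
    (c = e ∨ c = e * a ∨ c = e * (a * a)) := by decide +kernel

theorem sl_neg_pow : ∀ a : S23, (-1 : S23) * a * -1 = a ∧ (-1 : S23) * -1 = 1 ∧ (-1 : S23) ≠ 1 ∧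
    a * -1 = -1 * a := by decide +kernel

theorem sl_sq_count : Fintype.card {c : S23 // c * c * c * c = 1} = 8 := by decide +kernel

variable {Γ : Type*} [Group Γ] {t : Γ} (D : Pair t)

/-- The product of the two copies. -/
def pr : S23 × S23 →* Γ := MonoidHom.noncommCoprod D.θ D.θ' D.comm

theorem pr_apply (q : S23 × S23) : D.pr q = D.θ q.1 * D.θ' q.2 := rfl

theorem pr_eq_one {q : S23 × S23} (h : D.pr q = 1) : q = (1, 1) ∨ q = (-1, -1) := by
  obtain ⟨a, b⟩ := q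
  rw [pr_apply] at h
  have hc : ∀ c, a * c = c * a := fun c => D.inj (by
    rw [map_mul, map_mul, eq_inv_of_mul_eq_one_left h]
    exact ((show Commute (D.θ c) (D.θ' b) from D.comm c b).inv_right).symm.eq)
  rcases sl_center a hc with rfl | rfl
  · refine Or.inl (Prod.ext rfl (D.inj' ?_))
    simpa using h
  · refine Or.inr (Prod.ext rfl (D.inj' ?_))
    rw [D.neg', eq_inv_of_mul_eq_one_right h, D.neg, inv_eq_iff_mul_eq_one, ← D.neg, ← map_mul,
      (sl_neg_pow 1).2.1, map_one]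

theorem pr_eq {q r : S23 × S23} (h : D.pr q = D.pr r) : r = q ∨ r = q * (-1, -1) := by
  have h1 : D.pr (q⁻¹ * r) = 1 := by rw [map_mul, map_inv, h, inv_mul_cancel]
  rcases D.pr_eq_one h1 with e | e <;> rw [inv_mul_eq_iff_eq_mul] at e
  · exact Or.inl (by rw [e]; exact mul_one q)
  · exact Or.inr e

/-- The product of the two copies as a subgroup. -/
def AB : Subgroup Γ := D.pr.range

theorem n_inv : D.n⁻¹ = D.n := inv_eq_of_mul_eq_one_right D.n2

theorem n_not_AB : D.n ∉ D.AB := fun ⟨q, hq⟩ => D.ne q.1 q.2 hq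

theorem n_conj (q : S23 × S23) : D.n * D.pr q = D.pr (q.2, q.1) * D.n := by
  rw [pr_apply, pr_apply, ← mul_assoc, D.swap, mul_assoc, D.swap', ← mul_assoc, D.comm]

/-- The whole. -/
def top' : Subgroup Γ where
  carrier := {x | x ∈ D.AB ∨ ∃ q, x = D.pr q * D.n}
  one_mem' := Or.inl (one_mem _)
  mul_mem' := by
    rintro x y (hx | ⟨q, rfl⟩) (hy | ⟨r, rfl⟩)
    · exact Or.inl (mul_mem hx hy)
    · obtain ⟨q, rfl⟩ := hx
      exact Or.inr ⟨q * r, by rw [map_mul, mul_assoc]⟩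
    · obtain ⟨r, rfl⟩ := hy
      exact Or.inr ⟨q * (r.2, r.1), by rw [mul_assoc, D.n_conj, ← mul_assoc, map_mul]⟩
    · refine Or.inl ⟨q * (r.2, r.1), ?_⟩
      rw [mul_assoc, ← mul_assoc D.n, D.n_conj, mul_assoc _ D.n, D.n2, mul_one, map_mul]
  inv_mem' := by
    rintro x (hx | ⟨q, rfl⟩)
    · exact Or.inl (inv_mem hx)
    · exact Or.inr ⟨(q⁻¹.2, q⁻¹.1), by rw [_root_.mul_inv_rev, D.n_inv, ← map_inv, D.n_conj]⟩

/-- `x` lies in the first copy (`false`) or in the second (`true`). -/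
def cp : Bool → (S23 →* Γ) := fun s => bif s then D.θ' else D.θ

theorem cp_inj (s : Bool) : Function.Injective (D.cp s) := by cases s <;> [exact D.inj; exact D.inj']

theorem cp_neg (s : Bool) : D.cp s (-1) = t := by cases s <;> [exact D.neg; exact D.neg']

theorem cp_comm (s : Bool) (a b : S23) : Commute (D.cp s a) (D.cp (!s) b) := by
  cases s <;> [exact D.comm a b; exact (D.comm b a).symm]

variable {Z Y : Γ} {O : Set Γ}

/-- `Z` lies in one copy, the group `O` of two-elements centralising it in the other. -/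
theorem side (hZ : Z ∈ D.top') (hY : Y ∈ D.top') (hO : ∀ w ∈ O, w ∈ D.top') (hZ3 : Z ^ 3 = 1)
    (hY3 : Y ^ 3 = 1) (hZ1 : Z ≠ 1) (h8 : ∀ w ∈ O, w ^ 8 = 1) (hc : ∀ w ∈ O, Commute Z w)
    (hnc : ∃ w ∈ O, w ≠ 1 ∧ w ≠ t)
    (horb : ∀ w ∈ O, w ≠ 1 → w ≠ t → ∃ v ∈ O, ∃ k : ℕ,
      Y ^ k * (Y * v * Y⁻¹ * v⁻¹) * (Y ^ k)⁻¹ = w ∨ Y ^ k * (Y * v * Y⁻¹ * v⁻¹) * (Y ^ k)⁻¹ = w * t) :
    ∃ s a, Z = D.cp s a ∧ a * a * a = 1 ∧ a ≠ 1 ∧
      ∀ w ∈ O, ∃ c : S23, c * c * c * c * (c * c * c * c) = 1 ∧ w = D.cp (!s) c := by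
  have cube : ∀ x ∈ D.top', x ^ 3 = 1 → x ∈ D.AB := by
    rintro x (hx | ⟨q, rfl⟩) h
    · exact hx
    · exfalso
      refine D.n_not_AB ?_
      have e : D.pr q * D.n * (D.pr q * D.n) ∈ D.AB :=
        ⟨q * (q.2, q.1), by rw [mul_assoc, ← mul_assoc D.n, D.n_conj, mul_assoc _ D.n, D.n2, mul_one, map_mul]⟩
      rw [pow_succ, pow_two, ← eq_inv_iff_mul_eq_one] at h
      rw [h] at e
      have e2 : D.pr q * D.n ∈ D.AB := by simpa using inv_mem e
      simpa using mul_mem (inv_mem (show D.pr q ∈ D.AB from ⟨q, rfl⟩)) e2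
  obtain ⟨qy, hqy⟩ := cube Y hY hY3
  have hcomm : ∀ v ∈ O, Y * v * Y⁻¹ * v⁻¹ ∈ D.AB := by
    intro v hv
    rcases hO v hv with ⟨q, rfl⟩ | ⟨q, rfl⟩
    · exact ⟨qy * q * qy⁻¹ * q⁻¹, by rw [map_mul, map_mul, map_mul, map_inv, map_inv, hqy]⟩
    · refine ⟨qy * (q * (qy⁻¹.2, qy⁻¹.1) * q⁻¹), ?_⟩
      rw [map_mul, map_mul, map_mul, map_inv, hqy, _root_.mul_inv_rev, D.n_inv,
        show Y * (D.pr q * D.n) * Y⁻¹ * (D.n * (D.pr q)⁻¹) = Y * (D.pr q * (D.n * Y⁻¹ * D.n) * (D.pr q)⁻¹) by group,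
        ← hqy, ← map_inv D.pr q, ← map_inv D.pr qy, D.n_conj, mul_assoc (D.pr _) D.n, D.n2, mul_one]
  have htAB : t ∈ D.AB := ⟨(-1, 1), by rw [pr_apply, map_one, mul_one, D.neg]⟩
  have hOAB : ∀ w ∈ O, w ∈ D.AB := by
    intro w hw
    by_cases h1 : w = 1
    · rw [h1]; exact one_mem _
    by_cases ht : w = t
    · rw [ht]; exact htAB
    obtain ⟨v, hv, k, hk⟩ := horb w hw h1 ht
    have hYk : Y ^ k ∈ D.AB := pow_mem (cube Y hY hY3) k
    have hx := mul_mem (mul_mem hYk (hcomm v hv)) (inv_mem hYk)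
    rcases hk with e | e <;> rw [e] at hx
    · exact hx
    · simpa using mul_mem hx (inv_mem htAB)
  obtain ⟨⟨a, b⟩, hab⟩ := cube Z hZ hZ3
  have h6 : a * a * a * (a * a * a) = 1 ∧ b * b * b * (b * b * b) = 1 := by
    have h3 : D.pr ((a, b) ^ 3) = 1 := by rw [map_pow, hab, hZ3]
    rcases D.pr_eq_one h3 with e | e <;>
      rw [pow_succ, pow_two, Prod.mk_mul_mk, Prod.mk_mul_mk, Prod.mk.injEq] at e <;>
      rw [e.1, e.2]
    · exact ⟨one_mul 1, one_mul 1⟩
    · exact ⟨(sl_neg_pow 1).2.1, (sl_neg_pow 1).2.1⟩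
  -- an element of `O` in coordinates
  have hcd : ∀ w ∈ O, ∃ c d : S23, w = D.pr (c, d) ∧ c * c * c * c * (c * c * c * c) = 1 ∧
      d * d * d * d * (d * d * d * d) = 1 ∧ (a * c = c * a ∨ a * c = c * a * -1) ∧
      (b * d = d * b ∨ b * d = d * b * -1) := by
    intro w hw
    obtain ⟨⟨c, d⟩, hq⟩ := hOAB w hw
    refine ⟨c, d, hq.symm, ?_⟩
    have hh : D.pr ((c, d) ^ 8) = 1 := by rw [map_pow, hq, h8 w hw]
    have h4 : ∀ x : S23, x ^ 8 = 1 ∨ x ^ 8 = -1 → x * x * x * x * (x * x * x * x) = 1 := by decide +kernel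
    have hp := D.pr_eq (q := (a, b) * (c, d)) (r := (c, d) * (a, b))
      (by rw [map_mul, map_mul, hab, hq]; exact (hc w hw).eq)
    refine ⟨?_, ?_, ?_, ?_⟩
    · rcases D.pr_eq_one hh with e | e
      · exact h4 c (Or.inl (congrArg Prod.fst e))
      · exact h4 c (Or.inr (congrArg Prod.fst e))
    · rcases D.pr_eq_one hh with e | e
      · exact h4 d (Or.inl (congrArg Prod.snd e))
      · exact h4 d (Or.inr (congrArg Prod.snd e))
    · rcases hp with e | e
      · exact Or.inl (congrArg Prod.fst e).symm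
      · refine Or.inr ?_
        have e' : c * a = a * c * -1 := congrArg Prod.fst e
        rw [e', mul_assoc, (sl_neg_pow 1).2.1, mul_one]
    · rcases hp with e | e
      · exact Or.inl (congrArg Prod.snd e).symm
      · refine Or.inr ?_
        have e' : d * b = b * d * -1 := congrArg Prod.snd e
        rw [e', mul_assoc, (sl_neg_pow 1).2.1, mul_one]
  -- one of the coordinates of `Z` is central
  have hone : (a = 1 ∨ a = -1) ∨ (b = 1 ∨ b = -1) := by
    by_contra hne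
    push Not at hne
    obtain ⟨w, hw, w1, wt⟩ := hnc
    obtain ⟨c, d, rfl, hc8, hd8, hca, hdb⟩ := hcd w hw
    rcases sl_fix a c h6.1 hne.1.1 hne.1.2 hca hc8 with rfl | rfl <;>
      rcases sl_fix b d h6.2 hne.2.1 hne.2.2 hdb hd8 with rfl | rfl <;>
      simp [pr_apply, D.neg, D.neg', map_one] at w1 wt
    rw [← D.neg, ← map_mul, (sl_neg_pow 1).2.1, map_one] at w1
    exact w1 rfl
  have mk : ∀ (s : Bool) (e : S23), Z = D.cp s e → (∀ w ∈ O, ∃ c d : S23, w = D.cp s c * D.cp (!s) d ∧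
      c * c * c * c * (c * c * c * c) = 1 ∧ d * d * d * d * (d * d * d * d) = 1 ∧
      (e * c = c * e ∨ e * c = c * e * -1)) →
      ∃ s a, Z = D.cp s a ∧ a * a * a = 1 ∧ a ≠ 1 ∧
        ∀ w ∈ O, ∃ c : S23, c * c * c * c * (c * c * c * c) = 1 ∧ w = D.cp (!s) c := by
    intro s e he hw'
    have he3 : e * e * e = 1 := D.cp_inj s (by rw [map_mul, map_mul, map_one, ← he, ← hZ3, pow_succ, pow_two])
    have he1 : e ≠ 1 := fun h => hZ1 (by rw [he, h, map_one])
    have hem : e ≠ -1 := fun h => he1 (by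
      rw [h, (sl_neg_pow 1).2.1, one_mul] at he3
      rw [h, he3])
    refine ⟨s, e, he, he3, he1, fun w hw => ?_⟩
    obtain ⟨c, d, rfl, hc8, hd8, hce⟩ := hw' w hw
    rcases sl_fix e c (by rw [he3, one_mul]) he1 hem hce hc8 with rfl | rfl
    · exact ⟨d, hd8, by rw [map_one, one_mul]⟩
    · refine ⟨-1 * d, ?_, by rw [map_mul, D.cp_neg, D.cp_neg]⟩
      have : ∀ x : S23, x * x * x * x * (x * x * x * x) = 1 →
        -1 * x * (-1 * x) * (-1 * x) * (-1 * x) * (-1 * x * (-1 * x) * (-1 * x) * (-1 * x)) = 1 := by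
        decide +kernel
      exact this d hd8
  have hneg : ∀ x y : S23, (x * y = y * x ∨ x * y = y * x * -1) →
      (-1 * x * y = y * (-1 * x) ∨ -1 * x * y = y * (-1 * x) * -1) := by decide +kernel
  rcases hone with (e | e) | (e | e) <;> subst e
  · refine mk true b (by rw [← hab, pr_apply, map_one, one_mul]; rfl) fun w hw => ?_
    obtain ⟨c, d, rfl, hc8, hd8, -, hdb⟩ := hcd w hw
    exact ⟨d, c, D.comm c d, hd8, hc8, hdb⟩
  · refine mk true (-1 * b) (by rw [← hab, pr_apply, map_mul, D.neg]; exact congrArg (· * _) D.neg'.symm)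
      fun w hw => ?_
    obtain ⟨c, d, rfl, hc8, hd8, -, hdb⟩ := hcd w hw
    exact ⟨d, c, D.comm c d, hd8, hc8, hneg b d hdb⟩
  · refine mk false a (by rw [← hab, pr_apply, map_one, mul_one]; rfl) fun w hw => ?_
    obtain ⟨c, d, rfl, hc8, hd8, hca, -⟩ := hcd w hw
    exact ⟨c, d, rfl, hc8, hd8, hca⟩
  · refine mk false (a * -1) (by rw [← hab, pr_apply, map_mul]; exact congrArg _ (D.neg'.trans D.neg.symm))
      fun w hw => ?_
    obtain ⟨c, d, rfl, hc8, hd8, hca, -⟩ := hcd w hw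
    refine ⟨c, d, rfl, hc8, hd8, ?_⟩
    rw [(sl_neg_pow a).2.2.2]
    exact hneg a c hca

/-- Commuting elements of order three in the same copy. -/
theorem same_side {s : Bool} {a b : S23} (ha : a * a * a = 1) (ha1 : a ≠ 1) (hb : b * b * b = 1)
    (h : Commute (D.cp s a) (D.cp s b)) : D.cp s b ∈ Subgroup.zpowers (D.cp s a) := by
  have e : a * b = b * a := D.cp_inj s (by rw [map_mul, map_mul]; exact h.eq)
  rcases sl_three a b ha hb ha1 e with rfl | rfl | rfl
  · rw [map_one]; exact one_mem _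
  · exact Subgroup.mem_zpowers _
  · rw [map_mul]; exact mul_mem (Subgroup.mem_zpowers _) (Subgroup.mem_zpowers _)

end Pair

end CfsgLib.OEightLocal.Cent
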