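import Cfsg.Agent.Lib.OEightLocal.CentBasic

/-!
The centraliser of the outer involution `u`: its Sylow subgroup `⟨z, i₁, y, p⟩`, its elements of
order three, `t` and `u` are not conjugate, and no conjugate of `a` lies in `J`.
-/

set_option autoImplicit false
set_option linter.unusedSectionVars false
set_option linter.style.haveILetI false

namespace CfsgLib.OEightLocal.Loc

open CfsgLib.OEightLocal.Cent

variable {G : Type*} [Group G] (L : Loc G)

/-- `⟨z, i₁, y⟩`. -/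
def J' : Subgroup G := Subgroup.closure {L.z, L.i₁, L.y}

/-- `⟨z, i₁, y, p⟩`. -/
def R : Subgroup G := Subgroup.closure {L.z, L.i₁, L.y, L.p}

theorem J'_le_J : L.J' ≤ L.J := Subgroup.closure_mono (by simp [Set.insert_subset_iff])

theorem R_le_S : L.R ≤ L.S := Subgroup.closure_mono (by simp [Set.insert_subset_iff])

theorem J'_le_R : L.J' ≤ L.R := Subgroup.closure_mono (by simp [Set.insert_subset_iff])

theorem J'_comm_u {x : G} (hx : x ∈ L.J') : Commute L.u x := by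
  induction hx using Subgroup.closure_induction with
  | mem w hw => rcases hw with rfl | rfl | rfl; exacts [L.comm_uz, L.comm_ui₁, L.comm_uy]
  | one => exact Commute.one_right _
  | mul _ _ _ _ h1 h2 => exact h1.mul_right h2
  | inv _ _ h => exact h.inv_right

theorem R_comm_u {x : G} (hx : x ∈ L.R) : Commute L.u x := by
  induction hx using Subgroup.closure_induction with
  | mem w hw => rcases hw with rfl | rfl | rfl | rfl; exacts [L.comm_uz, L.comm_ui₁, L.comm_uy, L.comm_up]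
  | one => exact Commute.one_right _
  | mul _ _ _ _ h1 h2 => exact h1.mul_right h2
  | inv _ _ h => exact h.inv_right

theorem R_comm_z {x : G} (hx : x ∈ L.R) : Commute L.z x := by
  induction hx using Subgroup.closure_induction with
  | mem w hw => rcases hw with rfl | rfl | rfl | rfl; exacts [Commute.refl _, L.comm_zi₁, L.comm_zy, L.comm_zp]
  | one => exact Commute.one_right _
  | mul _ _ _ _ h1 h2 => exact h1.mul_right h2
  | inv _ _ h => exact h.inv_right

theorem J'_form {w : G} (hw : w ∈ L.J') : ∃ a b c : ℤ, w = L.z ^ a * L.i₁ ^ b * L.y ^ c := by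
  induction hw using Subgroup.closure_induction with
  | mem v hv =>
    rcases hv with rfl | rfl | rfl
    exacts [⟨1, 0, 0, by simp⟩, ⟨0, 1, 0, by simp⟩, ⟨0, 0, 1, by simp⟩]
  | one => exact ⟨0, 0, 0, by simp⟩
  | mul v v' _ _ h h' =>
    obtain ⟨a, b, c, rfl⟩ := h
    obtain ⟨a', b', c', rfl⟩ := h'
    refine ⟨a + a', b + b', c + c', ?_⟩
    have e1 : Commute (L.y ^ c) (L.z ^ a') := (L.comm_zy.symm.zpow_zpow c a')
    have e2 : Commute (L.y ^ c) (L.i₁ ^ b') := L.comm_yi₁.zpow_zpow c b'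
    have e3 : Commute (L.i₁ ^ b) (L.z ^ a') := L.comm_zi₁.symm.zpow_zpow b a'
    calc L.z ^ a * L.i₁ ^ b * L.y ^ c * (L.z ^ a' * L.i₁ ^ b' * L.y ^ c')
        = L.z ^ a * L.i₁ ^ b * (L.y ^ c * L.z ^ a') * L.i₁ ^ b' * L.y ^ c' := by group
      _ = L.z ^ a * (L.i₁ ^ b * L.z ^ a') * (L.y ^ c * L.i₁ ^ b') * L.y ^ c' := by rw [e1.eq]; group
      _ = _ := by rw [e3.eq, e2.eq, zpow_add, zpow_add, zpow_add]; group
  | inv v _ h =>
    obtain ⟨a, b, c, rfl⟩ := h
    refine ⟨-a, -b, -c, ?_⟩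
    have e1 : Commute (L.y ^ (-c)) (L.z ^ (-a)) := L.comm_zy.symm.zpow_zpow _ _
    have e2 : Commute (L.y ^ (-c)) (L.i₁ ^ (-b)) := L.comm_yi₁.zpow_zpow _ _
    have e3 : Commute (L.i₁ ^ (-b)) (L.z ^ (-a)) := L.comm_zi₁.symm.zpow_zpow _ _
    rw [mul_inv_rev, mul_inv_rev, ← zpow_neg, ← zpow_neg, ← zpow_neg, ← mul_assoc, e2.eq, mul_assoc, e1.eq,
      ← mul_assoc, e3.eq]

theorem zpow_eq_one_iff_three {x : G} (h3 : x ^ 3 = 1) (h1 : x ≠ 1) {n : ℤ} : x ^ n = 1 ↔ (3 : ℤ) ∣ n := by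
  haveI : Fact (Nat.Prime 3) := ⟨Nat.prime_three⟩
  rw [← orderOf_dvd_iff_zpow_eq_one, orderOf_eq_prime h3 h1]
  norm_num

theorem zpow_mem_imp {H : Subgroup G} {x : G} (h3 : x ^ 3 = 1) {n : ℤ} (hn : ¬ (3 : ℤ) ∣ n) (h : x ^ n ∈ H) :
    x ∈ H := by
  obtain ⟨m, hm⟩ | ⟨m, hm⟩ : (∃ m : ℤ, n = 3 * m + 1) ∨ ∃ m : ℤ, n = 3 * m + 2 := by
    rcases (show n % 3 = 1 ∨ n % 3 = 2 by omega) with h | h
    · exact Or.inl ⟨n / 3, by omega⟩
    · exact Or.inr ⟨n / 3, by omega⟩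
  all_goals rw [hm, zpow_add, zpow_mul, zpow_ofNat, h3, one_zpow, one_mul] at h
  · rwa [zpow_one] at h
  · refine pow_mem_imp h3 (n := 2) (by norm_num) ?_
    rwa [zpow_ofNat] at h

theorem p_y : L.p * L.y * L.p⁻¹ = L.z * L.i₁⁻¹ * L.y := by
  have hz : L.z * L.z = L.z⁻¹ := (inv_eq_of_mul_eq_one_right (by rw [← mul_assoc, ← pow_two, ← pow_succ]; exact L.cube_z)).symm
  have h1 : L.p⁻¹ * L.y * L.p = L.i₁ * L.z * L.y := by
    calc L.p⁻¹ * L.y * L.p = L.p⁻¹ * (L.y * L.p * L.y⁻¹) * L.y := by group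
      _ = _ := by rw [L.rel_yp]; group
  have h2 : L.p * L.i₁ * L.p⁻¹ = L.z * L.i₁ := by rw [L.p_i₁]; group
  have hpz : L.p * L.z * L.p⁻¹ = L.z := by rw [← L.comm_zp.eq, mul_inv_cancel_right]
  have h3 : L.y = (L.p * L.i₁ * L.p⁻¹) * (L.p * L.z * L.p⁻¹) * (L.p * L.y * L.p⁻¹) := by
    calc L.y = L.p * (L.p⁻¹ * L.y * L.p) * L.p⁻¹ := by group
      _ = _ := by rw [h1]; group
  rw [h2, hpz] at h3
  calc L.p * L.y * L.p⁻¹ = (L.z * L.i₁ * L.z)⁻¹ * L.y := by
        conv_rhs => rw [h3]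
        group
    _ = _ := by
        rw [mul_inv_rev, mul_inv_rev, ← mul_assoc L.z⁻¹, mul_assoc L.z⁻¹ L.i₁⁻¹, ← L.comm_zi₁.inv_inv.eq,
          ← mul_assoc, ← mul_inv_rev, hz, inv_inv]

theorem conj_p_form (a b c : ℤ) :
    L.p * (L.z ^ a * L.i₁ ^ b * L.y ^ c) * L.p⁻¹ = L.z ^ (a + b + c) * L.i₁ ^ (b - c) * L.y ^ c := by
  have hp1 : L.p * L.z * L.p⁻¹ = L.z := by rw [← L.comm_zp.eq, mul_inv_cancel_right]
  have hp2 : L.p * L.i₁ * L.p⁻¹ = L.z * L.i₁ := by rw [L.p_i₁]; group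
  have e1 : (L.z * L.i₁) ^ b = L.z ^ b * L.i₁ ^ b := L.comm_zi₁.mul_zpow b
  have e2 : (L.z * L.i₁⁻¹ * L.y) ^ c = L.z ^ c * L.i₁ ^ (-c) * L.y ^ c := by
    rw [(L.comm_zy.mul_left L.comm_yi₁.symm.inv_left).mul_zpow, L.comm_zi₁.inv_right.mul_zpow, inv_zpow, zpow_neg]
  have e3 : Commute (L.i₁ ^ b) (L.z ^ c) := L.comm_zi₁.symm.zpow_zpow _ _
  calc L.p * (L.z ^ a * L.i₁ ^ b * L.y ^ c) * L.p⁻¹
      = (L.p * L.z * L.p⁻¹) ^ a * (L.p * L.i₁ * L.p⁻¹) ^ b * (L.p * L.y * L.p⁻¹) ^ c := by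
        simp only [conj_zpow]; group
    _ = L.z ^ a * L.z ^ b * (L.i₁ ^ b * L.z ^ c) * L.i₁ ^ (-c) * L.y ^ c := by
        rw [hp1, hp2, L.p_y, e1, e2]; group
    _ = L.z ^ (a + b + c) * L.i₁ ^ (b - c) * L.y ^ c := by
        rw [e3.eq, sub_eq_add_neg, zpow_add, zpow_add, zpow_add]; group

variable [Finite G]

theorem card_J' : 27 ≤ Nat.card L.J' := by
  have hle : L.J ≤ L.J' ⊔ Subgroup.zpowers L.i₂ := (Subgroup.closure_le _).2 (by
    rintro x (rfl | rfl | rfl | rfl)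
    exacts [Subgroup.mem_sup_left (Subgroup.subset_closure (by simp)),
      Subgroup.mem_sup_left (Subgroup.subset_closure (by simp)),
      Subgroup.mem_sup_right (Subgroup.mem_zpowers _), Subgroup.mem_sup_left (Subgroup.subset_closure (by simp))])
  have hc : L.J' ≤ Subgroup.centralizer (Subgroup.zpowers L.i₂ : Set G) := fun x hx => by
    refine Subgroup.mem_centralizer_iff.2 fun w hw => ?_
    obtain ⟨n, rfl⟩ := Subgroup.mem_zpowers_iff.1 hw
    exact L.J_comm (zpow_mem L.mem_gens.2.2.2.2.2.2.2.2.1 n) (L.J'_le_J hx)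
  let f : L.J' × Subgroup.zpowers L.i₂ → G := fun q => (q.1 : G) * q.2
  have hsurj : (L.J : Set G) ⊆ Set.range f := fun x hx => by
    obtain ⟨h, hh, k, hk, rfl⟩ : ∃ h ∈ L.J', ∃ k ∈ Subgroup.zpowers L.i₂, h * k = x := by
      have hx' := hle hx
      rwa [← SetLike.mem_coe, Subgroup.coe_mul_of_left_le_normalizer_right L.J' _
        (hc.trans (Subgroup.centralizer_le_normalizer _)), Set.mem_mul] at hx'
    exact ⟨(⟨h, hh⟩, ⟨k, hk⟩), rfl⟩
  have h1 := Set.ncard_le_ncard hsurj (Set.toFinite _)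
  have h2 : (Set.range f).ncard ≤ Nat.card (L.J' × Subgroup.zpowers L.i₂) := by
    rw [← Nat.card_coe_set_eq]
    exact Finite.card_range_le f
  rw [Nat.card_prod, Nat.card_zpowers,
    haveI : Fact (Nat.Prime 3) := ⟨Nat.prime_three⟩; orderOf_eq_prime L.cube_i₂ L.i₂_ne] at h2
  rw [← Nat.card_coe_set_eq, show Nat.card (L.J : Set G) = 81 from L.card_J] at h1
  omega

theorem card_R : 81 ≤ Nat.card L.R := by
  have h : L.J' < L.R := lt_of_le_of_ne L.J'_le_R fun e =>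
    L.p_not_J (L.J'_le_J (e ▸ Subgroup.subset_closure (by simp)))
  have := card_mul_three_le L.S_pgroup L.R_le_S h
  have := L.card_J'
  omega

/-- A subgroup of `C(z)` containing `O` with at least nine classes outside. -/
theorem no_243 (hm : L.m = 2) {x : G} (hOx : ∀ w ∈ L.O, Commute w x) (f : ZMod 3 × ZMod 3 → G)
    (hf : ∀ q, ∃ c ∈ L.C, f q = c * x * c⁻¹) (hinj : Function.Injective f) {P : Subgroup G}
    (hP : P ≤ L.C ⊓ Subgroup.centralizer ({x} : Set G)) : ¬ 243 ∣ Nat.card P := by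
  classical
  intro h
  set K := L.C ⊓ Subgroup.centralizer ({x} : Set G)
  have h243 : 243 ∣ Nat.card K := h.trans (Subgroup.card_dvd_of_le hP)
  have h8 : 8 ∣ Nat.card K := L.card_O ▸ Subgroup.card_dvd_of_le
    (le_inf L.gens_C.2.2.2.2.2.2.2 fun w hw => Subgroup.mem_centralizer_singleton_iff.2 (hOx w hw).eq)
  obtain ⟨d, hd⟩ : 1944 ∣ Nat.card K := (show Nat.Coprime 243 8 by norm_num).mul_dvd_of_dvd_of_dvd h243 h8
  have key := card_stab L.C x
  rw [show Nat.card L.C = 5832 * L.m from L.card_C, show L.C ⊓ Subgroup.centralizer ({x} : Set G) = K from rfl,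
    hd, hm] at key
  let g : ZMod 3 × ZMod 3 → Set.range (fun c : L.C => (c : G) * x * (c : G)⁻¹) := fun q =>
    ⟨f q, by obtain ⟨c, hc, e⟩ := hf q; exact ⟨⟨c, hc⟩, e.symm⟩⟩
  have hg : Function.Injective g := fun q r e => hinj (congrArg Subtype.val e)
  have hle := Nat.card_le_card_of_injective g hg
  rw [Nat.card_prod, Nat.card_zmod] at hle
  have hd0 : 1 ≤ d := Nat.one_le_iff_ne_zero.2 fun h0 => by
    rw [h0, mul_zero] at hd; exact Nat.card_pos.ne' hd
  have := Nat.mul_le_mul (Nat.mul_le_mul_left 1944 hd0) hle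
  omega

theorem i₂_a_pow (j k : ℕ) : L.i₂ ^ k * L.a ^ j * (L.i₂ ^ k)⁻¹ = L.z ^ (k * j) * L.a ^ j := by
  have h1 : L.i₂ * L.a * L.i₂⁻¹ = L.z * L.a := by
    rw [← L.rel_a]; group
  induction k with
  | zero => simp
  | succ k ih =>
    calc L.i₂ ^ (k + 1) * L.a ^ j * (L.i₂ ^ (k + 1))⁻¹
        = (L.i₂ * L.z ^ (k * j) * L.i₂⁻¹) * (L.i₂ * L.a * L.i₂⁻¹) ^ j := by
          rw [conj_pow]
          calc L.i₂ ^ (k + 1) * L.a ^ j * (L.i₂ ^ (k + 1))⁻¹
              = L.i₂ * (L.i₂ ^ k * L.a ^ j * (L.i₂ ^ k)⁻¹) * L.i₂⁻¹ := by rw [pow_succ']; group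
            _ = _ := by rw [ih]; group
      _ = _ := by
          rw [h1, (L.comm_zi₂.symm.pow_right _).eq, mul_inv_cancel_right, L.comm_za.mul_pow, ← mul_assoc,
            ← pow_add, add_mul, one_mul]

theorem no_243_u (hm : L.m = 2) {P : Subgroup G} (hP : P ≤ L.C ⊓ Subgroup.centralizer ({L.u} : Set G)) :
    ¬ 243 ∣ Nat.card P := by
  obtain ⟨-, -, h3, -, -, h6, -, -⟩ := L.gens_C
  refine L.no_243 hm (fun w hw => (L.u_O w hw).symm)
    (fun q : ZMod 3 × ZMod 3 => L.i₂ ^ q.2.val * L.a ^ q.1.val * L.u * (L.i₂ ^ q.2.val * L.a ^ q.1.val)⁻¹)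
    (fun q => ⟨_, mul_mem (pow_mem h3 _) (pow_mem h6 _), rfl⟩) ?_ hP
  rintro ⟨j, k⟩ ⟨j', k'⟩ e
  dsimp only at e
  set c := L.i₂ ^ k.val * L.a ^ j.val with hc
  set c' := L.i₂ ^ k'.val * L.a ^ j'.val with hc'
  have hcomm : Commute L.u (c⁻¹ * c') := by
    change L.u * (c⁻¹ * c') = c⁻¹ * c' * L.u
    calc L.u * (c⁻¹ * c') = c⁻¹ * (c * L.u * c⁻¹) * c' := by group
      _ = _ := by rw [e]; group
  have hz : Commute L.u L.z := L.comm_uz
  obtain ⟨n, hn⟩ : ∃ n : ℤ, c⁻¹ * c' = L.z ^ n * (L.a ^ ((j'.val : ℤ) - j.val) * L.i₂ ^ ((k'.val : ℤ) - k.val)) := by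
    have h1 := L.i₂_a_pow j.val k.val
    have h2 := L.i₂_a_pow j'.val k'.val
    have e1 : c = L.z ^ (k.val * j.val) * L.a ^ j.val * L.i₂ ^ k.val := by
      rw [hc, ← h1]; group
    have e2 : c' = L.z ^ (k'.val * j'.val) * L.a ^ j'.val * L.i₂ ^ k'.val := by
      rw [hc', ← h2]; group
    set M := (L.a ^ ((j'.val : ℤ) - j.val))
    have hw : ∀ (m : ℕ), (L.i₂ ^ m)⁻¹ * M * L.i₂ ^ m = L.z ^ (-((m : ℤ) * ((j'.val : ℤ) - j.val))) * M := by
      intro m
      have hi : L.i₂⁻¹ * L.a * L.i₂ = L.z⁻¹ * L.a := by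
        calc L.i₂⁻¹ * L.a * L.i₂ = L.z⁻¹ * (L.i₂⁻¹ * (L.i₂ * L.a * L.i₂⁻¹ * L.a⁻¹) * L.a * L.i₂) := by
              rw [L.rel_a, ← (L.comm_zi₂.inv_right).eq]; group
          _ = _ := by group
      induction m with
      | zero => simp
      | succ m ih =>
        calc (L.i₂ ^ (m + 1))⁻¹ * M * L.i₂ ^ (m + 1)
            = L.i₂⁻¹ * ((L.i₂ ^ m)⁻¹ * M * L.i₂ ^ m) * L.i₂ := by rw [pow_succ]; group
          _ = L.i₂⁻¹ * L.z ^ (-((m : ℤ) * ((j'.val : ℤ) - j.val))) * L.i₂ *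
              (L.i₂⁻¹ * L.a * L.i₂⁻¹⁻¹) ^ ((j'.val : ℤ) - j.val) := by
                rw [ih]; simp only [M, conj_zpow]; group
          _ = _ := by
              rw [((L.comm_zi₂.symm.inv_left).zpow_right _).eq, inv_mul_cancel_right, inv_inv, hi,
                L.comm_za.inv_left.mul_zpow, ← mul_assoc, inv_zpow', ← zpow_add]
              congr 2
              push_cast
              ring
    refine ⟨-((k.val * j.val : ℕ) : ℤ) + ((k'.val * j'.val : ℕ) : ℤ) +
      -((k.val : ℤ) * ((j'.val : ℤ) - j.val)), ?_⟩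
    have hzc : ∀ (m : ℤ) (x : G), Commute L.z x → Commute (L.z ^ m) x := fun m x h => h.zpow_left m
    calc c⁻¹ * c' = (L.i₂ ^ k.val)⁻¹ * (L.a ^ j.val)⁻¹ * (L.z ^ (k.val * j.val))⁻¹ *
          L.z ^ (k'.val * j'.val) * L.a ^ j'.val * L.i₂ ^ k'.val := by rw [e1, e2]; group
      _ = L.z ^ (-((k.val * j.val : ℕ) : ℤ) + ((k'.val * j'.val : ℕ) : ℤ)) *
          ((L.i₂ ^ k.val)⁻¹ * M * L.i₂ ^ k.val) * L.i₂ ^ ((k'.val : ℤ) - k.val) := by
          have hcm : Commute (L.z ^ (-((k.val * j.val : ℕ) : ℤ) + ((k'.val * j'.val : ℕ) : ℤ)))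
              ((L.i₂ ^ k.val)⁻¹ * (L.a ^ j.val)⁻¹) :=
            hzc _ _ ((L.comm_zi₂.pow_right _).inv_right.mul_right (L.comm_za.pow_right _).inv_right)
          rw [show (L.z ^ (k.val * j.val))⁻¹ = L.z ^ (-((k.val * j.val : ℕ) : ℤ)) by rw [zpow_neg, zpow_natCast],
            show L.z ^ (k'.val * j'.val) = L.z ^ ((k'.val * j'.val : ℕ) : ℤ) from (zpow_natCast _ _).symm,
            mul_assoc ((L.i₂ ^ k.val)⁻¹ * (L.a ^ j.val)⁻¹), ← zpow_add, ← hcm.eq,
            show M = L.a ^ ((j'.val : ℤ) - j.val) from rfl, zpow_sub, zpow_sub]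
          simp only [zpow_natCast]
          group
      _ = _ := by rw [hw, zpow_add _ _ (-((k.val : ℤ) * ((j'.val : ℤ) - j.val)))]; group
  set J := (j'.val : ℤ) - j.val
  set K := (k'.val : ℤ) - k.val
  have hinv : L.u * (L.a ^ J * L.i₂ ^ K) * L.u⁻¹ = L.a ^ (-J) * L.i₂ ^ (-K) := by
    rw [show L.u * (L.a ^ J * L.i₂ ^ K) * L.u⁻¹ = (L.u * L.a * L.u⁻¹) ^ J * (L.u * L.i₂ * L.u⁻¹) ^ K by
      rw [conj_zpow, conj_zpow]; group, L.u_a hm, L.u_i₂ hm, inv_zpow', inv_zpow']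
  have hfix : L.u * (L.a ^ J * L.i₂ ^ K) * L.u⁻¹ = L.a ^ J * L.i₂ ^ K := by
    have hz' : Commute L.u ((L.z ^ n)⁻¹ * (c⁻¹ * c')) := (hz.zpow_right n).inv_right.mul_right hcomm
    rw [hn, inv_mul_cancel_left] at hz'
    rw [hz'.eq, mul_inv_cancel_right]
  rw [hinv] at hfix
  have e2 : L.a ^ (-(2 * J)) = L.i₂ ^ (2 * K) := by
    calc L.a ^ (-(2 * J)) = L.a ^ (-J) * (L.a ^ (-J) * L.i₂ ^ (-K)) * L.i₂ ^ K := by
          rw [show -(2 * J) = -J + -J by ring, zpow_add]; group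
      _ = _ := by rw [hfix, two_mul, zpow_add]; group
  have hJ : (3 : ℤ) ∣ J := by
    by_contra hJ
    have h2 : ¬ (3 : ℤ) ∣ -(2 * J) := by omega
    have ha : L.a ∈ Subgroup.centralizer ({L.i₂} : Set G) :=
      zpow_mem_imp L.cube_a h2 (e2 ▸ Subgroup.mem_centralizer_singleton_iff.2
        ((Commute.refl L.i₂).zpow_left _).eq)
    exact L.a_not_comm (Subgroup.mem_centralizer_singleton_iff.1 ha)
  have hK : (3 : ℤ) ∣ K := by
    by_contra hK
    have h2 : ¬ (3 : ℤ) ∣ 2 * K := by omega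
    have : L.i₂ ^ (2 * K) = 1 := by
      rw [← e2, zpow_eq_one_iff_three L.cube_a fun h => L.a_not_J (h ▸ one_mem _)]
      omega
    exact h2 ((zpow_eq_one_iff_three L.cube_i₂ L.i₂_ne).1 this)
  have h1 := ZMod.val_lt j
  have h2 := ZMod.val_lt j'
  have h3' := ZMod.val_lt k
  have h4 := ZMod.val_lt k'
  exact Prod.ext (ZMod.val_injective 3 (show j.val = j'.val by omega))
    (ZMod.val_injective 3 (show k.val = k'.val by omega))

theorem eq_pow_form {x : G} (hx : x ∈ L.R) :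
    ∃ w ∈ L.J', ∃ k : ℤ, x = w * L.p ^ k := by
  have hn : ∀ w ∈ L.J', L.p * w * L.p⁻¹ ∈ L.J' := fun w hw => by
    obtain ⟨a, b, c, rfl⟩ := L.J'_form hw
    rw [L.conj_p_form]
    exact mul_mem (mul_mem (zpow_mem (Subgroup.subset_closure (by simp)) _)
      (zpow_mem (Subgroup.subset_closure (by simp)) _)) (zpow_mem (Subgroup.subset_closure (by simp)) _)
  have hle : Subgroup.zpowers L.p ≤ Subgroup.normalizer (L.J' : Set G) := by
    rw [Subgroup.zpowers_le, Subgroup.mem_normalizer_iff]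
    intro w
    refine ⟨fun hw => hn w hw, fun hw => ?_⟩
    have e : L.p ^ 2 * (L.p * w * L.p⁻¹) * (L.p ^ 2)⁻¹ = w := by
      calc L.p ^ 2 * (L.p * w * L.p⁻¹) * (L.p ^ 2)⁻¹ = L.p ^ 3 * w * (L.p ^ 3)⁻¹ := by group
        _ = w := by rw [L.cube_p]; group
    rw [← e, pow_two, show L.p * L.p * (L.p * w * L.p⁻¹) * (L.p * L.p)⁻¹ =
      L.p * (L.p * (L.p * w * L.p⁻¹) * L.p⁻¹) * L.p⁻¹ by group]
    exact hn _ (hn _ hw)
  have hR : L.R ≤ L.J' ⊔ Subgroup.zpowers L.p := (Subgroup.closure_le _).2 (by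
    rintro x (rfl | rfl | rfl | rfl)
    exacts [Subgroup.mem_sup_left (Subgroup.subset_closure (by simp)),
      Subgroup.mem_sup_left (Subgroup.subset_closure (by simp)),
      Subgroup.mem_sup_left (Subgroup.subset_closure (by simp)), Subgroup.mem_sup_right (Subgroup.mem_zpowers _)])
  have hx' := hR hx
  rw [← SetLike.mem_coe, Subgroup.coe_mul_of_right_le_normalizer_left L.J' _ hle, Set.mem_mul] at hx'
  obtain ⟨w, hw, _, ⟨k, rfl⟩, rfl⟩ := hx'
  exact ⟨w, hw, k, rfl⟩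

theorem center_R {x : G} (hx : x ∈ L.R) (hc : ∀ r ∈ L.R, Commute x r) : x ∈ Subgroup.zpowers L.z := by
  obtain ⟨w, hw, k, rfl⟩ := L.eq_pow_form hx
  have hi : L.i₁ ∈ L.R := Subgroup.subset_closure (by simp)
  have hp : L.p ∈ L.R := Subgroup.subset_closure (by simp)
  have hwi : Commute w L.i₁ := L.J_comm (L.J'_le_J hw) L.mem_gens.2.2.2.2.2.2.2.1
  have hk : (3 : ℤ) ∣ k := by
    by_contra hk
    refine L.p_not_comm (Subgroup.mem_centralizer_singleton_iff.1 (zpow_mem_imp L.cube_p hk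
      (H := Subgroup.centralizer ({L.i₁} : Set G)) ?_))
    have := hwi.inv_left.mul_left (hc _ hi)
    rw [inv_mul_cancel_left] at this
    exact Subgroup.mem_centralizer_singleton_iff.2 this.eq
  obtain ⟨m, rfl⟩ := hk
  rw [zpow_mul, zpow_ofNat, L.cube_p, one_zpow, mul_one] at hc ⊢
  obtain ⟨a, b, c, rfl⟩ := L.J'_form hw
  have e := L.conj_p_form a b c
  rw [(hc _ hp).symm.eq, mul_inv_cancel_right] at e
  have e2 : L.i₁ ^ c = L.z ^ (b + c) := by
    have e' : L.z ^ a * L.i₁ ^ b = L.z ^ (a + b + c) * L.i₁ ^ (b - c) := mul_right_cancel e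
    calc L.i₁ ^ c = (L.z ^ a)⁻¹ * (L.z ^ a * L.i₁ ^ b) * L.i₁ ^ (c - b) := by group
      _ = _ := by rw [e']; group
  have hc3 : (3 : ℤ) ∣ c := by
    by_contra hc3
    exact L.i₁_not_Z (zpow_mem_imp L.cube_i₁ hc3 (e2 ▸ Subgroup.mem_zpowers_iff.2 ⟨_, rfl⟩))
  obtain ⟨c', rfl⟩ := hc3
  have hb : (3 : ℤ) ∣ b := by
    rw [zpow_mul, zpow_ofNat, L.cube_i₁, one_zpow] at e2
    have := (zpow_eq_one_iff_three L.cube_z L.z_ne).1 e2.symm
    omega
  obtain ⟨b', rfl⟩ := hb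
  simp only [zpow_mul, zpow_ofNat, L.cube_y, L.cube_i₁, one_zpow, mul_one]
  exact Subgroup.mem_zpowers_iff.2 ⟨a, rfl⟩

/-- A `3`-subgroup of `C(u)` containing `R` is `R`. -/
theorem sylow_u (hm : L.m = 2) {P : Subgroup G} (hP : IsPGroup 3 P) (hu : ∀ x ∈ P, Commute L.u x)
    (hR : L.R ≤ P) : P = L.R := by
  haveI : Fact (Nat.Prime 3) := ⟨Nat.prime_three⟩
  have hCu : ∀ Q : Subgroup G, Q ≤ P → (∀ x ∈ Q, Commute L.z x) → L.R ≤ Q → Q = L.R := fun Q hQ hz hRQ => by
    refine (Subgroup.eq_of_le_of_card_ge hRQ ?_).symm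
    by_contra hlt
    obtain ⟨n, hn⟩ := IsPGroup.iff_card.1 (hP.to_le hQ)
    have h81 := L.card_R
    refine L.no_243_u hm (P := Q) (fun x hx => ⟨Subgroup.mem_centralizer_singleton_iff.2 (hz x hx).eq.symm,
      Subgroup.mem_centralizer_singleton_iff.2 (hu x (hQ hx)).eq.symm⟩) ?_
    rw [hn, show (243 : ℕ) = 3 ^ 5 by norm_num]
    refine pow_dvd_pow 3 ?_
    by_contra hn5
    have : 3 ^ n ≤ 3 ^ 4 := Nat.pow_le_pow_right (by norm_num) (by omega)
    omega
  haveI : Nontrivial P := (Subgroup.nontrivial_iff_ne_bot P).2 fun e =>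
    L.z_ne ((Subgroup.eq_bot_iff_forall P).1 e L.z (hR (Subgroup.subset_closure (by simp))))
  haveI : Nontrivial (Subgroup.center P) := hP.center_nontrivial
  obtain ⟨⟨w, hwc⟩, hw1⟩ := exists_ne (1 : Subgroup.center P)
  have hwP : ∀ r ∈ P, Commute (w : G) r := fun r hr =>
    congrArg Subtype.val (Subgroup.mem_center_iff.1 hwc ⟨r, hr⟩).symm
  have hzP : L.z ∈ P := hR (Subgroup.subset_closure (by simp))
  have e : L.R ⊔ Subgroup.zpowers (w : G) = L.R := by
    refine hCu _ (sup_le hR (Subgroup.zpowers_le.2 w.2)) (fun x hx => ?_) le_sup_left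
    have hle : L.R ⊔ Subgroup.zpowers (w : G) ≤ Subgroup.centralizer ({L.z} : Set G) := sup_le
      (fun r hr => Subgroup.mem_centralizer_singleton_iff.2 (L.R_comm_z hr).eq.symm)
      (Subgroup.zpowers_le.2 (Subgroup.mem_centralizer_singleton_iff.2 (hwP _ hzP).eq))
    exact (Subgroup.mem_centralizer_singleton_iff.1 (hle hx)).symm
  obtain ⟨n, hn⟩ := Subgroup.mem_zpowers_iff.1 (L.center_R (e ▸ Subgroup.mem_sup_right (Subgroup.mem_zpowers _))
    fun r hr => hwP r (hR hr))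
  have hn3 : ¬ (3 : ℤ) ∣ n := fun h => hw1 (Subtype.ext (Subtype.ext (by
    show (w : G) = 1
    rw [← hn, zpow_eq_one_iff_three L.cube_z L.z_ne]; exact h)))
  have hz : L.z ∈ Subgroup.centralizer (P : Set G) := zpow_mem_imp L.cube_z hn3
    (hn ▸ Subgroup.mem_centralizer_iff.2 fun r hr => (hwP r hr).eq.symm)
  exact hCu P le_rfl (fun x hx => ((Subgroup.mem_centralizer_iff.1 hz) x hx).symm) hR

/-- A `3`-subgroup of `C(u)` is conjugate into `R` there. -/
theorem exists_conj_R (hm : L.m = 2) {P : Subgroup G} (hP : IsPGroup 3 P) (hu : ∀ x ∈ P, Commute L.u x) :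
    ∃ h : G, Commute L.u h ∧ ∀ x ∈ P, h * x * h⁻¹ ∈ L.R := by
  haveI : Fact (Nat.Prime 3) := ⟨Nat.prime_three⟩
  set C := Subgroup.centralizer ({L.u} : Set G)
  have hmem : ∀ {x}, Commute L.u x → x ∈ C := fun h => Subgroup.mem_centralizer_singleton_iff.2 h.eq.symm
  have hPC : P ≤ C := fun x hx => hmem (hu x hx)
  have hRC : L.R ≤ C := fun x hx => hmem (L.R_comm_u hx)
  have hR3 : IsPGroup 3 L.R := L.S_pgroup.to_le L.R_le_S
  obtain ⟨T, hT⟩ := (hR3.comap_subtype : IsPGroup 3 (L.R.subgroupOf C)).exists_le_sylow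
  obtain ⟨T', hT'⟩ := (hP.comap_subtype : IsPGroup 3 (P.subgroupOf C)).exists_le_sylow
  obtain ⟨g, hg⟩ := MulAction.exists_smul_eq C T' T
  have hTR : (T : Subgroup C).map C.subtype = L.R := by
    refine L.sylow_u hm (T.2.map _) (fun x hx => ?_) (fun x hx => ⟨⟨x, hRC hx⟩, hT hx, rfl⟩)
    obtain ⟨y, -, rfl⟩ := hx
    exact (Subgroup.mem_centralizer_singleton_iff.1 y.2).symm
  refine ⟨g, (Subgroup.mem_centralizer_singleton_iff.1 g.2).symm, fun x hx => ?_⟩
  rw [← hTR]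
  refine ⟨g * ⟨x, hPC hx⟩ * g⁻¹, ?_, rfl⟩
  rw [← hg]
  exact Subgroup.smul_mem_pointwise_smul _ (MulAut.conj g) _ (hT' (show (⟨x, hPC hx⟩ : C) ∈ P.subgroupOf C from hx))

/-- Every element of order three of `C(u)` is conjugate into `⟨z, i₁, y⟩` there. -/
theorem exists_conj_J' (hm : L.m = 2) {x : G} (hx : x ^ 3 = 1) (hu : Commute L.u x) :
    ∃ h : G, Commute L.u h ∧ h * x * h⁻¹ ∈ L.J' := by
  classical
  haveI : Fact (Nat.Prime 3) := ⟨Nat.prime_three⟩
  have hP : IsPGroup 3 (Subgroup.zpowers x) := by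
    rintro ⟨w, hw⟩
    obtain ⟨n, rfl⟩ := Subgroup.mem_zpowers_iff.1 hw
    exact ⟨1, Subtype.ext (by rw [pow_one, SubgroupClass.coe_pow, ← zpow_natCast, ← zpow_mul, mul_comm,
      zpow_mul, zpow_natCast, hx, one_zpow]; rfl)⟩
  obtain ⟨h, hh, hin⟩ := L.exists_conj_R hm hP fun w hw => by
    obtain ⟨n, rfl⟩ := Subgroup.mem_zpowers_iff.1 hw
    exact hu.zpow_right n
  set v := h * x * h⁻¹ with hv
  have hv3 : v ^ 3 = 1 := by rw [hv, conj_pow, hx]; group
  -- an element outside `⟨z, i₁, y⟩` lies in `⟨z, i₁, p⟩`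
  have key : ∀ w ∈ L.J', (w * L.p) ^ 3 = 1 → w * L.p ∈ Subgroup.closure {L.z, L.i₁, L.p} := by
    intro w hw h3
    obtain ⟨a, b, c, rfl⟩ := L.J'_form hw
    set w := L.z ^ a * L.i₁ ^ b * L.y ^ c
    have e1 := L.conj_p_form a b c
    have e2 := L.conj_p_form (a + b + c) (b - c) c
    rw [← e1] at e2
    have e : (w * L.p) ^ 3 = w * (L.p * w * L.p⁻¹) * (L.p * (L.p * w * L.p⁻¹) * L.p⁻¹) * L.p ^ 3 := by
      rw [pow_three]; group
    rw [e, L.cube_p, mul_one, e2, e1] at h3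
    have hc : (L.z ^ a * L.i₁ ^ b * L.y ^ c) * (L.z ^ (a + b + c) * L.i₁ ^ (b - c) * L.y ^ c) *
        (L.z ^ (a + b + c + (b - c) + c) * L.i₁ ^ (b - c - c) * L.y ^ c) =
        L.z ^ (3 * a + 3 * b + 2 * c) * L.i₁ ^ (3 * b - 3 * c) * L.y ^ (3 * c) := by
      have k1 : ∀ m n : ℤ, Commute (L.y ^ m) (L.z ^ n) := fun m n => L.comm_zy.symm.zpow_zpow m n
      have k2 : ∀ m n : ℤ, Commute (L.y ^ m) (L.i₁ ^ n) := fun m n => L.comm_yi₁.zpow_zpow m n
      have k3 : ∀ m n : ℤ, Commute (L.i₁ ^ m) (L.z ^ n) := fun m n => L.comm_zi₁.symm.zpow_zpow m n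
      have step : ∀ a b c a' b' c' : ℤ, (L.z ^ a * L.i₁ ^ b * L.y ^ c) * (L.z ^ a' * L.i₁ ^ b' * L.y ^ c') =
          L.z ^ (a + a') * L.i₁ ^ (b + b') * L.y ^ (c + c') := by
        intro a b c a' b' c'
        calc L.z ^ a * L.i₁ ^ b * L.y ^ c * (L.z ^ a' * L.i₁ ^ b' * L.y ^ c')
            = L.z ^ a * L.i₁ ^ b * (L.y ^ c * L.z ^ a') * L.i₁ ^ b' * L.y ^ c' := by group
          _ = L.z ^ a * (L.i₁ ^ b * L.z ^ a') * (L.y ^ c * L.i₁ ^ b') * L.y ^ c' := by rw [(k1 c a').eq]; group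
          _ = _ := by rw [(k3 b a').eq, (k2 c b').eq, zpow_add, zpow_add, zpow_add]; group
      rw [step, step]
      congr 2 <;> [congr 1; skip; skip] <;> ring
    rw [hc] at h3
    simp only [zpow_mul, zpow_ofNat, L.cube_y, L.cube_z, L.cube_i₁, one_zpow, mul_one,
      sub_eq_add_neg, zpow_add, zpow_neg, one_mul, inv_one] at h3
    have hc3 : (3 : ℤ) ∣ c := by
      have := (zpow_eq_one_iff_three L.cube_z L.z_ne (n := 2 * c)).1 (by rw [zpow_mul, zpow_ofNat]; exact h3)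
      omega
    obtain ⟨c', rfl⟩ := hc3
    refine mul_mem ?_ (Subgroup.subset_closure (by simp))
    simp only [w, zpow_mul, zpow_ofNat, L.cube_y, one_zpow, mul_one]
    exact mul_mem (zpow_mem (Subgroup.subset_closure (by simp)) _) (zpow_mem (Subgroup.subset_closure (by simp)) _)
  set Q₁ := Subgroup.closure {L.z, L.i₁, L.p}
  obtain ⟨w, hw, k, hk⟩ := L.eq_pow_form (hin x (Subgroup.mem_zpowers x))
  rw [← hv] at hk
  have hpk : ∀ n : ℤ, L.p ^ n = L.p ^ (n % 3) := fun n => by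
    conv_lhs => rw [← Int.emod_add_mul_ediv n 3, zpow_add, zpow_mul, zpow_ofNat, L.cube_p, one_zpow, mul_one]
  rcases (show k % 3 = 0 ∨ k % 3 = 1 ∨ k % 3 = 2 by omega) with h0 | h1 | h2
  · refine ⟨h, hh, ?_⟩
    rw [hpk, h0, zpow_zero, mul_one] at hk
    show v ∈ L.J'
    rw [hk]; exact hw
  all_goals
    suffices hQ : v ∈ Q₁ by
      obtain ⟨o, ho, m, hm'⟩ : ∃ o ∈ L.O, ∃ m : ℕ, v = L.z ^ m * (o * L.i₁ * o⁻¹) := by
        let f : L.O × ZMod 3 → G := fun q => L.z ^ q.2.val * ((q.1 : G) * L.i₁ * (q.1 : G)⁻¹)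
        have hfQ : ∀ q, f q ∈ (Q₁ : Set G) \ Subgroup.zpowers L.z := fun q => by
          refine ⟨mul_mem (pow_mem (Subgroup.subset_closure (by simp)) _) ?_, fun hc => ?_⟩
          · exact (L.O_Q q.1 q.1.2).2
          · have h1 : (q.1 : G) * L.i₁ * (q.1 : G)⁻¹ ∈ Subgroup.zpowers L.z :=
              (Subgroup.mul_mem_cancel_left _ (pow_mem (Subgroup.mem_zpowers _) _)).1 hc
            obtain ⟨n, hn⟩ := Subgroup.mem_zpowers_iff.1 h1
            refine L.i₁_not_Z (Subgroup.mem_zpowers_iff.2 ⟨n, ?_⟩)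
            calc L.z ^ n = (q.1 : G)⁻¹ * L.z ^ n * q.1 := by
                  rw [((L.O_comm q.1 q.1.2).1.inv_left.zpow_right n).eq, inv_mul_cancel_right]
              _ = _ := by rw [hn]; group
        have hinj : Function.Injective f := by
          rintro ⟨o, j⟩ ⟨o', j'⟩ e
          have hv' : (o' : G)⁻¹ * o ∈ L.O := mul_mem (inv_mem o'.2) o.2
          have hc : ∀ n : ℕ, (o' : G)⁻¹ * L.z ^ n = L.z ^ n * (o' : G)⁻¹ := fun n =>
            ((L.O_comm o' o'.2).1.inv_left.pow_right n).eq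
          have e' : L.z ^ j.val * ((o' : G)⁻¹ * o * L.i₁ * ((o' : G)⁻¹ * o)⁻¹) = L.z ^ j'.val * L.i₁ := by
            calc L.z ^ j.val * ((o' : G)⁻¹ * o * L.i₁ * ((o' : G)⁻¹ * o)⁻¹)
                = (L.z ^ j.val * (o' : G)⁻¹) * ((o : G) * L.i₁ * (o : G)⁻¹) * o' := by group
              _ = (o' : G)⁻¹ * (L.z ^ j.val * ((o : G) * L.i₁ * (o : G)⁻¹)) * o' := by rw [← hc]; group
              _ = (o' : G)⁻¹ * (L.z ^ j'.val * ((o' : G) * L.i₁ * (o' : G)⁻¹)) * o' :=
                    congrArg (fun t => (o' : G)⁻¹ * t * o') e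
              _ = _ := by rw [← mul_assoc (o' : G)⁻¹, hc]; group
          have h1 : (o' : G)⁻¹ * o = 1 := L.O_free hv' (by
            rw [show ((o' : G)⁻¹ * o * L.i₁ * ((o' : G)⁻¹ * o)⁻¹) * L.i₁⁻¹ =
              (L.z ^ j.val)⁻¹ * (L.z ^ j.val * ((o' : G)⁻¹ * o * L.i₁ * ((o' : G)⁻¹ * o)⁻¹)) * L.i₁⁻¹ by group, e',
              ← mul_assoc, mul_inv_cancel_right]
            exact mul_mem (inv_mem (pow_mem (Subgroup.mem_zpowers _) _)) (pow_mem (Subgroup.mem_zpowers _) _))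
          rw [h1, one_mul, inv_one, mul_one] at e'
          exact Prod.ext (Subtype.ext (inv_mul_eq_one.1 h1).symm) (pow_val_inj L.cube_z L.z_ne (mul_right_cancel e'))
        have hQcard : Nat.card Q₁ ≤ 27 := by
          let g : ZMod 3 × ZMod 3 × ZMod 3 → G := fun q => L.z ^ q.1.val * L.i₁ ^ q.2.1.val * L.p ^ q.2.2.val
          have hg : (Q₁ : Set G) ⊆ Set.range g := by
            intro q hq
            have hone : (1 : G) ∈ Set.range g := ⟨(0, 0, 0), by simp [g]⟩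
            have hstep : ∀ s ∈ ({L.z, L.i₁, L.p} : Set G), ∀ q ∈ Set.range g, q * s ∈ Set.range g := by
              rintro s hs _ ⟨⟨a, b, c⟩, rfl⟩
              have hzz : Commute L.z (L.i₁ ^ b.val * L.p ^ c.val) :=
                (L.comm_zi₁.pow_right _).mul_right (L.comm_zp.pow_right _)
              rcases hs with rfl | rfl | rfl
              · refine ⟨(a + 1, b, c), ?_⟩
                simp only [g, pow_val_add L.cube_z a 1, ZMod.val_one, pow_one]
                calc L.z ^ a.val * L.z * L.i₁ ^ b.val * L.p ^ c.val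
                    = L.z ^ a.val * (L.z * (L.i₁ ^ b.val * L.p ^ c.val)) := by group
                  _ = _ := by rw [hzz.eq]; group
              · refine ⟨(a + c, b + 1, c), ?_⟩
                simp only [g, pow_val_add L.cube_z a c, pow_val_add L.cube_i₁ b 1, ZMod.val_one, pow_one]
                have hpi : L.p ^ c.val * L.i₁ = L.z ^ c.val * L.i₁ * L.p ^ c.val := by
                  rw [← L.conj_i₁_pow]; group
                have hzb : Commute (L.z ^ c.val) (L.i₁ ^ b.val) := L.comm_zi₁.pow_pow _ _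
                calc L.z ^ a.val * L.z ^ c.val * (L.i₁ ^ b.val * L.i₁) * L.p ^ c.val
                    = L.z ^ a.val * (L.z ^ c.val * L.i₁ ^ b.val) * L.i₁ * L.p ^ c.val := by group
                  _ = L.z ^ a.val * L.i₁ ^ b.val * (L.z ^ c.val * L.i₁ * L.p ^ c.val) := by rw [hzb.eq]; group
                  _ = _ := by rw [← hpi]; group
              · refine ⟨(a, b, c + 1), ?_⟩
                simp only [g, pow_val_add L.cube_p c 1, ZMod.val_one, pow_one]
                group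
            have hinvs : ∀ s ∈ ({L.z, L.i₁, L.p} : Set G), s⁻¹ = s * s := fun s hs => by
              refine inv_eq_of_mul_eq_one_right ?_
              rw [← mul_assoc, ← pow_two, ← pow_succ]
              rcases hs with rfl | rfl | rfl; exacts [L.cube_z, L.cube_i₁, L.cube_p]
            induction hq using Subgroup.closure_induction_right with
            | one => exact hone
            | mul_right q _ s hs ih => exact hstep s hs q ih
            | mul_inv_cancel q _ s hs ih =>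
              rw [hinvs s hs, ← mul_assoc]
              exact hstep s hs _ (hstep s hs q ih)
          have h1 := Set.ncard_le_ncard hg (Set.toFinite _)
          have h2 : (Set.range g).ncard ≤ 27 := by
            rw [← Nat.card_coe_set_eq]
            exact (Finite.card_range_le g).trans (by simp)
          rw [← Nat.card_coe_set_eq] at h1
          exact h1.trans h2
        have hZQ : (Subgroup.zpowers L.z : Set G) ⊆ Q₁ := Subgroup.zpowers_le.2 (Subgroup.subset_closure (by simp))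
        have hsub : Set.range f ⊆ (Q₁ : Set G) \ Subgroup.zpowers L.z := by rintro _ ⟨q, rfl⟩; exact hfQ q
        have heq := Set.eq_of_subset_of_ncard_le hsub (by
          rw [Set.ncard_sdiff hZQ (Set.toFinite _), ← Nat.card_coe_set_eq, ← Nat.card_coe_set_eq,
            ← Nat.card_coe_set_eq, Nat.card_range_of_injective hinj, Nat.card_prod, L.card_O, Nat.card_zmod]
          have : Nat.card (Subgroup.zpowers L.z : Set G) = 3 := by
            show Nat.card (Subgroup.zpowers L.z) = 3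
            rw [Nat.card_zpowers, orderOf_eq_prime L.cube_z L.z_ne]
          rw [this]
          show Nat.card Q₁ - 3 ≤ 8 * 3
          omega) (Set.toFinite _)
        have hvZ : v ∉ Subgroup.zpowers L.z := fun hvz => by
          have : L.p ^ k ∈ L.J := by
            have : L.p ^ k = w⁻¹ * v := by rw [hk]; group
            rw [this]
            refine mul_mem (inv_mem (L.J'_le_J hw)) ?_
            exact (Subgroup.zpowers_le.2 L.mem_gens.2.2.2.2.2.2.1) hvz
          exact L.p_not_J (zpow_mem_imp L.cube_p (by omega) this)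
        obtain ⟨q, hq⟩ : v ∈ Set.range f := heq.symm ▸ ⟨hQ, hvZ⟩
        exact ⟨q.1, q.1.2, q.2.val, hq.symm⟩
      refine ⟨o⁻¹ * h, (L.u_O o ho).inv_right.mul_right hh, ?_⟩
      have : o⁻¹ * h * x * (o⁻¹ * h)⁻¹ = L.z ^ m * L.i₁ := by
        calc o⁻¹ * h * x * (o⁻¹ * h)⁻¹ = o⁻¹ * v * o := by rw [hv]; group
          _ = o⁻¹ * L.z ^ m * o * L.i₁ := by rw [hm']; group
          _ = _ := by rw [((L.O_comm o ho).1.inv_left.pow_right m).eq, inv_mul_cancel_right]
      rw [this]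
      exact mul_mem (pow_mem (Subgroup.subset_closure (by simp)) _) (Subgroup.subset_closure (by simp))
  · rw [hpk, h1, zpow_one] at hk
    exact hk ▸ key w hw (hk ▸ hv3)
  · rw [hpk, h2] at hk
    have hn : L.p * w⁻¹ * L.p⁻¹ ∈ L.J' := by
      obtain ⟨a, b, c, hform⟩ := L.J'_form (inv_mem hw)
      rw [hform, L.conj_p_form]
      exact mul_mem (mul_mem (zpow_mem (Subgroup.subset_closure (by simp)) _)
        (zpow_mem (Subgroup.subset_closure (by simp)) _)) (zpow_mem (Subgroup.subset_closure (by simp)) _)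
    have hp2 : L.p ^ (2 : ℤ) = L.p⁻¹ := by
      rw [zpow_ofNat]
      exact (inv_eq_of_mul_eq_one_left (by rw [← pow_succ]; exact L.cube_p)).symm
    have hvi : v⁻¹ = L.p * w⁻¹ * L.p⁻¹ * L.p := by rw [hk, hp2]; group
    rw [← inv_inv v]
    refine inv_mem ?_
    rw [hvi]
    exact key _ hn (by rw [← hvi, inv_pow, hv3, inv_one])

/-- The commutator of two elements of a subgroup of `C(z)` generated by elements with commutators in `⟨z⟩`. -/
theorem comm_mem_Z {s : Set G} (hs : ∀ g ∈ s, Commute L.z g)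
    (h : ∀ g ∈ s, ∀ g' ∈ s, g * g' * g⁻¹ * g'⁻¹ ∈ Subgroup.zpowers L.z) {x y : G} (hx : x ∈ Subgroup.closure s)
    (hy : y ∈ Subgroup.closure s) : x * y * x⁻¹ * y⁻¹ ∈ Subgroup.zpowers L.z := by
  have hzc : ∀ x ∈ Subgroup.closure s, ∀ c ∈ Subgroup.zpowers L.z, Commute x c := by
    intro x hx c hc
    obtain ⟨n, rfl⟩ := Subgroup.mem_zpowers_iff.1 hc
    refine Commute.zpow_right ?_ n
    induction hx using Subgroup.closure_induction with
    | mem w hw => exact (hs w hw).symm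
    | one => exact Commute.one_left _
    | mul _ _ _ _ h1 h2 => exact h1.mul_left h2
    | inv _ _ h => exact h.inv_left
  have hl : ∀ y ∈ Subgroup.closure s, (∀ g ∈ s, g * y * g⁻¹ * y⁻¹ ∈ Subgroup.zpowers L.z) →
      ∀ x ∈ Subgroup.closure s, x * y * x⁻¹ * y⁻¹ ∈ Subgroup.zpowers L.z := by
    intro y hy hg x hx
    induction hx using Subgroup.closure_induction with
    | mem w hw => exact hg w hw
    | one => simp
    | mul a b ha hb iha ihb =>
      have e : a * b * y * (a * b)⁻¹ * y⁻¹ = a * (b * y * b⁻¹ * y⁻¹) * a⁻¹ * (a * y * a⁻¹ * y⁻¹) := by group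
      rw [e, (hzc a ha _ ihb).eq, mul_inv_cancel_right]
      exact mul_mem ihb iha
    | inv a ha iha =>
      have e : a⁻¹ * y * a⁻¹⁻¹ * y⁻¹ = a⁻¹ * (a * y * a⁻¹ * y⁻¹)⁻¹ * a := by group
      rw [e, (hzc _ (inv_mem ha) _ (inv_mem iha)).eq, inv_mul_cancel_right]
      exact inv_mem iha
  refine hl y hy (fun g hg => ?_) x hx
  have h' := hl g (Subgroup.subset_closure hg) (fun g' hg' => h g' hg' g hg) y hy
  have := inv_mem h'
  rwa [show (y * g * y⁻¹ * g⁻¹)⁻¹ = g * y * g⁻¹ * y⁻¹ by group] at this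

theorem no_243_a (hm : L.m = 2) {P : Subgroup G} (hP : P ≤ L.C ⊓ Subgroup.centralizer ({L.a} : Set G)) :
    ¬ 243 ∣ Nat.card P := by
  obtain ⟨-, -, h3, h4, -, -, -, -⟩ := L.gens_C
  refine L.no_243 hm (fun w hw => (L.O_comm w hw).2.1)
    (fun q : ZMod 3 × ZMod 3 => L.i₂ ^ q.1.val * L.y ^ q.2.val * L.a * (L.i₂ ^ q.1.val * L.y ^ q.2.val)⁻¹)
    (fun q => ⟨_, mul_mem (pow_mem h3 _) (pow_mem h4 _), rfl⟩) ?_ hP
  have hi : ∀ k : ℕ, L.i₂ ^ k * L.a * (L.i₂ ^ k)⁻¹ = L.z ^ k * L.a := fun k => by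
    simpa using L.i₂_a_pow 1 k
  have hy : ∀ k : ℕ, ∃ n : ℤ, L.y ^ k * L.a * (L.y ^ k)⁻¹ = L.z ^ n * L.a * L.i₂ ^ k := by
    intro k
    induction k with
    | zero => exact ⟨0, by simp⟩
    | succ k ih =>
      obtain ⟨n, hn⟩ := ih
      refine ⟨n - 1, ?_⟩
      calc L.y ^ (k + 1) * L.a * (L.y ^ (k + 1))⁻¹
          = L.y * (L.y ^ k * L.a * (L.y ^ k)⁻¹) * L.y⁻¹ := by rw [pow_succ']; group
        _ = (L.y * L.z ^ n) * L.a * (L.i₂ ^ k * L.y⁻¹) := by rw [hn]; group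
        _ = L.z ^ n * (L.y * L.a * L.y⁻¹) * L.i₂ ^ k := by
            rw [(L.comm_zy.symm.zpow_right n).eq, ((L.comm_yi₂.symm.pow_left k).inv_right).eq]; group
        _ = L.z ^ n * L.a * (L.i₂ * L.z⁻¹) * L.i₂ ^ k := by rw [L.rel_ya]; group
        _ = L.z ^ n * (L.a * L.z⁻¹) * L.i₂ * L.i₂ ^ k := by rw [← (L.comm_zi₂.inv_left).eq]; group
        _ = _ := by rw [← (L.comm_za.inv_left).eq, zpow_sub, zpow_one, pow_succ']; group
  rintro ⟨j, k⟩ ⟨j', k'⟩ e
  obtain ⟨n, hn⟩ := hy k.val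
  obtain ⟨n', hn'⟩ := hy k'.val
  have conv : ∀ (j k : ℕ) (n : ℤ), L.y ^ k * L.a * (L.y ^ k)⁻¹ = L.z ^ n * L.a * L.i₂ ^ k →
      L.i₂ ^ j * L.y ^ k * L.a * (L.i₂ ^ j * L.y ^ k)⁻¹ = L.z ^ (n + j) * L.a * L.i₂ ^ k := by
    intro j k n h
    calc L.i₂ ^ j * L.y ^ k * L.a * (L.i₂ ^ j * L.y ^ k)⁻¹
        = L.i₂ ^ j * (L.y ^ k * L.a * (L.y ^ k)⁻¹) * (L.i₂ ^ j)⁻¹ := by group
      _ = L.i₂ ^ j * L.z ^ n * L.a * (L.i₂ ^ j)⁻¹ * L.i₂ ^ k := by
          rw [h]
          group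
      _ = L.z ^ n * (L.i₂ ^ j * L.a * (L.i₂ ^ j)⁻¹) * L.i₂ ^ k := by
          rw [((L.comm_zi₂.symm.pow_left j).zpow_right n).eq]; group
      _ = _ := by rw [hi, zpow_add, zpow_natCast]; group
  simp only [conv _ _ _ hn, conv _ _ _ hn'] at e
  have hk : k = k' := by
    by_contra hne
    have h1 := ZMod.val_lt k
    have h2 := ZMod.val_lt k'
    have hd : ¬ (3 : ℤ) ∣ (k.val : ℤ) - k'.val := fun hd => hne (ZMod.val_injective 3 (by omega))
    refine L.i₂_not_Z (zpow_mem_imp L.cube_i₂ hd ?_)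
    have e2 : L.i₂ ^ ((k.val : ℤ) - k'.val) = L.z ^ ((n' + j'.val) - (n + j.val)) := by
      have hza : Commute (L.z ^ ((n' + (j'.val : ℤ)) - (n + j.val))) L.a := L.comm_za.zpow_left _
      calc L.i₂ ^ ((k.val : ℤ) - k'.val)
          = L.a⁻¹ * (L.z ^ (n + (j.val : ℤ)))⁻¹ * (L.z ^ (n + (j.val : ℤ)) * L.a * L.i₂ ^ k.val) *
              (L.i₂ ^ k'.val)⁻¹ := by rw [zpow_sub, zpow_natCast, zpow_natCast]; group
        _ = L.a⁻¹ * L.z ^ ((n' + (j'.val : ℤ)) - (n + j.val)) * L.a := by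
              rw [e]; group
        _ = _ := by rw [mul_assoc, hza.eq, inv_mul_cancel_left]
    exact e2 ▸ Subgroup.mem_zpowers_iff.2 ⟨_, rfl⟩
  subst hk
  have hn0 : L.z ^ n = L.z ^ n' := mul_right_cancel (mul_right_cancel (hn.symm.trans hn'))
  have hz := mul_right_cancel (mul_right_cancel e)
  rw [zpow_add, zpow_add, hn0] at hz
  have hd : (3 : ℤ) ∣ (j.val : ℤ) - j'.val := by
    refine (zpow_eq_one_iff_three L.cube_z L.z_ne).1 ?_
    rw [zpow_sub, mul_left_cancel hz, mul_inv_cancel]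
  have h1 := ZMod.val_lt j
  have h2 := ZMod.val_lt j'
  exact Prod.ext (ZMod.val_injective 3 (show j.val = j'.val by omega)) rfl

/-- No conjugate of `a` lies in `J`. -/
theorem a_conj_not_J (hm : L.m = 2) (g : G) : g * L.a * g⁻¹ ∉ L.J := by
  classical
  haveI : Fact (Nat.Prime 3) := ⟨Nat.prime_three⟩
  intro hg
  set C := Subgroup.centralizer ({L.a} : Set G)
  set P := Subgroup.closure {L.z, L.i₁, L.p, L.a} with hP
  have hPS : P ≤ L.S := Subgroup.closure_mono (by simp [Set.insert_subset_iff])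
  have hPC : P ≤ C := (Subgroup.closure_le _).2 (by
    rintro x (rfl | rfl | rfl | rfl) <;> rw [SetLike.mem_coe, Subgroup.mem_centralizer_singleton_iff]
    exacts [L.comm_za, L.comm_ai₁.symm, L.comm_pa])
  have hP81 : 81 ≤ Nat.card P := by
    set P₀ := Subgroup.closure {L.z, L.i₁, L.p}
    have h1 : 3 ≤ Nat.card (Subgroup.zpowers L.z) := by rw [Nat.card_zpowers, orderOf_eq_prime L.cube_z L.z_ne]
    have lt1 : Subgroup.zpowers L.z < Subgroup.closure {L.z, L.i₁} := lt_of_le_of_ne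
      (Subgroup.zpowers_le.2 (Subgroup.subset_closure (by simp))) fun e =>
        L.i₁_not_Z (e ▸ Subgroup.subset_closure (by simp))
    have hJ2 : Subgroup.closure {L.z, L.i₁} ≤ L.J := Subgroup.closure_mono (by simp [Set.insert_subset_iff])
    have lt2 : Subgroup.closure {L.z, L.i₁} < P₀ := lt_of_le_of_ne
      (Subgroup.closure_mono (by simp [Set.insert_subset_iff])) fun e =>
        L.p_not_J (hJ2 (e ▸ Subgroup.subset_closure (by simp)))
    have hP0 : P₀ ≤ Subgroup.centralizer ({L.i₂} : Set G) := (Subgroup.closure_le _).2 (by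
      rintro x (rfl | rfl | rfl) <;> rw [SetLike.mem_coe, Subgroup.mem_centralizer_singleton_iff]
      exacts [L.comm_zi₂, L.comm_i₁i₂, L.comm_pi₂])
    have lt3 : P₀ < P := lt_of_le_of_ne (Subgroup.closure_mono (by simp [Set.insert_subset_iff])) fun e =>
      L.a_not_comm (Subgroup.mem_centralizer_singleton_iff.1 (hP0 (e ▸ Subgroup.subset_closure (by simp))))
    have a1 := card_mul_three_le L.S_pgroup (hJ2.trans (Subgroup.closure_mono (by simp [Set.insert_subset_iff]))) lt1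
    have a2 := card_mul_three_le L.S_pgroup (lt3.le.trans hPS) lt2
    have a3 := card_mul_three_le L.S_pgroup hPS lt3
    omega
  have hPcomm : ∀ x ∈ P, ∀ y ∈ P, x * y * x⁻¹ * y⁻¹ ∈ Subgroup.zpowers L.z := fun x hx y hy =>
    L.comm_mem_Z (s := {L.z, L.i₁, L.p, L.a}) (by
      rintro g (rfl | rfl | rfl | rfl); exacts [Commute.refl _, L.comm_zi₁, L.comm_zp, L.comm_za]) (by
      have hp : L.p * L.i₁ * L.p⁻¹ * L.i₁⁻¹ ∈ Subgroup.zpowers L.z := by
        rw [L.rel_p]; exact Subgroup.mem_zpowers _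
      have hp' : L.i₁ * L.p * L.i₁⁻¹ * L.p⁻¹ ∈ Subgroup.zpowers L.z := by
        have := inv_mem hp
        rwa [show (L.p * L.i₁ * L.p⁻¹ * L.i₁⁻¹)⁻¹ = L.i₁ * L.p * L.i₁⁻¹ * L.p⁻¹ by group] at this
      have hc : ∀ {g g' : G}, Commute g g' → g * g' * g⁻¹ * g'⁻¹ ∈ Subgroup.zpowers L.z := fun {g g'} h => by
        rw [h.eq, mul_inv_cancel_right, mul_inv_cancel]; exact one_mem _
      rintro g (rfl | rfl | rfl | rfl) g' (rfl | rfl | rfl | rfl)
      exacts [hc (Commute.refl _), hc L.comm_zi₁, hc L.comm_zp, hc L.comm_za, hc L.comm_zi₁.symm,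
        hc (Commute.refl _), hp', hc L.comm_ai₁.symm, hc L.comm_zp.symm, hp, hc (Commute.refl _), hc L.comm_pa,
        hc L.comm_za.symm, hc L.comm_ai₁, hc L.comm_pa.symm, hc (Commute.refl _)]) hx hy
  obtain ⟨T, hT⟩ := ((L.S_pgroup.to_le hPS).comap_subtype : IsPGroup 3 (P.subgroupOf C)).exists_le_sylow
  set Q := (T : Subgroup C).map C.subtype with hQ
  have hQ3 : IsPGroup 3 Q := T.2.map _
  have hPQ : P ≤ Q := fun x hx => ⟨⟨x, hPC hx⟩, hT hx, rfl⟩
  have hQC : Q ≤ C := Subgroup.map_subtype_le _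
  have hQP : Q = P := by
    by_contra hne
    have hlt : P.subgroupOf Q < ⊤ := lt_top_iff_ne_top.2 fun e =>
      hne (le_antisymm (Subgroup.subgroupOf_eq_top.1 e) hPQ)
    haveI : Finite Q := inferInstance
    haveI := hQ3.isNilpotent
    have hgrow := normalizerCondition_of_isNilpotent (G := Q) (P.subgroupOf Q) hlt
    set N := (Subgroup.normalizer (P.subgroupOf Q : Set Q)).map Q.subtype with hN
    have hPN : P < N := by
      have := (Subgroup.map_lt_map_iff_of_injective Q.subtype_injective).2 hgrow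
      rwa [Subgroup.map_subgroupOf_eq_of_le hPQ] at this
    have hNQ : N ≤ Q := Subgroup.map_subtype_le _
    obtain ⟨m, hm'⟩ := IsPGroup.iff_card.1 (hQ3.to_le hNQ)
    have hcl := card_mul_three_le hQ3 hNQ hPN
    refine L.no_243_a hm (P := N) (le_inf (fun n hn => ?_) (hNQ.trans hQC)) ?_
    · obtain ⟨n, hn, rfl⟩ := hn
      have hconj : ∀ x ∈ P, (n : G) * x * (n : G)⁻¹ ∈ P := fun x hx =>
        (Subgroup.mem_normalizer_iff.1 hn ⟨x, hPQ hx⟩).1 hx
      obtain ⟨k, hk⟩ : ∃ k : ℕ, (n : G) ^ 3 ^ k = 1 := by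
        obtain ⟨k, hk⟩ := hQ3 n
        exact ⟨k, congrArg Subtype.val hk⟩
      have hp := hconj L.p (Subgroup.subset_closure (by simp))
      have hi := hconj L.i₁ (Subgroup.subset_closure (by simp))
      have hz : (n : G) * L.z * (n : G)⁻¹ ∈ Subgroup.zpowers L.z := by
        have := hPcomm _ hp _ hi
        rwa [show ((n : G) * L.p * (n : G)⁻¹) * ((n : G) * L.i₁ * (n : G)⁻¹) * ((n : G) * L.p * (n : G)⁻¹)⁻¹ *
          ((n : G) * L.i₁ * (n : G)⁻¹)⁻¹ = (n : G) * (L.p * L.i₁ * L.p⁻¹ * L.i₁⁻¹) * (n : G)⁻¹ by group,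
          L.rel_p] at this
      show (n : G) ∈ L.C
      rw [Loc.C, Subgroup.mem_centralizer_singleton_iff]
      obtain ⟨j, hj⟩ := Subgroup.mem_zpowers_iff.1 hz
      have hzj : L.z ^ j = L.z ∨ L.z ^ j = L.z⁻¹ := by
        have hj3 : ¬ (3 : ℤ) ∣ j := fun hd => L.z_ne (conj_eq_one_iff.1
          (hj.symm.trans ((zpow_eq_one_iff_three L.cube_z L.z_ne).2 hd)))
        rcases (show j % 3 = 1 ∨ j % 3 = 2 by omega) with h | h <;>
          rw [← Int.emod_add_mul_ediv j 3, zpow_add, zpow_mul, zpow_ofNat, L.cube_z, one_zpow, mul_one, h]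
        · exact Or.inl (zpow_one _)
        · exact Or.inr (by rw [zpow_ofNat]
                           exact (inv_eq_of_mul_eq_one_left (by rw [← pow_succ]; exact L.cube_z)).symm)
      rw [hj] at hzj
      rcases hzj with h | h
      · calc (n : G) * L.z = (n : G) * L.z * (n : G)⁻¹ * n := by group
          _ = _ := by rw [h]
      · exfalso
        have hodd : ∀ j : ℕ, (n : G) ^ (2 * j + 1) * L.z * ((n : G) ^ (2 * j + 1))⁻¹ = L.z⁻¹ := fun j => by
          induction j with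
          | zero => rw [Nat.mul_zero, zero_add, pow_one]; exact h
          | succ j ih =>
            calc (n : G) ^ (2 * (j + 1) + 1) * L.z * ((n : G) ^ (2 * (j + 1) + 1))⁻¹
                = (n : G) * ((n : G) * ((n : G) ^ (2 * j + 1) * L.z * ((n : G) ^ (2 * j + 1))⁻¹) * (n : G)⁻¹) *
                    (n : G)⁻¹ := by
                  rw [show 2 * (j + 1) + 1 = 2 * j + 1 + 1 + 1 by ring, pow_succ', pow_succ']; group
              _ = _ := by rw [ih, ← conj_inv, h, inv_inv, h]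
        obtain ⟨j, hj'⟩ : Odd (3 ^ k) := Odd.pow (by decide)
        have e := hodd j
        rw [← hj', hk, one_mul, inv_one, mul_one] at e
        exact L.z_ne (by
          have h2 : L.z * L.z = 1 := by nth_rewrite 2 [e]; exact mul_inv_cancel _
          calc L.z = (L.z * L.z)⁻¹ * L.z ^ 3 := by group
            _ = 1 := by rw [h2, L.cube_z]; group)
    · rw [hm', show (243 : ℕ) = 3 ^ 5 by norm_num]
      refine pow_dvd_pow 3 ?_
      by_contra h5
      have : 3 ^ m ≤ 3 ^ 4 := Nat.pow_le_pow_right (by norm_num) (by omega)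
      omega
  -- a conjugate of `J` lies in the centraliser
  set A := L.J.map (MulAut.conj g⁻¹).toMonoidHom
  have hAC : A ≤ C := by
    rintro _ ⟨j, hj, rfl⟩
    rw [MulEquiv.toMonoidHom_eq_coe, MonoidHom.coe_coe, MulAut.conj_apply, Subgroup.mem_centralizer_singleton_iff,
      inv_inv]
    have hc := L.J_comm hj hg
    calc g⁻¹ * j * g * L.a = g⁻¹ * (j * (g * L.a * g⁻¹)) * g := by group
      _ = _ := by rw [hc]; group
  have hA3 : IsPGroup 3 A := (L.S_pgroup.to_le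
    (Subgroup.closure_mono (by simp [Set.insert_subset_iff]) : L.J ≤ L.S)).map _
  obtain ⟨T', hT'⟩ := (hA3.comap_subtype : IsPGroup 3 (A.subgroupOf C)).exists_le_sylow
  obtain ⟨c, hc⟩ := MulAction.exists_smul_eq C T' T
  set A' := A.map (MulAut.conj (c : G)).toMonoidHom
  have hA' : A' ≤ P := by
    rintro _ ⟨x, hx, rfl⟩
    rw [← hQP]
    refine ⟨c * ⟨x, hAC hx⟩ * c⁻¹, ?_, rfl⟩
    rw [← hc]
    exact Subgroup.smul_mem_pointwise_smul _ (MulAut.conj c) _ (hT' (show (⟨x, hAC hx⟩ : C) ∈ A.subgroupOf C from hx))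
  have hcard : Nat.card A' = 81 := by
    rw [Subgroup.card_map_of_injective (MulAut.conj (c : G)).injective,
      Subgroup.card_map_of_injective (MulAut.conj g⁻¹).injective]
    exact L.card_J
  have hPle : Nat.card P ≤ 81 := by
    obtain ⟨n, hn⟩ := IsPGroup.iff_card.1 (L.S_pgroup.to_le hPS)
    by_contra hgt
    refine L.no_243_a hm (P := P) (le_inf ((Subgroup.closure_le _).2 ?_) hPC) ?_
    · obtain ⟨h1, h2, -, -, h5, h6, -, -⟩ := L.gens_C
      rintro x (rfl | rfl | rfl | rfl) <;> assumption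
    · rw [hn, show (243 : ℕ) = 3 ^ 5 by norm_num]
      refine pow_dvd_pow 3 ?_
      by_contra h5
      have : 3 ^ n ≤ 3 ^ 4 := Nat.pow_le_pow_right (by norm_num) (by omega)
      omega
  have heq : A' = P := Subgroup.eq_of_le_of_card_ge hA' (by omega)
  have hab : ∀ x ∈ A', ∀ y ∈ A', x * y = y * x := by
    rintro _ ⟨_, ⟨x, hx, rfl⟩, rfl⟩ _ ⟨_, ⟨y, hy, rfl⟩, rfl⟩
    rw [← map_mul, ← map_mul, ← map_mul, ← map_mul, L.J_comm hx hy]
  exact L.p_not_comm (hab L.p (heq.symm ▸ Subgroup.subset_closure (by simp)) L.i₁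
    (heq.symm ▸ Subgroup.subset_closure (by simp)))

/-- `Q` is normal in the centraliser of `z` and contains the commutators with `u`. -/
theorem comm_u_mem_Q (hm : L.m = 2) {c : G} (hc : c ∈ L.C) : c * L.u * c⁻¹ * L.u⁻¹ ∈ L.Q := by
  have hz : L.z ∈ L.Q := Subgroup.subset_closure (by simp)
  have hi1 : L.i₁ ∈ L.Q := Subgroup.subset_closure (by simp)
  have hi2 : L.i₂ ∈ L.Q := Subgroup.subset_closure (by simp)
  have hp : L.p ∈ L.Q := Subgroup.subset_closure (by simp)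
  have ha : L.a ∈ L.Q := Subgroup.subset_closure (by simp)
  have hQ1 : Subgroup.closure {L.z, L.i₁, L.p} ≤ L.Q := Subgroup.closure_mono (by simp [Set.insert_subset_iff])
  have hN : ∀ c ∈ L.C, ∀ q ∈ L.Q, c * q * c⁻¹ ∈ L.Q := by
    intro c hc
    suffices c ∈ Subgroup.normalizer (L.Q : Set G) from fun q hq => (Subgroup.mem_normalizer_iff.1 this q).1 hq
    have hgen : ∀ c : G, (∀ q ∈ ({L.z, L.i₁, L.i₂, L.p, L.a} : Set G), c * q * c⁻¹ ∈ L.Q) →
        c ∈ Subgroup.normalizer (L.Q : Set G) := by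
      intro c h
      have hle : L.Q.map (MulAut.conj c).toMonoidHom ≤ L.Q := by
        rw [Loc.Q, MonoidHom.map_closure, Subgroup.closure_le]
        rintro _ ⟨q, hq, rfl⟩
        exact h q hq
      have heq := Subgroup.eq_of_le_of_card_ge hle (by rw [Subgroup.card_map_of_injective (MulAut.conj c).injective])
      rw [Subgroup.mem_normalizer_iff]
      intro q
      constructor
      · intro hq; exact hle ⟨q, hq, rfl⟩
      · intro hq
        obtain ⟨q', hq', e⟩ := heq.symm ▸ hq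
        rw [MulEquiv.toMonoidHom_eq_coe, MonoidHom.coe_coe, MulAut.conj_apply] at e
        rwa [← mul_left_cancel (mul_right_cancel e)]
    rw [show L.C = _ from L.C_eq] at hc
    refine (sup_le ((Subgroup.closure_le _).2 ?_) ?_ :
      Subgroup.closure {L.z, L.i₁, L.i₂, L.y, L.p, L.a, L.u} ⊔ L.O ≤ Subgroup.normalizer (L.Q : Set G)) hc
    · rintro g (rfl | rfl | rfl | rfl | rfl | rfl | rfl)
      iterate 3 exact Subgroup.le_normalizer (by assumption)
      · refine hgen _ ?_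
        rintro q (rfl | rfl | rfl | rfl | rfl)
        · rwa [← L.comm_zy.eq, mul_inv_cancel_right]
        · rwa [L.comm_yi₁.eq, mul_inv_cancel_right]
        · rwa [L.comm_yi₂.eq, mul_inv_cancel_right]
        · rw [L.rel_yp]; exact mul_mem (mul_mem hp hi1) hz
        · rw [L.rel_ya]; exact mul_mem (mul_mem ha hi2) (inv_mem hz)
      iterate 2 exact Subgroup.le_normalizer (by assumption)
      · refine hgen _ ?_
        rintro q (rfl | rfl | rfl | rfl | rfl)
        · rwa [L.comm_uz.eq, mul_inv_cancel_right]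
        · rwa [L.comm_ui₁.eq, mul_inv_cancel_right]
        · rw [L.u_i₂ hm]; exact inv_mem hi2
        · rwa [L.comm_up.eq, mul_inv_cancel_right]
        · rw [L.u_a hm]; exact inv_mem ha
    · intro w hw
      obtain ⟨w1, w2, w3⟩ := L.O_comm w hw
      refine hgen _ ?_
      rintro q (rfl | rfl | rfl | rfl | rfl)
      · rwa [w1.eq, mul_inv_cancel_right]
      · exact hQ1 (L.O_Q w hw).2
      · rwa [w3.eq, mul_inv_cancel_right]
      · exact hQ1 (L.O_Q w hw).1
      · rwa [w2.eq, mul_inv_cancel_right]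
  let F : Subgroup G :=
    { carrier := {c | c ∈ L.C ∧ c * L.u * c⁻¹ * L.u⁻¹ ∈ L.Q}
      one_mem' := ⟨one_mem _, by simp⟩
      mul_mem' := fun {c d} hc hd => ⟨mul_mem hc.1 hd.1, by
        rw [show c * d * L.u * (c * d)⁻¹ * L.u⁻¹ =
          c * (d * L.u * d⁻¹ * L.u⁻¹) * c⁻¹ * (c * L.u * c⁻¹ * L.u⁻¹) by group]
        exact mul_mem (hN c hc.1 _ hd.2) hc.2⟩
      inv_mem' := fun {c} hc => ⟨inv_mem hc.1, by
        rw [show c⁻¹ * L.u * c⁻¹⁻¹ * L.u⁻¹ = c⁻¹ * (c * L.u * c⁻¹ * L.u⁻¹)⁻¹ * c⁻¹⁻¹ by group]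
        exact hN _ (inv_mem hc.1) _ (inv_mem hc.2)⟩ }
  have htriv : ∀ g ∈ L.C, Commute L.u g → g ∈ F := fun g hg h => ⟨hg, by
    rw [← h.eq, mul_inv_cancel_right, mul_inv_cancel]; exact one_mem _⟩
  have hinv : ∀ g ∈ L.C, g ∈ L.Q → L.u * g * L.u⁻¹ = g⁻¹ → g ∈ F := fun g hgC hgQ h => ⟨hgC, by
    rw [show g * L.u * g⁻¹ * L.u⁻¹ = g * (L.u * g * L.u⁻¹)⁻¹ by group, h, inv_inv]
    exact mul_mem hgQ hgQ⟩
  obtain ⟨g1, g2, g3, g4, g5, g6, g7, g8⟩ := L.gens_C
  rw [show L.C = _ from L.C_eq] at hc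
  refine ((sup_le ((Subgroup.closure_le _).2 ?_) fun w hw => htriv w (g8 hw) (L.u_O w hw)) hc : c ∈ F).2
  rintro g (rfl | rfl | rfl | rfl | rfl | rfl | rfl)
  exacts [htriv _ g1 L.comm_uz, htriv _ g2 L.comm_ui₁, hinv _ g3 hi2 (L.u_i₂ hm), htriv _ g4 L.comm_uy,
    htriv _ g5 L.comm_up, hinv _ g6 ha (L.u_a hm), htriv _ g7 (Commute.refl _)]

/-- `t` and `u` are not conjugate. -/
theorem t_not_conj_u (hm : L.m = 2) (g : G) : g * L.t * g⁻¹ ≠ L.u := by
  classical
  haveI : Fact (Nat.Prime 3) := ⟨Nat.prime_three⟩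
  intro hg
  set S₂ := Subgroup.closure {L.z, L.i₂, L.y, L.a}
  have hS2 : S₂ ≤ L.S := Subgroup.closure_mono (by simp [Set.insert_subset_iff])
  have hS2t : ∀ x ∈ S₂, Commute L.t x := by
    intro x hx
    induction hx using Subgroup.closure_induction with
    | mem w hw =>
      obtain ⟨c1, c2, c3⟩ := L.O_comm L.t L.t_mem
      rcases hw with rfl | rfl | rfl | rfl
      exacts [c1, c3, L.comm_ty, c2]
    | one => exact Commute.one_right _
    | mul _ _ _ _ h1 h2 => exact h1.mul_right h2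
    | inv _ _ h => exact h.inv_right
  have hS2z : ∀ x ∈ S₂, Commute L.z x := by
    intro x hx
    induction hx using Subgroup.closure_induction with
    | mem w hw => rcases hw with rfl | rfl | rfl | rfl; exacts [Commute.refl _, L.comm_zi₂, L.comm_zy, L.comm_za]
    | one => exact Commute.one_right _
    | mul _ _ _ _ h1 h2 => exact h1.mul_right h2
    | inv _ _ h => exact h.inv_right
  have hcard : 81 ≤ Nat.card S₂ := by
    set E := Subgroup.closure {L.z, L.i₂, L.y}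
    have hEJ : E ≤ L.J := Subgroup.closure_mono (by simp [Set.insert_subset_iff])
    have hsup : L.J = E ⊔ Subgroup.zpowers L.i₁ := le_antisymm ((Subgroup.closure_le _).2 (by
      rintro x (rfl | rfl | rfl | rfl)
      exacts [Subgroup.mem_sup_left (Subgroup.subset_closure (by simp)), Subgroup.mem_sup_right (Subgroup.mem_zpowers _),
        Subgroup.mem_sup_left (Subgroup.subset_closure (by simp)),
        Subgroup.mem_sup_left (Subgroup.subset_closure (by simp))]))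
      (sup_le hEJ (Subgroup.zpowers_le.2 L.mem_gens.2.2.2.2.2.2.2.1))
    have hE : 27 ≤ Nat.card E := by
      have hle : E ≤ Subgroup.normalizer (Subgroup.zpowers L.i₁ : Set G) :=
        fun x hx => Subgroup.centralizer_le_normalizer _ (Subgroup.mem_centralizer_iff.2 fun w hw => by
          obtain ⟨n, rfl⟩ := Subgroup.mem_zpowers_iff.1 hw
          exact L.J_comm (zpow_mem L.mem_gens.2.2.2.2.2.2.2.1 n) (hEJ hx))
      let f : E × Subgroup.zpowers L.i₁ → G := fun q => (q.1 : G) * q.2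
      have hsub : (L.J : Set G) ⊆ Set.range f := fun x hx => by
        rw [hsup, Subgroup.coe_mul_of_left_le_normalizer_right E _ hle, Set.mem_mul] at hx
        obtain ⟨a, ha, b, hb, rfl⟩ := hx
        exact ⟨(⟨a, ha⟩, ⟨b, hb⟩), rfl⟩
      have h1 := Set.ncard_le_ncard hsub (Set.toFinite _)
      have h2 : (Set.range f).ncard ≤ Nat.card (E × Subgroup.zpowers L.i₁) := by
        rw [← Nat.card_coe_set_eq]; exact Finite.card_range_le f
      rw [Nat.card_prod, Nat.card_zpowers, orderOf_eq_prime L.cube_i₁ L.i₁_ne] at h2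
      rw [← Nat.card_coe_set_eq, show Nat.card (L.J : Set G) = 81 from L.card_J] at h1
      omega
    have hlt : E < S₂ := lt_of_le_of_ne (Subgroup.closure_mono (by simp [Set.insert_subset_iff])) fun e =>
      L.a_not_J (hEJ (e ▸ Subgroup.subset_closure (by simp)))
    have := card_mul_three_le L.S_pgroup hS2 hlt
    omega
  set P := S₂.map (MulAut.conj g).toMonoidHom
  have hP : IsPGroup 3 P := (L.S_pgroup.to_le hS2).map _
  obtain ⟨h, hh, hin⟩ := L.exists_conj_R hm hP (by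
    rintro _ ⟨x, hx, rfl⟩
    rw [MulEquiv.toMonoidHom_eq_coe, MonoidHom.coe_coe, MulAut.conj_apply, ← hg]
    exact (Commute.conj_iff g).2 (hS2t x hx))
  set n := h * g
  have hn : ∀ x ∈ S₂, n * x * n⁻¹ ∈ L.R := fun x hx => by
    have := hin _ ⟨x, hx, rfl⟩
    rw [MulEquiv.toMonoidHom_eq_coe, MonoidHom.coe_coe, MulAut.conj_apply] at this
    rwa [show n * x * n⁻¹ = h * (g * x * g⁻¹) * h⁻¹ by simp only [n]; group]
  have hR81 : Nat.card L.R ≤ 81 := by
    obtain ⟨k, hk⟩ := IsPGroup.iff_card.1 (L.S_pgroup.to_le L.R_le_S)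
    by_contra hgt
    refine L.no_243_u hm (P := L.R) (fun x hx => ⟨Subgroup.mem_centralizer_singleton_iff.2 (L.R_comm_z hx).eq.symm,
      Subgroup.mem_centralizer_singleton_iff.2 (L.R_comm_u hx).eq.symm⟩) ?_
    rw [hk, show (243 : ℕ) = 3 ^ 5 by norm_num]
    refine pow_dvd_pow 3 ?_
    by_contra h5
    have : 3 ^ k ≤ 3 ^ 4 := Nat.pow_le_pow_right (by norm_num) (by omega)
    omega
  have heq : S₂.map (MulAut.conj n).toMonoidHom = L.R := Subgroup.eq_of_le_of_card_ge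
    (by rintro _ ⟨x, hx, rfl⟩; exact hn x hx)
    (by rw [Subgroup.card_map_of_injective (MulAut.conj n).injective]; omega)
  have hzn : n * L.z * n⁻¹ ∈ Subgroup.zpowers L.z := by
    refine L.center_R (hn _ (Subgroup.subset_closure (by simp))) fun r hr => ?_
    rw [← heq] at hr
    obtain ⟨x, hx, rfl⟩ := hr
    rw [MulEquiv.toMonoidHom_eq_coe, MonoidHom.coe_coe, MulAut.conj_apply]
    exact (Commute.conj_iff n).2 (hS2z x hx)
  have hnt : n * L.t * n⁻¹ = L.u := by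
    rw [show n * L.t * n⁻¹ = h * (g * L.t * g⁻¹) * h⁻¹ by simp only [n]; group, hg, ← hh.eq, mul_inv_cancel_right]
  obtain ⟨j, hj⟩ := Subgroup.mem_zpowers_iff.1 hzn
  have hj3 : ¬ (3 : ℤ) ∣ j := fun hd =>
    L.z_ne (conj_eq_one_iff.1 (hj.symm.trans ((zpow_eq_one_iff_three L.cube_z L.z_ne).2 hd)))
  obtain ⟨c, hc, hct⟩ : ∃ c ∈ L.C, c * L.t * c⁻¹ = L.u := by
    rcases (show j % 3 = 1 ∨ j % 3 = 2 by omega) with h1 | h1
    · refine ⟨n, ?_, hnt⟩
      rw [Loc.C, Subgroup.mem_centralizer_singleton_iff]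
      have e : n * L.z * n⁻¹ = L.z := by
        rw [← hj, ← Int.emod_add_mul_ediv j 3, zpow_add, zpow_mul, zpow_ofNat, L.cube_z, one_zpow, mul_one, h1, zpow_one]
      calc n * L.z = n * L.z * n⁻¹ * n := by group
        _ = _ := by rw [e]
    · refine ⟨n * L.ν, ?_, by rw [show n * L.ν * L.t * (n * L.ν)⁻¹ = n * (L.ν * L.t * L.ν⁻¹) * n⁻¹ by group,
        L.comm_νt.eq, mul_inv_cancel_right, hnt]⟩
      rw [Loc.C, Subgroup.mem_centralizer_singleton_iff]
      have e : n * L.z * n⁻¹ = L.z⁻¹ := by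
        rw [← hj, ← Int.emod_add_mul_ediv j 3, zpow_add, zpow_mul, zpow_ofNat, L.cube_z, one_zpow, mul_one, h1,
          zpow_ofNat]
        exact (inv_eq_of_mul_eq_one_left (by rw [← pow_succ]; exact L.cube_z)).symm
      calc n * L.ν * L.z = n * (L.ν * L.z * L.ν⁻¹) * n⁻¹ * (n * L.ν) := by group
        _ = _ := by rw [L.ν_z, ← conj_inv, e, inv_inv]
  have hq := L.comm_u_mem_Q hm (inv_mem hc)
  rw [inv_inv, show c⁻¹ * L.u * c = L.t by rw [← hct]; group, inv_eq_of_mul_eq_one_right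
    (show L.u * L.u = 1 by rw [← pow_two, ← L.u_ord hm, pow_orderOf_eq_one])] at hq
  have h2 : (L.t * L.u) ^ 2 = 1 := by
    rw [pow_two]
    calc L.t * L.u * (L.t * L.u) = L.t * (L.u * L.t) * L.u := by group
      _ = (L.t * L.t) * (L.u * L.u) := by rw [L.comm_ut.eq]; group
      _ = 1 := by rw [L.t_sq, ← pow_two, ← L.u_ord hm, pow_orderOf_eq_one, one_mul]
  obtain ⟨k, hk⟩ := L.S_pgroup ⟨L.t * L.u, (Subgroup.closure_mono (by simp [Set.insert_subset_iff]) : L.Q ≤ L.S) hq⟩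
  have htu : L.t * L.u = 1 := eq_one_of_coprime h2 (by
    have := congrArg Subtype.val hk
    rwa [SubgroupClass.coe_pow] at this) (Nat.Coprime.pow_right k (by norm_num))
  have e := L.t_p
  rw [show L.t = L.u⁻¹ from eq_inv_of_mul_eq_one_left htu, inv_inv, (L.comm_up.inv_left).eq,
    inv_mul_cancel_right] at e
  have : L.p = 1 := by
    have h2' : L.p * L.p = 1 := by nth_rewrite 2 [e]; exact mul_inv_cancel _
    calc L.p = (L.p * L.p)⁻¹ * L.p ^ 3 := by group
      _ = 1 := by rw [h2', L.cube_p]; group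
  exact L.p_not_J (this ▸ one_mem _)

end CfsgLib.OEightLocal.Loc
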