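import Cfsg.Agent.Lib.OEightLocal.Form
import Cfsg.Agent.Lib.OEightLocal.TwoU
import Cfsg.Agent.Lib.OEightLocal.CentCoord

/-!
The four quaternion groups attached to the singular points of `C_J(t)` and the group `W` they generate.
-/

set_option autoImplicit false
set_option linter.unusedSectionVars false
set_option linter.style.haveILetI false

namespace CfsgLib.OEightLocal

open CfsgLib.OEightLocal.Cent

/-- The exchange of the coordinates of `z` and `y`. -/
def fr (v : V) : V := ![v 3, v 1, v 2, v 0]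

/-- The exponents by which an element of `C_J(t)` rotates the four quaternion groups. -/
def rot (v : V) : Fin 4 → ZMod 3 := ![v 3, v 0, v 0 + v 2 - v 3, v 0 - v 2 - v 3]

/-- The four singular points of `C_J(t)`. -/
def pt : Fin 4 → V := ![![1, 0, 0, 0], ![0, 0, 0, 1], fa ![0, 0, 0, 1], fa (fa ![0, 0, 0, 1])]

theorem sing_pts : ∀ v : V, v ≠ 0 → v 1 = 0 → qJ v = 0 → ∃ k, v = pt k ∨ v = -pt k := by decide +kernel

theorem bJ_eq (v w : V) : bJ v w = qJ (v + w) - qJ v - qJ w := by rw [qJ_add]; ring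

theorem stab_rigid : ∀ v : V, (v 0 = 0 ∧ v 2 = 0 ∧ v 3 = 0 ∧ qJ v = -1) →
    v = ![0, 1, 0, 0] ∨ v = ![0, -1, 0, 0] := by decide +kernel

variable {G : Type*} [Group G] (L : Loc G)

namespace Loc

theorem O_comm_t {w : G} (hw : w ∈ L.O) : Commute w L.t := by
  have h : w * L.t * w⁻¹ = L.t := (L.O_t _ (mul_mem (mul_mem hw L.t_mem) (inv_mem hw))).1 (by
    rw [show w * L.t * w⁻¹ = MulAut.conj w L.t from rfl, MulEquiv.orderOf_eq]; exact L.t_ord)
  exact mul_inv_eq_iff_eq_mul.1 h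

theorem O_y_pow (n : ℕ) {w : G} (hw : w ∈ L.O) : L.y ^ n * w * (L.y ^ n)⁻¹ ∈ L.O := by
  induction n with
  | zero => simpa using hw
  | succ n ih =>
    have := L.O_y _ ih
    rwa [show L.y * (L.y ^ n * w * (L.y ^ n)⁻¹) * L.y⁻¹ = L.y ^ (n + 1) * w * (L.y ^ (n + 1))⁻¹ by
      rw [pow_succ']; group] at this

theorem jel_fix {v : V} (hv : v 1 = 0) : L.jel v = L.z ^ (v 0).val * L.i₂ ^ (v 2).val * L.y ^ (v 3).val := by
  simp [jel, hv]

/-- An element of `C_J(t)` turns `O` by its last coordinate. -/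
theorem O_jel {v : V} (hv : v 1 = 0) {w : G} (hw : w ∈ L.O) :
    L.jel v * w * (L.jel v)⁻¹ = L.y ^ (v 3).val * w * (L.y ^ (v 3).val)⁻¹ := by
  obtain ⟨c1, -, c3⟩ := L.O_comm _ (L.O_y_pow (v 3).val hw)
  rw [L.jel_fix hv]
  generalize hx : L.y ^ (v 3).val * w * (L.y ^ (v 3).val)⁻¹ = x at c1 c3
  calc _ = L.z ^ (v 0).val * (L.i₂ ^ (v 2).val * (L.y ^ (v 3).val * w * (L.y ^ (v 3).val)⁻¹) *
        (L.i₂ ^ (v 2).val)⁻¹) * (L.z ^ (v 0).val)⁻¹ := by group
    _ = x := by rw [hx, (c3.symm.pow_left _).eq, mul_inv_cancel_right, (c1.symm.pow_left _).eq,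
      mul_inv_cancel_right]

theorem O_comm_y [Finite G] {w : G} (hw : w ∈ L.O) (hy : Commute w L.y) : w = 1 ∨ w = L.t := by
  obtain ⟨cz, -, ci⟩ := L.O_comm w hw
  have hQ : w * L.i₁ * w⁻¹ ∈ L.Q₁ := (L.O_Q w hw).2
  obtain ⟨k, b, c, e⟩ := L.mem_Q₁.1 hQ
  have hyx : Commute L.y (w * L.i₁ * w⁻¹) :=
    ((hy.symm.mul_right L.comm_yi₁).mul_right hy.symm.inv_right)
  have hc : c = 0 := by
    by_contra hne
    rw [e] at hyx
    have h1 : Commute L.y (L.p ^ c.val) := by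
      have h2 : Commute L.y (L.z ^ k.val * L.i₁ ^ b.val)⁻¹ :=
        ((L.comm_zy.symm.pow_right _).mul_right (L.comm_yi₁.pow_right _)).inv_right
      have h3 := h2.mul_right hyx
      simpa only [E, inv_mul_cancel_left] using h3
    have h4 : L.p ∈ Subgroup.centralizer ({L.y} : Set G) :=
      pow_mem_imp L.cube_p (fun h => hne (by
        have h5 := ZMod.val_lt c
        exact ZMod.val_injective 3 (by rw [ZMod.val_zero]; omega)))
        (Subgroup.mem_centralizer_singleton_iff.2 h1.eq.symm)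
    have h6 := L.rel_yp
    rw [← Subgroup.mem_centralizer_singleton_iff.1 h4, mul_inv_cancel_right, mul_assoc, left_eq_mul] at h6
    exact L.i₁_not_Z (Subgroup.mem_zpowers_iff.2 ⟨-1, by rw [zpow_neg_one, eq_inv_of_mul_eq_one_left h6]⟩)
  subst hc
  have hJ : w * L.i₁ * w⁻¹ ∈ L.J := by
    rw [e]
    simp only [E, ZMod.val_zero, pow_zero, mul_one]
    exact mul_mem (pow_mem L.mem_gens.2.2.2.2.2.2.1 _) (pow_mem L.mem_gens.2.2.2.2.2.2.2.1 _)
  obtain ⟨v, hv⟩ := (mem_J L).1 hJ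
  exact O_inf_NJ L hw (Act.mem_normalizer (f := lin ![![1, 0, 0, 0], v, ![0, 0, 1, 0], ![0, 0, 0, 1]])
    (Act.of_basis (L := L) (g := w) (by simp only [Matrix.cons_val_zero]; rw [fix_eq cz, jel_z]) (by simpa using hv.symm)
      (by simp only [Matrix.cons_val_two, Matrix.tail_cons, Matrix.head_cons]; rw [fix_eq ci, jel_i2])
      (by simp only [Matrix.cons_val]; rw [fix_eq hy, jel_y])))

/-- An element of `O` outside its centre squares to `t`. -/
theorem O_sq [Finite G] {w : G} (hw : w ∈ L.O) (h1 : w ≠ 1) (ht : w ≠ L.t) : w * w = L.t := by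
  have hd : orderOf w ∣ 8 := L.card_O ▸ Subgroup.orderOf_dvd_natCard _ hw
  have h8 : w ^ 8 = 1 := orderOf_dvd_iff_pow_eq_one.1 hd
  have h2 : w ^ 2 ≠ 1 := fun h => ht ((L.O_t w hw).1 (orderOf_eq_prime h h1))
  by_cases h4 : w ^ 4 = 1
  · rw [← pow_two]
    exact (L.O_t _ (pow_mem hw 2)).1 (orderOf_eq_prime (by rw [← pow_mul]; exact h4) h2)
  exfalso
  have ho : orderOf w = 8 := orderOf_eq_prime_pow (p := 2) (n := 2) (by norm_num; exact h4) (by norm_num; exact h8)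
  haveI : Finite L.O := Nat.finite_of_card_ne_zero (by rw [L.card_O]; norm_num)
  have he : Subgroup.zpowers w = L.O :=
    Subgroup.eq_of_le_of_card_ge (Subgroup.zpowers_le.2 hw) (by rw [L.card_O, Nat.card_zpowers, ho])
  obtain ⟨j, hj⟩ := (orderOf_pos_iff.1 (by omega : 0 < orderOf w)).mem_powers_iff_mem_zpowers.2
    (he ▸ L.O_y w hw : L.y * w * L.y⁻¹ ∈ Subgroup.zpowers w)
  have hj : w ^ j = L.y * w * L.y⁻¹ := hj
  have h3 : w ^ (j * j * j) = w := by
    rw [pow_mul, pow_mul, hj, conj_pow, hj, conj_pow, conj_pow, hj]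
    calc _ = L.y ^ 3 * w * (L.y ^ 3)⁻¹ := by simp only [pow_succ, pow_zero, one_mul, mul_inv_rev, mul_assoc]
      _ = w := by rw [L.cube_y]; simp
  have hm := pow_eq_pow_iff_modEq.1 (h3.trans (pow_one w).symm)
  rw [ho, Nat.ModEq, Nat.mul_mod, Nat.mul_mod j j] at hm
  have hj8 : j % 8 = 1 := by
    have := Nat.mod_lt j (show 0 < 8 by norm_num)
    interval_cases h : j % 8 <;> simp_all
  rw [← pow_mod_orderOf, ho, hj8, pow_one] at hj
  rcases L.O_comm_y hw (show w * L.y = L.y * w by nth_rewrite 1 [hj]; group) with rfl | rfl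
  exacts [h1 rfl, ht rfl]

theorem O_pow_four [Finite G] {w : G} (hw : w ∈ L.O) : w ^ 4 = 1 := by
  by_cases h1 : w = 1
  · rw [h1, one_pow]
  by_cases ht : w = L.t
  · rw [ht, pow_succ, pow_succ, pow_two, L.t_sq, one_mul, L.t_sq]
  rw [show (4 : ℕ) = 2 * 2 from rfl, pow_mul, pow_two w, L.O_sq hw h1 ht, pow_two, L.t_sq]

theorem y_moves [Finite G] {w : G} (hw : w ∈ L.O) (h1 : w ≠ 1) (ht : w ≠ L.t) :
    L.y * w * L.y⁻¹ ≠ w ∧ L.y * w * L.y⁻¹ ≠ w * L.t := by
  refine ⟨fun h => ?_, fun h => ?_⟩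
  · rcases L.O_comm_y hw (mul_inv_eq_iff_eq_mul.1 h).symm with r | r
    exacts [h1 r, ht r]
  · have hc : L.y * L.t * L.y⁻¹ = L.t := fix_eq L.comm_ty.symm
    have e : L.y ^ 3 * w * (L.y ^ 3)⁻¹ = w * L.t := by
      calc L.y ^ 3 * w * (L.y ^ 3)⁻¹ = L.y * (L.y * (L.y * w * L.y⁻¹) * L.y⁻¹) * L.y⁻¹ := by
            simp only [pow_succ, pow_zero, one_mul, mul_inv_rev, mul_assoc]
        _ = L.y * (L.y * (w * L.t) * L.y⁻¹) * L.y⁻¹ := by rw [h]
        _ = L.y * (L.y * w * L.y⁻¹ * (L.y * L.t * L.y⁻¹)) * L.y⁻¹ := by simp [mul_assoc]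
        _ = L.y * w * L.y⁻¹ := by rw [h, hc, mul_assoc w, L.t_sq, mul_one]; exact h
        _ = _ := h
    rw [L.cube_y, one_mul, inv_one, mul_one, left_eq_mul] at e
    exact t_ne L e

theorem O_not_comm [Finite G] {w : G} (hw : w ∈ L.O) (h1 : w ≠ 1) (ht : w ≠ L.t) :
    ¬ Commute w (L.y * w * L.y⁻¹) := by
  intro hc
  obtain ⟨m1, m2⟩ := L.y_moves hw h1 ht
  set v := L.y * w * L.y⁻¹ with hv
  have hvO : v ∈ L.O := L.O_y w hw
  have hc' : v ≠ 1 ∧ v ≠ L.t := by
    refine ⟨fun h => h1 (by simpa [hv] using h), fun h => ht ?_⟩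
    have : w = L.y⁻¹ * v * L.y := by rw [hv]; group
    rw [this, h, mul_assoc, L.comm_ty.eq, inv_mul_cancel_left]
  have hvt : v⁻¹ = v * L.t := by
    refine inv_eq_of_mul_eq_one_right ?_
    rw [← mul_assoc, L.O_sq hvO hc'.1 hc'.2, L.t_sq]
  have hsq : (w * v⁻¹) ^ 2 = 1 := by
    rw [hc.inv_right.mul_pow, pow_two, L.O_sq hw h1 ht, inv_pow, pow_two v, L.O_sq hvO hc'.1 hc'.2,
      mul_inv_cancel]
  by_cases he : w * v⁻¹ = 1
  · exact m1 (mul_inv_eq_one.1 he).symm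
  · have := (L.O_t _ (mul_mem hw (inv_mem hvO))).1 (orderOf_eq_prime hsq he)
    refine m2 ?_
    rw [← this, ← mul_assoc, L.O_sq hw h1 ht, ← L.O_sq hvO hc'.1 hc'.2, mul_inv_cancel_right]

theorem O_center [Finite G] {w : G} (hw : w ∈ L.O) (hc : ∀ v ∈ L.O, Commute w v) : w = 1 ∨ w = L.t := by
  by_contra h
  push Not at h
  exact L.O_not_comm hw h.1 h.2 (hc _ (L.O_y w hw))

/-- The non-central elements of `O` form one orbit of `y` modulo the centre. -/
theorem O_orbit [Finite G] {w v : G} (hw : w ∈ L.O) (h1 : w ≠ 1) (ht : w ≠ L.t) (hv : v ∈ L.O) (v1 : v ≠ 1)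
    (vt : v ≠ L.t) : ∃ k : ZMod 3, L.y ^ k.val * w * (L.y ^ k.val)⁻¹ = v ∨
      L.y ^ k.val * w * (L.y ^ k.val)⁻¹ = v * L.t := by
  classical
  by_contra hne
  push Not at hne
  obtain ⟨m1, m2⟩ := L.y_moves hw h1 ht
  set w1 := L.y * w * L.y⁻¹ with hw1
  set w2 := L.y * w1 * L.y⁻¹ with hw2
  have hw1O : w1 ∈ L.O := L.O_y w hw
  have hw2O : w2 ∈ L.O := L.O_y w1 hw1O
  have ht' : L.y * L.t * L.y⁻¹ = L.t := fix_eq L.comm_ty.symm
  have n0 := hne 0
  have n1 := hne 1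
  have n2 := hne 2
  simp only [ZMod.val_zero, pow_zero, one_mul, inv_one, mul_one, ZMod.val_one, pow_one] at n0 n1
  rw [← hw1] at n1
  rw [show L.y ^ (2 : ZMod 3).val * w * (L.y ^ (2 : ZMod 3).val)⁻¹ = w2 by
    rw [show (2 : ZMod 3).val = 2 from rfl, hw2, hw1, pow_two]; group] at n2
  have e21 : w2 ≠ w1 := fun h => m1 (mul_left_cancel (mul_right_cancel h))
  have e21t : w2 ≠ w1 * L.t := fun h => m2 (mul_left_cancel (mul_right_cancel (by
    rw [hw2] at h
    rw [h, hw1]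
    calc L.y * w * L.y⁻¹ * L.t = L.y * w * L.y⁻¹ * (L.y * L.t * L.y⁻¹) := by rw [ht']
      _ = _ := by group)))
  have c3 : L.y * w2 * L.y⁻¹ = w := by
    rw [hw2, hw1]
    calc _ = L.y ^ 3 * w * (L.y ^ 3)⁻¹ := by simp only [pow_succ, pow_zero, one_mul, mul_inv_rev, mul_assoc]
      _ = w := by rw [L.cube_y]; simp
  have e20 : w2 ≠ w := fun h => m1 (by
    have := c3; rw [h] at this; exact this)
  have e20t : w2 ≠ w * L.t := fun h => m2 (by
    have := c3
    rw [h, show L.y * (w * L.t) * L.y⁻¹ = w1 * (L.y * L.t * L.y⁻¹) by rw [hw1]; group, ht'] at this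
    calc w1 = w1 * L.t * L.t := by rw [mul_assoc, L.t_sq, mul_one]
      _ = w * L.t := by rw [this])
  have htt : ∀ {a b : G}, a * L.t = b ↔ a = b * L.t := by
    intro a b
    constructor <;> intro h
    · rw [← h, mul_assoc, L.t_sq, mul_one]
    · rw [h, mul_assoc, L.t_sq, mul_one]
  haveI : Finite L.O := Nat.finite_of_card_ne_zero (by rw [L.card_O]; norm_num)
  have hsub : ({1, L.t, v, v * L.t, w, w * L.t, w1, w1 * L.t, w2} : Finset G) ⊆
      (Set.toFinite (L.O : Set G)).toFinset := by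
    intro x hx
    simp only [Finset.mem_insert, Finset.mem_singleton] at hx
    rw [Set.Finite.mem_toFinset]
    rcases hx with rfl | rfl | rfl | rfl | rfl | rfl | rfl | rfl | rfl
    exacts [one_mem _, L.t_mem, hv, mul_mem hv L.t_mem, hw, mul_mem hw L.t_mem, hw1O, mul_mem hw1O L.t_mem, hw2O]
  have hc := Finset.card_le_card hsub
  rw [← Nat.card_eq_card_finite_toFinset, show Nat.card (L.O : Set G) = 8 from L.card_O] at hc
  have out : ∀ {x : G}, x ≠ 1 → x ≠ L.t → L.y * x * L.y⁻¹ ≠ 1 ∧ L.y * x * L.y⁻¹ ≠ L.t := by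
    intro x a b
    refine ⟨fun h => a (by simpa using h), fun h => b ?_⟩
    rw [← ht'] at h
    exact mul_left_cancel (mul_right_cancel h)
  obtain ⟨a1, a2⟩ := out h1 ht
  obtain ⟨b1, b2⟩ := out a1 a2
  have h0 : ∀ {x : G}, x ≠ L.t → x * L.t ≠ 1 := fun hx h => hx (by rw [htt, one_mul] at h; exact h)
  have h0' : ∀ {x : G}, x ≠ 1 → x * L.t ≠ L.t := fun hx h => hx (by simpa using h)
  have hxt : ∀ {x : G}, x ≠ x * L.t := fun h => t_ne L (by simpa using h.symm)
  rw [Finset.card_insert_of_notMem, Finset.card_insert_of_notMem, Finset.card_insert_of_notMem,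
    Finset.card_insert_of_notMem, Finset.card_insert_of_notMem, Finset.card_insert_of_notMem,
    Finset.card_insert_of_notMem, Finset.card_insert_of_notMem, Finset.card_singleton] at hc
  · omega
  all_goals simp only [Finset.mem_insert, Finset.mem_singleton, not_or]
  · exact fun h => e21t h.symm
  · exact ⟨hxt, e21.symm⟩
  · refine ⟨?_, ?_, fun h => e20t h.symm⟩
    · exact fun h => m2 (by rw [← h])
    · exact fun h => m1 (by simpa using h.symm)
  · exact ⟨hxt, m1.symm, fun h => m2 (htt.2 h ▸ rfl), e20.symm⟩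
  · refine ⟨?_, ?_, ?_, ?_, ?_⟩
    · exact fun h => n0.2 h.symm
    · exact fun h => n0.1 (mul_right_cancel h).symm
    · exact fun h => n1.2 h.symm
    · exact fun h => n1.1 (mul_right_cancel h).symm
    · exact fun h => n2.2 h.symm
  · exact ⟨hxt, n0.1.symm, fun h => n0.2 (htt.2 h).symm, n1.1.symm, fun h => n1.2 (htt.2 h).symm,
      n2.1.symm⟩
  · exact ⟨vt.symm, fun h => h0' v1 h.symm, ht.symm, fun h => h0' h1 h.symm, a2.symm,
      fun h => h0' a1 h.symm, b2.symm⟩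
  · exact ⟨(t_ne L).symm, v1.symm, fun h => h0 vt h.symm, h1.symm, fun h => h0 ht h.symm, a1.symm,
      fun h => h0 a2 h.symm, b1.symm⟩

/-- A description of `O` by commutation. -/
theorem mem_O_iff [Finite G] {g : G} :
    g ∈ L.O ↔ Commute g L.z ∧ Commute g L.i₂ ∧ Commute g L.t ∧ g ^ 4 = 1 := by
  refine ⟨fun h => ⟨(L.O_comm g h).1, (L.O_comm g h).2.2, L.O_comm_t h, L.O_pow_four h⟩, ?_⟩
  rintro ⟨cz, ci, ct, h4⟩
  obtain ⟨x, hx, w, hw, rfl⟩ := exists_MO L (Subgroup.mem_centralizer_singleton_iff.2 cz.eq)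
  have hxe : x = x * w * w⁻¹ := by group
  have xz : Commute x L.z := hxe ▸ cz.mul_left (L.O_comm w hw).1.inv_left
  have xi : Commute x L.i₂ := hxe ▸ ci.mul_left (L.O_comm w hw).2.2.inv_left
  have xt : Commute x L.t := hxe ▸ ct.mul_left (L.O_comm_t hw).inv_left
  obtain ⟨f, hf⟩ := exists_act_map L (M_le_NJ L hx)
  have hq := qJ_act L hf
  have hb : ∀ u v, bJ (f u) (f v) = bJ u v := fun u v => by rw [bJ_eq, bJ_eq, ← hf.add, hq, hq, hq]
  have f0 : f ![1, 0, 0, 0] = ![1, 0, 0, 0] := jel_injective L (by rw [← hf, jel_z, fix_eq xz])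
  have f2 : f ![0, 0, 1, 0] = ![0, 0, 1, 0] := jel_injective L (by rw [← hf, jel_i2, fix_eq xi])
  have hft : ∀ v, f (ft v) = ft (f v) := fun v => jel_injective L (by
    rw [← hf, ← act_t L v, ← act_t L (f v), ← hf]
    calc x * (L.t * L.jel v * L.t⁻¹) * x⁻¹ = x * L.t * L.jel v * (x * L.t)⁻¹ := by group
      _ = L.t * x * L.jel v * (L.t * x)⁻¹ := by rw [xt.eq]
      _ = _ := by group)
  have f3 : f ![0, 0, 0, 1] = ![0, 0, 0, 1] := by
    have h1 := congrFun (hft ![0, 0, 0, 1]) 1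
    have h2 := hb ![0, 0, 0, 1] ![1, 0, 0, 0]
    have h3 := hb ![0, 0, 0, 1] ![0, 0, 1, 0]
    have h4' := hq ![0, 0, 0, 1]
    rw [show ft ![0, 0, 0, 1] = ![0, 0, 0, 1] by decide] at h1
    rw [f0] at h2
    rw [f2] at h3
    revert h1 h2 h3 h4'
    generalize f ![0, 0, 0, 1] = v
    revert v
    decide +kernel
  have f1 : f ![0, 1, 0, 0] = ![0, 1, 0, 0] ∨ f ![0, 1, 0, 0] = ![0, -1, 0, 0] := by
    have h1 := hft ![0, 1, 0, 0]
    rw [show ft ![0, 1, 0, 0] = -![0, 1, 0, 0] by decide] at h1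
    have hneg : f (-![0, 1, 0, 0]) = -f ![0, 1, 0, 0] := by
      have h0 : f 0 = 0 := by simpa using hf.add 0 0
      have h2 := hf.add (-![0, 1, 0, 0]) ![0, 1, 0, 0]
      rw [neg_add_cancel, h0] at h2
      exact eq_neg_of_add_eq_zero_left h2.symm
    rw [hneg] at h1
    have h4' := hq ![0, 1, 0, 0]
    revert h1 h4'
    generalize f ![0, 1, 0, 0] = v
    revert v
    decide +kernel
  obtain ⟨j, hj, hjx⟩ : ∃ j ∈ L.J, x = j ∨ x = j * L.t := by
    rcases f1 with e | e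
    · refine ⟨x, mem_J_of_act L (hf.congr fun v => ?_), Or.inl rfl⟩
      rw [hf.eq_lin]; simp only [lin, f0, e, f2, f3]
      funext i; fin_cases i <;> simp
    · refine ⟨x * L.t, mem_J_of_act L ((hf.mul (act_t L)).congr fun v => ?_), Or.inr (by
        rw [mul_assoc, L.t_sq, mul_one])⟩
      rw [Function.comp_apply, hf.eq_lin]; simp only [lin, f0, e, f2, f3, ft]
      funext i; fin_cases i <;> simp
  obtain ⟨v, rfl⟩ := (mem_J L).1 hj
  obtain ⟨w', hw', e⟩ : ∃ w' ∈ L.O, x * w = L.jel v * w' := by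
    rcases hjx with h | h
    · exact ⟨w, hw, by rw [h]⟩
    · exact ⟨L.t * w, mul_mem L.t_mem hw, by rw [h, mul_assoc]⟩
  rw [e] at ct h4 ⊢
  have hv : v 1 = 0 := by
    have h5 : Commute (L.jel v) L.t := by
      have := ct.mul_left (L.O_comm_t hw').inv_left; rwa [mul_inv_cancel_right] at this
    have h6 : ft v = v := jel_injective L (by rw [← act_t L v, fix_eq h5.symm])
    have h7 : -v 1 = v 1 := congrFun h6 1
    revert h7; generalize v 1 = c; revert c; decide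
  have hn : ∀ n : ℕ, (L.jel v * w') ^ n * (L.jel v ^ n)⁻¹ ∈ L.O := by
    intro n
    induction n with
    | zero => simp
    | succ n ih =>
      rw [show (L.jel v * w') ^ (n + 1) * (L.jel v ^ (n + 1))⁻¹ = (L.jel v * w') ^ n * (L.jel v ^ n)⁻¹ *
          (L.jel v ^ (n + 1) * w' * (L.jel v ^ (n + 1))⁻¹) by rw [pow_succ, pow_succ]; group]
      refine mul_mem ih ?_
      rw [← jel_nsmul, L.O_jel (by simp [hv]) hw']
      exact L.O_y_pow _ hw'
  have h6 := hn 4
  rw [h4, one_mul, inv_mem_iff] at h6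
  have h7 : L.jel v ^ 4 = 1 := eq_one_of_coprime (m := 3) (n := 4)
    (by rw [← pow_mul, mul_comm, pow_mul, cube_jel, one_pow]) (L.O_pow_four h6) (by norm_num)
  rw [pow_succ, cube_jel, one_mul] at h7
  rwa [h7, one_mul]

/-- The elements of `N(J) ∩ C(t)` fixing `z` up to a power normalise `O`. -/
theorem O_norm [Finite G] {g : G} (hg : g ∈ L.NJ) (ht : Commute g L.t)
    (hz : g * L.z * g⁻¹ ∈ Subgroup.zpowers L.z) {w : G} (hw : w ∈ L.O) : g * w * g⁻¹ ∈ L.O := by
  have hz' : g⁻¹ * L.z * g⁻¹⁻¹ ∈ Subgroup.zpowers L.z := by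
    obtain ⟨n, hn⟩ := Subgroup.mem_zpowers_iff.1 hz
    have hn3 : ¬ (3 : ℤ) ∣ n := fun h => L.z_ne (by
      rw [(zpow_eq_one_iff_three L.cube_z L.z_ne).2 h] at hn; simpa using hn.symm)
    refine zpow_mem_imp (n := n) (by rw [conj_pow, L.cube_z]; group) hn3 ?_
    rw [conj_zpow, hn]
    exact Subgroup.mem_zpowers_iff.2 ⟨1, by group⟩
  obtain ⟨f, hf⟩ := exists_act_map L (inv_mem hg)
  have hq := qJ_act L hf
  obtain ⟨n, hn⟩ := Subgroup.mem_zpowers_iff.1 hz'
  have hb : ∀ u v, bJ (f u) (f v) = bJ u v := fun u v => by rw [bJ_eq, bJ_eq, ← hf.add, hq, hq, hq]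
  set v := f ![0, 0, 1, 0] with hv
  have f0 : L.jel (f ![1, 0, 0, 0]) = L.z ^ n := by rw [← hf, jel_z, hn]
  have hf0 : ∃ c : ZMod 3, f ![1, 0, 0, 0] = c • ![1, 0, 0, 0] := by
    refine ⟨(n : ZMod 3), jel_injective L ?_⟩
    rw [f0, jel_smul, jel_z, ← zpow_natCast, zpow_eq_zpow_emod' n L.cube_z,
      show (((n : ZMod 3).val : ℕ) : ℤ) = n % 3 by exact_mod_cast ZMod.val_intCast n]
    norm_num
  have v1 : v 1 = 0 := by
    have h : ft v = v := jel_injective L (by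
      rw [hv, ← act_t L, ← hf, jel_i2]
      have c : Commute (g⁻¹) L.t := ht.inv_left
      calc L.t * (g⁻¹ * L.i₂ * g⁻¹⁻¹) * L.t⁻¹ = L.t * g⁻¹ * L.i₂ * (L.t * g⁻¹)⁻¹ := by group
        _ = g⁻¹ * L.t * L.i₂ * (g⁻¹ * L.t)⁻¹ := by rw [c.eq]
        _ = g⁻¹ * (L.t * L.i₂ * L.t⁻¹) * g⁻¹⁻¹ := by group
        _ = _ := by rw [fix_eq (L.O_comm L.t L.t_mem).2.2])
    have h7 : -v 1 = v 1 := congrFun h 1
    revert h7; generalize v 1 = c; revert c; decide
  have v3 : v 3 = 0 := by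
    obtain ⟨c, hc⟩ := hf0
    have hc0 : c ≠ 0 := fun h0 => by
      rw [h0, zero_smul] at hc
      have h00 : f 0 = 0 := by simpa using hf.add 0 0
      exact absurd (hf.injective (hc.trans h00.symm)) (by decide)
    have h := hb ![1, 0, 0, 0] ![0, 0, 1, 0]
    rw [hc, ← hv] at h
    revert h hc0
    clear hc
    generalize v = u
    revert c u
    decide +kernel
  refine L.mem_O_iff.2 ⟨?_, ?_, ?_, by rw [conj_pow, L.O_pow_four hw]; group⟩
  · have c : Commute w (g⁻¹ * L.z * g⁻¹⁻¹) := hn ▸ (L.O_comm w hw).1.zpow_right n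
    have := c.map (MulAut.conj g).toMonoidHom
    simpa [mul_assoc] using this
  · have c : Commute w (g⁻¹ * L.i₂ * g⁻¹⁻¹) := by
      rw [← jel_i2 L, hf, ← hv, L.jel_fix v1, v3]
      simpa using ((L.O_comm w hw).1.pow_right _).mul_right ((L.O_comm w hw).2.2.pow_right _)
    have := c.map (MulAut.conj g).toMonoidHom
    simpa [mul_assoc] using this
  · exact ((ht.mul_left (L.O_comm_t hw)).mul_left ht.inv_left)

/-- An element exchanging `z` and `y`. -/
structure Flip (r : G) : Prop where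
  act : L.Act r fr
  sq : r * r = 1
  comm_t : Commute r L.t

variable {L}

theorem Flip.mem {r : G} (h : L.Flip r) : r ∈ L.NJ := h.act.mem_normalizer

theorem Flip.inv_eq {r : G} (h : L.Flip r) : r⁻¹ = r := inv_eq_of_mul_eq_one_right h.sq

theorem Flip.comm_i₂ {r : G} (h : L.Flip r) : Commute r L.i₂ := by
  have := h.act ![0, 0, 1, 0]
  rw [show fr ![0, 0, 1, 0] = ![0, 0, 1, 0] by decide, jel_i2] at this
  exact mul_inv_eq_iff_eq_mul.1 this

variable (L) in
/-- The representatives of the four points. -/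
def sl (r : G) : Fin 4 → G := ![1, r, L.a * r, L.a * L.a * r]

theorem Flip.sl_mem {r : G} (h : L.Flip r) (k : Fin 4) : L.sl r k ∈ L.NJ ∧ Commute (L.sl r k) L.t := by
  have ha : L.a ∈ L.NJ ∧ Commute L.a L.t :=
    ⟨(act_a L).mem_normalizer, (L.O_comm L.t L.t_mem).2.1.symm⟩
  fin_cases k
  exacts [⟨one_mem _, Commute.one_left _⟩, ⟨h.mem, h.comm_t⟩,
    ⟨mul_mem ha.1 h.mem, ha.2.mul_left h.comm_t⟩,
    ⟨mul_mem (mul_mem ha.1 ha.1) h.mem, (ha.2.mul_left ha.2).mul_left h.comm_t⟩]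

theorem Flip.sl_pt {r : G} (h : L.Flip r) (k : Fin 4) : L.sl r k * L.z * (L.sl r k)⁻¹ = L.jel (pt k) := by
  rw [← jel_z L]
  fin_cases k
  · simpa [sl, pt] using (Loc.Act.one (L := L)) ![1, 0, 0, 0]
  · simpa [sl, pt, show fr ![1, 0, 0, 0] = ![0, 0, 0, 1] by decide] using h.act ![1, 0, 0, 0]
  · simpa [sl, pt, Function.comp_apply, show fr ![1, 0, 0, 0] = ![0, 0, 0, 1] by decide] using
      ((act_a L).mul h.act) ![1, 0, 0, 0]
  · simpa [sl, pt, Function.comp_apply, show fr ![1, 0, 0, 0] = ![0, 0, 0, 1] by decide] using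
      (((act_a L).mul (act_a L)).mul h.act) ![1, 0, 0, 0]

variable (L) in
/-- The quaternion group at the point `k`. -/
def Os (r : G) (k : Fin 4) : Subgroup G := L.O.map (MulAut.conj (L.sl r k)).toMonoidHom

/-- The conjugate of `O` depends only on the point. -/
theorem Flip.conj_O [Finite G] {r : G} (h : L.Flip r) {g : G} (hg : g ∈ L.NJ) (ht : Commute g L.t) :
    ∃ k, ∀ w ∈ L.O, g * w * g⁻¹ ∈ L.Os r k := by
  obtain ⟨f, hf⟩ := exists_act_map L hg
  set v := f ![1, 0, 0, 0] with hv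
  have v1 : v 1 = 0 := by
    have h' : ft v = v := jel_injective L (by
      rw [hv, ← act_t L, ← hf, jel_z]
      calc L.t * (g * L.z * g⁻¹) * L.t⁻¹ = L.t * g * L.z * (L.t * g)⁻¹ := by group
        _ = g * L.t * L.z * (g * L.t)⁻¹ := by rw [ht.eq]
        _ = g * (L.t * L.z * L.t⁻¹) * g⁻¹ := by group
        _ = _ := by rw [fix_eq (L.O_comm L.t L.t_mem).1])
    have h7 : -v 1 = v 1 := congrFun h' 1
    revert h7; generalize v 1 = c; revert c; decide
  have v0 : v ≠ 0 := fun h0 => by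
    have h00 : f 0 = 0 := by simpa using hf.add 0 0
    exact absurd (hf.injective ((hv.symm.trans h0).trans h00.symm)) (by decide)
  have vq : qJ v = 0 := by rw [hv, qJ_act L hf]; decide
  obtain ⟨k, hk⟩ := sing_pts v v0 v1 vq
  refine ⟨k, fun w hw => ⟨(L.sl r k)⁻¹ * g * w * ((L.sl r k)⁻¹ * g)⁻¹, ?_, by simp [mul_assoc]⟩⟩
  refine L.O_norm (mul_mem (inv_mem (h.sl_mem k).1) hg) ((h.sl_mem k).2.inv_left.mul_left ht) ?_ hw
  rw [show (L.sl r k)⁻¹ * g * L.z * ((L.sl r k)⁻¹ * g)⁻¹ = (L.sl r k)⁻¹ * (g * L.z * g⁻¹) * L.sl r k by group,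
    show g * L.z * g⁻¹ = L.jel v by rw [hv, ← hf, jel_z]]
  rcases hk with e | e <;> rw [e]
  · rw [← h.sl_pt k]
    exact Subgroup.mem_zpowers_iff.2 ⟨1, by group⟩
  · rw [jel_neg, ← h.sl_pt k]
    exact Subgroup.mem_zpowers_iff.2 ⟨-1, by group⟩

variable (L) in
/-- `O` commutes with its conjugate at another point of `C(i₂) ∩ N(J)`. -/
def CommO : Prop :=
  ∀ g ∈ L.NJ, Commute g L.i₂ → Commute g L.t → g * L.z * g⁻¹ ∉ Subgroup.zpowers L.z →
    ∀ v ∈ L.O, ∀ w ∈ L.O, Commute v (g * w * g⁻¹)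

theorem Flip.z_moved {r : G} (h : L.Flip r) : r * L.z * r⁻¹ ∉ Subgroup.zpowers L.z := by
  intro hm
  have := h.act ![1, 0, 0, 0]
  rw [show fr ![1, 0, 0, 0] = ![0, 0, 0, 1] by decide, jel_z, jel_y] at this
  obtain ⟨n, hn⟩ := Subgroup.mem_zpowers_iff.1 hm
  rw [this, ← jel_y L] at hn
  have e : L.jel ((n : ZMod 3) • ![1, 0, 0, 0]) = L.z ^ n := by
    rw [jel_smul, jel_z, ← zpow_natCast, zpow_eq_zpow_emod' n L.cube_z,
      show (((n : ZMod 3).val : ℕ) : ℤ) = n % 3 by exact_mod_cast ZMod.val_intCast n]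
    norm_num
  have h3 := congrFun (jel_injective L (e.trans hn)) 3
  simp at h3

theorem Flip.sl_a {r : G} (h : L.Flip r) (w : G) (hw : w ∈ L.O) :
    L.a * w * L.a⁻¹ = w ∧ ∀ k : Fin 3, L.a * (L.sl r k.succ * w * (L.sl r k.succ)⁻¹) * L.a⁻¹ =
      L.sl r (k + 1).succ * w * (L.sl r (k + 1).succ)⁻¹ := by
  refine ⟨fix_eq (L.O_comm w hw).2.1.symm, fun k => ?_⟩
  have h3 : L.a * (L.a * L.a) = 1 := by rw [← pow_two, ← pow_succ', L.cube_a]
  have e : L.sl r (k + 1).succ = L.a * L.sl r k.succ := by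
    fin_cases k
    · simp [sl]
    · simp [sl, mul_assoc]
    · show r = L.a * (L.a * L.a * r)
      rw [← mul_assoc, h3, one_mul]
  rw [e]; group

theorem exists_noncentral (L : Loc G) : ∃ u ∈ L.O, u ≠ 1 ∧ u ≠ L.t := by
  classical
  by_contra h
  push Not at h
  haveI : Finite L.O := Nat.finite_of_card_ne_zero (by rw [L.card_O]; norm_num)
  have hsub : (Set.toFinite (L.O : Set G)).toFinset ⊆ ({1, L.t} : Finset G) := fun x hx => by
    rw [Set.Finite.mem_toFinset] at hx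
    by_cases h1 : x = 1
    · simp [h1]
    · simp [h x hx h1]
  have := Finset.card_le_card hsub
  rw [← Nat.card_eq_card_finite_toFinset, show Nat.card (L.O : Set G) = 8 from L.card_O] at this
  exact absurd (this.trans Finset.card_le_two) (by norm_num)

/-- An element of `O` fixed by a rotation is central. -/
theorem O_fixed_jel (L : Loc G) [Finite G] {v : V} (v1 : v 1 = 0) (v3 : v 3 ≠ 0) {w : G} (hw : w ∈ L.O)
    (hc : Commute w (L.jel v)) : w = 1 ∨ w = L.t := by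
  refine L.O_comm_y hw ?_
  have h := L.O_jel v1 hw
  rw [fix_eq hc.symm] at h
  have hm : L.y ∈ Subgroup.centralizer ({w} : Set G) :=
    pow_mem_imp L.cube_y (fun h0 => v3 (by
      have h5 := ZMod.val_lt (v 3)
      exact ZMod.val_injective 3 (by rw [ZMod.val_zero]; omega)))
      (Subgroup.mem_centralizer_singleton_iff.2 (mul_inv_eq_iff_eq_mul.1 h.symm))
  exact (Subgroup.mem_centralizer_singleton_iff.1 hm).symm

theorem Flip.point_eq [Finite G] {r : G} (h : L.Flip r) {u u' : G} (hu : u ∈ L.O) (u1 : u ≠ 1) (ut : u ≠ L.t)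
    (hu' : u' ∈ L.O) (e : L.a * r * u * (L.a * r)⁻¹ = r * u' * r⁻¹) : False := by
  have e' : u' = r * L.a * r * u * (r * L.a * r)⁻¹ := by
    calc u' = r⁻¹ * (r * u' * r⁻¹) * r := by group
      _ = r⁻¹ * (L.a * r * u * (L.a * r)⁻¹) * r := by rw [e]
      _ = _ := by rw [h.inv_eq]; simp only [mul_inv_rev, h.inv_eq, mul_assoc]
  have hg := (h.act.mul (act_a L)).mul h.act
  have hc := (L.O_comm u hu).1.map (MulAut.conj (r * L.a * r)).toMonoidHom
  simp only [MulEquiv.coe_toMonoidHom, MulAut.conj_apply] at hc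
  rw [← e', ← jel_z L, hg] at hc
  have hcases := L.O_fixed_jel (v := (fr ∘ fa) (fr ![1, 0, 0, 0])) (by decide) (by decide) hu' hc
  have ht : r * L.a * r * L.t * (r * L.a * r)⁻¹ = L.t :=
    fix_eq ((h.comm_t.mul_left (L.O_comm L.t L.t_mem).2.1.symm).mul_left h.comm_t)
  rcases hcases with h0 | h0
  · rw [e'] at h0; exact u1 (conj_eq_one_iff.1 h0)
  · rw [e'] at h0
    exact ut (mul_left_cancel (mul_right_cancel (h0.trans ht.symm)))

/-- The four quaternion groups commute with each other. -/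
theorem Flip.pairwise [Finite G] (hc : L.CommO) {r : G} (h : L.Flip r) {j k : Fin 4} (hjk : j ≠ k) {v w : G}
    (hv : v ∈ L.O) (hw : w ∈ L.O) :
    Commute (L.sl r j * v * (L.sl r j)⁻¹) (L.sl r k * w * (L.sl r k)⁻¹) := by
  have base : ∀ v ∈ L.O, ∀ w ∈ L.O, Commute v (r * w * r⁻¹) :=
    hc r h.mem h.comm_i₂ h.comm_t h.z_moved
  -- `r a r` carries `O` to a point other than that of `z`
  have h1 : ∀ k : Fin 3, ∀ v ∈ L.O, ∀ w ∈ L.O, Commute v (L.sl r k.succ * w * (L.sl r k.succ)⁻¹) := by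
    intro k
    induction k using Fin.induction with
    | zero => exact base
    | succ i ih =>
      intro v hv w hw
      have := (ih v hv w hw).map (MulAut.conj L.a).toMonoidHom
      simp only [MulEquiv.coe_toMonoidHom, MulAut.conj_apply] at this
      rwa [(h.sl_a v hv).1, (h.sl_a w hw).2, Fin.coeSucc_eq_succ] at this
  have h12 : ∀ v ∈ L.O, ∀ w ∈ L.O,
      Commute (r * v * r⁻¹) (L.sl r 2 * w * (L.sl r 2)⁻¹) := by
    intro v hv w hw
    obtain ⟨e, he⟩ := h.conj_O (g := r * L.a * r)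
      (mul_mem (mul_mem h.mem (act_a L).mem_normalizer) h.mem)
      ((h.comm_t.mul_left (L.O_comm L.t L.t_mem).2.1.symm).mul_left h.comm_t)
    have he0 : ∀ x ∈ L.O, r * L.a * r * x * (r * L.a * r)⁻¹ ∈ L.Os r e := he
    obtain ⟨x, hx, ex⟩ := he0 w hw
    have e0 : e ≠ 0 := by
      rintro rfl
      -- then `r a r` would normalise `O`
      obtain ⟨u, hu, u1, ut⟩ := L.exists_noncentral
      obtain ⟨u', hu', eu⟩ := he u hu
      refine h.point_eq hu u1 ut hu' ?_
      have eu' : u' = r * L.a * r * u * (r * L.a * r)⁻¹ := by simpa [sl] using eu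
      rw [eu']
      calc L.a * r * u * (L.a * r)⁻¹ = r * r * (L.a * r) * u * (L.a * r)⁻¹ * (r * r) := by
            rw [h.sq, one_mul, mul_one]
        _ = _ := by simp only [mul_inv_rev, h.inv_eq, mul_assoc]
    have ex' : r * L.a * r * w * (r * L.a * r)⁻¹ = L.sl r e * x * (L.sl r e)⁻¹ := by
      rw [← ex]; simp
    obtain ⟨i, rfl⟩ := Fin.exists_succ_eq.2 e0
    have c := (h1 i v hv x hx).map (MulAut.conj r).toMonoidHom
    rw [← ex'] at c
    simp only [MulEquiv.coe_toMonoidHom, MulAut.conj_apply] at c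
    convert c using 1
    show L.a * r * w * (L.a * r)⁻¹ = _
    calc L.a * r * w * (L.a * r)⁻¹ = r * r * (L.a * r) * w * (L.a * r)⁻¹ * (r * r) := by
          rw [h.sq, one_mul, mul_one]
      _ = _ := by rw [h.inv_eq]; simp only [mul_inv_rev, h.inv_eq, mul_assoc]
  have hnext : ∀ k : Fin 3, ∀ v ∈ L.O, ∀ w ∈ L.O,
      Commute (L.sl r k.succ * v * (L.sl r k.succ)⁻¹) (L.sl r (k + 1).succ * w * (L.sl r (k + 1).succ)⁻¹) := by
    intro k
    induction k using Fin.induction with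
    | zero => exact h12
    | succ i ih =>
      intro v hv w hw
      have := (ih v hv w hw).map (MulAut.conj L.a).toMonoidHom
      simp only [MulEquiv.coe_toMonoidHom, MulAut.conj_apply] at this
      rwa [(h.sl_a v hv).2, (h.sl_a w hw).2, Fin.coeSucc_eq_succ] at this
  fin_cases j <;> fin_cases k
  all_goals first
    | exact absurd rfl hjk
    | (simpa [sl] using h1 0 v hv w hw)
    | (simpa [sl] using h1 1 v hv w hw)
    | (simpa [sl] using h1 2 v hv w hw)
    | (simpa [sl] using (h1 0 w hw v hv).symm)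
    | (simpa [sl] using (h1 1 w hw v hv).symm)
    | (simpa [sl] using (h1 2 w hw v hv).symm)
    | (simpa [sl] using hnext 0 v hv w hw)
    | (simpa [sl] using hnext 1 v hv w hw)
    | (simpa [sl] using hnext 2 v hv w hw)
    | (simpa [sl] using (hnext 0 w hw v hv).symm)
    | (simpa [sl] using (hnext 1 w hw v hv).symm)
    | (simpa [sl] using (hnext 2 w hw v hv).symm)

end Loc

end CfsgLib.OEightLocal
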