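import Cfsg.Agent.Lib.OEightLocal.CentFrame
import Cfsg.Agent.Lib.OEightLocal.CentPairBase
import Cfsg.Agent.Lib.OEightLocal.WDef

/-!
The centraliser of `t` in `C(i₂)`: `O` commutes with its other conjugate and, with it and `N(J)`, generates.
-/

set_option autoImplicit false
set_option linter.unusedSectionVars false
set_option linter.style.haveILetI false

namespace CfsgLib.OEightLocal.Cent

open CfsgLib.PSpFourLocal (S23 IsFrame IsTN)

namespace Pair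

variable {Γ Γ' : Type*} [Group Γ] [Group Γ'] {t : Γ}

/-- Transport along an injective homomorphism. -/
def map (D : Pair t) (f : Γ →* Γ') (hf : Function.Injective f) (t' : Γ') (ht : f t = t') : Pair t' where
  θ := f.comp D.θ
  θ' := f.comp D.θ'
  n := f D.n
  inj := hf.comp D.inj
  inj' := hf.comp D.inj'
  neg := by rw [MonoidHom.comp_apply, D.neg, ht]
  neg' := by rw [MonoidHom.comp_apply, D.neg', ht]
  comm a b := by rw [MonoidHom.comp_apply, MonoidHom.comp_apply, ← map_mul, D.comm, map_mul]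
  n2 := by rw [← map_mul, D.n2, map_one]
  swap a := by rw [MonoidHom.comp_apply, MonoidHom.comp_apply, ← map_mul, D.swap, map_mul]
  swap' a := by rw [MonoidHom.comp_apply, MonoidHom.comp_apply, ← map_mul, D.swap', map_mul]
  ne a b h := D.ne a b (hf (by rw [map_mul]; exact h))

theorem map_top' (D : Pair t) (f : Γ →* Γ') (hf : Function.Injective f) (t' : Γ') (ht : f t = t') {x : Γ}
    (hx : x ∈ D.top') : f x ∈ (D.map f hf t' ht).top' := by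
  rcases hx with ⟨q, rfl⟩ | ⟨q, rfl⟩
  · exact Or.inl ⟨q, by rw [pr_apply, pr_apply, map_mul]; rfl⟩
  · refine Or.inr ⟨q, ?_⟩
    rw [map_mul]
    refine congrArg (· * _) ?_
    rw [pr_apply, pr_apply, map_mul]; rfl

end Pair

theorem transposition : ∀ σ : Equiv.Perm (Fin 4), σ * σ = 1 → σ ≠ 1 → σ 0 = 0 →
    ∃ τ : Equiv.Perm (Fin 4), τ * σ = Equiv.swap 2 3 * τ := by decide +kernel

/-- The pair at an involution inducing a transposition. -/
theorem pair_of_frame {Γ : Type*} [Group Γ] [Finite Γ] {J : Subgroup Γ} {v : Fin 4 → Γ} (F : IsFrame J v)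
    {t : Γ} (ht2 : t * t = 1) (htJ : t ∉ J) (htN : t ∈ Subgroup.normalizer (J : Set Γ))
    (ht0 : t * v 0 = v 0 * t) : ∃ D : Pair t, ∀ x, x * t = t * x → x ∈ D.top' := by
  obtain ⟨σ, hσ⟩ := F.perm t htN
  have hσ2 : σ * σ = 1 := F.perm_unique (F.perm_mul hσ hσ) fun i => by
    rw [ht2, one_mul, inv_one, mul_one, Equiv.Perm.one_apply]
  have hσ1 : σ ≠ 1 := fun h => htJ (F.mem_of_perm_one fun i => by rw [hσ, h, Equiv.Perm.one_apply])
  have hσ0 : σ 0 = 0 := F.v_inj (by rw [← hσ, ht0, mul_inv_cancel_right])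
  obtain ⟨τ, hτ⟩ := transposition σ hσ2 hσ1 hσ0
  obtain ⟨h, hh, hhv⟩ := F.full τ
  obtain ⟨t', n, ht'2, hn2, htn, ht'N, hnN, ht'v, hnv⟩ := F.exists_tn
  set t₁ := h * t * h⁻¹ with ht₁
  have ht₁2 : t₁ * t₁ = 1 := by rw [ht₁, conj_mul, ht2, mul_one, mul_inv_cancel]
  have ht₁v : ∀ i, t₁ * v i * t₁⁻¹ = v (Equiv.swap 2 3 i) := fun i => by
    obtain ⟨j, rfl⟩ := τ.surjective i
    rw [← hhv, show t₁ * (h * v j * h⁻¹) * t₁⁻¹ = h * (t * v j * t⁻¹) * h⁻¹ by rw [ht₁]; group, hσ, hhv]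
    exact congrArg v (congrFun (congrArg DFunLike.coe hτ) j)
  set k := t₁ * t'
  have hkJ : k ∈ J := F.mem_of_perm_one fun i => by
    rw [F.perm_mul ht₁v ht'v i, show Equiv.swap (2 : Fin 4) 3 * Equiv.swap 2 3 = 1 by decide,
      Equiv.Perm.one_apply]
  have ht₁i : t₁⁻¹ = t₁ := inv_eq_of_mul_eq_one_right ht₁2
  have ht'i : t'⁻¹ = t' := inv_eq_of_mul_eq_one_right ht'2
  have hk3 : k * k * k = 1 := by rw [← F.cube k hkJ, pow_succ, pow_two]
  have hkt : (k * h) * t * (k * h)⁻¹ = t' := by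
    calc (k * h) * t * (k * h)⁻¹ = k * t₁ * k⁻¹ := by rw [ht₁]; group
      _ = t₁ * (t' * t₁) * (t' * t₁) := by
        rw [show k⁻¹ = t' * t₁ by rw [_root_.mul_inv_rev, ht'i, ht₁i]]
        simp only [k, mul_assoc]
      _ = t' := by
        calc t₁ * (t' * t₁) * (t' * t₁) = k * k * k * t'⁻¹ * (t' * t₁ * t₁⁻¹) * (t'⁻¹ * t₁⁻¹ * t₁) := by
              simp only [k, ht'i, ht₁i, mul_assoc, ht'2, ht₁2, one_mul, mul_one]
          _ = t' := by rw [hk3]; simp [ht'i, ht₁2, ht'2, mul_assoc]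
  obtain ⟨θ, N₀, hi, hθt, hc, hθH, hne, hgen⟩ := F.exists_pair ⟨ht'2, hn2, htn, ht'N, hnN, ht'v, hnv⟩
  have hni : n⁻¹ = n := inv_eq_of_mul_eq_one_right hn2
  let D' : Pair t' :=
    { θ := θ
      θ' := (MulAut.conj n).toMonoidHom.comp θ
      n := n
      inj := hi
      inj' := (MulAut.conj n).injective.comp hi
      neg := hθt
      neg' := by
        show n * θ (-1) * n⁻¹ = t'
        rw [hθt, ← htn, mul_inv_cancel_right]
      comm := fun a b => by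
        show θ a * (n * θ b * n⁻¹) = n * θ b * n⁻¹ * θ a
        rw [hni]; exact hc a b
      n2 := hn2
      swap := fun a => by
        show n * θ a = n * θ a * n⁻¹ * n
        rw [inv_mul_cancel_right]
      swap' := fun a => by
        show n * (n * θ a * n⁻¹) = θ a * n
        rw [hni, ← mul_assoc, ← mul_assoc, hn2, one_mul]
      ne := fun a b => by
        show θ a * (n * θ b * n⁻¹) ≠ n
        rw [hni]; exact hne a b }
  have hall : ∀ x, x * t' = t' * x → x ∈ D'.top' := fun x hx => hgen D'.top'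
    (fun a => Or.inl ⟨(a, 1), by rw [Pair.pr_apply, map_one, mul_one]⟩)
    (Or.inr ⟨(1, 1), by rw [Pair.pr_apply, map_one, map_one, one_mul, one_mul]⟩)
    (Subgroup.mem_centralizer_singleton_iff.2 hx)
  set g := k * h
  have hgt : (MulAut.conj g⁻¹).toMonoidHom t' = t := by
    show g⁻¹ * t' * g⁻¹⁻¹ = t
    rw [← hkt]; group
  refine ⟨D'.map _ (MulAut.conj g⁻¹).injective t hgt, fun x hx => ?_⟩
  have hx' : g * x * g⁻¹ ∈ D'.top' := hall _ (by rw [← hkt, conj_mul, conj_mul, hx])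
  have := Pair.map_top' D' (MulAut.conj g⁻¹).toMonoidHom (MulAut.conj g⁻¹).injective t hgt hx'
  rwa [show (MulAut.conj g⁻¹).toMonoidHom (g * x * g⁻¹) = x by
    show g⁻¹ * (g * x * g⁻¹) * g⁻¹⁻¹ = x; group] at this

end CfsgLib.OEightLocal.Cent

namespace CfsgLib.OEightLocal.Loc

open CfsgLib.OEightLocal.Cent

variable {G : Type*} [Group G] [Finite G] (L : Loc G)

theorem t_mem_Γ : L.t ∈ Subgroup.centralizer ({L.i₂} : Set G) :=
  Subgroup.mem_centralizer_singleton_iff.2 (L.O_comm L.t L.t_mem).2.2.eq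

/-- The image of `t`. -/
abbrev tb : Bar L.i₂ := L.q₂ ⟨L.t, L.t_mem_Γ⟩

/-- A two-element of `C(i₂)` is determined by its image. -/
theorem eq_one_of_bar {x : ↥(Subgroup.centralizer ({L.i₂} : Set G))} (h8 : (x : G) ^ 8 = 1)
    (h : L.q₂ x = 1) : (x : G) = 1 := by
  refine eq_one_of_coprime (m := 3) ?_ h8 (by norm_num)
  obtain ⟨n, hn⟩ := Subgroup.mem_zpowers_iff.1 (mk_eq_one_iff.1 h)
  rw [← hn, ← zpow_natCast, ← zpow_mul, mul_comm, zpow_mul, zpow_natCast, L.cube_i₂, one_zpow]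

/-- The configuration of the two copies of `SL(2,3)`. -/
theorem exists_pairT : ∃ (M : Subgroup (Bar L.i₂)) (D : Pair L.tb), M.Normal ∧
    Subgroup.centralizer ({L.zb} : Set (Bar L.i₂)) ≤ M ∧
    (∀ x ∈ M, x * L.zb * x⁻¹ ≠ L.zb⁻¹) ∧
    (L.m = 1 → M = ⊤) ∧ (∀ x y, x ∉ M → y ∉ M → x * y ∈ M) ∧
    ∀ x ∈ M, x * L.tb = L.tb * x → x ∈ D.top' := by
  obtain ⟨M, hMn, hC, hinv, h1, h2, v, F, hv0⟩ := L.exists_frame
  have htC : L.tb ∈ Subgroup.centralizer ({L.zb} : Set (Bar L.i₂)) := by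
    refine Subgroup.mem_centralizer_singleton_iff.2 ?_
    rw [← map_mul, ← map_mul]
    exact congrArg _ (Subtype.ext (L.O_comm L.t L.t_mem).1.eq)
  have htM := hC htC
  have htt : (⟨L.tb, htM⟩ : M) * ⟨L.tb, htM⟩ = 1 := Subtype.ext (by
    show L.tb * L.tb = 1
    rw [← map_mul]
    exact (congrArg _ (Subtype.ext L.t_sq)).trans (map_one _))
  have htN : L.tb ∈ Subgroup.normalizer (L.Jb₂ : Set (Bar L.i₂)) := by
    rw [L.normalizer_Jb₂]
    exact ⟨⟨L.t, L.t_mem_Γ⟩, ⟨(act_t L).mem_normalizer, L.t_mem_Γ⟩, rfl⟩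
  have htJ : (⟨L.tb, htM⟩ : M) ∉ L.Jb₂.subgroupOf M := fun h => by
    have h3 : L.tb ^ 3 = 1 := congrArg Subtype.val (F.cube _ h)
    have h' : L.tb = 1 := eq_one_of_coprime h3 (n := 2) (by rw [pow_two]; exact congrArg Subtype.val htt)
      (by norm_num)
    refine t_ne L (L.eq_one_of_bar (x := ⟨L.t, L.t_mem_Γ⟩) ?_ h')
    show L.t ^ 8 = 1
    rw [show (8 : ℕ) = 2 * 4 from rfl, pow_mul, pow_two, L.t_sq, one_pow]
  obtain ⟨D', hD'⟩ := pair_of_frame F htt htJ (Subgroup.mem_normalizer_iff.2 fun j =>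
      Subgroup.mem_normalizer_iff.1 htN (j : Bar L.i₂))
    (Subtype.ext (by
      show L.tb * (v 0 : Bar L.i₂) = (v 0 : Bar L.i₂) * L.tb
      rw [hv0]
      exact Subgroup.mem_centralizer_singleton_iff.1 htC))
  refine ⟨M, D'.map M.subtype M.subtype_injective L.tb rfl, hMn, hC, hinv, h1, h2, fun x hx hxt => ?_⟩
  exact Pair.map_top' D' M.subtype M.subtype_injective L.tb rfl (hD' ⟨x, hx⟩ (Subtype.ext hxt))

/-- The two sides. -/
theorem exists_sides : ∃ (M : Subgroup (Bar L.i₂)) (D : Pair L.tb), M.Normal ∧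
    (∀ x ∈ M, x * L.zb * x⁻¹ ≠ L.zb⁻¹) ∧
    (L.m = 1 → M = ⊤) ∧ (∀ x y, x ∉ M → y ∉ M → x * y ∈ M) ∧
    (∀ x ∈ M, x * L.tb = L.tb * x → x ∈ D.top') ∧
    ∀ g, g ∈ L.NJ → Commute g L.t → ∀ hg : g ∈ Subgroup.centralizer ({L.i₂} : Set G), ∃ s a,
      L.q₂ (⟨g, hg⟩ * ⟨L.z, L.z_mem_Γ⟩ * ⟨g, hg⟩⁻¹) = D.cp s a ∧ a * a * a = 1 ∧ a ≠ 1 ∧
      ∀ w (hw : w ∈ L.O), ∃ c, c * c * c * c = 1 ∧ L.q₂ (⟨g, hg⟩ *
        ⟨w, Subgroup.mem_centralizer_singleton_iff.2 (L.O_comm w hw).2.2⟩ * ⟨g, hg⟩⁻¹) = D.cp (!s) c := by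
  obtain ⟨M, D, hMn, hC, hinv, h1, h2, hD⟩ := L.exists_pairT
  refine ⟨M, D, hMn, hinv, h1, h2, hD, fun g hgN hgt hg => ?_⟩
  set gΓ : ↥(Subgroup.centralizer ({L.i₂} : Set G)) := ⟨g, hg⟩
  have conj8 : ∀ {w : G}, w ∈ L.O → (g * w * g⁻¹) ^ 4 = 1 := fun {w} hw => by
    rw [conj_pow, L.O_pow_four hw, mul_one, mul_inv_cancel]
  have memD : ∀ x : ↥(Subgroup.centralizer ({L.i₂} : Set G)), Commute (x : G) L.z → Commute (x : G) L.t →
      L.q₂ (gΓ * x * gΓ⁻¹) ∈ D.top' := fun x hxz hxt => by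
    refine hD _ ?_ ?_
    · rw [map_mul, map_mul, map_inv]
      refine hMn.conj_mem _ (hC (Subgroup.mem_centralizer_singleton_iff.2 ?_)) _
      rw [← map_mul, ← map_mul]
      exact congrArg _ (Subtype.ext hxz.eq)
    · rw [← map_mul, ← map_mul]
      exact congrArg _ (Subtype.ext ((hgt.mul_left hxt).mul_left hgt.inv_left).eq)
  let oΓ : L.O → ↥(Subgroup.centralizer ({L.i₂} : Set G)) := fun w =>
    ⟨w, Subgroup.mem_centralizer_singleton_iff.2 (L.O_comm w w.2).2.2⟩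
  have hti : L.t⁻¹ = L.t := L.t_inv
  obtain ⟨s, a, hs, ha3, ha1, hO⟩ := D.side (Z := L.q₂ (gΓ * ⟨L.z, L.z_mem_Γ⟩ * gΓ⁻¹))
    (Y := L.q₂ (gΓ * ⟨L.y, L.y_mem_K₂.2⟩ * gΓ⁻¹))
    (O := Set.range fun w : L.O => L.q₂ (gΓ * oΓ w * gΓ⁻¹))
    (memD _ (Commute.refl _) (L.O_comm L.t L.t_mem).1.symm) (memD _ L.comm_zy.symm L.comm_ty.symm)
    (by rintro _ ⟨w, rfl⟩; exact memD _ (L.O_comm w w.2).1 (L.O_comm_t w.2))
    (by
      rw [← map_pow, conj_pow, show (⟨L.z, L.z_mem_Γ⟩ : ↥(Subgroup.centralizer ({L.i₂} : Set G))) ^ 3 = 1 from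
        Subtype.ext L.cube_z]
      simp)
    (by
      rw [← map_pow, conj_pow,
        show (⟨L.y, L.y_mem_K₂.2⟩ : ↥(Subgroup.centralizer ({L.i₂} : Set G))) ^ 3 = 1 from Subtype.ext L.cube_y]
      simp)
    (by
      rw [map_mul, map_mul, map_inv, Ne, conj_eq_one_iff]
      intro h
      have := L.orderOf_zb
      rw [show L.zb = 1 from h, orderOf_one] at this
      norm_num at this)
    (by
      rintro _ ⟨w, rfl⟩
      rw [← map_pow, conj_pow, show oΓ w ^ 8 = 1 from Subtype.ext (by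
        show (w : G) ^ 8 = 1
        rw [show (8 : ℕ) = 4 * 2 from rfl, pow_mul, L.O_pow_four w.2, one_pow])]
      simp)
    (by
      rintro _ ⟨w, rfl⟩
      show L.q₂ _ * L.q₂ _ = L.q₂ _ * L.q₂ _
      rw [← map_mul, ← map_mul, conj_mul, conj_mul]
      exact congrArg _ (congrArg (fun x => gΓ * x * gΓ⁻¹) (Subtype.ext (L.O_comm w w.2).1.symm.eq)))
    (by
      obtain ⟨w, hw, w1, wt⟩ := L.exists_noncentral
      refine ⟨_, ⟨⟨w, hw⟩, rfl⟩, fun h => w1 ?_, fun h => wt ?_⟩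
      · have := L.eq_one_of_bar (x := gΓ * oΓ ⟨w, hw⟩ * gΓ⁻¹) (by
          show (g * w * g⁻¹) ^ 8 = 1
          rw [show (8 : ℕ) = 4 * 2 from rfl, pow_mul, conj8 hw, one_pow]) h
        exact conj_eq_one_iff.1 (show g * w * g⁻¹ = 1 from this)
      · have h' : L.q₂ (gΓ * oΓ ⟨w * L.t, mul_mem hw L.t_mem⟩ * gΓ⁻¹) = 1 := by
          have e : gΓ * oΓ ⟨w * L.t, mul_mem hw L.t_mem⟩ * gΓ⁻¹ = gΓ * oΓ ⟨w, hw⟩ * gΓ⁻¹ * ⟨L.t, L.t_mem_Γ⟩ :=
            Subtype.ext (by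
              show g * (w * L.t) * g⁻¹ = g * w * g⁻¹ * L.t
              rw [← mul_assoc g w, mul_assoc (g * w), ← hgt.inv_left.eq, ← mul_assoc])
          rw [e, map_mul, show L.q₂ (gΓ * oΓ ⟨w, hw⟩ * gΓ⁻¹) = L.tb from h, ← map_mul]
          exact (congrArg _ (Subtype.ext L.t_sq)).trans (map_one _)
        have := L.eq_one_of_bar (x := gΓ * oΓ ⟨w * L.t, mul_mem hw L.t_mem⟩ * gΓ⁻¹) (by
          show (g * (w * L.t) * g⁻¹) ^ 8 = 1
          rw [show (8 : ℕ) = 4 * 2 from rfl, pow_mul, conj8 (mul_mem hw L.t_mem), one_pow]) h'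
        rw [eq_inv_of_mul_eq_one_left (conj_eq_one_iff.1 (show g * (w * L.t) * g⁻¹ = 1 from this)), hti])
    (by
      rintro _ ⟨⟨w, hw⟩, rfl⟩ h1' ht'
      have hw1 : w ≠ 1 := fun h => h1' (by
        show L.q₂ (gΓ * oΓ ⟨w, hw⟩ * gΓ⁻¹) = 1
        rw [show oΓ ⟨w, hw⟩ = 1 from Subtype.ext h]; simp)
      have hwt : w ≠ L.t := fun h => ht' (congrArg L.q₂ (Subtype.ext (by
        show g * w * g⁻¹ = L.t
        rw [h, hgt.eq, mul_inv_cancel_right])))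
      obtain ⟨m1, m2⟩ := L.y_moves hw hw1 hwt
      have hc : L.y * w * L.y⁻¹ * w⁻¹ ∈ L.O := mul_mem (L.O_y w hw) (inv_mem hw)
      obtain ⟨k, hk⟩ := L.O_orbit hc (fun h => m1 (mul_inv_eq_one.1 h)) (fun h => m2 (by
        rw [mul_inv_eq_iff_eq_mul.1 h]
        exact (L.O_comm_t hw).symm.eq)) hw hw1 hwt
      refine ⟨_, ⟨⟨w, hw⟩, rfl⟩, k.val, ?_⟩
      simp only [← map_mul, ← map_inv, ← map_pow]
      refine hk.imp (fun e => congrArg L.q₂ (Subtype.ext ?_)) (fun e => congrArg L.q₂ (Subtype.ext ?_))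
      · simp only [Subgroup.coe_mul, Subgroup.coe_inv, Subgroup.coe_pow, conj_pow, gΓ, oΓ]
        calc _ = g * (L.y ^ k.val * (L.y * w * L.y⁻¹ * w⁻¹) * (L.y ^ k.val)⁻¹) * g⁻¹ := by group
          _ = _ := by rw [e]
      · simp only [Subgroup.coe_mul, Subgroup.coe_inv, Subgroup.coe_pow, conj_pow, gΓ, oΓ]
        calc _ = g * (L.y ^ k.val * (L.y * w * L.y⁻¹ * w⁻¹) * (L.y ^ k.val)⁻¹) * g⁻¹ := by group
          _ = g * w * g⁻¹ * L.t := by
            rw [e, ← mul_assoc, mul_assoc _ L.t, ← (hgt.inv_left).eq]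
            group)
  refine ⟨s, a, hs, ha3, ha1, fun w hw => ?_⟩
  obtain ⟨c, -, hc⟩ := hO _ ⟨⟨w, hw⟩, rfl⟩
  refine ⟨c, D.cp_inj (!s) ?_, hc⟩
  rw [map_one, map_mul, map_mul, map_mul, ← hc, ← map_mul, ← map_mul, ← map_mul]
  refine (congrArg L.q₂ (Subtype.ext ?_)).trans (map_one _)
  have := conj8 hw
  simp only [pow_succ, pow_zero, one_mul] at this
  exact this

/-- A conjugate of `z` in `C(i₂)` moved off `⟨z⟩` lies on the other side. -/
theorem other_side {D : Pair L.tb} {g : G} (hgN : g ∈ L.NJ)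
    (hg : g ∈ Subgroup.centralizer ({L.i₂} : Set G)) (hgz : g * L.z * g⁻¹ ∉ Subgroup.zpowers L.z)
    {s s' : Bool} {a a' : CfsgLib.PSpFourLocal.S23} (h : L.zb = D.cp s a) (ha : a * a * a = 1) (ha1 : a ≠ 1)
    (h' : L.q₂ (⟨g, hg⟩ * ⟨L.z, L.z_mem_Γ⟩ * ⟨g, hg⟩⁻¹) = D.cp s' a') (ha' : a' * a' * a' = 1) : s' = !s := by
  by_contra hne
  have e : s' = s := by revert hne; cases s <;> cases s' <;> simp
  rw [e] at h'
  have hJ : g * L.z * g⁻¹ ∈ L.J := (Subgroup.mem_normalizer_iff.1 hgN _).1 L.mem_gens.2.2.2.2.2.2.1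
  have hcomm : Commute (D.cp s a) (D.cp s a') := by
    rw [← h, ← h']
    show L.q₂ _ * L.q₂ _ = L.q₂ _ * L.q₂ _
    rw [← map_mul, ← map_mul]
    exact congrArg _ (Subtype.ext (L.J_comm L.mem_gens.2.2.2.2.2.2.1 hJ))
  obtain ⟨k, hk⟩ := Subgroup.mem_zpowers_iff.1 (Pair.same_side D ha ha1 ha' hcomm)
  rw [← h, ← h', ← map_zpow] at hk
  obtain ⟨n, hn⟩ := mk_eq_iff.1 hk
  have hn' : g * L.z * g⁻¹ = L.z ^ k * L.i₂ ^ n := hn
  refine hgz ?_
  rw [hn', L.conj_z_i₂ (zpow_mem (Subgroup.mem_zpowers _) k) hn', mul_one]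
  exact zpow_mem (Subgroup.mem_zpowers _) k

theorem zb_conj_one : L.q₂ (⟨1, one_mem _⟩ * ⟨L.z, L.z_mem_Γ⟩ * ⟨1, one_mem _⟩⁻¹) = L.zb :=
  congrArg _ (Subtype.ext (by simp))

/-- `O` commutes with its conjugate at another point. -/
theorem comm_O : L.CommO := by
  intro g hgN hgi hgt hgz v hv w hw
  obtain ⟨M, D, -, -, -, -, -, hsides⟩ := L.exists_sides
  have hg : g ∈ Subgroup.centralizer ({L.i₂} : Set G) := Subgroup.mem_centralizer_singleton_iff.2 hgi.eq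
  obtain ⟨s, a, hz, ha, ha1, hO⟩ := hsides 1 (one_mem _) (Commute.one_left _) (one_mem _)
  obtain ⟨s', a', hz', ha', -, hO'⟩ := hsides g hgN hgt hg
  rw [L.zb_conj_one] at hz
  obtain rfl := L.other_side hgN hg hgz hz ha ha1 hz' ha'
  obtain ⟨c, -, hc⟩ := hO v hv
  obtain ⟨c', -, hc'⟩ := hO' w hw
  rw [Bool.not_not] at hc'
  set vΓ : ↥(Subgroup.centralizer ({L.i₂} : Set G)) := ⟨v, Subgroup.mem_centralizer_singleton_iff.2 (L.O_comm v hv).2.2⟩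
  set xΓ : ↥(Subgroup.centralizer ({L.i₂} : Set G)) :=
    ⟨g, hg⟩ * ⟨w, Subgroup.mem_centralizer_singleton_iff.2 (L.O_comm w hw).2.2⟩ * ⟨g, hg⟩⁻¹
  have hv' : L.q₂ vΓ = D.cp (!s) c := by
    rw [← hc]; exact congrArg _ (Subtype.ext (by simp [vΓ]))
  have hcomm : L.q₂ xΓ = L.q₂ (vΓ * xΓ * vΓ⁻¹) := by
    rw [show L.q₂ (vΓ * xΓ * vΓ⁻¹) = L.q₂ vΓ * L.q₂ xΓ * (L.q₂ vΓ)⁻¹ by rw [map_mul, map_mul, map_inv], hv',
      show L.q₂ xΓ = D.cp s c' from hc', (D.cp_comm s c' c).symm.eq, mul_inv_cancel_right]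
  obtain ⟨n, hn⟩ := mk_eq_iff.1 hcomm
  have hn' : v * (g * w * g⁻¹) * v⁻¹ = g * w * g⁻¹ * L.i₂ ^ n := hn
  have hxi : Commute (g * w * g⁻¹) (L.i₂ ^ n) :=
    (((hgi.mul_left (L.O_comm w hw).2.2).mul_left hgi.inv_left)).zpow_right n
  have h4 : (L.i₂ ^ n) ^ 4 = 1 := by
    have := congrArg (· ^ 4) hn'
    simpa [conj_pow, hxi.mul_pow, L.O_pow_four hw] using this.symm
  have h3 : (L.i₂ ^ n) ^ 3 = 1 := by
    rw [← zpow_natCast, ← zpow_mul, mul_comm, zpow_mul, zpow_natCast, L.cube_i₂, one_zpow]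
  rw [eq_one_of_coprime h3 h4 (by norm_num), mul_one] at hn'
  exact mul_inv_eq_iff_eq_mul.1 hn'

/-- `C(i₂) ∩ C(t)`. -/
theorem cent_i2_t {g : G} (hgN : g ∈ L.NJ) (hgi : Commute g L.i₂) (hgt : Commute g L.t)
    (hgz : g * L.z * g⁻¹ ∉ Subgroup.zpowers L.z) :
    Subgroup.centralizer ({L.i₂} : Set G) ⊓ Subgroup.centralizer ({L.t} : Set G) ≤
      L.O ⊔ L.O.map (MulAut.conj g).toMonoidHom ⊔
        (L.NJ ⊓ Subgroup.centralizer ({L.i₂} : Set G) ⊓ Subgroup.centralizer ({L.t} : Set G)) := by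
  classical
  obtain ⟨M, D, hMn, hinv, h1, h2, hD, hsides⟩ := L.exists_sides
  set X := L.NJ ⊓ Subgroup.centralizer ({L.i₂} : Set G) ⊓ Subgroup.centralizer ({L.t} : Set G) with hX
  set P := L.O ⊔ L.O.map (MulAut.conj g).toMonoidHom ⊔ X with hP
  have hg : g ∈ Subgroup.centralizer ({L.i₂} : Set G) := Subgroup.mem_centralizer_singleton_iff.2 hgi.eq
  have hmemX : ∀ x, x ∈ L.NJ → Commute x L.i₂ → Commute x L.t → x ∈ P := fun x a b c =>
    Subgroup.mem_sup_right ⟨⟨a, Subgroup.mem_centralizer_singleton_iff.2 b.eq⟩,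
      Subgroup.mem_centralizer_singleton_iff.2 c.eq⟩
  have hzP : L.z ∈ P := hmemX _ (Subgroup.le_normalizer L.mem_gens.2.2.2.2.2.2.1) L.comm_zi₂
    (L.O_comm L.t L.t_mem).1.symm
  have hgP : g ∈ P := hmemX _ hgN hgi hgt
  have hzgP : g * L.z * g⁻¹ ∈ P := mul_mem (mul_mem hgP hzP) (inv_mem hgP)
  set Y := img L.i₂ P with hY
  obtain ⟨s, a, hz, ha, ha1, hO⟩ := hsides 1 (one_mem _) (Commute.one_left _) (one_mem _)
  obtain ⟨s', a', hz', ha', ha1', hO'⟩ := hsides g hgN hgt hg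
  rw [L.zb_conj_one] at hz
  obtain rfl := L.other_side hgN hg hgz hz ha ha1 hz' ha'
  -- a whole copy lies in the image
  have copy : ∀ (h : G) (hh : h ∈ Subgroup.centralizer ({L.i₂} : Set G)), h ∈ P → ∀ (b : Bool)
      (a₀ : CfsgLib.PSpFourLocal.S23), D.cp b a₀ ∈ Y → a₀ * a₀ * a₀ = 1 → a₀ ≠ 1 →
      (∀ w (hw : w ∈ L.O), ∃ c, c * c * c * c = 1 ∧ L.q₂ (⟨h, hh⟩ *
        ⟨w, Subgroup.mem_centralizer_singleton_iff.2 (L.O_comm w hw).2.2⟩ * ⟨h, hh⟩⁻¹) = D.cp b c) →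
      ∀ c, D.cp b c ∈ Y := by
    intro h hh hhP b a₀ hb h3 h1' hOb
    choose f hf4 hf using hOb
    let F : L.O → {c : CfsgLib.PSpFourLocal.S23 // c * c * c * c = 1} := fun w => ⟨f w w.2, hf4 w w.2⟩
    have hF : Function.Injective F := by
      intro w w' e
      have e' : f w w.2 = f w' w'.2 := congrArg Subtype.val e
      have hww : L.q₂ (⟨h, hh⟩ * ⟨(w : G)⁻¹ * w',
          Subgroup.mem_centralizer_singleton_iff.2 (L.O_comm _ (mul_mem (inv_mem w.2) w'.2)).2.2⟩ * ⟨h, hh⟩⁻¹) = 1 := by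
        rw [show ∀ hp, (⟨h, hh⟩ : ↥(Subgroup.centralizer ({L.i₂} : Set G))) * ⟨(w : G)⁻¹ * w', hp⟩ * ⟨h, hh⟩⁻¹ =
          (⟨h, hh⟩ * ⟨w, Subgroup.mem_centralizer_singleton_iff.2 (L.O_comm w w.2).2.2⟩ * ⟨h, hh⟩⁻¹)⁻¹ *
            (⟨h, hh⟩ * ⟨w', Subgroup.mem_centralizer_singleton_iff.2 (L.O_comm w' w'.2).2.2⟩ * ⟨h, hh⟩⁻¹) from
          fun hp => Subtype.ext (by simp [mul_assoc]), map_mul, map_inv, hf w w.2, hf w' w'.2, e', inv_mul_cancel]
      have := L.eq_one_of_bar (by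
        show (h * ((w : G)⁻¹ * w') * h⁻¹) ^ 8 = 1
        rw [conj_pow, show (8 : ℕ) = 4 * 2 from rfl, pow_mul, L.O_pow_four (mul_mem (inv_mem w.2) w'.2), one_pow]
        group) hww
      exact Subtype.ext (inv_mul_eq_one.1 (conj_eq_one_iff.1 this))
    have hsurj : Function.Surjective F := ((Nat.bijective_iff_injective_and_card F).2 ⟨hF, by
      rw [L.card_O, Nat.card_eq_fintype_card, Pair.sl_sq_count]⟩).2
    have he : ∀ e, e * e * e * e = 1 → D.cp b e ∈ Y := by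
      intro e he
      obtain ⟨w, hw⟩ := hsurj ⟨e, he⟩
      rw [← show f w w.2 = e from congrArg Subtype.val hw, ← hf]
      exact ⟨_, mul_mem (mul_mem hhP (Subgroup.mem_sup_left (Subgroup.mem_sup_left w.2))) (inv_mem hhP), rfl⟩
    intro c
    obtain ⟨e, he4, hc⟩ := Pair.sl_gen a₀ c h3 h1'
    rcases hc with rfl | rfl | rfl
    · exact he _ he4
    · rw [map_mul]; exact mul_mem (he _ he4) hb
    · rw [map_mul, map_mul]; exact mul_mem (he _ he4) (mul_mem hb hb)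
  have hA : ∀ c, D.cp s c ∈ Y := by
    refine copy g hg hgP s a (hz ▸ ⟨⟨L.z, L.z_mem_Γ⟩, hzP, rfl⟩) ha ha1 fun w hw => ?_
    obtain ⟨c, hc4, hc⟩ := hO' w hw
    exact ⟨c, hc4, by rw [hc, Bool.not_not]⟩
  have hB : ∀ c, D.cp (!s) c ∈ Y :=
    copy 1 (one_mem _) (one_mem _) (!s) a'
      (hz' ▸ ⟨⟨g, hg⟩ * ⟨L.z, L.z_mem_Γ⟩ * ⟨g, hg⟩⁻¹, hzgP, rfl⟩) ha' ha1' hO
  have hAB : ∀ q, D.pr q ∈ Y := fun q => by
    rw [Pair.pr_apply]
    cases s
    · exact mul_mem (hA q.1) (hB q.2)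
    · exact mul_mem (hB q.1) (hA q.2)
  -- outside the part `M`
  have hout : ∀ x : Bar L.i₂, x ∉ M → ∃ ν' ∈ Y, ν' ∉ M ∧ ν' * L.zb * ν'⁻¹ = L.zb⁻¹ ∧
      ν' * L.tb = L.tb * ν' := by
    intro x hx
    rcases L.hm with hm | hm
    · exact absurd (by rw [h1 hm]; exact Subgroup.mem_top x) hx
    · refine ⟨L.q₂ ⟨L.u * L.ν, L.uν_mem hm⟩, ⟨_, ?_, rfl⟩, fun h => hinv _ h (L.real hm), L.real hm, ?_⟩
      · exact hmemX _ (mul_mem (act_u_two L hm).mem_normalizer (act_nu L).mem_normalizer)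
          (Subgroup.mem_centralizer_singleton_iff.1 (L.uν_mem hm)) (L.comm_ut.mul_left L.comm_νt)
      · rw [← map_mul, ← map_mul]
        exact congrArg _ (Subtype.ext (L.comm_ut.mul_left L.comm_νt).eq)
  -- an element exchanging the copies
  obtain ⟨r, -, -, hrt, hra, hrz, -, -, hri⟩ := exists_swap L
  have hrN : r ∈ L.NJ := hra.mem_normalizer
  have hrΓ : r ∈ Subgroup.centralizer ({L.i₂} : Set G) := Subgroup.mem_centralizer_singleton_iff.2 hri.eq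
  set rb := L.q₂ ⟨r, hrΓ⟩ with hrb
  have hrY : rb ∈ Y := ⟨⟨r, hrΓ⟩, hmemX r hrN hri hrt, rfl⟩
  have hrz' : r * L.z * r⁻¹ ∉ Subgroup.zpowers L.z := fun h => by
    obtain ⟨k, hk⟩ := Subgroup.mem_zpowers_iff.1 h
    rw [hrz] at hk
    refine L.i₁_not_Z ?_
    have hyp : L.y * L.p * L.y⁻¹ = L.p := by
      rw [← hk, (L.comm_zp.zpow_left k).eq, mul_inv_cancel_right]
    rw [L.rel_yp, mul_assoc] at hyp
    rw [eq_inv_of_mul_eq_one_left (mul_left_cancel (hyp.trans (mul_one _).symm))]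
    exact inv_mem (Subgroup.mem_zpowers _)
  obtain ⟨s'', a'', hz'', ha'', ha1'', -⟩ := hsides r hrN hrt hrΓ
  obtain rfl := L.other_side hrN hrΓ hrz' hz ha ha1 hz'' ha''
  rw [map_mul, map_mul, map_inv, ← hrb] at hz''
  obtain ⟨r', hr'Y, hr'M, hr't, hr'z⟩ : ∃ r' ∈ Y, r' ∈ M ∧ r' * L.tb = L.tb * r' ∧
      (r' * L.zb * r'⁻¹ = D.cp (!s) a'' ∨ r' * L.zb * r'⁻¹ = D.cp (!s) a''⁻¹) := by
    have hrtb : rb * L.tb = L.tb * rb := by
      rw [hrb, ← map_mul, ← map_mul]; exact congrArg _ (Subtype.ext hrt.eq)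
    by_cases hr : rb ∈ M
    · exact ⟨rb, hrY, hr, hrtb, Or.inl hz''⟩
    · obtain ⟨ν', hνY, hνM, hνz, hνt⟩ := hout rb hr
      refine ⟨rb * ν', mul_mem hrY hνY, h2 _ _ hr hνM, ((show Commute rb L.tb from hrtb).mul_left hνt).eq, Or.inr ?_⟩
      rw [show rb * ν' * L.zb * (rb * ν')⁻¹ = rb * (ν' * L.zb * ν'⁻¹) * rb⁻¹ by group, hνz, ← conj_inv, hz'',
        map_inv]
  have hnY : D.n ∈ Y := by
    rcases hD _ hr'M hr't with ⟨q, hq⟩ | ⟨q, hq⟩
    · exfalso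
      have key : ∀ (b : Bool) (q : CfsgLib.PSpFourLocal.S23 × CfsgLib.PSpFourLocal.S23) (x : CfsgLib.PSpFourLocal.S23),
          ∃ x', D.pr q * D.cp b x * (D.pr q)⁻¹ = D.cp b x' := by
        intro b q x
        rw [Pair.pr_apply]
        cases b
        · refine ⟨q.1 * x * q.1⁻¹, ?_⟩
          have c : Commute (D.θ' q.2) (D.θ x) := (D.comm x q.2).symm
          show D.θ q.1 * D.θ' q.2 * D.θ x * (D.θ q.1 * D.θ' q.2)⁻¹ = D.θ (q.1 * x * q.1⁻¹)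
          rw [map_mul, map_mul, map_inv, mul_assoc (D.θ q.1), c.eq]
          group
        · refine ⟨q.2 * x * q.2⁻¹, ?_⟩
          have c : Commute (D.θ q.1) (D.θ' (q.2 * x * q.2⁻¹)) := D.comm _ _
          show D.θ q.1 * D.θ' q.2 * D.θ' x * (D.θ q.1 * D.θ' q.2)⁻¹ = D.θ' (q.2 * x * q.2⁻¹)
          rw [show D.θ q.1 * D.θ' q.2 * D.θ' x * (D.θ q.1 * D.θ' q.2)⁻¹ =
            D.θ q.1 * (D.θ' q.2 * D.θ' x * (D.θ' q.2)⁻¹) * (D.θ q.1)⁻¹ by group, ← map_inv D.θ', ← map_mul,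
            ← map_mul, c.eq, mul_inv_cancel_right]
      obtain ⟨x', hx'⟩ := key s q a
      rw [hq, ← hz] at hx'
      -- a non-central element common to both copies
      have both : ∀ x y, D.cp s x = D.cp (!s) y → x = 1 ∨ x = -1 := fun x y e =>
        Pair.sl_center x fun c => D.cp_inj s (by
          rw [map_mul, map_mul, e]
          exact (D.cp_comm s c y).symm.eq)
      obtain ⟨y, hy⟩ : ∃ y, D.cp s x' = D.cp (!s) y := by
        rcases hr'z with e | e <;> exact ⟨_, hx'.symm.trans e⟩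
      have h3 : x' * x' * x' = 1 := D.cp_inj s (by
        rw [map_mul, map_mul, map_one, ← hx', conj_mul, conj_mul, ← pow_three',
          show L.zb ^ 3 = 1 by rw [← L.orderOf_zb, pow_orderOf_eq_one], mul_one, mul_inv_cancel])
      rcases both x' y hy with rfl | rfl
      · rw [map_one, conj_eq_one_iff] at hx'
        have := L.orderOf_zb
        rw [hx', orderOf_one] at this
        norm_num at this
      · rw [(Pair.sl_neg_pow 1).2.1, one_mul] at h3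
        exact (Pair.sl_neg_pow 1).2.2.1 h3
    · have : D.n = (D.pr q)⁻¹ * r' := by rw [hq, inv_mul_cancel_left]
      rw [this]
      exact mul_mem (inv_mem (hAB q)) hr'Y
  have hin : ∀ x ∈ M, x * L.tb = L.tb * x → x ∈ Y := by
    intro x hx hxt
    rcases hD x hx hxt with ⟨q, hq⟩ | ⟨q, rfl⟩
    · exact hq ▸ hAB q
    · exact mul_mem (hAB q) hnY
  intro x hx
  obtain ⟨hxi, hxt⟩ := Subgroup.mem_inf.1 hx
  have hxY : L.q₂ ⟨x, hxi⟩ ∈ Y := by
    have hxtb : L.q₂ ⟨x, hxi⟩ * L.tb = L.tb * L.q₂ ⟨x, hxi⟩ := by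
      rw [← map_mul, ← map_mul]
      exact congrArg _ (Subtype.ext (Subgroup.mem_centralizer_singleton_iff.1 hxt))
    by_cases h : L.q₂ ⟨x, hxi⟩ ∈ M
    · exact hin _ h hxtb
    · obtain ⟨ν', hνY, hνM, -, hνt⟩ := hout _ h
      have := hin _ (h2 _ _ h hνM) (((show Commute (L.q₂ ⟨x, hxi⟩) L.tb from hxtb).mul_left hνt).eq)
      exact (Subgroup.mul_mem_cancel_right Y hνY).1 this
  obtain ⟨w, hw, hwx⟩ := hxY
  obtain ⟨n, hn⟩ := mk_eq_iff.1 hwx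
  rw [show x = (w : G) * L.i₂ ^ n from hn]
  exact mul_mem hw (zpow_mem (hmemX _ (Subgroup.le_normalizer L.mem_gens.2.2.2.2.2.2.2.2.1) (Commute.refl _)
    (L.O_comm L.t L.t_mem).2.2.symm) n)

end CfsgLib.OEightLocal.Loc
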