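import Cfsg.Agent.Lib.OEightLocal.Trans

/-!
Consequences: the centraliser and normaliser of `⟨z, i₂, y⟩`, the normalisers of the Sylow
subgroup and of `J⟨p⟩`, the swap of `z` and `y`, and the inversion of `J`.
-/

set_option autoImplicit false
set_option linter.style.haveILetI false

namespace CfsgLib.OEightLocal

theorem fp_add : ∀ (k k' : Fin 3) (v : V), fp^[k] (fp^[k'] v) = fp^[((k + k' : Fin 3) : ℕ)] v := by
  decide +kernel

theorem fp_fix_y : ∀ k : Fin 3, fp^[k] ![0, 0, 0, 1] = ![0, 0, 0, 1] → k = 0 := by decide +kernel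

theorem orth_e1 : ∀ w : V, bJ w ![1, 0, 0, 0] = 0 → bJ w ![0, 0, 1, 0] = 0 → bJ w ![0, 0, 0, 1] = 0 →
    qJ w = 2 → w = ![0, 1, 0, 0] ∨ w = -![0, 1, 0, 0] := by decide +kernel

theorem center_S : ∀ w : V, fp w = w → fa w = w → w ≠ 0 → w = ![1, 0, 0, 0] ∨ w = -![1, 0, 0, 0] := by
  decide +kernel

theorem center_S0 : ∀ w : V, fp w = w → qJ w = 0 → w ≠ 0 → w = ![1, 0, 0, 0] ∨ w = -![1, 0, 0, 0] := by
  decide +kernel

theorem minus_one_word : ∀ v : V,
    let R1 : V → V := fun v => v + bJ v ![1, 0, 0, 2] • ![1, 0, 0, 2]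
    let R2 : V → V := fun v => v + bJ v ![1, 0, 1, 1] • ![1, 0, 1, 1]
    fp (R1 (fp (R1 (R2 (R1 (fp (R1 (R2 (R2 (fp (R2 v))))))))))) = -v := by decide +kernel

variable {G : Type*} [Group G] (L : Loc G)

theorem t_notMem_J : L.t ∉ L.J := fun h => by
  have := congrFun ((act_mem_J L h).unique (act_t L)) ![0, 1, 0, 0]
  exact absurd this (by decide +kernel)

theorem act_Q1 {q : G} (hq : q ∈ Subgroup.closure ({L.z, L.i₁, L.p} : Set G)) :
    ∃ k : Fin 3, L.Act q fp^[k] := by
  induction hq using Subgroup.closure_induction with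
  | mem x hx =>
    simp only [Set.mem_insert_iff, Set.mem_singleton_iff] at hx
    rcases hx with rfl | rfl | rfl
    · exact ⟨0, act_mem_J L (Subgroup.subset_closure (by simp))⟩
    · exact ⟨0, act_mem_J L (Subgroup.subset_closure (by simp))⟩
    · exact ⟨1, act_p L⟩
  | one => exact ⟨0, Loc.Act.one⟩
  | mul x y _ _ hx hy =>
    obtain ⟨k, hk⟩ := hx; obtain ⟨k', hk'⟩ := hy
    exact ⟨k + k', (hk.mul hk').congr fun v => fp_add k k' v⟩
  | inv x _ hx =>
    obtain ⟨k, hk⟩ := hx
    obtain ⟨fi, hfi, hii⟩ := hk.inv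
    refine ⟨-k, hfi.congr fun v => hk.injective ?_⟩
    rw [hii, fp_add, add_neg_cancel]; rfl

/-- The centraliser of `⟨z, i₂, y⟩`. -/
theorem cent_E [Finite G] : Subgroup.centralizer ({L.z, L.i₂, L.y} : Set G) =
    Subgroup.closure {L.z, L.i₁, L.i₂, L.y, L.t} := by
  refine le_antisymm (fun g hg => ?_) ((Subgroup.closure_le _).2 ?_)
  · rw [Subgroup.mem_centralizer_iff] at hg
    have gz : Commute L.z g := hg _ (by simp)
    have gi : Commute L.i₂ g := hg _ (by simp)
    have gy : Commute L.y g := hg _ (by simp)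
    obtain ⟨x, hx, w, hw, rfl⟩ := exists_MO L (c := g) (Subgroup.mem_centralizer_singleton_iff.2 gz.symm.eq)
    have wi : Commute L.i₂ w := (L.O_comm w hw).2.2.symm
    have hyJ : L.y ∈ L.J := Subgroup.subset_closure (by simp)
    have hd : x⁻¹ * L.y * x * L.y⁻¹ = w * L.y * w⁻¹ * L.y⁻¹ := by
      rw [mul_left_inj, show x⁻¹ * L.y * x = x⁻¹ * (L.y * (x * w)) * w⁻¹ by group, gy.eq]; group
    have hxN := M_le_NJ L hx
    have hdJ : x⁻¹ * L.y * x * L.y⁻¹ ∈ L.J :=
      mul_mem ((Subgroup.mem_normalizer_iff''.1 hxN _).1 hyJ) (inv_mem hyJ)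
    have hdO : x⁻¹ * L.y * x * L.y⁻¹ ∈ L.O := by
      rw [hd, show w * L.y * w⁻¹ * L.y⁻¹ = w * (L.y * w⁻¹ * L.y⁻¹) by group]
      exact mul_mem hw (L.O_y _ (inv_mem hw))
    have hd1 : x⁻¹ * L.y * x * L.y⁻¹ = 1 := by
      rcases O_inf_NJ L hdO (Subgroup.le_normalizer hdJ) with h | h
      · exact h
      · exact absurd (h ▸ hdJ) (t_notMem_J L)
    have wy : w * L.y * w⁻¹ = L.y := mul_inv_eq_one.1 (hd ▸ hd1)
    obtain ⟨k, hk⟩ := act_Q1 L (L.O_Q w hw).2
    have hky : Commute (w * L.i₁ * w⁻¹) L.y := by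
      have := L.comm_yi₁.symm.map (MulAut.conj w).toMonoidHom
      simpa [wy] using this
    have hk0 : k = 0 := fp_fix_y k (jel_injective L (by rw [← hk, jel_y]; exact fix_eq hky))
    subst hk0
    obtain ⟨A, hA⟩ := (mem_J L).1 (mem_J_of_act L hk)
    have hwN : w ∈ L.NJ := (Loc.Act.of_basis (A := ![![1, 0, 0, 0], A, ![0, 0, 1, 0], ![0, 0, 0, 1]])
      (by rw [fix_eq (L.O_comm w hw).1]; exact (jel_z L).symm) hA.symm
      (by rw [fix_eq (L.O_comm w hw).2.2]; exact (jel_i2 L).symm)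
      (by rw [wy]; exact (jel_y L).symm)).mem_normalizer
    have hgM : x * w ∈ L.M := by
      rcases O_inf_NJ L hw hwN with rfl | rfl
      · rwa [mul_one]
      · exact mul_mem hx (gen_M L (by simp))
    obtain ⟨f, hf⟩ := exists_act_map L (M_le_NJ L hgM)
    have f0 : f ![1, 0, 0, 0] = ![1, 0, 0, 0] := jel_injective L (by rw [← hf, jel_z]; exact fix_eq gz.symm)
    have f2 : f ![0, 0, 1, 0] = ![0, 0, 1, 0] := jel_injective L (by rw [← hf, jel_i2]; exact fix_eq gi.symm)
    have f3 : f ![0, 0, 0, 1] = ![0, 0, 0, 1] := jel_injective L (by rw [← hf, jel_y]; exact fix_eq gy.symm)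
    have hb : ∀ c : V, f c = c → bJ (f ![0, 1, 0, 0]) c = bJ ![0, 1, 0, 0] c := fun c hc => by
      conv_lhs => rw [← hc]
      exact bJ_act L hf _ _
    have hJ : ∀ {x : G}, x ∈ L.J → x ∈ Subgroup.closure ({L.z, L.i₁, L.i₂, L.y, L.t} : Set G) := fun h =>
      Subgroup.closure_mono (by intro x; simp only [Set.mem_insert_iff, Set.mem_singleton_iff]; tauto) h
    have hid : ∀ {g : G} {f : V → V}, L.Act g f → f ![1, 0, 0, 0] = ![1, 0, 0, 0] →
        f ![0, 1, 0, 0] = ![0, 1, 0, 0] → f ![0, 0, 1, 0] = ![0, 0, 1, 0] →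
        f ![0, 0, 0, 1] = ![0, 0, 0, 1] → g ∈ L.J := fun {g f} hf a b c d => mem_J_of_act L (hf.congr fun v => by
      rw [hf.eq_lin, a, b, c, d]
      exact (show ∀ w : V, lin ![![1, 0, 0, 0], ![0, 1, 0, 0], ![0, 0, 1, 0], ![0, 0, 0, 1]] w = w by
        decide +kernel) v)
    rcases orth_e1 _ ((hb _ f0).trans (by decide +kernel)) ((hb _ f2).trans (by decide +kernel))
      ((hb _ f3).trans (by decide +kernel)) ((qJ_act L hf _).trans (by decide +kernel)) with h | h
    · exact hJ (hid hf f0 h f2 f3)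
    · have htg : L.t * (x * w) ∈ L.J := hid ((act_t L).mul hf)
        (by rw [Function.comp_apply, f0]; decide +kernel) (by rw [Function.comp_apply, h]; decide +kernel)
        (by rw [Function.comp_apply, f2]; decide +kernel) (by rw [Function.comp_apply, f3]; decide +kernel)
      have := mul_mem (inv_mem (Subgroup.subset_closure (show L.t ∈ ({L.z, L.i₁, L.i₂, L.y, L.t} : Set G) by simp)))
        (hJ htg)
      rwa [inv_mul_cancel_left] at this
  · intro x hx
    simp only [Set.mem_insert_iff, Set.mem_singleton_iff] at hx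
    refine Subgroup.mem_centralizer_iff.2 fun c hc => ?_
    simp only [Set.mem_insert_iff, Set.mem_singleton_iff] at hc
    have hcJ : c ∈ L.J := Subgroup.subset_closure (by
      rcases hc with rfl | rfl | rfl <;> simp)
    rcases hx with rfl | rfl | rfl | rfl | rfl
    iterate 4 exact (J_comm L hcJ (Subgroup.subset_closure (by simp))).eq
    · rcases hc with rfl | rfl | rfl
      exacts [(L.O_comm _ L.t_mem).1.symm.eq, (L.O_comm _ L.t_mem).2.2.symm.eq, L.comm_ty.symm.eq]

/-- An element normalising `⟨z, i₂, y⟩` normalises `J`. -/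
theorem norm_E [Finite G] {g : G}
    (hg : g ∈ Subgroup.normalizer (Subgroup.closure ({L.z, L.i₂, L.y} : Set G) : Set G)) : g ∈ L.NJ := by
  have ht2 : L.t * L.t = 1 := by rw [← pow_two, ← (L.O_t _ L.t_mem).2 rfl, pow_orderOf_eq_one]
  have hstruct : ∀ x ∈ Subgroup.closure ({L.z, L.i₁, L.i₂, L.y, L.t} : Set G),
      ∃ v, x = L.jel v ∨ x = L.jel v * L.t := by
    have htj : ∀ w, L.t * L.jel w = L.jel (ft w) * L.t := fun w => by rw [← act_t L, inv_mul_cancel_right]
    have htinv : L.t⁻¹ = L.t := inv_eq_of_mul_eq_one_right ht2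
    intro x hx
    induction hx using Subgroup.closure_induction with
    | mem x hx =>
      simp only [Set.mem_insert_iff, Set.mem_singleton_iff] at hx
      rcases hx with rfl | rfl | rfl | rfl | rfl
      exacts [⟨_, Or.inl (jel_z L).symm⟩, ⟨_, Or.inl (jel_i1 L).symm⟩, ⟨_, Or.inl (jel_i2 L).symm⟩,
        ⟨_, Or.inl (jel_y L).symm⟩, ⟨0, Or.inr (by rw [jel_zero, one_mul])⟩]
    | one => exact ⟨0, Or.inl (jel_zero L).symm⟩
    | mul x y _ _ hx hy =>
      obtain ⟨v, rfl | rfl⟩ := hx <;> obtain ⟨w, rfl | rfl⟩ := hy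
      · exact ⟨v + w, Or.inl (jel_add L v w).symm⟩
      · exact ⟨v + w, Or.inr (by rw [jel_add, mul_assoc])⟩
      · exact ⟨v + ft w, Or.inr (by rw [mul_assoc, htj, ← mul_assoc, ← jel_add])⟩
      · exact ⟨v + ft w, Or.inl (by
          rw [mul_assoc, ← mul_assoc L.t, htj, mul_assoc, ht2, mul_one, ← jel_add])⟩
    | inv x _ hx =>
      obtain ⟨v, rfl | rfl⟩ := hx
      · exact ⟨-v, Or.inl (jel_neg L v).symm⟩
      · exact ⟨ft (-v), Or.inr (by rw [_root_.mul_inv_rev, htinv, ← jel_neg, htj])⟩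
  have hE : ∀ c ∈ ({L.z, L.i₂, L.y} : Set G), g⁻¹ * c * g ∈ Subgroup.closure ({L.z, L.i₂, L.y} : Set G) :=
    fun c hc => (Subgroup.mem_normalizer_iff''.1 hg c).1 (Subgroup.subset_closure hc)
  choose f hf using fun v => (mem_J L).1 (show g * L.jel v * g⁻¹ ∈ L.J from by
    have hc : g * L.jel v * g⁻¹ ∈ Subgroup.centralizer ({L.z, L.i₂, L.y} : Set G) := by
      refine Subgroup.mem_centralizer_iff.2 fun c hc => ?_
      have hcJ : g⁻¹ * c * g ∈ L.J := Subgroup.closure_mono
        (by intro x; simp only [Set.mem_insert_iff, Set.mem_singleton_iff]; tauto) (hE c hc)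
      have := ((J_comm L hcJ (jel_mem L v)).map (MulAut.conj g).toMonoidHom).eq
      simpa [mul_assoc] using this
    rw [cent_E L] at hc
    obtain ⟨w, h | h⟩ := hstruct _ hc
    · rw [h]; exact jel_mem L w
    · exfalso
      have h3 : (g * L.jel v * g⁻¹) ^ 3 = 1 := by rw [conj_pow, cube_jel]; group
      rw [h] at h3
      have hft : L.t * L.jel w * L.t = L.jel (ft w) := by
        rw [← act_t L w, inv_eq_of_mul_eq_one_right ht2]
      refine t_notMem_J L ?_
      have : L.jel w * (L.t * L.jel w * L.t) * L.jel w * L.t = 1 := by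
        rw [← h3, pow_succ, pow_two]; group
      rw [hft, ← jel_add, ← jel_add, mul_eq_one_iff_eq_inv', ← jel_neg] at this
      exact this ▸ jel_mem L _)
  exact Loc.Act.mem_normalizer (f := f) fun v => (hf v).symm

/-- The closure describing the normaliser of the Sylow subgroup. -/
def Loc.NS (L : Loc G) : Subgroup G :=
  Subgroup.closure {L.z, L.i₁, L.i₂, L.y, L.p, L.a, L.t, L.u, L.ν}

theorem NS_le_normalizer [Finite G] : L.NS ≤ Subgroup.normalizer (L.S : Set G) := by
  rw [Loc.NS, Subgroup.closure_le]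
  intro x hx
  simp only [Set.mem_insert_iff, Set.mem_singleton_iff] at hx
  have g : ∀ {y : G}, y ∈ ({L.z, L.i₁, L.i₂, L.y, L.p, L.a} : Set G) → y ∈ L.S := fun h =>
    Subgroup.subset_closure h
  have crit : ∀ x : G, (∀ y ∈ ({L.z, L.i₁, L.i₂, L.y, L.p, L.a} : Set G), x * y * x⁻¹ ∈ L.S) →
      x ∈ Subgroup.normalizer (L.S : Set G) := by
    intro x hy
    refine Subgroup.mem_normalizer_iff.2 fun n => ?_
    have key : ∀ w ∈ L.S, x * w * x⁻¹ ∈ L.S := by
      have : L.S ≤ L.S.comap (MulAut.conj x).toMonoidHom := (Subgroup.closure_le _).2 hy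
      exact fun w hw => this hw
    let F : L.S → L.S := fun w => ⟨x * w * x⁻¹, key w w.2⟩
    have hF : Function.Surjective F := Finite.surjective_of_injective fun a b e =>
      Subtype.ext (mul_left_cancel (mul_right_cancel (congrArg Subtype.val e)))
    refine ⟨key n, fun h => ?_⟩
    obtain ⟨⟨w, hw⟩, e⟩ := hF ⟨_, h⟩
    exact (mul_left_cancel (mul_right_cancel (congrArg Subtype.val e : x * w * x⁻¹ = x * n * x⁻¹))) ▸ hw
  have inS : ∀ {x : G}, x ∈ L.S → x ∈ Subgroup.normalizer (L.S : Set G) := fun h => Subgroup.le_normalizer h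
  rcases hx with rfl | rfl | rfl | rfl | rfl | rfl | rfl | rfl | rfl
  iterate 6 exact inS (g (by simp))
  · refine crit _ fun y hy => ?_
    simp only [Set.mem_insert_iff, Set.mem_singleton_iff] at hy
    rcases hy with rfl | rfl | rfl | rfl | rfl | rfl
    · rw [fix_eq (L.O_comm _ L.t_mem).1]; exact g (by simp)
    · rw [L.t_i₁]; exact inv_mem (g (by simp))
    · rw [fix_eq (L.O_comm _ L.t_mem).2.2]; exact g (by simp)
    · rw [fix_eq L.comm_ty]; exact g (by simp)
    · rw [L.t_p]; exact inv_mem (g (by simp))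
    · rw [fix_eq (L.O_comm _ L.t_mem).2.1]; exact g (by simp)
  · rcases L.hm with h | h
    · rw [L.u_one h]; exact one_mem _
    refine crit _ fun y hy => ?_
    simp only [Set.mem_insert_iff, Set.mem_singleton_iff] at hy
    rcases hy with rfl | rfl | rfl | rfl | rfl | rfl
    · rw [fix_eq L.comm_uz]; exact g (by simp)
    · rw [fix_eq L.comm_ui₁]; exact g (by simp)
    · rw [L.u_i₂ h]; exact inv_mem (g (by simp))
    · rw [fix_eq L.comm_uy]; exact g (by simp)
    · rw [fix_eq L.comm_up]; exact g (by simp)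
    · rw [L.u_a h]; exact inv_mem (g (by simp))
  · refine crit _ fun y hy => ?_
    simp only [Set.mem_insert_iff, Set.mem_singleton_iff] at hy
    rcases hy with rfl | rfl | rfl | rfl | rfl | rfl
    · rw [L.ν_z]; exact inv_mem (g (by simp))
    · rw [L.ν_i₁]; exact inv_mem (g (by simp))
    · rw [L.ν_i₂]; exact inv_mem (g (by simp))
    · rw [L.ν_y]; exact inv_mem (g (by simp))
    · rw [fix_eq L.comm_νp]; exact g (by simp)
    · rw [fix_eq L.comm_νa]; exact g (by simp)

/-- An element of the normaliser of `J` fixing the line of `z`. -/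
theorem line_z {g : G} {f : V → V} (hf : L.Act g f)
    (h : f ![1, 0, 0, 0] = ![1, 0, 0, 0] ∨ f ![1, 0, 0, 0] = -![1, 0, 0, 0]) :
    g ∈ L.NS ∧ g * L.z * g⁻¹ ∈ Subgroup.zpowers L.z := by
  have hM : L.M ≤ L.NS :=
    Subgroup.closure_mono (by intro x; simp only [Set.mem_insert_iff, Set.mem_singleton_iff]; tauto)
  refine ⟨?_, ?_⟩
  · rcases h with h | h
    · exact hM (normJ_cz L ▸ ⟨hf.mem_normalizer, mem_C_of_fix L hf h⟩)
    · have hm := (act_nu L).mul hf
      have h' : L.ν * g ∈ L.NS := hM (normJ_cz L ▸ ⟨hm.mem_normalizer, mem_C_of_fix L hm (by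
        rw [Function.comp_apply, h, neg_neg])⟩)
      have := mul_mem (inv_mem (Subgroup.subset_closure
        (show L.ν ∈ ({L.z, L.i₁, L.i₂, L.y, L.p, L.a, L.t, L.u, L.ν} : Set G) by simp))) h'
      rwa [inv_mul_cancel_left] at this
  · have hg := hf ![1, 0, 0, 0]
    rw [jel_z] at hg
    rw [hg]
    rcases h with h | h <;> rw [h]
    · rw [jel_z]; exact Subgroup.mem_zpowers _
    · rw [jel_neg, jel_z]; exact inv_mem (Subgroup.mem_zpowers _)

theorem normalises_J {g : G} {T : Subgroup G} (hT : T ≤ L.S) (hJ : L.J ≤ T)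
    (hg : g ∈ Subgroup.normalizer (T : Set G)) : g ∈ L.NJ := by
  have h := J_weakly_closed L (g := g) (by
    rintro _ ⟨j, hj, rfl⟩
    exact hT ((Subgroup.mem_normalizer_iff.1 hg j).1 (hJ hj)))
  choose f hf using fun v => (mem_J L).1 (show g * L.jel v * g⁻¹ ∈ L.J from by
    have := Subgroup.mem_map_of_mem (MulAut.conj g).toMonoidHom (jel_mem L v)
    rw [h] at this
    simpa using this)
  exact Loc.Act.mem_normalizer (f := f) fun v => (hf v).symm

/-- The normaliser of `J⟨p⟩`. -/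
theorem normS0 [Finite G] {g : G}
    (hg : g ∈ Subgroup.normalizer (Subgroup.closure ({L.z, L.i₁, L.i₂, L.y, L.p} : Set G) : Set G)) :
    g ∈ L.NS ∧ g * L.z * g⁻¹ ∈ Subgroup.zpowers L.z := by
  have hgN := normalises_J L (Subgroup.closure_mono (by
      intro x; simp only [Set.mem_insert_iff, Set.mem_singleton_iff]; tauto))
    (Subgroup.closure_mono (by intro x; simp only [Set.mem_insert_iff, Set.mem_singleton_iff]; tauto)) hg
  obtain ⟨f, hf⟩ := exists_act_map L hgN
  refine line_z L hf (center_S0 _ ?_ ?_ fun h0 => ?_)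
  · refine jel_injective L ?_
    rw [← act_p L, ← hf, jel_z]
    have hp : g⁻¹ * L.p * g ∈ Subgroup.closure ({L.z, L.i₁, L.i₂, L.y, L.p} : Set G) :=
      (Subgroup.mem_normalizer_iff''.1 hg _).1 (Subgroup.subset_closure (by simp))
    have hz : ∀ x ∈ Subgroup.closure ({L.z, L.i₁, L.i₂, L.y, L.p} : Set G), Commute L.z x := by
      intro x hx
      induction hx using Subgroup.closure_induction with
      | mem x hx =>
        simp only [Set.mem_insert_iff, Set.mem_singleton_iff] at hx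
        rcases hx with rfl | rfl | rfl | rfl | rfl
        exacts [Commute.refl _, L.comm_zi₁, L.comm_zi₂, L.comm_zy, L.comm_zp]
      | one => exact Commute.one_right _
      | mul x y _ _ hx hy => exact hx.mul_right hy
      | inv x _ hx => exact hx.inv_right
    refine fix_eq ?_
    have := (hz _ hp).symm.map (MulAut.conj g).toMonoidHom
    simpa [mul_assoc] using this
  · rw [qJ_act L hf]; decide +kernel
  · exact absurd (hf.injective (h0.trans hf.map_zero.symm)) (by decide)

/-- The normaliser of the Sylow subgroup. -/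
theorem normS [Finite G] : Subgroup.normalizer (L.S : Set G) =
    Subgroup.closure {L.z, L.i₁, L.i₂, L.y, L.p, L.a, L.t, L.u, L.ν} := by
  refine le_antisymm (fun g hg => ?_) (NS_le_normalizer L)
  obtain ⟨f, hf⟩ := exists_act_map L (normalises_J L le_rfl (J_le_S L) hg)
  have hz : ∀ x ∈ L.S, Commute L.z x := by
    intro x hx
    induction hx using Subgroup.closure_induction with
    | mem x hx =>
      simp only [Set.mem_insert_iff, Set.mem_singleton_iff] at hx
      rcases hx with rfl | rfl | rfl | rfl | rfl | rfl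
      exacts [Commute.refl _, L.comm_zi₁, L.comm_zi₂, L.comm_zy, L.comm_zp, L.comm_za]
    | one => exact Commute.one_right _
    | mul x y _ _ hx hy => exact hx.mul_right hy
    | inv x _ hx => exact hx.inv_right
  have hfix : ∀ {x : G} {k : V → V}, L.Act x k → x ∈ L.S → k (f ![1, 0, 0, 0]) = f ![1, 0, 0, 0] := by
    intro x k hx hxS
    refine jel_injective L ?_
    rw [← hx, ← hf, jel_z]
    refine fix_eq ?_
    have := (hz _ ((Subgroup.mem_normalizer_iff''.1 hg x).1 hxS)).symm.map (MulAut.conj g).toMonoidHom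
    simpa [mul_assoc] using this
  exact (line_z L hf (center_S _ (hfix (act_p L) (Subgroup.subset_closure (by simp)))
    (hfix (act_a L) (Subgroup.subset_closure (by simp)))
    fun h0 => absurd (hf.injective (h0.trans hf.map_zero.symm)) (by decide))).1

/-- The involution exchanging `z` and `y`. -/
theorem exists_swap [Finite G] : ∃ w, w * w = 1 ∧ IsConj L.t w ∧ Commute w L.t ∧
    L.Act w (fun v => ![v 3, v 1, v 2, v 0]) ∧ w * L.z * w⁻¹ = L.y ∧ w * L.y * w⁻¹ = L.z ∧
      Commute w L.i₁ ∧ Commute w L.i₂ := by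
  obtain ⟨r, hr, hc, ha, ht⟩ := exists_refl L (d := ![1, 0, 0, 2]) (by decide +kernel)
  have ha' : L.Act r (fun v => ![v 3, v 1, v 2, v 0]) := ha.congr (by decide +kernel)
  refine ⟨r, hr, hc, ht rfl, ha', ?_, ?_, mul_inv_eq_iff_eq_mul.1 ?_, mul_inv_eq_iff_eq_mul.1 ?_⟩
  · rw [← jel_z L, ha', ← jel_y L]; rfl
  · rw [← jel_y L, ha', ← jel_z L]; rfl
  · rw [← jel_i1 L, ha']; rfl
  · rw [← jel_i2 L, ha']; rfl

/-- `ν` lies in the closure of `J` and the conjugates of `p`. -/
theorem nu_mem [Finite G] : L.ν ∈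
    Subgroup.closure ((L.J : Set G) ∪ {x | ∃ n ∈ L.NJ, x = n * L.p * n⁻¹}) := by
  obtain ⟨r, hr, -, ha, -⟩ := exists_refl L (d := ![1, 0, 0, 2]) (by decide +kernel)
  obtain ⟨s, hs, -, hb, -⟩ := exists_refl L (d := ![1, 0, 1, 1]) (by decide +kernel)
  have ri : r⁻¹ = r := inv_eq_of_mul_eq_one_right hr
  have si : s⁻¹ = s := inv_eq_of_mul_eq_one_right hs
  set K := Subgroup.closure ((L.J : Set G) ∪ {x | ∃ n ∈ L.NJ, x = n * L.p * n⁻¹}) with hK
  have hp : ∀ n ∈ L.NJ, n * L.p * n⁻¹ ∈ K := fun n hn => Subgroup.subset_closure (Or.inr ⟨n, hn, rfl⟩)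
  have m1 := hp 1 (one_mem _)
  have m2 := hp r ha.mem_normalizer
  have m3 := hp (s * r) (mul_mem hb.mem_normalizer ha.mem_normalizer)
  have m4 := hp s hb.mem_normalizer
  set x := L.p * (r * L.p * r) * (s * r * L.p * r * s) * (s * L.p * s) with hx
  have hxK : x ∈ K := by
    refine mul_mem (mul_mem (mul_mem (by simpa using m1) ?_) ?_) ?_
    · rwa [ri] at m2
    · rw [_root_.mul_inv_rev, ri, si] at m3; simpa [mul_assoc] using m3
    · rwa [si] at m4
  have hactx : L.Act x (fun v => -v) :=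
    (((act_p L).mul ((ha.mul (act_p L)).mul ha)).mul
      ((((hb.mul ha).mul (act_p L)).mul ha).mul hb)).mul ((hb.mul (act_p L)).mul hb) |>.congr
      fun v => minus_one_word v
  have hJ : L.ν * x ∈ L.J := mem_J_of_act L (((act_nu L).mul hactx).congr fun v => neg_neg v)
  have := mul_mem (Subgroup.subset_closure (Or.inl hJ) : L.ν * x ∈ K) (inv_mem hxK)
  rwa [mul_inv_cancel_right] at this

end CfsgLib.OEightLocal
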