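import Cfsg.Agent.Lib.OEightLocal.CentOne
import Cfsg.Agent.Lib.OEightLocal.OrbitCor

/-!
The centraliser of `i₂` modulo `⟨i₂⟩` in the two kinds.
-/

set_option autoImplicit false
set_option linter.unusedSectionVars false
set_option linter.style.haveILetI false

namespace CfsgLib.OEightLocal.Loc

open CfsgLib.OEightLocal.Cent

variable {G : Type*} [Group G] [Finite G] (L : Loc G)

/-- An element of `C(i₂)` moves `z` to `y`. -/
theorem exists_move : ∃ g : G, g * L.i₂ = L.i₂ * g ∧ (g * L.z * g⁻¹ = L.y ∨ g * L.z * g⁻¹ = L.y⁻¹) := by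
  obtain ⟨w, -, -, -, -, hz, -, -, hi⟩ := exists_swap L
  exact ⟨w, hi.eq, Or.inl hz⟩

/-- `C(i₂)/⟨i₂⟩` is `PSp(4,3)` in the first kind. -/
theorem bar_i₂_psp (hm : L.m = 1) : Nonempty (Bar L.i₂ ≃* Cfsg.PSp 2 (ZMod 3)) :=
  L.bar₂_psp hm L.exists_move

theorem uν_mem (hm : L.m = 2) : L.u * L.ν ∈ Subgroup.centralizer ({L.i₂} : Set G) := by
  refine Subgroup.mem_centralizer_singleton_iff.2 (mul_inv_eq_iff_eq_mul.1 ?_)
  rw [show L.u * L.ν * L.i₂ * (L.u * L.ν)⁻¹ = L.u * (L.ν * L.i₂ * L.ν⁻¹) * L.u⁻¹ by group, L.ν_i₂,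
    ← conj_inv, L.u_i₂ hm, inv_inv]

theorem real (hm : L.m = 2) :
    L.q₂ ⟨L.u * L.ν, L.uν_mem hm⟩ * L.zb * (L.q₂ ⟨L.u * L.ν, L.uν_mem hm⟩)⁻¹ = L.zb⁻¹ := by
  rw [← map_inv, ← map_inv, ← map_mul, ← map_mul]
  refine congrArg _ (Subtype.ext ?_)
  show L.u * L.ν * L.z * (L.u * L.ν)⁻¹ = L.z⁻¹
  rw [show L.u * L.ν * L.z * (L.u * L.ν)⁻¹ = L.u * (L.ν * L.z * L.ν⁻¹) * L.u⁻¹ by group, L.ν_z,
    ← conj_inv, fix_eq L.comm_uz]

/-- `⟨z̄⟩` is not normal. -/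
theorem zb_not_normal : Subgroup.normalizer (L.ctx₂.Z : Set (Bar L.i₂)) ≠ ⊤ := by
  intro h
  obtain ⟨w, -, -, -, -, hz, -, -, hi⟩ := exists_swap L
  have hw : w ∈ Subgroup.centralizer ({L.i₂} : Set G) := Subgroup.mem_centralizer_singleton_iff.2 hi.eq
  have hmem : L.q₂ ⟨w, hw⟩ ∈ Subgroup.normalizer (L.ctx₂.Z : Set (Bar L.i₂)) := h ▸ Subgroup.mem_top _
  have h1 : L.q₂ (⟨w, hw⟩ * ⟨L.z, L.z_mem_Γ⟩ * ⟨w, hw⟩⁻¹) ∈ L.ctx₂.Z := by
    rw [map_mul, map_mul, map_inv]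
    exact (Subgroup.mem_normalizer_iff.1 hmem L.zb).1 (Subgroup.mem_zpowers _)
  obtain ⟨k, hk⟩ := Subgroup.mem_zpowers_iff.1 h1
  rw [show L.ctx₂.a = L.q₂ ⟨L.z, L.z_mem_Γ⟩ from rfl, ← map_zpow] at hk
  obtain ⟨n, hn⟩ := mk_eq_iff.1 hk
  have hn' : w * L.z * w⁻¹ = L.z ^ k * L.i₂ ^ n := hn
  have h2 := L.conj_z_i₂ (zpow_mem (Subgroup.mem_zpowers _) k) hn'
  rw [h2, mul_one, hz] at hn'
  have : Commute L.y L.p := hn' ▸ L.comm_zp.zpow_left k
  have e : L.y * L.p * L.y⁻¹ = L.p := by rw [this.eq, mul_inv_cancel_right]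
  rw [L.rel_yp, mul_assoc] at e
  refine L.i₁_not_Z ?_
  have e2 : L.i₁ * L.z = 1 := mul_left_cancel (e.trans (mul_one _).symm)
  rw [eq_inv_of_mul_eq_one_left e2]
  exact inv_mem (Subgroup.mem_zpowers _)

/-- No element of order five centralises a non-trivial element of `J` modulo `⟨i₂⟩`. -/
theorem no_five (hm : L.m = 2) {f : G} (h5 : orderOf f = 5) (hfi : Commute f L.i₂) {v : V}
    (hv : ∀ c : ZMod 3, v ≠ c • ![0, 0, 1, 0]) (hfv : Commute f (L.jel v)) : False := by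
  have key : ∀ v : V, ∃ c : ZMod 3, qJ (v + c • ![0, 0, 1, 0]) = 0 ∨ qJ (v + c • ![0, 0, 1, 0]) = -1 := by
    decide +kernel
  obtain ⟨c, hc⟩ := key v
  have hne : v + c • ![0, 0, 1, 0] ≠ 0 := fun h => hv (-c) (by
    rw [neg_smul]; exact eq_neg_of_add_eq_zero_left h)
  have hfw : Commute f (L.jel (v + c • ![0, 0, 1, 0])) := by
    rw [jel_add, jel_smul, jel_i2]
    exact hfv.mul_right (hfi.pow_right _)
  have main : ∀ x : G, IsConj (L.jel (v + c • ![0, 0, 1, 0])) x → ∀ N, Nat.card (Subgroup.centralizer ({x} : Set G)) ∣ N →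
      5 ∣ N := by
    intro x hx N hN
    obtain ⟨g, rfl⟩ := isConj_iff.1 hx
    refine dvd_trans ?_ hN
    have hmem : g * f * g⁻¹ ∈ Subgroup.centralizer ({g * L.jel (v + c • ![0, 0, 1, 0]) * g⁻¹} : Set G) := by
      refine Subgroup.mem_centralizer_singleton_iff.2 ?_
      rw [conj_mul, conj_mul, hfw.eq]
    have := Subgroup.orderOf_dvd_natCard _ hmem
    rwa [show orderOf (g * f * g⁻¹) = orderOf f from orderOf_injective (MulAut.conj g).toMonoidHom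
      (MulAut.conj g).injective f, h5] at this
  rcases hc with hc | hc
  · have h := main L.z ((isConj_jel_iff L hne (w := ![1, 0, 0, 0]) (by decide)).2
      (hc.trans (by decide +kernel)) |> fun h => by rwa [jel_z] at h) (5832 * L.m) (dvd_of_eq L.card_C)
    rw [hm] at h
    norm_num at h
  · have h := main L.i₁ ((isConj_jel_iff L hne (w := ![0, 1, 0, 0]) (by decide)).2
      (hc.trans (by decide +kernel)) |> fun h => by rwa [jel_i1] at h) 3888 (L.card_cent_i₁_dvd hm)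
    norm_num at h

/-- The second of the two possibilities for a real kind does not occur. -/
theorem no_big (hm : L.m = 2) {U : CfsgLib.PSpFourThree.Coord L.ctx₂} (B : CfsgLib.PSpFourThree.Big U) :
    False := by
  -- an element of order five centralising the complemented vector
  let σ : CfsgLib.SymNineThree.P6 := Equiv.swap 0 1 * Equiv.swap 1 2 * Equiv.swap 2 3 * Equiv.swap 3 4
  have hσ5 : σ ^ 5 = 1 := by decide +kernel
  have hσ1 : σ ≠ 1 := by decide +kernel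
  set x := B.L2.ρ σ
  have hx5 : x ^ 5 = 1 := by rw [← map_pow, hσ5, map_one]
  have hx1 : x ≠ 1 := fun e => hσ1 (B.L2.inj (e.trans (map_one _).symm))
  obtain ⟨f0, hf0⟩ := QuotientGroup.mk'_surjective (Ker L.i₂) x
  obtain ⟨jv, hjv, hje⟩ := B.L2.e_mem
  obtain ⟨v, hv⟩ := (mem_J L).1 hjv
  have hjn : L.q₂ jv ≠ 1 := fun e => B.L2.e_ne (hje.symm.trans e)
  have hcomm : L.q₂ (f0 * jv * f0⁻¹) = L.q₂ jv := by
    rw [map_mul, map_mul, map_inv, hf0, hje, B.L2.comm σ, mul_inv_cancel_right]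
  obtain ⟨n, hn⟩ := mk_eq_iff.1 hcomm.symm
  have hn' : (f0 : G) * L.jel v * (f0 : G)⁻¹ = L.jel v * L.i₂ ^ n := by rw [hv]; exact hn
  have hfi : Commute (f0 : G) L.i₂ := Subgroup.mem_centralizer_singleton_iff.1 f0.2
  have hstep : ∀ k : ℕ, (f0 : G) ^ k * L.jel v * ((f0 : G) ^ k)⁻¹ = L.jel v * L.i₂ ^ (n * k) := by
    intro k
    induction k with
    | zero => simp
    | succ k ih =>
      rw [pow_succ', show (f0 : G) * (f0 : G) ^ k * L.jel v * ((f0 : G) * (f0 : G) ^ k)⁻¹ =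
        (f0 : G) * ((f0 : G) ^ k * L.jel v * ((f0 : G) ^ k)⁻¹) * (f0 : G)⁻¹ by group, ih, ← conj_mul, hn',
        (hfi.zpow_right _).eq, mul_inv_cancel_right, mul_assoc, ← zpow_add]
      congr 2
      push_cast
      ring
  have h3 : L.i₂ ^ (3 : ℤ) = 1 := by exact_mod_cast L.cube_i₂
  have hf3 : Commute ((f0 : G) ^ 3) (L.jel v) := by
    refine mul_inv_eq_iff_eq_mul.1 ?_
    rw [hstep 3, mul_comm n, zpow_mul]
    simp [L.cube_i₂]
  have hf5 : ((f0 : G) ^ 3) ^ 5 = 1 := by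
    have h5 : L.q₂ (f0 ^ 5) = 1 := by rw [map_pow, hf0]; exact hx5
    obtain ⟨m, hm'⟩ := Subgroup.mem_zpowers_iff.1 (mk_eq_one_iff.1 h5)
    rw [← pow_mul, show 3 * 5 = 5 * 3 from rfl, pow_mul, ← Subgroup.coe_pow, ← hm', ← zpow_natCast, ← zpow_mul,
      mul_comm m, zpow_mul]
    simp [L.cube_i₂]
  have hne : (f0 : G) ^ 3 ≠ 1 := fun e => hx1 (eq_one_of_coprime (x := x) (m := 3) (by
    rw [← hf0, ← map_pow, ← map_one L.q₂]
    exact congrArg _ (Subtype.ext (by rw [Subgroup.coe_pow]; exact e))) hx5 (by norm_num))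
  haveI : Fact (Nat.Prime 5) := ⟨by norm_num⟩
  refine L.no_five hm (orderOf_eq_prime hf5 hne) (hfi.pow_left 3) (fun c hc => hjn ?_) hf3
  refine mk_eq_one_iff.2 ?_
  rw [show (jv : G) = L.jel v from hv.symm, hc, jel_smul, jel_i2]
  exact pow_mem (Subgroup.mem_zpowers _) _

/-- `C(i₂)/⟨i₂⟩` is the automorphism group of `PSp(4,3)` in the second kind. -/
theorem bar_i₂_aut (hm : L.m = 2) : Nonempty (Bar L.i₂ ≃* MulAut (Cfsg.PSp 2 (ZMod 3))) := by
  obtain ⟨U⟩ := L.ctx₂.exists_coord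
  rcases U.kind_odd (L.real hm) with h | h
  · exact absurd (U.normalizer_eq_top h) L.zb_not_normal
  rcases U.small_or_big h with hs | ⟨⟨B⟩⟩
  · exact (CfsgLib.PSpFourThree.Small.mk h hs).iso_aut (ZMod 3) (ZMod.card 3)
  · exact (L.no_big hm B).elim

end CfsgLib.OEightLocal.Loc
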