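import Cfsg.Agent.Lib.OEightLocal.Basic

/-!
Coordinates on the abelian subgroup `J` of order 81 and the action of the generators on it.
-/

set_option autoImplicit false
set_option linter.style.haveILetI false

namespace CfsgLib.OEightLocal

/-- Coordinates on `z, i₁, i₂, y`. -/
abbrev V : Type := Fin 4 → ZMod 3

/-- The form on `J`. -/
def qJ (v : V) : ZMod 3 := v 0 * v 3 - v 1 ^ 2 + v 2 ^ 2

/-- The polar form of `qJ`. -/
def bJ (v w : V) : ZMod 3 := v 0 * w 3 + w 0 * v 3 + v 1 * w 1 - v 2 * w 2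

theorem qJ_add (v w : V) : qJ (v + w) = qJ v + qJ w + bJ v w := by
  have h : ∀ a b c d : ZMod 3, (a + b) ^ 2 = a ^ 2 + b ^ 2 - a * b ∧ (c + d) ^ 2 = c ^ 2 + d ^ 2 - c * d := by
    decide
  simp only [qJ, bJ, Pi.add_apply]
  rw [(h (v 1) (w 1) 0 0).1, (h (v 2) (w 2) 0 0).1]
  ring

theorem card_V : Nat.card V = 81 := by simp

/-- The linear map with the given images of the basis. -/
def lin (A : Fin 4 → V) (v : V) : V := v 0 • A 0 + v 1 • A 1 + v 2 • A 2 + v 3 • A 3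

/-- The action of `p`. -/
def fp (v : V) : V := ![v 0 + v 1 + v 3, v 1 - v 3, v 2, v 3]

/-- The action of `a`. -/
def fa (v : V) : V := ![v 0 - v 2 - v 3, v 1, v 2 - v 3, v 3]

/-- The action of `t`. -/
def ft (v : V) : V := ![v 0, -v 1, v 2, v 3]

/-- The action of `u` in the case `m = 2`. -/
def fu (v : V) : V := ![v 0, v 1, -v 2, v 3]

variable {G : Type*} [Group G] (L : Loc G)

/-- The element of `J` with the given coordinates. -/
def Loc.jel (v : V) : G :=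
  L.z ^ (v 0).val * L.i₁ ^ (v 1).val * L.i₂ ^ (v 2).val * L.y ^ (v 3).val

theorem pow_val_add {x : G} (hx : x ^ 3 = 1) (a b : ZMod 3) : x ^ (a + b).val = x ^ a.val * x ^ b.val := by
  rw [ZMod.val_add, ← pow_add]
  exact (pow_eq_pow_mod _ hx).symm

theorem mul_shuffle {A B A' B' : G} (h : Commute B A') : A * B * (A' * B') = A * A' * (B * B') :=
  Commute.mul_mul_mul_comm h A B'

theorem jel_add (v w : V) : L.jel (v + w) = L.jel v * L.jel w := by
  simp only [Loc.jel, Pi.add_apply, pow_val_add L.cube_z, pow_val_add L.cube_i₁, pow_val_add L.cube_i₂,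
    pow_val_add L.cube_y]
  rw [mul_shuffle ((((L.comm_zy.symm.pow_pow (v 3).val (w 0).val)).mul_right
      (L.comm_yi₁.pow_pow (v 3).val (w 1).val)).mul_right (L.comm_yi₂.pow_pow (v 3).val (w 2).val)),
    mul_shuffle ((L.comm_zi₂.symm.pow_pow (v 2).val (w 0).val).mul_right
      (L.comm_i₁i₂.symm.pow_pow (v 2).val (w 1).val)),
    mul_shuffle (L.comm_zi₁.symm.pow_pow (v 1).val (w 0).val)]

theorem jel_zero : L.jel 0 = 1 := by simp [Loc.jel]

theorem jel_neg (v : V) : L.jel (-v) = (L.jel v)⁻¹ :=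
  eq_inv_of_mul_eq_one_left (by rw [← jel_add, neg_add_cancel, jel_zero])

theorem jel_nsmul (n : ℕ) (v : V) : L.jel (n • v) = L.jel v ^ n := by
  induction n with
  | zero => rw [zero_smul, pow_zero, jel_zero]
  | succ n ih => rw [succ_nsmul, jel_add, ih, pow_succ]

theorem jel_smul (k : ZMod 3) (v : V) : L.jel (k • v) = L.jel v ^ k.val := by
  rw [← jel_nsmul, ← Nat.cast_smul_eq_nsmul (ZMod 3), ZMod.natCast_zmod_val]

theorem jel_z : L.jel ![1, 0, 0, 0] = L.z := by simp [Loc.jel, ZMod.val_one]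
theorem jel_i1 : L.jel ![0, 1, 0, 0] = L.i₁ := by simp [Loc.jel, ZMod.val_one]
theorem jel_i2 : L.jel ![0, 0, 1, 0] = L.i₂ := by simp [Loc.jel, ZMod.val_one]
theorem jel_y : L.jel ![0, 0, 0, 1] = L.y := by simp [Loc.jel, ZMod.val_one]

theorem jel_mem (v : V) : L.jel v ∈ L.J := by
  refine mul_mem (mul_mem (mul_mem (pow_mem ?_ _) (pow_mem ?_ _)) (pow_mem ?_ _)) (pow_mem ?_ _) <;>
    exact Subgroup.subset_closure (by simp)

theorem mem_J {x : G} : x ∈ L.J ↔ ∃ v, L.jel v = x := by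
  refine ⟨fun h => ?_, fun ⟨v, e⟩ => e ▸ jel_mem L v⟩
  induction h using Subgroup.closure_induction with
  | mem x hx =>
    simp only [Set.mem_insert_iff, Set.mem_singleton_iff] at hx
    rcases hx with rfl | rfl | rfl | rfl
    exacts [⟨_, jel_z L⟩, ⟨_, jel_i1 L⟩, ⟨_, jel_i2 L⟩, ⟨_, jel_y L⟩]
  | one => exact ⟨0, jel_zero L⟩
  | mul x y _ _ hx hy =>
    obtain ⟨v, rfl⟩ := hx; obtain ⟨w, rfl⟩ := hy
    exact ⟨v + w, jel_add L v w⟩
  | inv x _ hx => obtain ⟨v, rfl⟩ := hx; exact ⟨-v, jel_neg L v⟩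

theorem jel_injective : Function.Injective L.jel := by
  have hs : Function.Surjective fun v => (⟨L.jel v, jel_mem L v⟩ : L.J) := fun x => by
    obtain ⟨v, hv⟩ := (mem_J L).1 x.2
    exact ⟨v, Subtype.ext hv⟩
  haveI : Finite L.J := Finite.of_surjective _ hs
  have hb := (Nat.bijective_iff_surjective_and_card (fun v => (⟨L.jel v, jel_mem L v⟩ : L.J))).2
    ⟨hs, by rw [card_V]; exact L.card_J.symm⟩
  exact fun v w h => hb.1 (Subtype.ext h)

theorem jel_inj {v w : V} : L.jel v = L.jel w ↔ v = w := (jel_injective L).eq_iff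

theorem jel_ne_one {v : V} (hv : v ≠ 0) : L.jel v ≠ 1 := fun h =>
  hv (jel_injective L (h.trans (jel_zero L).symm))

theorem J_comm {x y : G} (hx : x ∈ L.J) (hy : y ∈ L.J) : Commute x y := by
  obtain ⟨v, rfl⟩ := (mem_J L).1 hx
  obtain ⟨w, rfl⟩ := (mem_J L).1 hy
  rw [Commute, SemiconjBy, ← jel_add, ← jel_add, add_comm]

theorem cube_jel (v : V) : L.jel v ^ 3 = 1 := by
  rw [← jel_nsmul, show (3 : ℕ) • v = 0 from funext fun i => by
    simp only [Pi.smul_apply, Pi.zero_apply, nsmul_eq_mul, ZMod.natCast_self, zero_mul], jel_zero]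

/-- `g` acts on `J` by `f`. -/
def Loc.Act (g : G) (f : V → V) : Prop := ∀ v, g * L.jel v * g⁻¹ = L.jel (f v)

variable {L}

theorem Loc.Act.mul {g h : G} {f f' : V → V} (hg : L.Act g f) (hh : L.Act h f') :
    L.Act (g * h) (f ∘ f') := fun v => by
  rw [show g * h * L.jel v * (g * h)⁻¹ = g * (h * L.jel v * h⁻¹) * g⁻¹ by group, hh, hg]; rfl

theorem Loc.Act.congr {g : G} {f f' : V → V} (hg : L.Act g f) (h : ∀ v, f v = f' v) : L.Act g f' :=
  fun v => (hg v).trans (by rw [h v])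

theorem Loc.Act.one : L.Act 1 id := fun v => by simp

theorem Loc.Act.unique {g : G} {f f' : V → V} (h : L.Act g f) (h' : L.Act g f') : f = f' :=
  funext fun v => jel_injective L ((h v).symm.trans (h' v))

theorem Loc.Act.injective {g : G} {f : V → V} (h : L.Act g f) : Function.Injective f := fun v w e =>
  jel_injective L (mul_left_cancel (mul_right_cancel (show g * L.jel v * g⁻¹ = g * L.jel w * g⁻¹ by
    rw [h v, h w, e])))

theorem Loc.Act.bijective {g : G} {f : V → V} (h : L.Act g f) : Function.Bijective f :=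
  Finite.injective_iff_bijective.1 h.injective

theorem Loc.Act.add {g : G} {f : V → V} (h : L.Act g f) (v w : V) : f (v + w) = f v + f w :=
  jel_injective L (by
    rw [← h, jel_add L (f v), ← h, ← h, jel_add]; group)

theorem Loc.Act.mem_normalizer {g : G} {f : V → V} (h : L.Act g f) :
    g ∈ Subgroup.normalizer (L.J : Set G) := by
  rw [Subgroup.mem_normalizer_iff]
  intro x
  refine ⟨fun hx => ?_, fun hx => ?_⟩
  · obtain ⟨v, rfl⟩ := (mem_J L).1 hx
    rw [h]; exact jel_mem L _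
  · obtain ⟨w, hw⟩ := (mem_J L).1 hx
    obtain ⟨v, rfl⟩ := h.bijective.2 w
    rw [← h] at hw
    exact (mem_J L).2 ⟨v, mul_left_cancel (mul_right_cancel hw)⟩

theorem Loc.Act.of_basis {g : G} {A : Fin 4 → V} (h0 : g * L.z * g⁻¹ = L.jel (A 0))
    (h1 : g * L.i₁ * g⁻¹ = L.jel (A 1)) (h2 : g * L.i₂ * g⁻¹ = L.jel (A 2))
    (h3 : g * L.y * g⁻¹ = L.jel (A 3)) : L.Act g (lin A) := fun v => by
  simp only [lin, jel_add, jel_smul, ← h0, ← h1, ← h2, ← h3, conj_pow]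
  rw [Loc.jel]; group

theorem Loc.Act.eq_lin {g : G} {f : V → V} (h : L.Act g f) :
    f = lin ![f ![1, 0, 0, 0], f ![0, 1, 0, 0], f ![0, 0, 1, 0], f ![0, 0, 0, 1]] :=
  h.unique (Loc.Act.of_basis (by rw [← jel_z L, h]; rfl) (by rw [← jel_i1 L, h]; rfl)
    (by rw [← jel_i2 L, h]; rfl) (by rw [← jel_y L, h]; rfl))

variable (L)

/-- An element of the normaliser of `J` acts by a map. -/
theorem exists_act_map {g : G} (hg : g ∈ Subgroup.normalizer (L.J : Set G)) : ∃ f, L.Act g f := by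
  choose f hf using fun v => (mem_J L).1 ((Subgroup.mem_normalizer_iff.1 hg _).1 (jel_mem L v))
  exact ⟨f, fun v => (hf v).symm⟩

theorem fix_eq {g x : G} (h : Commute g x) : g * x * g⁻¹ = x := by rw [h.eq, mul_inv_cancel_right]

theorem act_p : L.Act L.p fp := by
  have hi : L.p * L.i₁ * L.p⁻¹ = L.z * L.i₁ := mul_inv_eq_iff_eq_mul.1 L.rel_p
  have hz : L.p * L.z * L.p⁻¹ = L.z := fix_eq L.comm_zp.symm
  have hy : L.p * L.y * L.p⁻¹ = (L.z * L.i₁ * L.z)⁻¹ * L.y := by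
    rw [eq_inv_mul_iff_mul_eq]
    calc L.z * L.i₁ * L.z * (L.p * L.y * L.p⁻¹)
        = (L.p * L.i₁ * L.p⁻¹) * (L.p * L.z * L.p⁻¹) * (L.p * L.y * L.p⁻¹) := by rw [hi, hz]
      _ = (L.p * L.i₁ * L.z) * L.y * L.p⁻¹ := by group
      _ = L.y := by rw [← L.rel_yp]; group
  refine (Loc.Act.of_basis (A := ![![1, 0, 0, 0], ![1, 1, 0, 0], ![0, 0, 1, 0], ![1, 2, 0, 1]])
    ?_ ?_ ?_ ?_).congr (by decide)
  · rw [hz]; exact (jel_z L).symm
  · rw [hi, ← jel_z L, ← jel_i1 L, ← jel_add]; exact congrArg L.jel (by decide)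
  · rw [fix_eq L.comm_pi₂]; exact (jel_i2 L).symm
  · rw [hy, ← jel_z L, ← jel_i1 L, ← jel_y L, ← jel_add, ← jel_add, ← jel_neg, ← jel_add]
    exact congrArg L.jel (by decide)

theorem act_a : L.Act L.a fa := by
  have hz : L.a * L.z * L.a⁻¹ = L.z := fix_eq L.comm_za.symm
  have hi : L.a * L.i₂ * L.a⁻¹ = L.z⁻¹ * L.i₂ := by
    rw [show L.z⁻¹ * L.i₂ = (L.i₂ * L.a * L.i₂⁻¹ * L.a⁻¹)⁻¹ * L.i₂ by rw [L.rel_a]]; group
  have hy : L.a * L.y * L.a⁻¹ = (L.z⁻¹ * L.i₂ * L.z⁻¹)⁻¹ * L.y := by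
    rw [eq_inv_mul_iff_mul_eq]
    calc L.z⁻¹ * L.i₂ * L.z⁻¹ * (L.a * L.y * L.a⁻¹)
        = (L.a * L.i₂ * L.a⁻¹) * (L.a * L.z * L.a⁻¹)⁻¹ * (L.a * L.y * L.a⁻¹) := by rw [hi, hz]
      _ = (L.a * L.i₂ * L.z⁻¹) * L.y * L.a⁻¹ := by group
      _ = L.y := by rw [← L.rel_ya]; group
  refine (Loc.Act.of_basis (A := ![![1, 0, 0, 0], ![0, 1, 0, 0], ![2, 0, 1, 0], ![2, 0, 2, 1]])
    ?_ ?_ ?_ ?_).congr (by decide)
  · rw [hz]; exact (jel_z L).symm
  · rw [fix_eq L.comm_ai₁]; exact (jel_i1 L).symm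
  · rw [hi, ← jel_z L, ← jel_i2 L, ← jel_neg, ← jel_add]; exact congrArg L.jel (by decide)
  · rw [hy, ← jel_z L, ← jel_i2 L, ← jel_y L]
    simp only [← jel_neg, ← jel_add]
    exact congrArg L.jel (by decide)

theorem act_t : L.Act L.t ft := by
  have h := L.O_comm L.t L.t_mem
  refine (Loc.Act.of_basis (A := ![![1, 0, 0, 0], ![0, 2, 0, 0], ![0, 0, 1, 0], ![0, 0, 0, 1]])
    ?_ ?_ ?_ ?_).congr (by decide)
  · rw [fix_eq h.1]; exact (jel_z L).symm
  · rw [L.t_i₁, ← jel_i1 L, ← jel_neg]; exact congrArg L.jel (by decide)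
  · rw [fix_eq h.2.2]; exact (jel_i2 L).symm
  · rw [fix_eq L.comm_ty]; exact (jel_y L).symm

theorem act_u_two (hm : L.m = 2) : L.Act L.u fu := by
  refine (Loc.Act.of_basis (A := ![![1, 0, 0, 0], ![0, 1, 0, 0], ![0, 0, 2, 0], ![0, 0, 0, 1]])
    ?_ ?_ ?_ ?_).congr (by decide)
  · rw [fix_eq L.comm_uz]; exact (jel_z L).symm
  · rw [fix_eq L.comm_ui₁]; exact (jel_i1 L).symm
  · rw [L.u_i₂ hm, ← jel_i2 L, ← jel_neg]; exact congrArg L.jel (by decide)
  · rw [fix_eq L.comm_uy]; exact (jel_y L).symm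

theorem act_nu : L.Act L.ν (fun v => -v) := by
  refine (Loc.Act.of_basis (A := ![![2, 0, 0, 0], ![0, 2, 0, 0], ![0, 0, 2, 0], ![0, 0, 0, 2]])
    ?_ ?_ ?_ ?_).congr (by decide)
  · rw [L.ν_z, ← jel_z L, ← jel_neg]; exact congrArg L.jel (by decide)
  · rw [L.ν_i₁, ← jel_i1 L, ← jel_neg]; exact congrArg L.jel (by decide)
  · rw [L.ν_i₂, ← jel_i2 L, ← jel_neg]; exact congrArg L.jel (by decide)
  · rw [L.ν_y, ← jel_y L, ← jel_neg]; exact congrArg L.jel (by decide)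

/-- An element of `J` acts trivially. -/
theorem act_mem_J {x : G} (hx : x ∈ L.J) : L.Act x id := fun v => fix_eq (J_comm L hx (jel_mem L v))

/-- An element acting trivially lies in `J`. -/
theorem mem_J_of_act {x : G} (h : L.Act x id) : x ∈ L.J := by
  have hx : x ∈ Subgroup.centralizer (L.J : Set G) := Subgroup.mem_centralizer_iff.2 fun j hj => by
    obtain ⟨v, rfl⟩ := (mem_J L).1 hj
    exact (mul_inv_eq_iff_eq_mul.1 (h v)).symm
  rw [show L.J = Subgroup.closure {L.z, L.i₁, L.i₂, L.y} from rfl] at hx ⊢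
  rwa [L.cent_J] at hx

end CfsgLib.OEightLocal
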