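import Cfsg.Agent.Lib.OEightLocal.Pre
import Cfsg.Agent.Lib.Coprime.Action
import Cfsg.Prelude

/-!
The hypotheses of the recognition give the data `Pre`.
-/

set_option autoImplicit false
set_option linter.unusedSectionVars false

namespace CfsgLib.OEightLocal

open CfsgLib.LFourThree (S2 pE sE closure_ps)
open scoped commutatorElement

/-- `SL(2,3)` is generated by its elements of odd order. -/
theorem s2_odd_closure : Cfsg.pResidual 2 S2 = ⊤ := by
  have h3 : ∀ g : S2, g ^ 3 = 1 → g ∈ Cfsg.pResidual 2 S2 := fun g hg => by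
    refine Subgroup.subset_closure ?_
    show Nat.Coprime (orderOf g) 2
    exact Nat.Coprime.coprime_dvd_left (orderOf_dvd_of_pow_eq_one hg) (by norm_num)
  have hp : pE ∈ Cfsg.pResidual 2 S2 := h3 _ LFourThree.s2_rels.2.2.1
  have hq : LFourThree.qE ∈ Cfsg.pResidual 2 S2 := h3 _ LFourThree.s2_rels.2.2.2
  rw [eq_top_iff, ← closure_ps, Subgroup.closure_le]
  rintro x (rfl | rfl)
  · exact hp
  · rw [← LFourThree.s2_rels.1]
    exact mul_mem (mul_mem hp hq) hp

theorem pResidual_prod_sign : Cfsg.pResidual 2 (S2 × ℤˣ) =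
    (MonoidHom.snd S2 ℤˣ).ker := by
  refine le_antisymm ?_ ?_
  · rw [Cfsg.pResidual, Subgroup.closure_le]
    intro x hx
    have h2 : (x.2) ^ 2 = 1 := by rw [pow_two]; exact Int.units_mul_self _
    have h1 : (x.2) ^ orderOf x = 1 := by
      rw [← Prod.pow_snd, pow_orderOf_eq_one]; rfl
    have := pow_gcd_eq_one.2 ⟨h1, h2⟩
    rw [(hx : Nat.Coprime (orderOf x) 2), pow_one] at this
    exact this
  · rintro ⟨g, e⟩ (he : e = 1)
    subst he
    have hg : g ∈ Cfsg.pResidual 2 S2 := s2_odd_closure.symm ▸ Subgroup.mem_top g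
    have h : ((Cfsg.pResidual 2 S2).map (MonoidHom.inl S2 ℤˣ)) ≤ Cfsg.pResidual 2 (S2 × ℤˣ) := by
      rw [Cfsg.pResidual, MonoidHom.map_closure, Subgroup.closure_le]
      rintro _ ⟨a, ha, rfl⟩
      refine Subgroup.subset_closure ?_
      show Nat.Coprime (orderOf (MonoidHom.inl S2 ℤˣ a)) 2
      rw [orderOf_injective _ (Prod.mk_left_injective 1)]
      exact ha
    exact h ⟨g, hg, rfl⟩

theorem pResidual_map_le {A B : Type*} [Group A] [Group B] (f : A ≃* B) :
    (Cfsg.pResidual 2 A).map f.toMonoidHom ≤ Cfsg.pResidual 2 B := by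
  rw [Cfsg.pResidual, MonoidHom.map_closure, Subgroup.closure_le]
  rintro _ ⟨a, ha, rfl⟩
  refine Subgroup.subset_closure ?_
  show Nat.Coprime (orderOf (f a)) 2
  rw [f.orderOf_eq]
  exact ha

theorem pResidual_map_equiv {A B : Type*} [Group A] [Group B] (f : A ≃* B) (x : A) :
    x ∈ Cfsg.pResidual 2 A ↔ f x ∈ Cfsg.pResidual 2 B := by
  refine ⟨fun hx => pResidual_map_le f ⟨x, hx, rfl⟩, fun hx => ?_⟩
  have := pResidual_map_le f.symm ⟨f x, hx, rfl⟩
  simpa using this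

/-- The two cases as a pair of maps. -/
theorem exists_pi {C : Type*} [Group C] (Qc : Subgroup C) [Qc.Normal]
    (e : Nonempty (C ⧸ Qc ≃* S2) ∨ Nonempty (C ⧸ Qc ≃* S2 × Multiplicative (ZMod 2))) :
    ∃ (m : ℕ) (π : C →* S2) (ε : C →* ℤˣ), (m = 1 ∨ m = 2) ∧
      (∀ g : S2, ∀ e : ℤˣ, (m = 2 ∨ e = 1) → ∃ c, π c = g ∧ ε c = e) ∧ (m = 1 → ∀ c, ε c = 1) ∧
      (∀ c, (π c = 1 ∧ ε c = 1) ↔ c ∈ Qc) ∧
      ∀ c, ε c = 1 ↔ (QuotientGroup.mk' Qc c) ∈ Cfsg.pResidual 2 (C ⧸ Qc) := by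
  rcases e with ⟨⟨f⟩⟩ | ⟨⟨f⟩⟩
  · refine ⟨1, f.toMonoidHom.comp (QuotientGroup.mk' Qc), 1, Or.inl rfl, ?_, fun _ _ => rfl, ?_, ?_⟩
    · intro g e he
      obtain ⟨c, hc⟩ := QuotientGroup.mk'_surjective Qc (f.symm g)
      refine ⟨c, ?_, ?_⟩
      · show f (QuotientGroup.mk' Qc c) = g
        rw [hc, MulEquiv.apply_symm_apply]
      · rcases he with h | rfl
        · omega
        · rfl
    · intro c
      simp
    · intro c
      simp only [MonoidHom.one_apply, true_iff]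
      rw [pResidual_map_equiv f, s2_odd_closure]
      exact Subgroup.mem_top _
  · let σ : Multiplicative (ZMod 2) ≃* ℤˣ := MulEquiv.ofBijective
      (MonoidHom.mk' (fun x : Multiplicative (ZMod 2) => if x = 1 then (1 : ℤˣ) else -1)
        (by decide)) (by decide)
    let f' : C ⧸ Qc ≃* S2 × ℤˣ := f.trans (MulEquiv.prodCongr (MulEquiv.refl _) σ)
    refine ⟨2, (MonoidHom.fst _ _).comp (f'.toMonoidHom.comp (QuotientGroup.mk' Qc)),
      (MonoidHom.snd _ _).comp (f'.toMonoidHom.comp (QuotientGroup.mk' Qc)), Or.inr rfl, ?_,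
      fun h => by omega, ?_, ?_⟩
    · intro g e _
      obtain ⟨c, hc⟩ := QuotientGroup.mk'_surjective Qc (f'.symm (g, e))
      refine ⟨c, ?_, ?_⟩ <;>
      · show _ = _
        simp only [MonoidHom.comp_apply, MulEquiv.coe_toMonoidHom, hc, MulEquiv.apply_symm_apply]
        rfl
    · intro c
      simp only [MonoidHom.comp_apply, MulEquiv.coe_toMonoidHom, MonoidHom.coe_fst, MonoidHom.coe_snd]
      refine Iff.trans ?_ (QuotientGroup.eq_one_iff c)
      rw [← f'.map_eq_one_iff, Prod.ext_iff]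
      rfl
    · intro c
      rw [pResidual_map_equiv f', pResidual_prod_sign]
      rfl

variable {G : Type*} [Group G] [Finite G]

/-- Coprime lifting along a series with trivial factors. -/
theorem fixed_chain {k : G} {Q : Subgroup G} (hQ3 : IsPGroup 3 Q) (hk : ¬ 3 ∣ orderOf k)
    {A B : Subgroup G} (hA : A ≤ B) (hB : B ≤ Q) (hkA : ∀ a ∈ A, k * a * k⁻¹ ∈ A)
    (hkB : ∀ b ∈ B, k * b * k⁻¹ ∈ B)
    (hBA : ∀ b ∈ B, ∀ a ∈ A, b * a * b⁻¹ ∈ A) (htriv : ∀ b ∈ B, k * b * k⁻¹ * b⁻¹ ∈ A) :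
    ∀ b ∈ B, ∃ a ∈ A, ∃ f ∈ B, k * f = f * k ∧ b = a * f := by
  intro b hb
  have hnorm : ∀ H : Subgroup G, (∀ a ∈ H, k * a * k⁻¹ ∈ H) →
      Subgroup.zpowers k ≤ Subgroup.normalizer (H : Set G) := fun H h => by
    rw [Subgroup.zpowers_le, Subgroup.mem_normalizer_iff_map_conj_eq]
    refine Subgroup.eq_of_le_of_card_ge ?_ ?_
    · rintro _ ⟨a, ha, rfl⟩
      simpa using h a ha
    · rw [Subgroup.card_map_of_injective (MulEquiv.injective _)]
  obtain ⟨n, hn⟩ := IsPGroup.iff_card.1 (hQ3.to_le hB)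
  have hcop : (Nat.card (Subgroup.zpowers k)).Coprime (Nat.card B) := by
    rw [hn, Nat.card_zpowers]
    exact Nat.Coprime.pow_right n ((Nat.prime_three.coprime_iff_not_dvd.2 hk).symm)
  have hfix : ∀ a ∈ Subgroup.zpowers k, b⁻¹ * (a * b * a⁻¹) ∈ A := by
    intro a ha
    obtain ⟨j, rfl⟩ := (isOfFinOrder_of_finite k).mem_powers_iff_mem_zpowers.2 ha
    dsimp only
    clear ha
    induction j with
    | zero => simp
    | succ j ih =>
      have h1 : b⁻¹ * (k * b * k⁻¹) ∈ A := by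
        have h := inv_mem (htriv b⁻¹ (inv_mem hb))
        simpa [mul_assoc] using h
      have h2 := hkA _ ih
      convert mul_mem h1 h2 using 1
      rw [pow_succ']
      group
  obtain ⟨f, ⟨hfB, hfc⟩, hf⟩ := CfsgLib.Coprime.exists_centralizer_mem_coset (hnorm B hkB) hcop
    (Or.inl inferInstance) hA (hnorm A hkA) hb hfix
  -- `b = (b f⁻¹) f`, and `A` is invariant under conjugation by `b`
  refine ⟨b * f⁻¹, ?_, f, hfB, Subgroup.mem_centralizer_iff.1 hfc k (Subgroup.mem_zpowers k),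
    by group⟩
  convert hBA b hb _ (inv_mem hf) using 1
  group

/-- The data from the hypotheses of the recognition. -/
theorem exists_pre (S : Sylow 3 G) (Z : Subgroup G)
    (hZ : Z = (S : Subgroup G) ⊓ Subgroup.centralizer ((S : Subgroup G) : Set G))
    (C : Subgroup G) (hCZ : C = Subgroup.centralizer (Z : Set G))
    (Q : Subgroup G) (hQ : Q = (Cfsg.pCore 3 C).map C.subtype)
    (hQex : Cfsg.IsExtraspecial 3 Q) (hQcard : Nat.card Q = 3 ^ 5) (hQexp : ∀ a ∈ Q, a ^ 3 = 1)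
    (hCQ : Subgroup.centralizer (Q : Set G) ≤ Q)
    (hZQ : ∃ x : G, Z.map (MulAut.conj x).toMonoidHom ≤ Q ∧ Z.map (MulAut.conj x).toMonoidHom ≠ Z)
    (K : Subgroup G) (hK : K = ((Cfsg.pResidual 2 (C ⧸ Cfsg.pCore 3 C)).comap
      (QuotientGroup.mk' (Cfsg.pCore 3 C))).map C.subtype)
    (r : ℕ) (A : Fin (r + 1) → Subgroup G) (hA0 : A 0 = Z) (hAr : A (Fin.last r) = Q)
    (hmono : ∀ i : Fin r, A i.castSucc < A i.succ)
    (hinv : ∀ i : Fin (r + 1), ∀ k ∈ K, ∀ a ∈ A i, k * a * k⁻¹ ∈ A i)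
    (hmax : ∀ i : Fin r, ∀ B : Subgroup G, A i.castSucc < B → B < A i.succ →
      ∃ k ∈ K, ∃ b ∈ B, k * b * k⁻¹ ∉ B)
    (e : Nonempty (C ⧸ Cfsg.pCore 3 C ≃* S2) ∨
      Nonempty (C ⧸ Cfsg.pCore 3 C ≃* S2 × Multiplicative (ZMod 2)))
    (hone : ∃! i : Fin r, (∃ k ∈ K, ∃ a ∈ A i.succ, k * a * k⁻¹ * a⁻¹ ∉ A i.castSucc)) :
    ∃ (z : G) (m : ℕ) (π : Subgroup.centralizer ({z} : Set G) →* S2)
      (ε : Subgroup.centralizer ({z} : Set G) →* ℤˣ), Pre z Q m π ε := by
  classical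
  have : Fact (Nat.Prime 3) := ⟨Nat.prime_three⟩
  have hQC : Q ≤ C := hQ ▸ Subgroup.map_subtype_le _
  have hQp : IsPGroup 3 Q := IsPGroup.of_card hQcard
  -- the centre
  set ZQ := (Subgroup.center Q).map Q.subtype with hZQdef
  have hcardZQ : Nat.card ZQ = 3 := by
    rw [hZQdef, Subgroup.card_map_of_injective Q.subtype_injective, hQex.2]
  have hZle : Z ≤ ZQ := by
    intro x hx
    have hxc : x ∈ Subgroup.centralizer (Q : Set G) := Subgroup.mem_centralizer_iff.2 fun q hq =>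
      (Subgroup.mem_centralizer_iff.1 (hCZ ▸ hQC hq : q ∈ Subgroup.centralizer (Z : Set G)) x hx).symm
    refine ⟨⟨x, hCQ hxc⟩, Subgroup.mem_center_iff.2 fun q => Subtype.ext ?_, rfl⟩
    exact Subgroup.mem_centralizer_iff.1 hxc q q.2
  have hne : Z ≠ ⊥ := by
    intro hb
    obtain ⟨n, hn⟩ := IsPGroup.iff_card.1 (hQp : IsPGroup 3 Q)
    have h243 : 3 ^ 5 ∣ Nat.card (S : Subgroup G) := by
      rw [Sylow.card_eq_multiplicity]
      exact pow_dvd_pow 3 ((Nat.Prime.pow_dvd_iff_le_factorization Nat.prime_three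
        Nat.card_pos.ne').1 (hQcard ▸ Subgroup.card_subgroup_dvd_card Q))
    have hnt : Nontrivial (S : Subgroup G) := Finite.one_lt_card_iff_nontrivial.1
      (lt_of_lt_of_le (by norm_num) (Nat.le_of_dvd Nat.card_pos h243))
    have := S.2.center_nontrivial
    obtain ⟨⟨⟨x, hxS⟩, hx⟩, hx1⟩ := exists_ne (1 : Subgroup.center (S : Subgroup G))
    refine hx1 (Subtype.ext (Subtype.ext ?_))
    have hxZ : x ∈ Z := by
      rw [hZ]
      exact ⟨hxS, Subgroup.mem_centralizer_iff.2 fun s hs =>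
        congrArg Subtype.val (Subgroup.mem_center_iff.1 hx ⟨s, hs⟩)⟩
    rw [hb, Subgroup.mem_bot] at hxZ
    exact hxZ
  have hZeq : Z = ZQ := Subgroup.eq_of_le_of_card_ge hZle (by
    rw [hcardZQ]
    by_contra h
    have hd := Subgroup.card_dvd_of_le hZle
    rw [hcardZQ] at hd
    rcases (Nat.dvd_prime Nat.prime_three).1 hd with h1 | h1
    · exact hne (Subgroup.card_eq_one.1 h1)
    · omega)
  obtain ⟨z, hzZ, hz1⟩ : ∃ z ∈ Z, z ≠ 1 := by
    by_contra h
    push Not at h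
    exact hne ((Subgroup.eq_bot_iff_forall _).2 h)
  have hord : orderOf z = 3 := by
    refine orderOf_eq_prime ?_ hz1
    have h := orderOf_dvd_natCard (⟨z, hZle hzZ⟩ : ZQ)
    rw [hcardZQ, ← Subgroup.orderOf_coe] at h
    exact orderOf_dvd_iff_pow_eq_one.1 h
  have hZz : Z = Subgroup.zpowers z := (Subgroup.eq_of_le_of_card_ge (Subgroup.zpowers_le.2 hzZ)
    (by rw [hZeq, hcardZQ, Nat.card_zpowers, hord])).symm
  have hC : C = Subgroup.centralizer ({z} : Set G) := by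
    rw [hCZ, hZz, Subgroup.zpowers_eq_closure, Subgroup.centralizer_closure]
  subst hC
  have : (Cfsg.pCore 3 (Subgroup.centralizer ({z} : Set G))).Normal := Cfsg.pCore_normal _ _
  obtain ⟨m, π, ε, hm, hsurj, heps, hker, hres⟩ := exists_pi _ e
  have hkerQ : ∀ c : Subgroup.centralizer ({z} : Set G), (π c = 1 ∧ ε c = 1) ↔ (c : G) ∈ Q := by
    intro c
    rw [hker, hQ]
    exact (Subgroup.mem_map_iff_mem (Subgroup.centralizer ({z} : Set G)).subtype_injective).symm
  have hKmem : ∀ k : Subgroup.centralizer ({z} : Set G), ε k = 1 ↔ (k : G) ∈ K := by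
    intro k
    rw [hres, hK]
    exact Subgroup.mem_comap.symm.trans
      (Subgroup.mem_map_iff_mem (Subgroup.centralizer ({z} : Set G)).subtype_injective).symm
  have hQK : Q ≤ K := fun q hq => (hKmem ⟨q, hQC hq⟩).1 ((hkerQ ⟨q, hQC hq⟩).2 hq).2
  have hAmono : Monotone A := Fin.monotone_iff_le_succ.2 fun i => (hmono i).le
  have hAQ : ∀ l, A l ≤ Q := fun l => hAr ▸ hAmono (Fin.le_last l)
  obtain ⟨j, -, huniq⟩ := hone
  refine ⟨z, m, π, ε, ⟨hord, hm, hsurj, heps, hkerQ, hQC, ?_, by rw [hQcard]; norm_num, hQexp, ?_, ?_,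
    hCQ, ?_, ⟨S, ?_⟩, A j.castSucc, A j.succ, ?_, hmono j, hAQ _, ?_, ?_, ?_⟩⟩
  · exact Subgroup.map_subtype_le _ (hZle hzZ)
  · intro a ha b hb
    have h : ⁅(⟨a, ha⟩ : Q), ⟨b, hb⟩⁆ ∈ commutator Q :=
      Subgroup.commutator_mem_commutator (Subgroup.mem_top _) (Subgroup.mem_top _)
    rw [hQex.1.2.2] at h
    rw [← hZz, hZeq]
    exact ⟨_, h, rfl⟩
  · intro a ha hc
    rw [← hZz, hZeq]
    exact ⟨⟨a, ha⟩, Subgroup.mem_center_iff.2 fun q => Subtype.ext (hc q q.2).symm, rfl⟩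
  · obtain ⟨x, hx1, hx2⟩ := hZQ
    refine ⟨x, hx1 ⟨z, hzZ, rfl⟩, fun h => hx2 ?_⟩
    rw [hZz, MonoidHom.map_zpowers]
    refine Subgroup.eq_of_le_of_card_ge (Subgroup.zpowers_le.2 h) ?_
    rw [Nat.card_zpowers, Nat.card_zpowers]
    exact le_of_eq ((MulAut.conj x).orderOf_eq z).symm
  · intro s hs
    rw [Subgroup.mem_centralizer_singleton_iff]
    have := hZ ▸ hzZ
    exact Subgroup.mem_centralizer_iff.1 this.2 s hs
  · rw [← hZz, ← hA0]
    exact hAmono (Fin.zero_le _)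
  · intro k hk
    exact ⟨hinv _ k ((hKmem k).1 hk), hinv _ k ((hKmem k).1 hk)⟩
  · intro B' h1 h2
    obtain ⟨k, hk, b, hb, hkb⟩ := hmax j B' h1 h2
    have hkC : k ∈ Subgroup.centralizer ({z} : Set G) := by
      rw [hK] at hk
      exact Subgroup.map_subtype_le _ hk
    exact ⟨⟨k, hkC⟩, (hKmem _).2 hk, b, hb, hkb⟩
  · intro k hk h3
    have hkK := (hKmem k).1 hk
    rw [← Subgroup.orderOf_coe] at h3
    have hstep : ∀ l : Fin r, l ≠ j → ∀ b ∈ A l.succ, ∃ a ∈ A l.castSucc, ∃ f ∈ A l.succ,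
        (k : G) * f = f * k ∧ b = a * f := by
      intro l hl
      refine fixed_chain hQp h3 (hmono l).le (hAQ _) (hinv _ k hkK) (hinv _ k hkK)
        (fun b hb => hinv _ b (hQK (hAQ _ hb))) fun b hb => ?_
      by_contra h
      exact hl (huniq l ⟨k, hkK, b, hb, h⟩)
    have hlow : ∀ l : Fin (r + 1), l ≤ j.castSucc → ∀ a ∈ A l, (k : G) * a = a * k := by
      intro l
      induction l using Fin.induction with
      | zero =>
        intro _ a ha
        rw [hA0, hZz] at ha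
        obtain ⟨n, rfl⟩ := Subgroup.mem_zpowers_iff.1 ha
        exact ((show Commute (k : G) z from Subgroup.mem_centralizer_singleton_iff.1 k.2).zpow_right n).eq
      | succ l ih =>
        intro hl a ha
        have hlt : l.castSucc < j.castSucc := lt_of_lt_of_le (Fin.castSucc_lt_succ) hl
        obtain ⟨a', ha', f, -, hkf, rfl⟩ := hstep l (fun e => by rw [e] at hlt; exact lt_irrefl _ hlt) a ha
        exact ((show Commute (k : G) a' from ih hlt.le a' ha').mul_right hkf).eq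
    have hhigh : ∀ l : Fin (r + 1), j.succ ≤ l → ∀ q ∈ A l, ∃ b ∈ A j.succ, ∃ f ∈ Q,
        (k : G) * f = f * k ∧ q = b * f := by
      intro l
      induction l using Fin.induction with
      | zero => intro h; exact absurd h (by simp)
      | succ l ih =>
        intro hl q hq
        rcases eq_or_lt_of_le hl with h | h
        · exact ⟨q, h ▸ hq, 1, one_mem _, by simp, by simp⟩
        · have hlj : l ≠ j := fun e => by rw [e] at h; exact lt_irrefl _ h
          obtain ⟨a', ha', f, hf, hkf, rfl⟩ := hstep l hlj q hq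
          have hle : j.succ ≤ l.castSucc := by
            rw [Fin.le_castSucc_iff]
            exact h
          obtain ⟨b, hb, f', hf', hkf', rfl⟩ := ih hle a' ha'
          exact ⟨b, hb, f' * f, mul_mem hf' (hAQ _ hf),
            ((show Commute (k : G) f' from hkf').mul_right hkf).eq, mul_assoc _ _ _⟩
    exact ⟨hlow _ le_rfl, fun q hq => hhigh (Fin.last r) (Fin.le_last _) q (hAr ▸ hq)⟩

end CfsgLib.OEightLocal
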