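import Cfsg.Agent.Lib.OEightLocal.Nu
import Cfsg.Agent.Lib.OEightLocal.FromHyp

/-!
Existence of the configuration.
-/

set_option autoImplicit false
set_option linter.unusedSectionVars false

namespace CfsgLib.OEightLocal

open CfsgLib.LFourThree (S2 pE sE closure_ps)

namespace Pre

variable {G : Type*} [Group G] [Finite G] {z : G} {Q : Subgroup G} {m : ℕ}
  {π : Subgroup.centralizer ({z} : Set G) →* S2} {ε : Subgroup.centralizer ({z} : Set G) →* ℤˣ}
  {L : Pre z Q m π ε} {t : Subgroup.centralizer ({z} : Set G)}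
  {O : Subgroup (Subgroup.centralizer ({z} : Set G))} {H : Quat π ε t O}
  {u s : Subgroup.centralizer ({z} : Set G)} {i₁ i₂ p a : G}
  (S : Std L H u s i₁ i₂ p a 1 (-1)) (hs : (s : G) ^ 3 = 1)
include S hs

/-- Generators fixed by the inversion. -/
theorem Std.exists_adapted : ∃ n p' a', Std L H u s i₁ i₂ p' a' 1 (-1) ∧ n * n = 1 ∧ n * z * n⁻¹ = z⁻¹ ∧
    Commute (t : G) n ∧ Commute (u : G) n ∧ n * i₁ * n⁻¹ = i₁⁻¹ ∧ n * i₂ * n⁻¹ = i₂⁻¹ ∧
    n * (s : G) * n⁻¹ = (s : G)⁻¹ ∧ Commute n p' ∧ Commute n a' := by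
  obtain ⟨n, hnJ, hnn, hnz, hnt, hnu, hn1, hn2⟩ := S.exists_invol_n hs
  obtain ⟨u0, u1, u2, u3, u4⟩ := (Frame.el_units : el z i₁ i₂ p a ![1, 0, 0, 0, 0] = z ∧ _)
  have hQ : ∀ q ∈ Q, n * q * n⁻¹ ∈ Q := fun q hq => S.norm_Q hs (Or.inr hnz) hq
  have htn : ∀ x, Commute (t : G) x → Commute (t : G) (n * x * n⁻¹) := fun x hx =>
    (hnt.mul_right hx).mul_right hnt.inv_right
  -- the image of `p`
  obtain ⟨e, he⟩ := S.surj (hQ p S.vp.1)
  have hI : Inv L H (n * p * n⁻¹) := by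
    refine ⟨hQ p S.vp.1, ?_⟩
    calc (t : G) * (n * p * n⁻¹) * (t : G)⁻¹ = ((t : G) * n) * p * ((t : G) * n)⁻¹ := by group
      _ = (n * t) * p * (n * t)⁻¹ := by rw [hnt.eq]
      _ = n * ((t : G) * p * (t : G)⁻¹) * n⁻¹ := by group
      _ = _ := by rw [S.vp.2, conj_inv]
  rw [← he] at hI
  obtain ⟨e0, e2, e4⟩ := L.inv_coord H S.F S.v1 S.vp S.t2 S.ta hI
  have hi1' : i₁⁻¹ = el z i₁ i₂ p a (einv ![0, 1, 0, 0, 0]) := by rw [← S.F.el_inv, u1]
  have hz' : z⁻¹ = el z i₁ i₂ p a (einv ![1, 0, 0, 0, 0]) := by rw [← S.F.el_inv, u0]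
  have hi2' : i₂⁻¹ = el z i₁ i₂ p a (einv ![0, 0, 1, 0, 0]) := by rw [← S.F.el_inv, u2]
  have e3 : e 3 = 1 := by
    have h : n * (p * i₁) * n⁻¹ = n * (z * i₁ * p) * n⁻¹ := by rw [S.F.rp]
    rw [show n * (p * i₁) * n⁻¹ = (n * p * n⁻¹) * (n * i₁ * n⁻¹) by group,
      show n * (z * i₁ * p) * n⁻¹ = (n * z * n⁻¹) * (n * i₁ * n⁻¹) * (n * p * n⁻¹) by group,
      hnz, hn1, ← he, hi1', hz', S.F.el_mul, S.F.el_mul, S.F.el_mul, S.F.el_injective.eq_iff] at h
    have := congrFun h 0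
    simp [emul, einv] at this
    linear_combination -this
  have hee : e = ![-(e 1), e 1, 0, 1, 0] := by apply ext5 <;> simp [e0, e2, e4, e3]
  set p' := el z i₁ i₂ p a ![e 1, -(e 1), 0, 1, 0] with hp'
  have hnp : n * p' * n⁻¹ = p' := by
    have hdec : p' = z ^ (e 1).val * i₁ ^ (-(e 1)).val * p := by simp [hp', el, ZMod.val_one]
    conv_lhs => rw [hdec]
    rw [show n * (z ^ (e 1).val * i₁ ^ (-(e 1)).val * p) * n⁻¹ = (n * z * n⁻¹) ^ (e 1).val *
      (n * i₁ * n⁻¹) ^ (-(e 1)).val * (n * p * n⁻¹) by simp only [conj_pow]; group, hnz, hn1, hz', hi1',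
      S.F.el_pow, S.F.el_pow, ← he, S.F.el_mul, S.F.el_mul, hp', hee]
    refine congrArg _ ?_
    apply ext5 <;> simp [emul, einv, epow]
    all_goals (generalize e 1 = x; revert x; decide)
  -- the image of `a`
  obtain ⟨x, y, w, hna⟩ := L.fix_coord H S.F S.v1 S.vp S.q2 S.t2 S.qa S.ta (hQ a S.qa) (htn a S.ta)
  have hw : w = 1 := by
    have h : n * (i₂ * a) * n⁻¹ = n * (z * a * i₂) * n⁻¹ := by rw [S.F.ra]
    rw [show n * (i₂ * a) * n⁻¹ = (n * i₂ * n⁻¹) * (n * a * n⁻¹) by group,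
      show n * (z * a * i₂) * n⁻¹ = (n * z * n⁻¹) * (n * a * n⁻¹) * (n * i₂ * n⁻¹) by group,
      hnz, hn2, hna, hi2', hz', S.F.el_mul, S.F.el_mul, S.F.el_mul, S.F.el_injective.eq_iff] at h
    have := congrFun h 0
    simp [emul, einv, v2] at this
    linear_combination -this
  subst hw
  set a' := el z i₁ i₂ p a ![-x, 0, -y, 0, 1] with ha'
  have hnaf : n * a' * n⁻¹ = a' := by
    have hdec : a' = z ^ (-x).val * i₂ ^ (-y).val * a := by simp [ha', el, ZMod.val_one]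
    conv_lhs => rw [hdec]
    rw [show n * (z ^ (-x).val * i₂ ^ (-y).val * a) * n⁻¹ = (n * z * n⁻¹) ^ (-x).val *
      (n * i₂ * n⁻¹) ^ (-y).val * (n * a * n⁻¹) by simp only [conj_pow]; group, hnz, hn2, hz', hi2',
      S.F.el_pow, S.F.el_pow, hna, S.F.el_mul, S.F.el_mul, ha']
    refine congrArg _ ?_
    apply ext5 <;> simp [emul, einv, epow, v2]
    all_goals exact (by decide : ∀ x : ZMod 3, x + x = -x) _
  have htp : Inv L H p' := by
    refine ⟨S.mem _, ?_⟩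
    rw [L.conj_t H S.F S.v1 S.vp S.t2 S.ta, S.F.el_inv]
    refine congrArg _ ?_
    apply ext5 <;> simp [ft, einv]
    all_goals (generalize e 1 = x; revert x; decide)
  have hta : Commute (t : G) a' := by
    refine mul_inv_eq_iff_eq_mul.1 ?_
    rw [L.conj_t H S.F S.v1 S.vp S.t2 S.ta]
    exact congrArg _ (by apply ext5 <;> simp [ft])
  have hua : m = 2 → (u : G) * a' * (u : G)⁻¹ = a'⁻¹ := by
    intro hm
    have hu2 : ∀ k v w : ZMod 3, (u : G) * el z i₁ i₂ p a (v2 k v w) * (u : G)⁻¹ =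
        el z i₁ i₂ p a (emul (emul ![k, 0, 0, 0, 0] (epow v (einv ![0, 0, 1, 0, 0])))
          (epow w (einv ![0, 0, 0, 0, 1]))) := by
      intro k v w
      rw [el2, show (u : G) * (z ^ k.val * i₂ ^ v.val * a ^ w.val) * (u : G)⁻¹ =
        ((u : G) * z * (u : G)⁻¹) ^ k.val * ((u : G) * i₂ * (u : G)⁻¹) ^ v.val *
          ((u : G) * a * (u : G)⁻¹) ^ w.val by simp only [conj_pow]; group,
        S.u_2 hm, S.u_a hm, (show Commute (u : G) z from L.mem_cz.1 u.2).eq, mul_inv_cancel_right,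
        ← S.F.el_mul, ← S.F.el_mul, ← S.F.el_pow, ← S.F.el_pow, ← S.F.el_inv, ← S.F.el_inv, u2, u4,
        Frame.el_z]
    have h : (u : G) * (n * a * n⁻¹) * (u : G)⁻¹ = (n * a * n⁻¹)⁻¹ := by
      calc (u : G) * (n * a * n⁻¹) * (u : G)⁻¹ = ((u : G) * n) * a * ((u : G) * n)⁻¹ := by group
        _ = (n * u) * a * (n * u)⁻¹ := by rw [hnu.eq]
        _ = n * ((u : G) * a * (u : G)⁻¹) * n⁻¹ := by group
        _ = _ := by rw [S.u_a hm, conj_inv]
    rw [hna, hu2, S.F.el_inv, S.F.el_injective.eq_iff] at h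
    have h0 := congrFun h 0
    simp [emul, epow, einv, v2] at h0
    rw [ha', show (![-x, 0, -y, 0, 1] : E) = v2 (-x) (-y) 1 from rfl, hu2, S.F.el_inv]
    refine congrArg _ ?_
    apply ext5 <;> simp [emul, epow, einv, v2]
    all_goals (revert h0; clear h hna ha' hnaf hta; clear_value a'; revert x y; decide)
  have hrp : p' * i₁ = z * i₁ * p' := by
    rw [hp', show el z i₁ i₂ p a ![e 1, -(e 1), 0, 1, 0] * i₁ =
      el z i₁ i₂ p a (emul ![e 1, -(e 1), 0, 1, 0] ![0, 1, 0, 0, 0]) by rw [← S.F.el_mul, u1],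
      show z * i₁ * el z i₁ i₂ p a ![e 1, -(e 1), 0, 1, 0] =
      el z i₁ i₂ p a (emul (emul ![1, 0, 0, 0, 0] ![0, 1, 0, 0, 0]) ![e 1, -(e 1), 0, 1, 0]) by
        rw [← S.F.el_mul, ← S.F.el_mul, u0, u1]]
    refine congrArg _ ?_
    apply ext5 <;> simp [emul] <;> ring
  have hra : i₂ * a' = z * a' * i₂ := by
    rw [ha', show i₂ * el z i₁ i₂ p a ![-x, 0, -y, 0, 1] =
      el z i₁ i₂ p a (emul ![0, 0, 1, 0, 0] ![-x, 0, -y, 0, 1]) by rw [← S.F.el_mul, u2],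
      show z * el z i₁ i₂ p a ![-x, 0, -y, 0, 1] * i₂ =
      el z i₁ i₂ p a (emul (emul ![1, 0, 0, 0, 0] ![-x, 0, -y, 0, 1]) ![0, 0, 1, 0, 0]) by
        rw [← S.F.el_mul, ← S.F.el_mul, u0, u2]]
    refine congrArg _ ?_
    apply ext5 <;> simp [emul] <;> ring
  -- the image of `s`
  obtain ⟨v, hv⟩ := (S.mem_J hs).1 ((Subgroup.mem_normalizer_iff.1 hnJ (s : G)).1
    (Subgroup.subset_closure (by simp)))
  have hv1 : v 1 = 0 := by
    have h := (htn (s : G) S.st).eq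
    rw [hv, ← mul_inv_eq_iff_eq_mul,
      show (t : G) * (el z i₁ i₂ p a ![v 0, v 1, v 2, 0, 0] * (s : G) ^ (v 3).val) * (t : G)⁻¹ =
        ((t : G) * el z i₁ i₂ p a ![v 0, v 1, v 2, 0, 0] * (t : G)⁻¹) *
          ((t : G) * (s : G) ^ (v 3).val * (t : G)⁻¹) by group,
      L.conj_t H S.F S.v1 S.vp S.t2 S.ta, (S.st.pow_right _).eq, mul_inv_cancel_right] at h
    have := congrFun (S.sy_inj hs h).1 1
    simp [ft] at this
    exact (by decide : ∀ x : ZMod 3, -x = x → x = 0) _ this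
  have hv3 : v 3 = -1 := by
    have h : n * ((s : G) * p * (s : G)⁻¹) * n⁻¹ = n * (p * i₁ * z) * n⁻¹ := by rw [S.sp]
    rw [show n * ((s : G) * p * (s : G)⁻¹) * n⁻¹ = (n * (s : G) * n⁻¹) * (n * p * n⁻¹) * (n * (s : G) * n⁻¹)⁻¹ by
      group, show n * (p * i₁ * z) * n⁻¹ = (n * p * n⁻¹) * (n * i₁ * n⁻¹) * (n * z * n⁻¹) by group,
      hv, hn1, hnz, ← he, hi1', hz',
      show el z i₁ i₂ p a ![v 0, v 1, v 2, 0, 0] * (s : G) ^ (v 3).val * el z i₁ i₂ p a e *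
        (el z i₁ i₂ p a ![v 0, v 1, v 2, 0, 0] * (s : G) ^ (v 3).val)⁻¹ =
        el z i₁ i₂ p a ![v 0, v 1, v 2, 0, 0] * ((s : G) ^ (v 3).val * el z i₁ i₂ p a e * ((s : G) ^ (v 3).val)⁻¹) *
          (el z i₁ i₂ p a ![v 0, v 1, v 2, 0, 0])⁻¹ by group,
      S.spow_conj hs, S.F.el_conj, S.F.el_mul, S.F.el_mul, S.F.el_injective.eq_iff] at h
    have h1 := congrFun h 1
    obtain ⟨m1, -, -, -⟩ := fs_iter_mid ⟨(v 3).val, ZMod.val_lt _⟩ (e 0) (e 1) (e 2) (e 3) (e 4)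
    rw [show (![e 0, e 1, e 2, e 3, e 4] : E) = e by apply ext5 <;> simp, ZMod.natCast_zmod_val, e3,
      mul_one] at m1
    simp [emul, econj, einv] at h1
    linear_combination h1 - m1
  have hns : n * (s : G) * n⁻¹ = (s : G)⁻¹ := by
    set je : V → G := fun v => el z i₁ i₂ p a ![v 0, v 1, v 2, 0, 0] * (s : G) ^ (v 3).val with hje
    have hinv0 : n * el z i₁ i₂ p a ![v 0, v 1, v 2, 0, 0] * n⁻¹ = je ![-v 0, 0, -v 2, 0] := by
      have hdec : el z i₁ i₂ p a ![v 0, v 1, v 2, 0, 0] = z ^ (v 0).val * i₂ ^ (v 2).val := by simp [el, hv1]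
      rw [hdec, show n * (z ^ (v 0).val * i₂ ^ (v 2).val) * n⁻¹ = (n * z * n⁻¹) ^ (v 0).val *
        (n * i₂ * n⁻¹) ^ (v 2).val by simp only [conj_pow]; group, hnz, hn2, ← pow_val_neg S.F.cz,
        ← pow_val_neg S.F.c2]
      simp [hje, el]
    have h : n * (n * (s : G) * n⁻¹) * n⁻¹ = (s : G) := by
      rw [show n * (n * (s : G) * n⁻¹) * n⁻¹ = (n * n) * (s : G) * (n * n)⁻¹ by group, hnn]
      simp
    rw [hv, hv3, show (-1 : ZMod 3).val = 2 from rfl, pow_two,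
      show n * (el z i₁ i₂ p a ![v 0, v 1, v 2, 0, 0] * ((s : G) * s)) * n⁻¹ =
        (n * el z i₁ i₂ p a ![v 0, v 1, v 2, 0, 0] * n⁻¹) * ((n * (s : G) * n⁻¹) * (n * (s : G) * n⁻¹)) by group,
      hinv0, hv] at h
    have hadd : ∀ a b : V, je a * je b = je (a + b) := fun a b => S.je_add hs a b
    rw [show el z i₁ i₂ p a ![v 0, v 1, v 2, 0, 0] * (s : G) ^ (v 3).val = je v from rfl, hadd, hadd] at h
    have h' := S.je_inj hs (v := ![-v 0, 0, -v 2, 0] + (v + v)) (w := ![0, 0, 0, 1])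
      (h.trans (by simp [el, ZMod.val_one]))
    have a0 := congrFun h' 0
    have a2 := congrFun h' 2
    simp at a0 a2
    rw [hv, hv3]
    simp [el, a0, a2, hv1, pow_val_neg hs, ZMod.val_one]
    exact (inv_eq_of_mul_eq_one_right (by rw [← pow_succ']; exact hs)).symm
  refine ⟨n, p', a', ?_, hnn, hnz, hnt, hnu, hn1, hn2, hns, mul_inv_eq_iff_eq_mul.1 hnp,
    mul_inv_eq_iff_eq_mul.1 hnaf⟩
  exact
    { S with
      F := L.frame_of H S.v1 htp S.q2 S.t2 (S.mem _) hta hrp hra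
      vp := htp
      qa := S.mem _
      ta := hta
      u_a := hua
      sp := by
        rw [hp', S.conj_s, show el z i₁ i₂ p a ![e 1, -(e 1), 0, 1, 0] * i₁ * z =
          el z i₁ i₂ p a (emul (emul ![e 1, -(e 1), 0, 1, 0] ![0, 1, 0, 0, 0]) ![1, 0, 0, 0, 0]) by
            rw [← S.F.el_mul, ← S.F.el_mul, u0, u1]]
        refine congrArg _ ?_
        apply ext5 <;> simp [fs, emul]
        all_goals (generalize e 1 = x; revert x; decide)
      sa := by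
        rw [ha', S.conj_s, show el z i₁ i₂ p a ![-x, 0, -y, 0, 1] * i₂ ^ (1 : ZMod 3).val * z ^ (-1 : ZMod 3).val =
          el z i₁ i₂ p a (emul (emul ![-x, 0, -y, 0, 1] ![0, 0, 1, 0, 0]) ![-1, 0, 0, 0, 0]) by
            rw [← S.F.el_mul, ← S.F.el_mul, u2, Frame.el_z, ZMod.val_one, pow_one]]
        refine congrArg _ ?_
        apply ext5 <;> simp [fs, emul]
        all_goals (clear hna ha' hnaf hta hua hra; clear_value a'; revert x y; decide) }

/-- The configuration. -/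
theorem Std.loc (hzs : IsConj z (s : G)) : Nonempty (Loc G) := by
  obtain ⟨n, p', a', S', hnn, hnz, hnt, hnu, hn1, hn2, hns, hnp, hna⟩ := S.exists_adapted hs
  clear S
  obtain ⟨u0, u1, u2, u3, u4⟩ := (Frame.el_units : el z i₁ i₂ p' a' ![1, 0, 0, 0, 0] = z ∧ _)
  have hfix : ∀ {g x : G}, Commute g x → g * x * g⁻¹ = x := fun h => by rw [h.eq, mul_inv_cancel_right]
  have hzz : IsConj z z⁻¹ := isConj_iff.2 ⟨n, hnz⟩
  have hneg : ∀ {x : G}, IsConj z x → IsConj z x⁻¹ := by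
    intro x hx
    obtain ⟨g, hg⟩ := isConj_iff.1 hx
    exact hzz.trans (isConj_iff.2 ⟨g, by rw [← conj_inv, hg]⟩)
  have hdiag : ∀ α β : ZMod 3, α ≠ 0 → β ≠ 0 → IsConj z (el z i₁ i₂ p' a' ![0, α, β, 0, 0]) := by
    obtain ⟨α₀, β₀, hα₀, hβ₀, hc⟩ := S'.seed hs
    have h1 := hc 0
    have h2 : IsConj z (el z i₁ i₂ p' a' ![0, -α₀, β₀, 0, 0]) := by
      refine h1.trans (isConj_iff.2 ⟨(t : G), ?_⟩)
      rw [L.conj_t H S'.F S'.v1 S'.vp S'.t2 S'.ta]
      exact congrArg _ (by apply ext5 <;> simp [ft])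
    have hinv : ∀ x y : ZMod 3, (el z i₁ i₂ p' a' ![0, x, y, 0, 0])⁻¹ = el z i₁ i₂ p' a' ![0, -x, -y, 0, 0] :=
      fun x y => by rw [S'.F.el_inv]; exact congrArg _ (by apply ext5 <;> simp [einv])
    have h3 := hinv α₀ β₀ ▸ hneg h1
    have h4 := hinv (-α₀) β₀ ▸ hneg h2
    intro α β hα hβ
    have h12 : ∀ x y : ZMod 3, x ≠ 0 → y ≠ 0 → x = y ∨ x = -y := by decide
    rcases h12 α α₀ hα hα₀ with rfl | rfl <;> rcases h12 β β₀ hβ hβ₀ with rfl | rfl
    · exact h1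
    · simpa using h4
    · exact h2
    · exact h3
  have hsy := S'.sylow hs
  have hQc := S'.closure_Q hs
  have hp'Q := S'.vp.1
  have htz : Commute (t : G) z := L.mem_cz.1 t.2
  have hOt : ∀ w ∈ O.map (Subgroup.centralizer ({z} : Set G)).subtype, orderOf w = 2 ↔ w = (t : G) := by
    rintro _ ⟨w, hw, rfl⟩
    show orderOf (w : G) = 2 ↔ (w : G) = t
    rw [Subgroup.orderOf_coe]
    refine ⟨fun h => ?_, fun h => ?_⟩
    · rcases H.sq w hw with h' | h' | h'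
      · rw [h', orderOf_one] at h; norm_num at h
      · rw [h']
      · exfalso
        have h2 : w * w = 1 := by rw [← pow_two, ← h, pow_orderOf_eq_one]
        rw [h2] at h'
        exact s2_facts.1 (H.ht.symm.trans (by rw [← h', map_one]))
    · have h' : w = t := Subtype.ext h
      rw [h']
      exact orderOf_eq_prime (by rw [pow_two, H.ht2]) fun e => s2_facts.1 (H.ht.symm.trans (by rw [e, map_one]))
  have huz : Commute (u : G) z := L.mem_cz.1 u.2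
  refine ⟨{
    z := z, i₁ := i₁, i₂ := i₂, y := (s : G), p := p', a := a', t := (t : G), u := (u : G), ν := n
    O := O.map (Subgroup.centralizer ({z} : Set G)).subtype, m := m, hm := L.hm
    cube_z := L.z_cube, cube_i₁ := S'.F.c1, cube_i₂ := S'.F.c2, cube_y := hs, cube_p := S'.F.cp
    cube_a := S'.F.ca, z_ne := L.z_ne
    comm_zp := S'.F.hzp, comm_za := S'.F.hza, comm_zi₁ := S'.F.hz1, comm_zi₂ := S'.F.hz2
    comm_zy := (show Commute (s : G) z from L.mem_cz.1 s.2).symm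
    comm_pa := S'.F.hpa, comm_pi₂ := S'.F.hp2, comm_ai₁ := S'.F.ha1, comm_i₁i₂ := S'.F.h12
    comm_yi₁ := S'.s1, comm_yi₂ := S'.s2
    rel_p := by rw [S'.F.rp]; group
    rel_a := by rw [S'.F.ra]; group
    rel_yp := S'.sp
    rel_ya := by
      rw [S'.sa, ZMod.val_one, pow_one, pow_val_neg S'.F.cz, ZMod.val_one, pow_one]
    card_O := by
      rw [Subgroup.card_map_of_injective (Subgroup.centralizer ({z} : Set G)).subtype_injective]
      exact H.card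
    O_t := hOt
    O_comm := ?_, O_y := ?_, O_Q := ?_
    t_mem := ⟨t, H.mem, rfl⟩
    t_p := S'.vp.2, t_i₁ := S'.v1.2, comm_ty := S'.st
    u_one := fun h => by rw [S'.u_one h]; rfl
    u_ord := fun h => by
      rw [Subgroup.orderOf_coe]
      refine orderOf_eq_prime (by rw [pow_two, S'.u_sq]) fun e => ?_
      have he := S'.u_eps h
      rw [e, map_one] at he
      exact absurd he (by decide)
    comm_uz := huz, comm_ut := S'.ut.symm, comm_uy := S'.us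
    comm_up := S'.uV _ S'.vp, comm_ui₁ := S'.uV _ S'.v1
    u_O := by
      rintro _ ⟨w, hw, rfl⟩
      exact S'.uO w hw
    u_a := S'.u_a, u_i₂ := S'.u_2
    ν_sq := hnn, ν_z := hnz, ν_i₁ := hn1, ν_i₂ := hn2, ν_y := hns
    comm_νt := hnt.symm, comm_νu := hnu.symm, comm_νp := hnp, comm_νa := hna
    card_C := L.card_cent
    C_eq := ?_
    sylow := hsy
    card_S := S'.card_sy hs
    card_Q := by rw [hQc]; exact L.card
    card_J := S'.card_J hs
    conj_y := hzs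
    conj_diag := ?_
    conj_mem_Q := ?_
    abelian_eq_J := fun A h1 h2 h3 => S'.abelian_eq hs h1 h2 h3
    cent_J := S'.cent_J hs
    signalizer := fun K h1 h2 => S'.signalizer hs K h1 h2 }⟩
  · rintro _ ⟨w, hw, rfl⟩
    exact ⟨L.mem_cz.1 w.2, L.O_fixed H hw S'.qa S'.ta, L.O_fixed H hw S'.q2 S'.t2⟩
  · rintro _ ⟨w, hw, rfl⟩
    exact ⟨s * w * s⁻¹, L.O_norm H S'.st hw, by simp⟩
  · rintro _ ⟨w, hw, rfl⟩
    have key : ∀ v, Inv L H v → (w : G) * v * (w : G)⁻¹ ∈ Subgroup.closure ({z, i₁, p'} : Set G) := by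
      intro v hv
      have hI := L.inv_conj H w.2 (L.O_comm_t H hw) hv
      obtain ⟨e, he⟩ := S'.surj hI.1
      rw [← he] at hI ⊢
      obtain ⟨-, e2, e4⟩ := L.inv_coord H S'.F S'.v1 S'.vp S'.t2 S'.ta hI
      simp only [el, e2, e4, ZMod.val_zero, pow_zero, mul_one]
      refine mul_mem (mul_mem (pow_mem ?_ _) (pow_mem ?_ _)) (pow_mem ?_ _) <;>
        exact Subgroup.subset_closure (by simp)
    exact ⟨key _ S'.vp, key _ S'.v1⟩
  · refine le_antisymm (fun c hc => ?_) (sup_le ((Subgroup.closure_le _).2 ?_) (Subgroup.map_subtype_le _))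
    · obtain ⟨w, hw, f, k, x, hx, hd⟩ := S'.decomp hs ⟨c, hc⟩
      replace hd : c = (w : G) * el z i₁ i₂ p' a' f * (s : G) ^ k * (x : G) := hd
      rw [hd]
      refine mul_mem (mul_mem (mul_mem (Subgroup.mem_sup_right ⟨w, hw, rfl⟩) (Subgroup.mem_sup_left ?_))
        (Subgroup.mem_sup_left (pow_mem (Subgroup.subset_closure (by simp)) k))) ?_
      · refine mul_mem (mul_mem (mul_mem (mul_mem (pow_mem ?_ _) (pow_mem ?_ _)) (pow_mem ?_ _))
          (pow_mem ?_ _)) (pow_mem ?_ _) <;> exact Subgroup.subset_closure (by simp)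
      · rcases hx with rfl | ⟨-, rfl⟩
        · exact one_mem _
        · exact Subgroup.mem_sup_left (Subgroup.subset_closure (by simp))
    · rintro g (rfl | rfl | rfl | rfl | rfl | rfl | rfl)
      exacts [L.le L.zmem, L.le S'.v1.1, L.le S'.q2, s.2, L.le S'.vp.1, L.le S'.qa, u.2]
  · have e1 : el z i₁ i₂ p' a' ![0, 1, 1, 0, 0] = i₁ * i₂ := by simp [el, ZMod.val_one]
    have e2 : el z i₁ i₂ p' a' ![0, 1, -1, 0, 0] = i₁ * i₂⁻¹ := by
      have : i₂ ^ (-1 : ZMod 3).val = i₂⁻¹ := by rw [pow_val_neg S'.F.c2, ZMod.val_one, pow_one]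
      rw [← this]
      simp [el, ZMod.val_one]
    exact ⟨e1 ▸ hdiag 1 1 (by decide) (by decide), e2 ▸ hdiag 1 (-1) (by decide) (by decide)⟩
  · intro g hg
    rw [hQc] at hg
    by_cases hgz : g * z * g⁻¹ ∈ Subgroup.zpowers z
    · exact Or.inl hgz
    right
    obtain ⟨e, he, e4, e2, e13⟩ := S'.shape hs hg hgz
    refine ⟨0, (e 2).val, ?_, el z i₁ i₂ p' a' ![e 0, e 1, 0, e 3, 0], ?_, ?_, ?_⟩
    · have h := ZMod.val_lt (e 2)
      have h0 : (e 2).val ≠ 0 := fun h => e2 ((ZMod.val_eq_zero _).1 h)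
      omega
    · simp [el]
      refine mul_mem (mul_mem (pow_mem ?_ _) (pow_mem ?_ _)) (pow_mem ?_ _) <;>
        exact Subgroup.subset_closure (by simp)
    · intro h
      obtain ⟨k, hk⟩ := Subgroup.mem_zpowers_iff.1 h
      have hc : ∀ f : E, pair ![e 0, e 1, 0, e 3, 0] f = 0 := fun f => S'.F.el_commute.1 (by
        rw [← hk]
        exact ((show Commute (el z i₁ i₂ p' a' f) z from L.mem_cz.1 (L.le (S'.mem f))).zpow_right _).symm)
      have b1 := hc ![0, 0, 0, 1, 0]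
      have b3 := hc ![0, 1, 0, 0, 0]
      simp [pair] at b1 b3
      exact e13 ⟨b1, b3⟩
    · rw [he, zpow_zero, mul_one, zpow_natCast,
        show i₂ ^ (e 2).val = el z i₁ i₂ p' a' ![0, 0, 1, 0, 0] ^ (e 2).val by rw [u2], S'.F.el_pow,
        S'.F.el_mul]
      exact congrArg _ (by apply ext5 <;> simp [emul, epow, e4])

end Pre

/-- The configuration from the hypotheses of the recognition. -/
theorem exists_loc {G : Type*} [Group G] [Finite G] (S : Sylow 3 G) (Z : Subgroup G)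
    (hZ : Z = (S : Subgroup G) ⊓ Subgroup.centralizer ((S : Subgroup G) : Set G))
    (C : Subgroup G) (hCZ : C = Subgroup.centralizer (Z : Set G))
    (Q : Subgroup G) (hQ : Q = (Cfsg.pCore 3 C).map C.subtype)
    (hQex : Cfsg.IsExtraspecial 3 Q) (hQcard : Nat.card Q = 3 ^ 5) (hQexp : ∀ a ∈ Q, a ^ 3 = 1)
    (hCQ : Subgroup.centralizer (Q : Set G) ≤ Q)
    (hZQ : ∃ x : G, Z.map (MulAut.conj x).toMonoidHom ≤ Q ∧ Z.map (MulAut.conj x).toMonoidHom ≠ Z)
    (K : Subgroup G) (hK : K = ((Cfsg.pResidual 2 (C ⧸ Cfsg.pCore 3 C)).comap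
      (QuotientGroup.mk' (Cfsg.pCore 3 C))).map C.subtype)
    (r : ℕ) (A : Fin (r + 1) → Subgroup G) (hA0 : A 0 = Z) (hAr : A (Fin.last r) = Q)
    (hmono : ∀ i : Fin r, A i.castSucc < A i.succ)
    (hinv : ∀ i : Fin (r + 1), ∀ k ∈ K, ∀ a ∈ A i, k * a * k⁻¹ ∈ A i)
    (hmax : ∀ i : Fin r, ∀ B : Subgroup G, A i.castSucc < B → B < A i.succ →
      ∃ k ∈ K, ∃ b ∈ B, k * b * k⁻¹ ∉ B)
    (e : Nonempty (C ⧸ Cfsg.pCore 3 C ≃* S2) ∨
      Nonempty (C ⧸ Cfsg.pCore 3 C ≃* S2 × Multiplicative (ZMod 2)))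
    (hone : ∃! i : Fin r, (∃ k ∈ K, ∃ a ∈ A i.succ, k * a * k⁻¹ * a⁻¹ ∉ A i.castSucc)) :
    Nonempty (Loc G) := by
  obtain ⟨z, m, π, ε, L⟩ := exists_pre S Z hZ C hCZ Q hQ hQex hQcard hQexp hCQ hZQ K hK r A hA0 hAr hmono
    hinv hmax e hone
  obtain ⟨t, O, H⟩ := L.exists_quat
  obtain ⟨u, s, i₁, i₂, p, a, S', hs, hzs⟩ := L.exists_std'' H
  exact S'.loc hs hzs

end CfsgLib.OEightLocal
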