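import Cfsg.Agent.Lib.OEightLocal.Orbit

/-!
The stabiliser of `z` in the normaliser of `J`, and the invariance of the form.
-/

set_option autoImplicit false
set_option linter.style.haveILetI false

namespace CfsgLib.OEightLocal

theorem closed_pow {x : V} {S : V → Prop} (hS : ∀ v, S v → S (fp v)) (hA : ∀ v, S v → S (fa v))
    (hn : ∀ v, S v → S (-v)) (hx : S x) (b : Bool) (i j : ℕ) : S (sgn b (fp^[i] (fa^[j] x))) := by
  have h1 : ∀ n (f : V → V), (∀ v, S v → S (f v)) → ∀ v, S v → S (f^[n] v) := by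
    intro n f hf
    induction n with
    | zero => exact fun v hv => hv
    | succ n ih => exact fun v hv => ih _ (hf v hv)
  cases b
  · exact h1 i fp hS _ (h1 j fa hA _ hx)
  · exact hn _ (h1 i fp hS _ (h1 j fa hA _ hx))

theorem no_quarter_turn : ∀ A : V, fa A = A → A 0 • ![1, 0, 0, 0] + A 1 • A ≠ -![0, 1, 0, 0] := by
  decide +kernel

theorem key_split : ∀ x : ZMod 3, x ≠ 0 → x = 1 ∨ x = -1 := by decide

variable {G : Type*} [Group G] (L : Loc G)

/-- The group generated by the Sylow subgroup, `t` and `u`. -/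
def Loc.M (L : Loc G) : Subgroup G := Subgroup.closure {L.z, L.i₁, L.i₂, L.y, L.p, L.a, L.u, L.t}

theorem gen_M {x : G} (h : x ∈ ({L.z, L.i₁, L.i₂, L.y, L.p, L.a, L.u, L.t} : Set G)) : x ∈ L.M :=
  Subgroup.subset_closure h

theorem M_le_NJ : L.M ≤ L.NJ := by
  refine (Subgroup.closure_le _).2 ?_
  intro x hx
  simp only [Set.mem_insert_iff, Set.mem_singleton_iff] at hx
  have hS := fun {g : G} (h : g ∈ ({L.z, L.i₁, L.i₂, L.y, L.p, L.a} : Set G)) =>
    S_le_NJ L (Subgroup.subset_closure h)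
  rcases hx with rfl | rfl | rfl | rfl | rfl | rfl | rfl | rfl
  iterate 6 exact hS (by simp)
  · exact (act_u L).choose_spec.1.mem_normalizer
  · exact (act_t L).mem_normalizer

theorem comm_zu : Commute L.z L.u := L.comm_uz.symm

theorem M_le_C : L.M ≤ L.C := by
  refine (Subgroup.closure_le _).2 ?_
  intro x hx
  simp only [Set.mem_insert_iff, Set.mem_singleton_iff] at hx
  refine Subgroup.mem_centralizer_singleton_iff.2 ?_
  rcases hx with rfl | rfl | rfl | rfl | rfl | rfl | rfl | rfl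
  exacts [rfl, L.comm_zi₁.symm.eq, L.comm_zi₂.symm.eq, L.comm_zy.symm.eq, L.comm_zp.symm.eq,
    L.comm_za.symm.eq, L.comm_uz.eq, (L.O_comm _ L.t_mem).1.eq]

theorem O_le_C : L.O ≤ L.C := fun w hw =>
  Subgroup.mem_centralizer_singleton_iff.2 (L.O_comm w hw).1.eq

theorem t_ne : L.t ≠ 1 := fun h => by
  have := (L.O_t L.t L.t_mem).2 rfl
  rw [h, orderOf_one] at this
  omega

/-- The elements of `O` in the normaliser of `J`. -/
theorem O_inf_NJ {w : G} (hw : w ∈ L.O) (hn : w ∈ L.NJ) : w = 1 ∨ w = L.t := by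
  by_contra h
  push Not at h
  obtain ⟨h1, h2⟩ := h
  have h8 : w ^ 8 = 1 := by
    rw [← L.card_O]
    exact congrArg Subtype.val (pow_card_eq_one' (x := (⟨w, hw⟩ : L.O)))
  have hsq : w ^ 2 ≠ 1 := fun h => h2 ((L.O_t w hw).1 (orderOf_eq_prime h h1))
  obtain ⟨v, hv, hvn, hvv⟩ : ∃ v ∈ L.O, v ∈ L.NJ ∧ v * v = L.t := by
    by_cases h4 : w ^ 4 = 1
    · refine ⟨w, hw, hn, ?_⟩
      rw [← pow_two]
      exact (L.O_t _ (pow_mem hw 2)).1 (orderOf_eq_prime (by rw [← pow_mul]; exact h4) hsq)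
    · refine ⟨w ^ 2, pow_mem hw 2, pow_mem hn 2, ?_⟩
      rw [← pow_add]
      exact (L.O_t _ (pow_mem hw 4)).1 (orderOf_eq_prime (by rw [← pow_mul]; exact h8) h4)
  obtain ⟨f, hf⟩ := exists_act_map L hvn
  have hff : f ∘ f = ft := (hvv ▸ hf.mul hf).unique (act_t L)
  set A := f ![0, 1, 0, 0] with hA
  have hA' : fa A = A := jel_injective L (by
    rw [← act_a L A, hA, ← hf, jel_i1]
    exact fix_eq (Q1_comm_a L (L.O_Q v hv).2))
  have hz : f ![1, 0, 0, 0] = ![1, 0, 0, 0] := jel_injective L (by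
    rw [← hf, jel_z]; exact fix_eq (L.O_comm v hv).1)
  have h23 : ∀ A : V, fa A = A → A 2 = 0 ∧ A 3 = 0 := by decide +kernel
  have h1' : f A = A 0 • ![1, 0, 0, 0] + A 1 • A := by
    conv_lhs => rw [hf.eq_lin]
    simp only [lin, (h23 A hA').1, (h23 A hA').2, zero_smul, add_zero, Matrix.cons_val_zero, Matrix.cons_val_one,
      hz, ← hA]
  refine no_quarter_turn A hA' ?_
  rw [← h1', hA, show f (f ![0, 1, 0, 0]) = ft ![0, 1, 0, 0] from congrFun hff _]
  decide +kernel

/-- `C` is the product of `M` and `O`. -/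
theorem exists_MO {c : G} (hc : c ∈ L.C) : ∃ x ∈ L.M, ∃ w ∈ L.O, c = x * w := by
  set Q1 : Subgroup G := Subgroup.closure {L.z, L.i₁, L.p} with hQ1
  set H : Subgroup G := Subgroup.closure {L.z, L.i₂, L.y, L.a, L.u} with hH
  have hHO : H ≤ Subgroup.normalizer (L.O : Set G) := by
    rw [hH, Subgroup.closure_le]
    intro x hx
    simp only [Set.mem_insert_iff, Set.mem_singleton_iff] at hx
    haveI : Finite L.O := Nat.finite_of_card_ne_zero (by rw [L.card_O]; norm_num)
    refine Subgroup.mem_normalizer_iff'.2 fun n => ?_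
    have key : ∀ w ∈ L.O, x * w * x⁻¹ ∈ L.O := by
      intro w hw
      obtain ⟨c1, c2, c3⟩ := L.O_comm w hw
      rcases hx with rfl | rfl | rfl | rfl | rfl
      · rwa [fix_eq c1.symm]
      · rwa [fix_eq c3.symm]
      · exact L.O_y w hw
      · rwa [fix_eq c2.symm]
      · rwa [fix_eq (L.u_O w hw)]
    let F : L.O → L.O := fun w => ⟨x * w * x⁻¹, key w w.2⟩
    have hF : Function.Surjective F := Finite.surjective_of_injective fun a b e =>
      Subtype.ext (mul_left_cancel (mul_right_cancel (congrArg Subtype.val e)))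
    constructor
    · intro h
      have := key _ h
      rwa [show x * (n * x) * x⁻¹ = x * n by group] at this
    · intro h
      obtain ⟨⟨w, hw⟩, e⟩ := hF ⟨x * n, h⟩
      have e' : x * w * x⁻¹ = x * n := congrArg Subtype.val e
      rw [show n = w * x⁻¹ from mul_left_cancel ((mul_assoc x w x⁻¹).symm.trans e').symm]
      simpa using hw
  have hzQ : L.z ∈ Q1 := Subgroup.subset_closure (by simp)
  have hiQ : L.i₁ ∈ Q1 := Subgroup.subset_closure (by simp)
  have hpQ : L.p ∈ Q1 := Subgroup.subset_closure (by simp)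
  have hQle : Q1 ≤ Subgroup.closure ({L.z, L.i₁, L.i₂, L.p, L.a} : Set G) :=
    Subgroup.closure_mono (by intro y; simp only [Set.mem_insert_iff, Set.mem_singleton_iff]; tauto)
  haveI : Finite (Subgroup.closure ({L.z, L.i₁, L.i₂, L.p, L.a} : Set G)) :=
    Nat.finite_of_card_ne_zero (by rw [L.card_Q]; norm_num)
  have hQf : Finite Q1 := Finite.of_injective _ (Subgroup.inclusion_injective hQle)
  have hN : H ⊔ L.O ≤ Subgroup.normalizer (Q1 : Set G) := by
    have crit : ∀ x : G, x * L.z * x⁻¹ ∈ Q1 → x * L.i₁ * x⁻¹ ∈ Q1 → x * L.p * x⁻¹ ∈ Q1 →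
        x ∈ Subgroup.normalizer (Q1 : Set G) := by
      intro x a b c
      haveI := hQf
      refine Subgroup.mem_normalizer_iff.2 fun n => ?_
      have key : ∀ w ∈ Q1, x * w * x⁻¹ ∈ Q1 := by
        have : Q1 ≤ Q1.comap (MulAut.conj x).toMonoidHom := by
          rw [hQ1, Subgroup.closure_le]
          intro y hy
          simp only [Set.mem_insert_iff, Set.mem_singleton_iff] at hy
          rcases hy with rfl | rfl | rfl
          exacts [a, b, c]
        exact fun w hw => this hw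
      let F : Q1 → Q1 := fun w => ⟨x * w * x⁻¹, key w w.2⟩
      have hF : Function.Surjective F := Finite.surjective_of_injective fun a b e =>
        Subtype.ext (mul_left_cancel (mul_right_cancel (congrArg Subtype.val e)))
      refine ⟨key n, fun h => ?_⟩
      obtain ⟨⟨w, hw⟩, e⟩ := hF ⟨_, h⟩
      exact (mul_left_cancel (mul_right_cancel (congrArg Subtype.val e : x * w * x⁻¹ = x * n * x⁻¹))) ▸ hw
    refine sup_le ((Subgroup.closure_le _).2 ?_) fun w hw => crit w ?_ ?_ ?_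
    · intro x hx
      simp only [Set.mem_insert_iff, Set.mem_singleton_iff] at hx
      rcases hx with rfl | rfl | rfl | rfl | rfl
      · exact Subgroup.le_normalizer hzQ
      · exact crit _ (by rwa [fix_eq L.comm_zi₂.symm]) (by rwa [fix_eq L.comm_i₁i₂.symm])
          (by rwa [fix_eq L.comm_pi₂.symm])
      · exact crit _ (by rwa [fix_eq L.comm_zy.symm]) (by rwa [fix_eq L.comm_yi₁])
          (by rw [L.rel_yp]; exact mul_mem (mul_mem hpQ hiQ) hzQ)
      · exact crit _ (by rwa [fix_eq L.comm_za.symm]) (by rwa [fix_eq L.comm_ai₁])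
          (by rwa [fix_eq L.comm_pa.symm])
      · exact crit _ (by rwa [fix_eq L.comm_uz]) (by rwa [fix_eq L.comm_ui₁]) (by rwa [fix_eq L.comm_up])
    · rwa [fix_eq (L.O_comm w hw).1]
    · exact (L.O_Q w hw).2
    · exact (L.O_Q w hw).1
  have hle : L.C ≤ Q1 ⊔ (H ⊔ L.O) := by
    rw [Loc.C, L.C_eq]
    refine sup_le ((Subgroup.closure_le _).2 ?_) (le_sup_right.trans le_sup_right)
    intro x hx
    simp only [Set.mem_insert_iff, Set.mem_singleton_iff] at hx
    have hh : ∀ {x : G}, x ∈ ({L.z, L.i₂, L.y, L.a, L.u} : Set G) → x ∈ Q1 ⊔ (H ⊔ L.O) := fun h =>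
      Subgroup.mem_sup_right (Subgroup.mem_sup_left (Subgroup.subset_closure h))
    rcases hx with rfl | rfl | rfl | rfl | rfl | rfl | rfl
    exacts [hh (by simp), Subgroup.mem_sup_left hiQ, hh (by simp), hh (by simp), Subgroup.mem_sup_left hpQ,
      hh (by simp), hh (by simp)]
  have hm : c ∈ ((Q1 ⊔ (H ⊔ L.O) : Subgroup G) : Set G) := hle hc
  rw [Subgroup.coe_mul_of_right_le_normalizer_left _ _ hN] at hm
  obtain ⟨q, hq, r, hr, rfl⟩ := hm
  have hr' : r ∈ ((H ⊔ L.O : Subgroup G) : Set G) := hr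
  rw [Subgroup.coe_mul_of_left_le_normalizer_right _ _ hHO] at hr'
  obtain ⟨h, hh, w, hw, rfl⟩ := hr'
  refine ⟨q * h, mul_mem ?_ ?_, w, hw, (mul_assoc _ _ _).symm⟩
  · refine Subgroup.closure_mono ?_ hq
    intro x; simp only [Set.mem_insert_iff, Set.mem_singleton_iff]; tauto
  · refine Subgroup.closure_mono ?_ hh
    intro x; simp only [Set.mem_insert_iff, Set.mem_singleton_iff]; tauto

/-- The stabiliser of `z` in the normaliser of `J`. -/
theorem normJ_cz : L.NJ ⊓ L.C = L.M := by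
  refine le_antisymm (fun c hc => ?_) (le_inf (M_le_NJ L) (M_le_C L))
  obtain ⟨x, hx, w, hw, rfl⟩ := exists_MO L hc.2
  have hn : w ∈ L.NJ := by
    have := mul_mem (inv_mem (M_le_NJ L hx)) hc.1
    rwa [inv_mul_cancel_left] at this
  rcases O_inf_NJ L hw hn with rfl | rfl
  · rwa [mul_one]
  · exact mul_mem hx (gen_M L (by simp))

theorem card_M : Nat.card L.M = 1458 * L.m := by
  classical
  have hD : L.M ⊓ L.O = Subgroup.zpowers L.t := by
    refine le_antisymm (fun w hw => ?_)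
      (Subgroup.zpowers_le.2 ⟨gen_M L (by simp), L.t_mem⟩)
    rcases O_inf_NJ L hw.2 (M_le_NJ L hw.1) with rfl | rfl
    exacts [one_mem _, Subgroup.mem_zpowers _]
  choose xs hxs ws hws hc using fun c : L.C => exists_MO L c.2
  let e : L.M × L.O → L.C × (L.M ⊓ L.O : Subgroup G) := fun p =>
    let c : L.C := ⟨p.1.1 * p.2.1, mul_mem (M_le_C L p.1.2) (O_le_C L p.2.2)⟩
    (c, ⟨(xs c)⁻¹ * p.1.1, Subgroup.mem_inf.2 ⟨mul_mem (inv_mem (hxs c)) p.1.2, by
      have h : xs c * ws c = p.1.1 * p.2.1 := (hc c).symm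
      rw [show (xs c)⁻¹ * p.1.1 = ws c * p.2.1⁻¹ by
        rw [inv_mul_eq_iff_eq_mul, ← mul_assoc, h, mul_inv_cancel_right]]
      exact mul_mem (hws c) (inv_mem p.2.2)⟩⟩)
  have he : Function.Bijective e := by
    constructor
    · rintro ⟨⟨x, hx⟩, ⟨w, hw⟩⟩ ⟨⟨x', hx'⟩, ⟨w', hw'⟩⟩ h
      simp only [e, Prod.mk.injEq, Subtype.mk.injEq] at h
      obtain ⟨h1, h2⟩ := h
      have h3 : x = x' := by
        have := h2
        rw [show (⟨x * w, mul_mem (M_le_C L hx) (O_le_C L hw)⟩ : L.C) =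
          ⟨x' * w', mul_mem (M_le_C L hx') (O_le_C L hw')⟩ from Subtype.ext h1] at this
        exact mul_left_cancel this
      subst h3
      simpa using h1
    · rintro ⟨c, d, hd⟩
      have hd1 : d ∈ L.M := hd.1
      have hd2 : d ∈ L.O := hd.2
      refine ⟨(⟨xs c * d, mul_mem (hxs c) hd1⟩, ⟨d⁻¹ * ws c, mul_mem (inv_mem hd2) (hws c)⟩), ?_⟩
      have hcc : (⟨xs c * d * (d⁻¹ * ws c), mul_mem (M_le_C L (mul_mem (hxs c) hd1))
          (O_le_C L (mul_mem (inv_mem hd2) (hws c)))⟩ : L.C) = c :=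
        Subtype.ext ((show xs c * d * (d⁻¹ * ws c) = xs c * ws c by group).trans (hc c).symm)
      simp only [e, Prod.mk.injEq]
      exact ⟨hcc, Subtype.ext (by show (xs _)⁻¹ * (xs c * d) = d; rw [hcc, inv_mul_cancel_left])⟩
  have h := Nat.card_eq_of_bijective e he
  rw [Nat.card_prod, Nat.card_prod, L.card_O, hD, Nat.card_zpowers,
    (L.O_t _ L.t_mem).2 rfl] at h
  have hC : Nat.card L.C = 5832 * L.m := L.card_C
  omega

theorem qJ_of_M {g : G} (hg : g ∈ L.M) {f : V → V} (hf : L.Act g f) (v : V) : qJ (f v) = qJ v := by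
  revert f v
  induction hg using Subgroup.closure_induction with
  | mem x hx =>
    intro f hf v
    simp only [Set.mem_insert_iff, Set.mem_singleton_iff] at hx
    have hJ : ∀ {x : G}, x ∈ ({L.z, L.i₁, L.i₂, L.y} : Set G) → L.Act x f → qJ (f v) = qJ v := fun h hf => by
      rw [hf.unique (act_mem_J L (Subgroup.subset_closure h))]; rfl
    rcases hx with rfl | rfl | rfl | rfl | rfl | rfl | rfl | rfl
    iterate 4 exact hJ (by simp) hf
    · rw [hf.unique (act_p L)]; exact qJ_fp v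
    · rw [hf.unique (act_a L)]; exact qJ_fa v
    · obtain ⟨g, hg, hq⟩ := act_u L
      rw [hf.unique hg]; exact hq v
    · rw [hf.unique (act_t L)]; exact qJ_ft v
  | one => intro f hf v; rw [hf.unique Loc.Act.one]; rfl
  | mul x y hx hy ihx ihy =>
    intro f hf v
    obtain ⟨f1, h1⟩ := exists_act_map L (M_le_NJ L hx)
    obtain ⟨f2, h2⟩ := exists_act_map L (M_le_NJ L hy)
    rw [hf.unique (h1.mul h2), Function.comp_apply, ihx h1 (f2 v), ihy h2 v]
  | inv x hx ihx =>
    intro f hf v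
    obtain ⟨f1, h1⟩ := exists_act_map L (M_le_NJ L hx)
    have e := congrFun (((h1.mul hf).unique (mul_inv_cancel x ▸ Loc.Act.one (L := L)))) v
    rw [← ihx h1 (f v)]
    exact congrArg qJ e

/-- The normaliser of `J` preserves the form. -/
theorem qJ_act [Finite G] {g : G} {f : V → V} (hf : L.Act g f) (v : V) : qJ (f v) = qJ v := by
  classical
  have scale : ∀ {g : G} {f : V → V}, L.Act g f → ∃ c : ZMod 3, c ≠ 0 ∧ ∀ v, qJ (f v) = c * qJ v := by
    intro g f hf
    have hsing : ∀ v : V, qJ v = 0 → qJ (f v) = 0 := by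
      intro v hq
      by_cases hv : v = 0
      · rw [hv]
        have h0 : f 0 = 0 := by simpa using hf.add 0 0
        rw [h0]; exact hv ▸ hq
      · refine (isConj_z_iff L ?_).1 ((isConj_sing L hv hq).trans (isConj_of_act L hf v))
        intro h0
        have h1 : f 0 = 0 := by simpa using hf.add 0 0
        exact hv (hf.injective (h0.trans h1.symm))
    set A : Fin 4 → V := ![f ![1, 0, 0, 0], f ![0, 1, 0, 0], f ![0, 0, 1, 0], f ![0, 0, 0, 1]] with hA
    have e : f = lin A := hf.eq_lin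
    have hs := qJ_scale A (fun w hw => e ▸ hsing w hw)
    refine ⟨bJ (A 0) (A 3), fun h0 => ?_, fun v => e ▸ hs v⟩
    obtain ⟨w, hw⟩ := hf.bijective.2 ![0, 0, 1, 0]
    have := hs w
    rw [← e, hw, h0, zero_mul] at this
    exact absurd this (by decide +kernel)
  let Pos : G → Prop := fun h => ∃ f, L.Act h f ∧ ∀ v, qJ (f v) = qJ v
  suffices hall : ∀ h : G, h ∈ L.NJ → Pos h by
    obtain ⟨f', hf', hq⟩ := hall g hf.mem_normalizer
    rw [hf.unique hf']; exact hq v
  by_contra hne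
  push Not at hne
  obtain ⟨g1, hg1, hneg⟩ := hne
  obtain ⟨f1, hf1⟩ := exists_act_map L hg1
  have neg_of : ∀ {h : G} {f : V → V}, L.Act h f → ¬ Pos h → ∀ v, qJ (f v) = -qJ v := by
    intro h f hf hn v
    obtain ⟨c, hc, hq⟩ := scale hf
    rcases key_split c hc with rfl | rfl
    · exact absurd ⟨f, hf, fun v => by rw [hq, one_mul]⟩ hn
    · rw [hq, neg_one_mul]
  let S1 : V → Prop := fun v => ∃ h f, L.Act h f ∧ f ![1, 0, 0, 0] = v ∧ ∀ w, qJ (f w) = qJ w
  let S2 : V → Prop := fun v => ∃ h f, L.Act h f ∧ f ![1, 0, 0, 0] = v ∧ ∀ w, qJ (f w) = -qJ w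
  have hdisj : ∀ v, S1 v → ¬ S2 v := by
    rintro v ⟨h, f, hf, e, hq⟩ ⟨h', f', hf', e', hq'⟩
    obtain ⟨fi, hfi, hii⟩ := hf.inv
    have hm := hfi.mul hf'
    have hz : (fi ∘ f') ![1, 0, 0, 0] = ![1, 0, 0, 0] := hf.injective (by rw [Function.comp_apply, hii, e, e'])
    have hM : h⁻¹ * h' ∈ L.M := normJ_cz L ▸ ⟨hm.mem_normalizer, mem_C_of_fix L hm hz⟩
    have h1 := qJ_of_M L hM hm ![0, 0, 1, 0]
    rw [Function.comp_apply] at h1
    rw [← hq (fi (f' ![0, 0, 1, 0])), hii, hq'] at h1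
    exact absurd h1 (by decide +kernel)
  have h12 : ∀ v, S1 v → S2 (f1 v) := by
    rintro v ⟨h, f, hf, e, hq⟩
    exact ⟨_, _, hf1.mul hf, by rw [Function.comp_apply, e], fun w => by
      rw [Function.comp_apply, neg_of hf1 hneg, hq]⟩
  have h21 : ∀ v, S2 v → S1 (f1 v) := by
    rintro v ⟨h, f, hf, e, hq⟩
    exact ⟨_, _, hf1.mul hf, by rw [Function.comp_apply, e], fun w => by
      rw [Function.comp_apply, neg_of hf1 hneg, hq, neg_neg]⟩
  have step : ∀ {x : G} {k : V → V}, L.Act x k → (∀ w, qJ (k w) = qJ w) →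
      (∀ v, S1 v → S1 (k v)) ∧ (∀ v, S2 v → S2 (k v)) := fun hx hk =>
    ⟨fun v ⟨h, f, hf, e, hq⟩ => ⟨_, _, hx.mul hf, by rw [Function.comp_apply, e], fun w => by
      rw [Function.comp_apply, hk, hq]⟩,
    fun v ⟨h, f, hf, e, hq⟩ => ⟨_, _, hx.mul hf, by rw [Function.comp_apply, e], fun w => by
      rw [Function.comp_apply, hk, hq]⟩⟩
  obtain ⟨n, fy, hfy, ey⟩ := exists_moved L (v := ![1, 0, 0, 0]) (w := ![0, 0, 0, 1])
    (by rw [jel_z, jel_y]; exact L.conj_y)
  have big : ∀ S : V → Prop, (∀ v, S v → S (fp v)) → (∀ v, S v → S (fa v)) → (∀ v, S v → S (-v)) →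
      S ![0, 0, 0, 1] → ∀ v : V, v 3 ≠ 0 → qJ v = 0 → S v := by
    intro S a b c hy v h3 hq
    obtain ⟨i, j, e, hv⟩ := reps_off v h3
    rw [hq] at hv
    rw [hv]
    exact closed_pow a b c hy e i j
  have htot : ∀ v, S1 v ∨ S2 v → v ≠ 0 ∧ qJ v = 0 := by
    rintro v (⟨h, f, hf, rfl, hq⟩ | ⟨h, f, hf, rfl, hq⟩)
    all_goals
      refine ⟨fun h0 => ?_, by rw [hq]; decide +kernel⟩
      have h1 : f 0 = 0 := by simpa using hf.add 0 0
      exact absurd (hf.injective (h0.trans h1.symm)) (by decide)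
  let T1 := Finset.univ.filter S1
  let T2 := Finset.univ.filter S2
  let Y := Finset.univ.filter fun v : V => v 3 ≠ 0 ∧ qJ v = 0
  have hY : Y ⊆ T1 ∨ Y ⊆ T2 := by
    obtain ⟨c, hc, hq⟩ := scale hfy
    have hn := (step (act_nu L) qJ_neg)
    rcases key_split c hc with rfl | rfl
    · left; intro v hv
      simp only [Y, Finset.mem_filter, Finset.mem_univ, true_and] at hv
      exact Finset.mem_filter.2 ⟨Finset.mem_univ _, big S1 (step (act_p L) qJ_fp).1 (step (act_a L) qJ_fa).1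
        hn.1 ⟨n, fy, hfy, ey, fun w => by rw [hq, one_mul]⟩ v hv.1 hv.2⟩
    · right; intro v hv
      simp only [Y, Finset.mem_filter, Finset.mem_univ, true_and] at hv
      exact Finset.mem_filter.2 ⟨Finset.mem_univ _, big S2 (step (act_p L) qJ_fp).2 (step (act_a L) qJ_fa).2
        hn.2 ⟨n, fy, hfy, ey, fun w => by rw [hq, neg_one_mul]⟩ v hv.1 hv.2⟩
  have le12 : T1.card ≤ T2.card := Finset.card_le_card_of_injOn f1
    (fun v hv => Finset.mem_filter.2 ⟨Finset.mem_univ _, h12 v (Finset.mem_filter.1 hv).2⟩)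
    hf1.injective.injOn
  have le21 : T2.card ≤ T1.card := Finset.card_le_card_of_injOn f1
    (fun v hv => Finset.mem_filter.2 ⟨Finset.mem_univ _, h21 v (Finset.mem_filter.1 hv).2⟩)
    hf1.injective.injOn
  have hu : (T1 ∪ T2).card ≤ 32 := by
    refine le_trans (Finset.card_le_card fun v hv => ?_) (le_of_eq count_sing)
    simp only [T1, T2, Finset.mem_union, Finset.mem_filter, Finset.mem_univ, true_and] at hv
    exact Finset.mem_filter.2 ⟨Finset.mem_univ _, htot v hv⟩
  rw [Finset.card_union_of_disjoint (Finset.disjoint_left.2 fun v a b =>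
    hdisj v (Finset.mem_filter.1 a).2 (Finset.mem_filter.1 b).2)] at hu
  have h18 : 18 ≤ T1.card ∨ 18 ≤ T2.card := hY.imp
    (fun h => (le_of_eq count_off.symm).trans (Finset.card_le_card h))
    (fun h => (le_of_eq count_off.symm).trans (Finset.card_le_card h))
  simp only [T1, T2] at hu le12 le21 h18
  omega

end CfsgLib.OEightLocal
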