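import Cfsg.Agent.Lib.OEightLocal.Basic

/-!
Coordinates `z^e₀ i₁^e₁ i₂^e₂ p^e₃ a^e₄` on the radical and the action of an element of order three.
-/

set_option autoImplicit false

namespace CfsgLib.OEightLocal.Pre

/-- Coordinates on the radical. -/
abbrev E : Type := Fin 5 → ZMod 3

/-- The product. -/
def emul (e f : E) : E :=
  ![e 0 + f 0 + e 3 * f 1 - e 4 * f 2, e 1 + f 1, e 2 + f 2, e 3 + f 3, e 4 + f 4]

/-- The inverse. -/
def einv (e : E) : E := ![-e 0 + e 3 * e 1 - e 4 * e 2, -e 1, -e 2, -e 3, -e 4]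

/-- Powers. -/
def epow (k : ZMod 3) (e : E) : E :=
  ![k * e 0 - (k * k - k) * (e 3 * e 1 - e 4 * e 2), k * e 1, k * e 2, k * e 3, k * e 4]

/-- Conjugation inside the radical. -/
def econj (f e : E) : E :=
  ![e 0 + f 3 * e 1 - e 3 * f 1 - f 4 * e 2 + e 4 * f 2, e 1, e 2, e 3, e 4]

/-- The element of order three. -/
def fs (c l : ZMod 3) (e : E) : E :=
  ![e 0 - e 3 * e 3 + l * e 4 + c * (e 4 * e 4 + e 4), e 1 + e 3, e 2 + c * e 4, e 3, e 4]

/-- The involution. -/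
def ft (e : E) : E := ![e 0, -e 1, e 2, -e 3, e 4]

/-- The commutator pairing. -/
def pair (e f : E) : ZMod 3 := e 3 * f 1 - e 1 * f 3 - e 4 * f 2 + e 2 * f 4

theorem ext5 {e f : E} (h0 : e 0 = f 0) (h1 : e 1 = f 1) (h2 : e 2 = f 2) (h3 : e 3 = f 3)
    (h4 : e 4 = f 4) : e = f := by
  funext i; fin_cases i <;> assumption

theorem emul_einv (e : E) : emul e (einv e) = 0 := by
  apply ext5 <;> simp [emul, einv]; ring

theorem einv_emul (e : E) : emul (einv e) e = 0 := by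
  apply ext5 <;> simp [emul, einv]; ring

theorem emul_assoc (e f g : E) : emul (emul e f) g = emul e (emul f g) := by
  apply ext5 <;> simp [emul] <;> ring

theorem econj_eq (f e : E) : emul (emul f e) (einv f) = econj f e := by
  apply ext5 <;> simp [emul, einv, econj]; ring

theorem emul_eq_swap (e f : E) : emul e f = emul f e ↔ pair e f = 0 := by
  constructor
  · intro h
    have h0 := congrFun h 0
    simp [emul] at h0
    simp [pair]
    linear_combination h0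
  · intro h
    simp [pair] at h
    apply ext5 <;> simp [emul]
    · linear_combination h
    all_goals ring

variable {G : Type*} [Group G]

theorem pow_val_add' {x : G} (hx : x ^ 3 = 1) (a b : ZMod 3) : x ^ (a + b).val = x ^ a.val * x ^ b.val := by
  rw [ZMod.val_add, ← pow_add]
  exact (pow_eq_pow_mod _ hx).symm

theorem pow_val_nat {x : G} (hx : x ^ 3 = 1) {n : ℕ} {a : ZMod 3} (h : (n : ZMod 3) = a) :
    x ^ n = x ^ a.val := by
  rw [← h, ZMod.val_natCast]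
  exact pow_eq_pow_mod n hx

theorem swap_pow {x y z : G} (hx : Commute x z) (hy : Commute y z) (h : x * y = z * y * x) (m n : ℕ) :
    x ^ m * y ^ n = z ^ (m * n) * y ^ n * x ^ m := by
  have h1 : x ^ m * y * (x ^ m)⁻¹ = z ^ m * y := by
    induction m with
    | zero => simp
    | succ m ih =>
      calc x ^ (m + 1) * y * (x ^ (m + 1))⁻¹ = x ^ m * (x * y * x⁻¹) * (x ^ m)⁻¹ := by
            rw [pow_succ]; group
        _ = x ^ m * z * y * (x ^ m)⁻¹ := by rw [h]; group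
        _ = z * (x ^ m * y * (x ^ m)⁻¹) := by rw [(hx.pow_left m).eq]; group
        _ = z ^ (m + 1) * y := by rw [ih, ← mul_assoc, ← pow_succ']
  have h2 : x ^ m * y ^ n * (x ^ m)⁻¹ = z ^ (m * n) * y ^ n := by
    rw [← conj_pow, h1, (hy.symm.pow_left m).mul_pow, ← pow_mul]
  rw [← h2, inv_mul_cancel_right]

/-- Generators of an extraspecial group of exponent three and order `3^5`. -/
structure Frame (z i₁ i₂ p a : G) : Prop where
  z_ne : z ≠ 1
  cz : z ^ 3 = 1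
  c1 : i₁ ^ 3 = 1
  c2 : i₂ ^ 3 = 1
  cp : p ^ 3 = 1
  ca : a ^ 3 = 1
  hz1 : Commute z i₁
  hz2 : Commute z i₂
  hzp : Commute z p
  hza : Commute z a
  h12 : Commute i₁ i₂
  hpa : Commute p a
  hp2 : Commute p i₂
  ha1 : Commute a i₁
  rp : p * i₁ = z * i₁ * p
  ra : i₂ * a = z * a * i₂

/-- The element with given coordinates. -/
def el (z i₁ i₂ p a : G) (e : E) : G :=
  z ^ (e 0).val * i₁ ^ (e 1).val * i₂ ^ (e 2).val * p ^ (e 3).val * a ^ (e 4).val

namespace Frame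

variable {z i₁ i₂ p a : G} (F : Frame z i₁ i₂ p a)
include F

theorem el_mul (e f : E) : el z i₁ i₂ p a e * el z i₁ i₂ p a f = el z i₁ i₂ p a (emul e f) := by
  have hzc : ∀ n : ℕ, Commute (z ^ n) (i₁ ^ (f 1).val) ∧ Commute (z ^ n) (i₂ ^ (f 2).val) ∧
      Commute (z ^ n) (i₁ ^ (e 1).val) ∧ Commute (z ^ n) (i₂ ^ (e 2).val) ∧
      Commute (z ^ n) (p ^ (e 3).val) ∧ Commute (z ^ n) (a ^ (e 4).val) := fun n =>
    ⟨F.hz1.pow_pow _ _, F.hz2.pow_pow _ _, F.hz1.pow_pow _ _, F.hz2.pow_pow _ _, F.hzp.pow_pow _ _,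
      F.hza.pow_pow _ _⟩
  have hp : p ^ (e 3).val * i₁ ^ (f 1).val = z ^ (e 3 * f 1).val * i₁ ^ (f 1).val * p ^ (e 3).val := by
    rw [swap_pow F.hzp.symm F.hz1.symm F.rp, pow_val_nat F.cz (a := e 3 * f 1) (by simp)]
  have ha : a ^ (e 4).val * i₂ ^ (f 2).val =
      z ^ (-(e 4 * f 2)).val * i₂ ^ (f 2).val * a ^ (e 4).val := by
    have h := swap_pow F.hz2.symm F.hza.symm F.ra (f 2).val (e 4).val
    rw [pow_val_nat F.cz (a := e 4 * f 2) (by simp [mul_comm])] at h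
    have h2 := congrArg (fun g => z ^ (-(e 4 * f 2)).val * g) h
    simp only [← mul_assoc, ← pow_val_add' F.cz, neg_add_cancel, ZMod.val_zero, pow_zero, one_mul] at h2
    exact h2.symm
  have hmid : p ^ (e 3).val * a ^ (e 4).val * (i₁ ^ (f 1).val * i₂ ^ (f 2).val) =
      z ^ (e 3 * f 1 + -(e 4 * f 2)).val *
        (i₁ ^ (f 1).val * i₂ ^ (f 2).val * (p ^ (e 3).val * a ^ (e 4).val)) := by
    calc _ = p ^ (e 3).val * (a ^ (e 4).val * i₁ ^ (f 1).val) * i₂ ^ (f 2).val := by simp only [mul_assoc]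
      _ = (p ^ (e 3).val * i₁ ^ (f 1).val) * (a ^ (e 4).val * i₂ ^ (f 2).val) := by
        rw [(F.ha1.pow_pow _ _).eq]; simp only [mul_assoc]
      _ = z ^ (e 3 * f 1).val * i₁ ^ (f 1).val * (p ^ (e 3).val * z ^ (-(e 4 * f 2)).val) *
          (i₂ ^ (f 2).val * a ^ (e 4).val) := by rw [hp, ha]; simp only [mul_assoc]
      _ = z ^ (e 3 * f 1).val * (i₁ ^ (f 1).val * z ^ (-(e 4 * f 2)).val) *
          (p ^ (e 3).val * i₂ ^ (f 2).val) * a ^ (e 4).val := by
        rw [← (hzc _).2.2.2.2.1.eq]; simp only [mul_assoc]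
      _ = _ := by
        rw [← (hzc _).1.eq, (F.hp2.pow_pow _ _).eq, pow_val_add' F.cz]; simp only [mul_assoc]
  have hlast : p ^ (e 3).val * a ^ (e 4).val * (p ^ (f 3).val * a ^ (f 4).val) =
      p ^ (e 3 + f 3).val * a ^ (e 4 + f 4).val := by
    rw [Commute.mul_mul_mul_comm (F.hpa.symm.pow_pow _ _), pow_val_add' F.cp, pow_val_add' F.ca]
  have h12' : i₁ ^ (e 1).val * i₂ ^ (e 2).val * (i₁ ^ (f 1).val * i₂ ^ (f 2).val) =
      i₁ ^ (e 1 + f 1).val * i₂ ^ (e 2 + f 2).val := by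
    rw [Commute.mul_mul_mul_comm (F.h12.symm.pow_pow _ _), pow_val_add' F.c1, pow_val_add' F.c2]
  have hZ : ∀ n : ℕ, Commute (z ^ n) (i₁ ^ (e 1).val * i₂ ^ (e 2).val * (p ^ (e 3).val * a ^ (e 4).val)) :=
    fun n => ((hzc n).2.2.1.mul_right (hzc n).2.2.2.1).mul_right
      ((hzc n).2.2.2.2.1.mul_right (hzc n).2.2.2.2.2)
  set A := i₁ ^ (e 1).val * i₂ ^ (e 2).val with hA
  set B := p ^ (e 3).val * a ^ (e 4).val with hB
  set C := i₁ ^ (f 1).val * i₂ ^ (f 2).val with hC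
  set D := p ^ (f 3).val * a ^ (f 4).val with hD
  calc el z i₁ i₂ p a e * el z i₁ i₂ p a f = z ^ (e 0).val * ((A * B) * z ^ (f 0).val) * (C * D) := by
        simp only [el, hA, hB, hC, hD, mul_assoc]
    _ = z ^ (e 0 + f 0).val * (A * (B * C) * D) := by
        rw [← (hZ _).eq, pow_val_add' F.cz]; simp only [mul_assoc]
    _ = z ^ (e 0 + f 0).val * (A * z ^ (e 3 * f 1 + -(e 4 * f 2)).val * (C * B * D)) := by
        rw [hmid]; simp only [mul_assoc]
    _ = z ^ (e 0 + f 0).val * z ^ (e 3 * f 1 + -(e 4 * f 2)).val * ((A * C) * (B * D)) := by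
        rw [← ((hzc _).2.2.1.mul_right (hzc _).2.2.2.1).eq]; simp only [hA, mul_assoc]
    _ = _ := by
        rw [h12', hlast, ← pow_val_add' F.cz]
        simp [el, emul, mul_assoc, sub_eq_add_neg, add_assoc]

omit F in
theorem el_zero : el z i₁ i₂ p a 0 = 1 := by simp [el]

theorem el_inv (e : E) : (el z i₁ i₂ p a e)⁻¹ = el z i₁ i₂ p a (einv e) :=
  inv_eq_of_mul_eq_one_right (by rw [F.el_mul, emul_einv, el_zero])

theorem el_conj (f e : E) :
    el z i₁ i₂ p a f * el z i₁ i₂ p a e * (el z i₁ i₂ p a f)⁻¹ = el z i₁ i₂ p a (econj f e) := by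
  rw [F.el_inv, F.el_mul, F.el_mul, econj_eq]

theorem el_pow (e : E) (k : ZMod 3) :
    el z i₁ i₂ p a e ^ k.val = el z i₁ i₂ p a (epow k e) := by
  rcases (show ∀ k : ZMod 3, k = 0 ∨ k = 1 ∨ k = 2 by decide) k with rfl | rfl | rfl
  · rw [show epow 0 e = 0 by apply ext5 <;> simp [epow]]
    simp [el_zero]
  · rw [show epow 1 e = e by apply ext5 <;> simp [epow]]
    simp [ZMod.val_one]
  · rw [show (2 : ZMod 3).val = 2 from rfl, pow_two, F.el_mul]
    congr 1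
    apply ext5 <;> simp [emul, epow] <;> ring_nf
    generalize e 0 = x0, e 1 = x1, e 2 = x2, e 3 = x3, e 4 = x4
    revert x0 x1 x2 x3 x4
    decide

omit F in
theorem el_z (n : ZMod 3) : el z i₁ i₂ p a ![n, 0, 0, 0, 0] = z ^ n.val := by simp [el]

omit F in
theorem el_units : el z i₁ i₂ p a ![1, 0, 0, 0, 0] = z ∧ el z i₁ i₂ p a ![0, 1, 0, 0, 0] = i₁ ∧
    el z i₁ i₂ p a ![0, 0, 1, 0, 0] = i₂ ∧ el z i₁ i₂ p a ![0, 0, 0, 1, 0] = p ∧
    el z i₁ i₂ p a ![0, 0, 0, 0, 1] = a := by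
  simp [el, ZMod.val_one]

theorem el_eq_zero {e : E} (h : el z i₁ i₂ p a e = 1) : e = 0 := by
  have key : ∀ n : ZMod 3, z ^ n.val = 1 → n = 0 := by
    intro n hn
    rcases (show ∀ n : ZMod 3, n = 0 ∨ n = 1 ∨ n = 2 by decide) n with rfl | rfl | rfl
    · rfl
    · exact absurd (by simpa [ZMod.val_one] using hn) F.z_ne
    · refine absurd ?_ F.z_ne
      calc z = z ^ 3 * (z ^ (2 : ℕ))⁻¹ := by group
        _ = 1 := by rw [F.cz, show z ^ (2 : ℕ) = 1 from hn, inv_one, one_mul]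
  have hp : ∀ f : E, pair e f = 0 := fun f => by
    refine key _ ?_
    have h1 : el z i₁ i₂ p a (econj e f) = el z i₁ i₂ p a f := by rw [← F.el_conj, h]; simp
    have h2 : emul ![pair e f, 0, 0, 0, 0] f = econj e f := by
      apply ext5 <;> simp [emul, econj, pair]
      ring
    rw [← h2, ← F.el_mul, el_z] at h1
    exact mul_eq_right.1 h1
  have e1 := hp ![0, 0, 0, 1, 0]
  have e3 := hp ![0, 1, 0, 0, 0]
  have e2 := hp ![0, 0, 0, 0, 1]
  have e4 := hp ![0, 0, 1, 0, 0]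
  simp [pair] at e1 e2 e3 e4
  have he : e = ![e 0, 0, 0, 0, 0] := by apply ext5 <;> simp [e1, e2, e3, e4]
  rw [he, el_z] at h
  rw [he, key _ h]
  apply ext5 <;> simp

theorem el_injective : Function.Injective (el z i₁ i₂ p a) := fun e f h => by
  have h1 : emul e (einv f) = 0 := F.el_eq_zero (by rw [← F.el_mul, ← F.el_inv, h, mul_inv_cancel])
  calc e = emul e (emul (einv f) f) := by rw [einv_emul]; apply ext5 <;> simp [emul]
    _ = f := by rw [← emul_assoc, h1]; apply ext5 <;> simp [emul]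

theorem el_commute {e f : E} :
    Commute (el z i₁ i₂ p a e) (el z i₁ i₂ p a f) ↔ pair e f = 0 := by
  rw [Commute, SemiconjBy, F.el_mul, F.el_mul, F.el_injective.eq_iff, emul_eq_swap]

/-- A subgroup of order `3^5` containing the generators consists of the products. -/
theorem exists_el [Finite G] {Q : Subgroup G} (hQ : Nat.card Q = 243) (h0 : z ∈ Q) (h1 : i₁ ∈ Q)
    (h2 : i₂ ∈ Q) (h3 : p ∈ Q) (h4 : a ∈ Q) {q : G} (hq : q ∈ Q) : ∃ e, el z i₁ i₂ p a e = q := by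
  have hm : ∀ e, el z i₁ i₂ p a e ∈ Q := fun e =>
    mul_mem (mul_mem (mul_mem (mul_mem (pow_mem h0 _) (pow_mem h1 _)) (pow_mem h2 _)) (pow_mem h3 _))
      (pow_mem h4 _)
  have hb := (Nat.bijective_iff_injective_and_card (fun e => (⟨el z i₁ i₂ p a e, hm e⟩ : Q))).2
    ⟨fun e f h => F.el_injective (congrArg Subtype.val h), by rw [hQ]; simp⟩
  obtain ⟨e, he⟩ := hb.2 ⟨q, hq⟩
  exact ⟨e, congrArg Subtype.val he⟩

/-- The action of an element of order three. -/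
theorem conj_s {s : G} {c l : ZMod 3} (hsz : Commute s z) (hs1 : Commute s i₁) (hs2 : Commute s i₂)
    (hsp : s * p * s⁻¹ = p * i₁ * z) (hsa : s * a * s⁻¹ = a * i₂ ^ c.val * z ^ l.val) (e : E) :
    s * el z i₁ i₂ p a e * s⁻¹ = el z i₁ i₂ p a (fs c l e) := by
  obtain ⟨u0, u1, u2, u3, u4⟩ := (el_units : el z i₁ i₂ p a ![1, 0, 0, 0, 0] = z ∧ _)
  have fixd : ∀ x, Commute s x → s * x * s⁻¹ = x := fun x hx => by rw [hx.eq, mul_inv_cancel_right]
  have hP : s * p * s⁻¹ = el z i₁ i₂ p a (emul (emul ![0, 0, 0, 1, 0] ![0, 1, 0, 0, 0]) ![1, 0, 0, 0, 0]) := by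
    rw [← F.el_mul, ← F.el_mul, u0, u1, u3, hsp]
  have hA : s * a * s⁻¹ = el z i₁ i₂ p a
      (emul (emul ![0, 0, 0, 0, 1] ![0, 0, c, 0, 0]) ![l, 0, 0, 0, 0]) := by
    rw [← F.el_mul, ← F.el_mul, u4, hsa, el_z]
    simp [el]
  calc s * el z i₁ i₂ p a e * s⁻¹ =
      (s * z * s⁻¹) ^ (e 0).val * (s * i₁ * s⁻¹) ^ (e 1).val * (s * i₂ * s⁻¹) ^ (e 2).val *
        (s * p * s⁻¹) ^ (e 3).val * (s * a * s⁻¹) ^ (e 4).val := by
        simp only [el, conj_pow]; group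
    _ = el z i₁ i₂ p a ![e 0, e 1, e 2, 0, 0] * el z i₁ i₂ p a (epow (e 3)
          (emul (emul ![0, 0, 0, 1, 0] ![0, 1, 0, 0, 0]) ![1, 0, 0, 0, 0])) * el z i₁ i₂ p a (epow (e 4)
          (emul (emul ![0, 0, 0, 0, 1] ![0, 0, c, 0, 0]) ![l, 0, 0, 0, 0])) := by
        rw [fixd z hsz, fixd i₁ hs1, fixd i₂ hs2, hP, hA, F.el_pow, F.el_pow]
        simp [el]
    _ = _ := by
        rw [F.el_mul, F.el_mul]
        congr 1
        generalize hx0 : e 0 = x0, hx1 : e 1 = x1, hx2 : e 2 = x2, hx3 : e 3 = x3, hx4 : e 4 = x4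
        apply ext5 <;> simp [emul, epow, fs, hx0, hx1, hx2, hx3, hx4]
        all_goals first | ring1 | (clear hx0 hx1 hx2 hx3 hx4 hA hsa; revert x0 x1 x2 x3 x4 c l; decide) | skip

end Frame

end CfsgLib.OEightLocal.Pre
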