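import Cfsg.Agent.Lib.OEightLocal.FusionJ

/-!
Fusion of `z` in the radical, self-centralisation, signalizers and inversion of `z`.
-/

set_option autoImplicit false
set_option linter.unusedSectionVars false
set_option linter.style.haveILetI false

namespace CfsgLib.OEightLocal

open CfsgLib.LFourThree (S2 pE sE closure_ps)

namespace Pre

theorem tau_facts : ∀ v : V, fp (fa (fp (fa (fp (fa v))))) = v ∧ fp (fp (fp v)) = v ∧
    v + fp (fa v) + fp (fa (fp (fa v))) = 0 ∧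
    (fp (fa v) = v → v + fp v + fp (fp v) = 0 ∧ fp (fa (fp v)) = fp v) ∧
    (fp (fa v) = v → fp v = v → v 1 = 0 ∧ v 2 = 0 ∧ v 3 = 0) := by decide +kernel

variable {G : Type*} [Group G] [Finite G] {z : G} {Q : Subgroup G} {m : ℕ}
  {π : Subgroup.centralizer ({z} : Set G) →* S2} {ε : Subgroup.centralizer ({z} : Set G) →* ℤˣ}
  {L : Pre z Q m π ε} {t : Subgroup.centralizer ({z} : Set G)}
  {O : Subgroup (Subgroup.centralizer ({z} : Set G))} {H : Quat π ε t O}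
  {u s : Subgroup.centralizer ({z} : Set G)} {i₁ i₂ p a : G}
  (S : Std L H u s i₁ i₂ p a 1 (-1)) (hs : (s : G) ^ 3 = 1)
include S hs

theorem Std.decomp (c : Subgroup.centralizer ({z} : Set G)) :
    ∃ w ∈ O, ∃ f : E, ∃ n : ℕ, ∃ x : Subgroup.centralizer ({z} : Set G),
      (x = 1 ∨ (m = 2 ∧ x = u)) ∧ (c : G) = (w : G) * el z i₁ i₂ p a f * (s : G) ^ n * (x : G) := by
  obtain ⟨x, hx, hxε⟩ : ∃ x, (x = 1 ∨ (m = 2 ∧ x = u)) ∧ ε x = ε c := by
    rcases Int.units_eq_one_or (ε c) with h | h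
    · exact ⟨1, Or.inl rfl, by rw [map_one, h]⟩
    · have hm : m = 2 := L.hm.resolve_left fun hm => by
        rw [L.eps_one hm c] at h
        exact absurd h (by decide)
      exact ⟨u, Or.inr ⟨hm, rfl⟩, by rw [S.u_eps hm, h]⟩
  have hε1 : ε (c * x⁻¹) = 1 := by rw [map_mul, map_inv, hxε, mul_inv_cancel]
  obtain ⟨j, hj⟩ : ∃ j : ℕ, (π (c * x⁻¹) * π s ^ j) ^ 8 = 1 := by
    have h3 : pE * pE * (pE * pE) = pE := by decide +kernel
    rcases S.s_pi with e | e <;> rcases s2_cosets (π (c * x⁻¹)) with h | h | h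
    · exact ⟨0, by rw [pow_zero, mul_one, h]⟩
    · exact ⟨1, by rw [pow_one, e, h]⟩
    · exact ⟨2, by rw [pow_two, e, h]⟩
    · exact ⟨0, by rw [pow_zero, mul_one, h]⟩
    · exact ⟨2, by rw [pow_two, e, h3, h]⟩
    · exact ⟨1, by rw [pow_one, e, h]⟩
  obtain ⟨w, hw, hwπ⟩ := L.O_image H hj
  obtain ⟨q, hq, hd⟩ := L.eq_of_images H (c := w) (d := c * x⁻¹ * s ^ j)
    (by rw [hwπ]; simp only [map_mul, map_pow]) (by rw [H.eps w hw, map_mul, hε1, map_pow, S.s_eps, one_pow, one_mul])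
  obtain ⟨f, rfl⟩ := S.surj hq
  refine ⟨w, hw, f, j * 2, x, hx, ?_⟩
  simp only [Subgroup.coe_mul, Subgroup.coe_inv, SubmonoidClass.coe_pow] at hd
  rw [← hd]
  calc (c : G) = (c : G) * (x : G)⁻¹ * ((s : G) ^ 3) ^ j * x := by rw [hs, one_pow]; group
    _ = _ := by
      rw [← pow_mul, show 3 * j = j + j * 2 by ring, pow_add]
      simp only [mul_assoc]

/-- The shape of the conjugates of `z` in the radical. -/
theorem Std.shape {g : G} (hg : g * z * g⁻¹ ∈ Q) (hgz : g * z * g⁻¹ ∉ Subgroup.zpowers z) :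
    ∃ e : E, g * z * g⁻¹ = el z i₁ i₂ p a e ∧ e 4 = 0 ∧ e 2 ≠ 0 ∧ ¬ (e 1 = 0 ∧ e 3 = 0) := by
  obtain ⟨-, -, cc, k, α, β, hα, hβ, he⟩ := S.key hg hgz
  let P : G → Prop := fun q => ∃ e : E, q = el z i₁ i₂ p a e ∧ e 4 = 0 ∧ e 2 ≠ 0 ∧ ¬ (e 1 = 0 ∧ e 3 = 0)
  have hQ : ∀ f q, P q → P (el z i₁ i₂ p a f * q * (el z i₁ i₂ p a f)⁻¹) := by
    rintro f _ ⟨e, rfl, h4, h2, h13⟩
    exact ⟨econj f e, S.F.el_conj f e, h4, h2, h13⟩
  have hs' : ∀ n : ℕ, ∀ q, P q → P ((s : G) ^ n * q * ((s : G) ^ n)⁻¹) := by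
    intro n
    induction n with
    | zero => intro q hq; simpa using hq
    | succ n ih =>
      intro q hq
      obtain ⟨e, he, h4, h2, h13⟩ := ih q hq
      refine ⟨fs 1 (-1) e, ?_, by simp [fs, h4], by simp [fs, h4, h2], ?_⟩
      · rw [← S.conj_s, ← he, pow_succ']; group
      · rintro ⟨a1, a3⟩
        simp [fs] at a1 a3
        exact h13 ⟨by rwa [a3, add_zero] at a1, a3⟩
  have hu : m = 2 → ∀ q, P q → P ((u : G) * q * (u : G)⁻¹) := by
    rintro hm _ ⟨e, rfl, h4, h2, h13⟩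
    have hfix : ∀ x, Commute (u : G) x → (u : G) * x * (u : G)⁻¹ = x := fun x hx => by
      rw [hx.eq, mul_inv_cancel_right]
    refine ⟨![e 0, e 1, -e 2, e 3, 0], ?_, by simp, by simpa using h2, by simpa using h13⟩
    calc (u : G) * el z i₁ i₂ p a e * (u : G)⁻¹ = ((u : G) * z * (u : G)⁻¹) ^ (e 0).val *
          ((u : G) * i₁ * (u : G)⁻¹) ^ (e 1).val * ((u : G) * i₂ * (u : G)⁻¹) ^ (e 2).val *
          ((u : G) * p * (u : G)⁻¹) ^ (e 3).val * ((u : G) * a * (u : G)⁻¹) ^ (e 4).val := by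
          simp only [el, conj_pow]; group
      _ = _ := by
          rw [hfix _ (L.mem_cz.1 u.2), hfix _ (S.uV _ S.v1), hfix _ (S.uV _ S.vp), S.u_2 hm,
            ← pow_val_neg S.F.c2, h4]
          simp [el]
  have hw : ∀ w ∈ O, ∀ q, P q → P ((w : G) * q * (w : G)⁻¹) := by
    rintro w hw _ ⟨e, rfl, h4, h2, h13⟩
    obtain ⟨-, -, n2, -, n4⟩ := (Frame.el_units : el z i₁ i₂ p a ![1, 0, 0, 0, 0] = z ∧ _)
    set v := el z i₁ i₂ p a ![e 0, e 1, 0, e 3, 0] with hv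
    obtain ⟨f, hf⟩ := S.surj (L.conj_mem w.2 (S.mem ![e 0, e 1, 0, e 3, 0]))
    have hwc : ∀ x, x ∈ Q → Commute (t : G) x → Commute v x → Commute (el z i₁ i₂ p a f) x := by
      intro x hx htx hvx
      rw [hf]
      exact ((L.O_fixed H hw hx htx).mul_left hvx).mul_left (L.O_fixed H hw hx htx).inv_left
    have c2 : f 4 = 0 := by
      have h := hwc i₂ S.q2 S.t2 (by
        have h := S.F.el_commute (e := ![e 0, e 1, 0, e 3, 0]) (f := ![0, 0, 1, 0, 0])
        rw [n2] at h; exact h.2 (by simp [pair]))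
      have h' : Commute (el z i₁ i₂ p a f) (el z i₁ i₂ p a ![0, 0, 1, 0, 0]) := by rw [n2]; exact h
      simpa [pair] using S.F.el_commute.1 h'
    have c4 : f 2 = 0 := by
      have h := hwc a S.qa S.ta (by
        have h := S.F.el_commute (e := ![e 0, e 1, 0, e 3, 0]) (f := ![0, 0, 0, 0, 1])
        rw [n4] at h; exact h.2 (by simp [pair]))
      have h' : Commute (el z i₁ i₂ p a f) (el z i₁ i₂ p a ![0, 0, 0, 0, 1]) := by rw [n4]; exact h
      simpa [pair] using S.F.el_commute.1 h'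
    have he' : el z i₁ i₂ p a e = v * i₂ ^ (e 2).val := by
      rw [hv, show i₂ ^ (e 2).val = el z i₁ i₂ p a ![0, 0, 1, 0, 0] ^ (e 2).val by rw [n2], S.F.el_pow,
        S.F.el_mul]
      exact congrArg _ (by apply ext5 <;> simp [emul, epow, h4])
    refine ⟨emul f ![0, 0, e 2, 0, 0], ?_, by simp [emul, c2], by simp [emul, c4, h2], ?_⟩
    · rw [he', show (w : G) * (v * i₂ ^ (e 2).val) * (w : G)⁻¹ =
        ((w : G) * v * (w : G)⁻¹) * ((w : G) * i₂ * (w : G)⁻¹) ^ (e 2).val by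
          rw [conj_pow]; group, hv, ← hf, (L.O_fixed H hw S.q2 S.t2).eq, mul_inv_cancel_right,
        ← S.F.el_mul]
      congr 1
      rw [show i₂ ^ (e 2).val = el z i₁ i₂ p a ![0, 0, 1, 0, 0] ^ (e 2).val by rw [n2], S.F.el_pow]
      exact congrArg _ (by apply ext5 <;> simp [epow])
    · rintro ⟨a1, a3⟩
      simp [emul] at a1 a3
      have hfz : el z i₁ i₂ p a f ∈ Subgroup.zpowers z := by
        rw [show f = ![f 0, 0, 0, 0, 0] by apply ext5 <;> simp [a1, a3, c2, c4], Frame.el_z]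
        exact pow_mem (Subgroup.mem_zpowers z) _
      rw [hf] at hfz
      have hvz : v ∈ Subgroup.zpowers z := by
        have h := L.z_comm (inv_mem w.2) hfz
        rw [show v = (w : G)⁻¹ * ((w : G) * v * (w : G)⁻¹) * w by group, h, inv_mul_cancel_right]
        exact hfz
      obtain ⟨k', hk'⟩ := Subgroup.mem_zpowers_iff.1 hvz
      have hc : ∀ g : E, pair ![e 0, e 1, 0, e 3, 0] g = 0 := fun g => S.F.el_commute.1 (by
        rw [← hv, ← hk']
        exact ((show Commute (el z i₁ i₂ p a g) z from L.mem_cz.1 (L.le (S.mem g))).zpow_right _).symm)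
      have b1 := hc ![0, 0, 0, 1, 0]
      have b3 := hc ![0, 1, 0, 0, 0]
      simp [pair] at b1 b3
      exact h13 ⟨b1, b3⟩
  obtain ⟨w, hwO, f, n, x, hx, hd⟩ := S.decomp hs cc⁻¹
  have h0 : P (el z i₁ i₂ p a ![k, α, β, 0, 0]) := ⟨_, rfl, by simp, by simpa using hβ, by simp [hα]⟩
  have h1 : P ((x : G) * el z i₁ i₂ p a ![k, α, β, 0, 0] * (x : G)⁻¹) := by
    rcases hx with rfl | ⟨hm, rfl⟩
    · simpa using h0
    · exact hu hm _ h0
  have hres := hw w hwO _ (hQ f _ (hs' n _ h1))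
  have e : g * z * g⁻¹ = (w : G) * (el z i₁ i₂ p a f * ((s : G) ^ n * ((x : G) *
      el z i₁ i₂ p a ![k, α, β, 0, 0] * (x : G)⁻¹) * ((s : G) ^ n)⁻¹) * (el z i₁ i₂ p a f)⁻¹) * (w : G)⁻¹ := by
    calc g * z * g⁻¹ = ((cc⁻¹ : Subgroup.centralizer ({z} : Set G)) : G) *
          ((cc : G) * (g * z * g⁻¹) * (cc : G)⁻¹) * ((cc⁻¹ : Subgroup.centralizer ({z} : Set G)) : G)⁻¹ := by
          simp only [Subgroup.coe_inv]; group
      _ = _ := by rw [he, hd]; group
  rw [e]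
  exact hres

/-- An element of the centraliser fixing `i₁` and `i₂` lies in `J`. -/
theorem Std.cent_R {g : G} (hg : g ∈ Subgroup.centralizer ({z} : Set G)) (h1 : Commute g i₁)
    (h2 : Commute g i₂) : g ∈ Subgroup.closure {z, i₁, i₂, (s : G)} := by
  obtain ⟨u0, n1, n2, u3, u4⟩ := (Frame.el_units : el z i₁ i₂ p a ![1, 0, 0, 0, 0] = z ∧ _)
  obtain ⟨w, hwO, f, n, x, hx, hd⟩ := S.decomp hs ⟨g, hg⟩
  replace hd : g = (w : G) * el z i₁ i₂ p a f * (s : G) ^ n * (x : G) := hd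
  have hsfix : ∀ b r : ZMod 3, Commute ((s : G) ^ n) (el z i₁ i₂ p a ![0, b, r, 0, 0]) := fun b r =>
    mul_inv_eq_iff_eq_mul.1 ((S.spow_conj hs n _).trans (congrArg _
      (Function.iterate_fixed (by apply ext5 <;> simp [fs]) n)))
  have hx1 : x = 1 := by
    rcases hx with h | ⟨hm, h⟩
    · exact h
    exfalso
    subst h
    have hsi : Commute ((s : G) ^ n) i₂⁻¹ := by
      have h := (hsfix 0 1).inv_right
      rwa [n2] at h
    obtain ⟨k, hk⟩ : ∃ k : ZMod 3, el z i₁ i₂ p a f * i₂⁻¹ * (el z i₁ i₂ p a f)⁻¹ =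
        el z i₁ i₂ p a ![k, 0, -1, 0, 0] := by
      rw [show i₂⁻¹ = (el z i₁ i₂ p a ![0, 0, 1, 0, 0])⁻¹ by rw [n2], S.F.el_inv, S.F.el_conj]
      exact ⟨econj f (einv ![0, 0, 1, 0, 0]) 0, congrArg _ (by apply ext5 <;> simp [econj, einv])⟩
    have hwk : Commute (w : G) (el z i₁ i₂ p a ![k, 0, -1, 0, 0]) := by
      refine L.O_fixed H hwO (S.mem _) ?_
      have h : (t : G) * el z i₁ i₂ p a ![k, 0, -1, 0, 0] * (t : G)⁻¹ = el z i₁ i₂ p a ![k, 0, -1, 0, 0] := by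
        rw [L.conj_t H S.F S.v1 S.vp S.t2 S.ta]
        exact congrArg _ (by apply ext5 <;> simp [ft])
      exact mul_inv_eq_iff_eq_mul.1 h
    have hgi := h2.eq
    rw [← mul_inv_eq_iff_eq_mul, hd, show (w : G) * el z i₁ i₂ p a f * (s : G) ^ n * (x : G) * i₂ *
      ((w : G) * el z i₁ i₂ p a f * (s : G) ^ n * (x : G))⁻¹ = (w : G) * (el z i₁ i₂ p a f *
        ((s : G) ^ n * ((x : G) * i₂ * (x : G)⁻¹) * ((s : G) ^ n)⁻¹) * (el z i₁ i₂ p a f)⁻¹) * (w : G)⁻¹ by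
        group, S.u_2 hm, hsi.eq, mul_inv_cancel_right, hk, hwk.eq, mul_inv_cancel_right] at hgi
    have := congrFun (S.F.el_injective (hgi.trans n2.symm)) 2
    simp at this
    exact absurd this (by decide)
  subst hx1
  simp at hd
  have hsi : Commute ((s : G) ^ n) i₁ := by
    have h := hsfix 1 0
    rwa [n1] at h
  have hw1 : w = 1 := by
    obtain ⟨c, hc, hce⟩ : ∃ c ∈ Subgroup.zpowers z, el z i₁ i₂ p a f * i₁ * (el z i₁ i₂ p a f)⁻¹ = c * i₁ := by
      exact ⟨el z i₁ i₂ p a f * i₁ * (el z i₁ i₂ p a f)⁻¹ * i₁⁻¹, L.comm _ (S.mem f) _ S.v1.1, by group⟩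
    have hgi := h1.eq
    rw [← mul_inv_eq_iff_eq_mul, hd, show (w : G) * el z i₁ i₂ p a f * (s : G) ^ n * i₁ *
      ((w : G) * el z i₁ i₂ p a f * (s : G) ^ n)⁻¹ = (w : G) * (el z i₁ i₂ p a f *
        ((s : G) ^ n * i₁ * ((s : G) ^ n)⁻¹) * (el z i₁ i₂ p a f)⁻¹) * (w : G)⁻¹ by group,
      hsi.eq, mul_inv_cancel_right, hce,
      show (w : G) * (c * i₁) * (w : G)⁻¹ = ((w : G) * c * (w : G)⁻¹) * ((w : G) * i₁ * (w : G)⁻¹) by group,
      L.z_comm w.2 hc, mul_inv_cancel_right] at hgi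
    obtain ⟨he, -⟩ := L.inv_coset H (L.inv_conj H w.2 (L.O_comm_t H hwO) S.v1) S.v1 hc hgi.symm
    exact L.O_free H hwO S.v1 (fun h => S.F.z_ne (by
      have h' := congrArg (fun x => p * x) h
      have := S.F.rp
      rw [h, mul_one, mul_one] at this
      exact right_eq_mul.1 this)) (mul_inv_eq_iff_eq_mul.1 he.symm)
  subst hw1
  simp at hd
  have hcomm : ∀ b r : ZMod 3, Commute g (el z i₁ i₂ p a ![0, b, r, 0, 0]) := by
    intro b r
    have he : el z i₁ i₂ p a ![0, b, r, 0, 0] = i₁ ^ b.val * i₂ ^ r.val := by simp [el]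
    rw [he]
    exact (h1.pow_right _).mul_right (h2.pow_right _)
  have hf : ∀ b r : ZMod 3, pair f ![0, b, r, 0, 0] = 0 := fun b r => S.F.el_commute.1 (by
    have h := (hcomm b r).mul_left (hsfix b r).inv_left
    rw [hd] at h
    rwa [mul_inv_cancel_right] at h)
  have b1 := hf 1 0
  have b2 := hf 0 1
  simp [pair] at b1 b2
  refine (S.mem_J hs).2 ⟨![f 0, f 1, f 2, (n : ZMod 3)], ?_⟩
  have he : f = ![f 0, f 1, f 2, 0, 0] := by apply ext5 <;> simp [b1, b2]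
  rw [hd]
  simp only [Matrix.cons_val_zero, Matrix.cons_val_one, Matrix.cons_val]
  rw [← he, pow_val_nat hs rfl]

theorem Std.J_le : Subgroup.closure {z, i₁, i₂, (s : G)} ≤ Subgroup.centralizer ({z} : Set G) := by
  refine (Subgroup.closure_le _).2 ?_
  rintro x (rfl | rfl | rfl | rfl)
  exacts [L.le L.zmem, L.le S.v1.1, L.le S.q2, s.2]

theorem Std.cent_J : Subgroup.centralizer (Subgroup.closure {z, i₁, i₂, (s : G)} : Set G) =
    Subgroup.closure {z, i₁, i₂, (s : G)} := by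
  refine le_antisymm (fun g hg => ?_) (fun g hg => ?_)
  · have hc : ∀ x ∈ ({z, i₁, i₂, (s : G)} : Set G), Commute g x := fun x hx =>
      (Subgroup.mem_centralizer_iff.1 hg x (Subgroup.subset_closure hx)).symm
    exact S.cent_R hs (L.mem_cz.2 (hc z (by simp))) (hc i₁ (by simp)) (hc i₂ (by simp))
  · haveI := S.J_comm hs
    exact Subgroup.mem_centralizer_iff.2 fun x hx => congrArg Subtype.val
      (mul_comm' (⟨x, hx⟩ : (Subgroup.closure {z, i₁, i₂, (s : G)} : Subgroup G)) ⟨g, hg⟩)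

/-- Conjugates of `z` in `J` are conjugate in the normaliser of `J`. -/
theorem Std.burnside {g : G} (hg : g * z * g⁻¹ ∈ Subgroup.closure {z, i₁, i₂, (s : G)}) :
    ∃ n ∈ Subgroup.normalizer (Subgroup.closure {z, i₁, i₂, (s : G)} : Set G), n * z * n⁻¹ = g * z * g⁻¹ := by
  set J := Subgroup.closure ({z, i₁, i₂, (s : G)} : Set G) with hJ
  haveI := S.J_comm hs
  have hcJ : ∀ x ∈ J, ∀ y ∈ J, Commute x y := fun x hx y hy =>
    congrArg Subtype.val (mul_comm' (⟨x, hx⟩ : J) ⟨y, hy⟩)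
  have hin : ∀ x ∈ J, g⁻¹ * x * g ∈ Subgroup.centralizer ({z} : Set G) := by
    intro x hx
    rw [L.mem_cz]
    have h := hcJ x hx _ hg
    calc g⁻¹ * x * g * z = g⁻¹ * (x * (g * z * g⁻¹)) * g := by group
      _ = g⁻¹ * ((g * z * g⁻¹) * x) * g := by rw [h.eq]
      _ = _ := by group
  let φ : J → Subgroup.centralizer ({z} : Set G) := fun x => ⟨g⁻¹ * (x : G) * g, hin x x.2⟩
  have hφ3 : ∀ x : J, φ x * φ x * φ x = 1 := fun x => Subtype.ext (by
    show g⁻¹ * (x : G) * g * (g⁻¹ * (x : G) * g) * (g⁻¹ * (x : G) * g) = 1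
    rw [show g⁻¹ * (x : G) * g * (g⁻¹ * (x : G) * g) * (g⁻¹ * (x : G) * g) = g⁻¹ * ((x : G) * x * x) * g by
      group, ← pow_two, ← pow_succ, S.J_cube hs x.2]
    group)
  have hε : ∀ x : J, ε (φ x) = 1 := fun x => by
    have h := congrArg ε (hφ3 x)
    rw [map_mul, map_mul, map_one, L.eps_sq, one_mul] at h
    exact h
  have hmul : ∀ x y : J, φ (x * y) = φ x * φ y := fun x y => Subtype.ext (by
    simp [φ, mul_assoc])
  have hπ3 : ∀ x : J, π (φ x) * π (φ x) * π (φ x) = 1 := fun x => by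
    rw [← map_mul, ← map_mul, hφ3, map_one]
  obtain ⟨h, hh⟩ : ∃ h : Subgroup.centralizer ({z} : Set G), ∀ x : J,
      ∃ k : ℕ, π (h * φ x * h⁻¹) = π s ^ k := by
    by_cases hall : ∀ x : J, π (φ x) = 1
    · exact ⟨1, fun x => ⟨0, by simp [hall x]⟩⟩
    push Not at hall
    obtain ⟨x0, hx0⟩ := hall
    obtain ⟨r, hr⟩ := s2_conj_three _ (hπ3 x0) hx0
    obtain ⟨h, hhr, -⟩ := L.surj r 1 (Or.inr rfl)
    refine ⟨h, fun x => ?_⟩
    have h1 := hπ3 (x0 * x)
    have h2 := hπ3 (x0 * (x * x))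
    simp only [hmul, map_mul] at h1 h2
    have hk : ∃ k : ℕ, π (φ x) = π (φ x0) ^ k := by
      rcases (s2_three_comm _ _ (hπ3 x0) (hπ3 x) h1 h2).2 with e | e | e | e
      · exact absurd e hx0
      · exact ⟨0, by rw [e, pow_zero]⟩
      · exact ⟨1, by rw [e, pow_one]⟩
      · exact ⟨2, by rw [e, pow_two]⟩
    obtain ⟨k, hk⟩ := hk
    have hpp : pE * pE * (pE * pE) = pE := by decide +kernel
    obtain ⟨j, hj⟩ : ∃ j : ℕ, r * π (φ x0) * r⁻¹ = π s ^ j := by
      rcases hr with e | e <;> rcases S.s_pi with f | f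
      · exact ⟨1, by rw [e, f, pow_one]⟩
      · exact ⟨2, by rw [e, f, pow_two, hpp]⟩
      · exact ⟨2, by rw [e, f, pow_two]⟩
      · exact ⟨1, by rw [e, f, pow_one]⟩
    exact ⟨j * k, by rw [map_mul, map_mul, map_inv, hhr, hk, ← conj_pow, hj, pow_mul]⟩
  set d := (h : G) * g⁻¹ with hd
  set A := J.map (MulAut.conj d).toMonoidHom with hA
  have hAeq : A = J := by
    refine S.abelian_eq hs ?_ inferInstance (by
      rw [hA, Subgroup.card_map_of_injective (MulAut.conj d).injective, S.card_J hs])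
    rintro _ ⟨x, hx, rfl⟩
    obtain ⟨k, hk⟩ := hh ⟨x, hx⟩
    have he : ε (h * φ ⟨x, hx⟩ * h⁻¹) = 1 := by
      rw [map_mul, map_mul, map_inv, hε, mul_one, mul_inv_cancel]
    have hm := S.pi_mem hs he hk
    convert hm using 1
    simp [φ, hd, mul_assoc]
  refine ⟨g * (h : G)⁻¹, ?_, ?_⟩
  · have hdn : d ∈ Subgroup.normalizer (J : Set G) := by
      rw [Subgroup.mem_normalizer_iff]
      intro x
      refine ⟨fun hx => ?_, fun hx => ?_⟩
      · rw [← hAeq]
        exact ⟨x, hx, rfl⟩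
      · have hx' : d * x * d⁻¹ ∈ A := hAeq.symm ▸ hx
        obtain ⟨y, hy, he⟩ := hx'
        rwa [← (MulAut.conj d).injective (show MulAut.conj d y = MulAut.conj d x from he)]
    rw [show g * (h : G)⁻¹ = d⁻¹ by rw [hd]; group]
    exact inv_mem hdn
  · have hz : Commute (h : G)⁻¹ z := L.mem_cz.1 (inv_mem h.2)
    calc g * (h : G)⁻¹ * z * (g * (h : G)⁻¹)⁻¹ = g * ((h : G)⁻¹ * z) * (h : G) * g⁻¹ := by group
      _ = _ := by rw [hz.eq]; group

/-- A conjugate of `z` in `J` off the centre, up to the first coordinate. -/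
theorem Std.seed : ∃ α β : ZMod 3, α ≠ 0 ∧ β ≠ 0 ∧ ∀ k, IsConj z (el z i₁ i₂ p a ![k, α, β, 0, 0]) := by
  obtain ⟨x, hx, hxz⟩ := L.conj_Q
  obtain ⟨-, -, cc, k, α, β, hα, hβ, he⟩ := S.key hx hxz
  refine ⟨α, β, hα, hβ, fun j => isConj_iff.2 ⟨el z i₁ i₂ p a ![0, 0, 0, (j - k) * α, 0] * (cc : G) * x, ?_⟩⟩
  have h1 : ∀ a : ZMod 3, a ≠ 0 → a * a = 1 := by decide
  calc el z i₁ i₂ p a ![0, 0, 0, (j - k) * α, 0] * (cc : G) * x * z *
        (el z i₁ i₂ p a ![0, 0, 0, (j - k) * α, 0] * (cc : G) * x)⁻¹ =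
        el z i₁ i₂ p a ![0, 0, 0, (j - k) * α, 0] * ((cc : G) * (x * z * x⁻¹) * (cc : G)⁻¹) *
          (el z i₁ i₂ p a ![0, 0, 0, (j - k) * α, 0])⁻¹ := by group
    _ = _ := by
        rw [he, S.F.el_conj]
        refine congrArg _ ?_
        apply ext5 <;> simp [econj]
        linear_combination (j - k) * h1 α hα

theorem Std.signalizer (K : Subgroup G) (hK : ¬ 3 ∣ Nat.card K)
    (hJK : ∀ j ∈ Subgroup.closure ({z, i₁, i₂, (s : G)} : Set G), ∀ k ∈ K, j * k * j⁻¹ ∈ K) : K = ⊥ := by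
  set J := Subgroup.closure ({z, i₁, i₂, (s : G)} : Set G) with hJ
  have hQJ : ∀ x ∈ ({z, i₁, i₂} : Set G), x ∈ J ∧ x ∈ Q := by
    rintro x (rfl | rfl | rfl)
    exacts [⟨Subgroup.subset_closure (by simp), L.zmem⟩, ⟨Subgroup.subset_closure (by simp), S.v1.1⟩,
      ⟨Subgroup.subset_closure (by simp), S.q2⟩]
  -- in the centraliser
  have core : ∀ M : Subgroup G, M ≤ Subgroup.centralizer ({z} : Set G) → ¬ 3 ∣ Nat.card M →
      (∀ j ∈ J, ∀ k ∈ M, j * k * j⁻¹ ∈ M) → M = ⊥ := by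
    intro M hMC hM hJM
    rw [Subgroup.eq_bot_iff_forall]
    intro k hk
    have hord : ∀ x ∈ M, x ^ 3 = 1 → x = 1 := by
      intro x hx h3
      rcases (Nat.dvd_prime Nat.prime_three).1 (orderOf_dvd_of_pow_eq_one h3) with h | h
      · exact orderOf_eq_one_iff.1 h
      · exact absurd (h ▸ Subgroup.orderOf_dvd_natCard M hx) hM
    have hc : ∀ j ∈ ({z, i₁, i₂} : Set G), Commute k j := by
      intro j hj
      obtain ⟨hjJ, hjQ⟩ := hQJ j hj
      have h1 : k * j * k⁻¹ * j⁻¹ ∈ M := by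
        convert mul_mem hk (hJM j hjJ _ (inv_mem hk)) using 1; group
      have h2 : k * j * k⁻¹ * j⁻¹ ∈ Q := mul_mem (L.conj_mem (hMC hk) hjQ) (inv_mem hjQ)
      exact mul_inv_eq_iff_eq_mul.1 (mul_inv_eq_one.1 (hord _ h1 (L.exp _ h2)))
    exact hord k hk (S.J_cube hs (S.cent_R hs (hMC hk) (hc i₁ (by simp)) (hc i₂ (by simp))))
  obtain ⟨α, β, hα, hβ, hconj⟩ := S.seed hs
  set w := el z i₁ i₂ p a ![0, α, β, 0, 0] with hw
  set E' := Subgroup.closure ({z, w} : Set G) with hE'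
  have hwJ : w ∈ J := (S.mem_J hs).2 ⟨![0, α, β, 0], by simp [hw]⟩
  have hEJ : E' ≤ J := (Subgroup.closure_le _).2 (by
    rintro x (rfl | rfl)
    exacts [(hQJ x (by simp)).1, hwJ])
  haveI := S.J_comm hs
  haveI : IsMulCommutative E' := ⟨⟨fun x y => Subtype.ext (congrArg Subtype.val
    (mul_comm' (⟨x, hEJ x.2⟩ : J) ⟨y, hEJ y.2⟩) :)⟩⟩
  have hmem : ∀ x ∈ E', ∃ i j : ZMod 3, x = el z i₁ i₂ p a ![j, i * α, i * β, 0, 0] := by
    intro x hx
    induction hx using Subgroup.closure_induction with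
    | mem x hx =>
      rcases hx with rfl | rfl
      · exact ⟨0, 1, by simp [el, ZMod.val_one]⟩
      · exact ⟨1, 0, by simp [hw]⟩
    | one => exact ⟨0, 0, by simp [el]⟩
    | mul x y _ _ hx hy =>
      obtain ⟨i, j, rfl⟩ := hx; obtain ⟨i', j', rfl⟩ := hy
      exact ⟨i + i', j + j', by
        rw [S.F.el_mul]; exact congrArg _ (by apply ext5 <;> simp [emul, add_mul])⟩
    | inv x _ hx =>
      obtain ⟨i, j, rfl⟩ := hx
      exact ⟨-i, -j, by rw [S.F.el_inv]; exact congrArg _ (by apply ext5 <;> simp [einv])⟩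
  have hncyc : ¬ IsCyclic E' := by
    refine CfsgLib.Coprime.not_isCyclic_of_exponent (p := 3) (fun x hx => S.J_cube hs (hEJ hx)) (by norm_num) ?_
    have hlt : Subgroup.zpowers z < E' := lt_of_le_of_ne
      (Subgroup.zpowers_le.2 (Subgroup.subset_closure (by simp))) fun e => by
        have h : w ∈ Subgroup.zpowers z := e.symm ▸ Subgroup.subset_closure (by simp)
        obtain ⟨n, hn⟩ := Subgroup.mem_zpowers_iff.1 h
        have hc := S.F.el_commute (e := ![0, α, β, 0, 0]) (f := ![0, 0, 0, 1, 0])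
        have := hc.1 (by
          rw [← hw, ← hn]
          exact ((show Commute (el z i₁ i₂ p a ![0, 0, 0, 1, 0]) z from
            L.mem_cz.1 (L.le (S.mem _))).zpow_right n).symm)
        simp [pair] at this
        exact hα this
    rw [← L.card_zpowers]
    by_contra hc
    exact hlt.ne (Subgroup.eq_of_le_of_card_ge hlt.le (not_lt.1 hc))
  have hnorm : E' ≤ Subgroup.normalizer (K : Set G) := by
    intro x hx
    rw [Subgroup.mem_normalizer_iff]
    intro k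
    refine ⟨fun hk => hJK x (hEJ hx) k hk, fun hk => ?_⟩
    have h := hJK x⁻¹ (inv_mem (hEJ hx)) _ hk
    simpa [mul_assoc] using h
  have hcop : (Nat.card E').Coprime (Nat.card K) := by
    refine Nat.Coprime.coprime_dvd_left (Subgroup.card_dvd_of_le hEJ) ?_
    rw [S.card_J hs, show (81 : ℕ) = 3 ^ 4 by norm_num]
    exact ((Nat.prime_three.coprime_iff_not_dvd).2 hK).pow_left 4
  refine eq_bot_iff.2 (CfsgLib.Coprime.le_of_centralizer_le hncyc hnorm hcop fun e he he1 => ?_)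
  obtain ⟨i, j, rfl⟩ := hmem e he
  -- `e` or its inverse is conjugate to `z` in the normaliser of `J`
  obtain ⟨g, hg⟩ : ∃ g, g * z * g⁻¹ ∈ J ∧ Subgroup.centralizer ({el z i₁ i₂ p a ![j, i * α, i * β, 0, 0]} : Set G) =
      Subgroup.centralizer ({g * z * g⁻¹} : Set G) := by
    have hinvc : ∀ x : G, Subgroup.centralizer ({x⁻¹} : Set G) = Subgroup.centralizer ({x} : Set G) := fun x => by
      ext y
      rw [Subgroup.mem_centralizer_singleton_iff, Subgroup.mem_centralizer_singleton_iff]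
      exact ⟨fun h => by simpa using (show Commute y x⁻¹ from h).inv_right.eq,
        fun h => (show Commute y x from h).inv_right.eq⟩
    rcases (show ∀ i : ZMod 3, i = 0 ∨ i = 1 ∨ i = -1 by decide) i with rfl | rfl | rfl
    · have hj : j ≠ 0 := by
        rintro rfl
        exact he1 (by simp [el])
      refine ⟨1, by simpa using (hQJ z (by simp)).1, ?_⟩
      rcases (show ∀ j : ZMod 3, j ≠ 0 → j = 1 ∨ j = -1 by decide) j hj with rfl | rfl
      · simp [el, ZMod.val_one]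
      · rw [zero_mul, zero_mul, Frame.el_z, pow_val_neg S.F.cz, ZMod.val_one, pow_one, hinvc]
        simp
    · obtain ⟨g, hg⟩ := isConj_iff.1 (hconj j)
      refine ⟨g, ?_, by rw [hg]; simp⟩
      rw [hg]
      exact (S.mem_J hs).2 ⟨![j, α, β, 0], by simp⟩
    · obtain ⟨g, hg⟩ := isConj_iff.1 (hconj (-j))
      refine ⟨g, by rw [hg]; exact (S.mem_J hs).2 ⟨![-j, α, β, 0], by simp⟩, ?_⟩
      rw [hg, ← hinvc, S.F.el_inv]
      congr 2
      exact congrArg _ (by apply ext5 <;> simp [einv])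
  obtain ⟨n, hn, hne⟩ := S.burnside hs hg.1
  rw [hg.2, ← hne]
  intro k hk
  obtain ⟨hk1, hk2⟩ := Subgroup.mem_inf.1 hk
  set M := (K ⊓ Subgroup.centralizer ({n * z * n⁻¹} : Set G)).map (MulAut.conj n⁻¹).toMonoidHom with hM
  have hM0 : M = ⊥ := by
    refine core M ?_ ?_ ?_
    · rintro _ ⟨x, hx, rfl⟩
      show n⁻¹ * x * (n⁻¹)⁻¹ ∈ _
      rw [L.mem_cz]
      have h := Subgroup.mem_centralizer_singleton_iff.1 (Subgroup.mem_inf.1 hx).2
      calc n⁻¹ * x * (n⁻¹)⁻¹ * z = n⁻¹ * (x * (n * z * n⁻¹)) * n := by group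
        _ = n⁻¹ * (n * z * n⁻¹ * x) * n := by rw [h]
        _ = _ := by group
    · rw [hM, Subgroup.card_map_of_injective (MulAut.conj n⁻¹).injective]
      exact fun h => hK (h.trans (Subgroup.card_dvd_of_le inf_le_left))
    · rintro j' hj' _ ⟨x, hx, rfl⟩
      have hj'' : n * j' * n⁻¹ ∈ J := (Subgroup.mem_normalizer_iff.1 hn j').1 hj'
      refine ⟨(n * j' * n⁻¹) * x * (n * j' * n⁻¹)⁻¹, ⟨hJK _ hj'' _ hx.1, ?_⟩, ?_⟩
      · have hz : Commute (n * j' * n⁻¹) (n * z * n⁻¹) :=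
          (Commute.conj_iff n).2 (L.mem_cz.1 (S.J_le hs hj') : Commute j' z)
        exact Subgroup.mem_centralizer_singleton_iff.2
          ((hz.mul_left (Subgroup.mem_centralizer_singleton_iff.1 hx.2 : Commute x (n * z * n⁻¹))).mul_left
            hz.inv_left).eq
      · show n⁻¹ * (n * j' * n⁻¹ * x * (n * j' * n⁻¹)⁻¹) * (n⁻¹)⁻¹ = j' * (n⁻¹ * x * (n⁻¹)⁻¹) * j'⁻¹
        group
  have : n⁻¹ * k * (n⁻¹)⁻¹ ∈ M := ⟨k, hk, rfl⟩
  rw [hM0, Subgroup.mem_bot] at this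
  rw [Subgroup.mem_bot]
  calc k = n * (n⁻¹ * k * (n⁻¹)⁻¹) * n⁻¹ := by group
    _ = 1 := by rw [this]; group

theorem Std.act_pa : (∀ v : V, p * (el z i₁ i₂ p a ![v 0, v 1, v 2, 0, 0] * (s : G) ^ (v 3).val) * p⁻¹ =
      el z i₁ i₂ p a ![(fp v) 0, (fp v) 1, (fp v) 2, 0, 0] * (s : G) ^ ((fp v) 3).val) ∧
    ∀ v : V, a * (el z i₁ i₂ p a ![v 0, v 1, v 2, 0, 0] * (s : G) ^ (v 3).val) * a⁻¹ =
      el z i₁ i₂ p a ![(fa v) 0, (fa v) 1, (fa v) 2, 0, 0] * (s : G) ^ ((fa v) 3).val := by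
  have key : ∀ (f : E) (v : V), el z i₁ i₂ p a f * (el z i₁ i₂ p a ![v 0, v 1, v 2, 0, 0] * (s : G) ^ (v 3).val) *
      (el z i₁ i₂ p a f)⁻¹ = el z i₁ i₂ p a (emul (econj f ![v 0, v 1, v 2, 0, 0])
        (emul f ((fs 1 (-1))^[(v 3).val] (einv f)))) * (s : G) ^ (v 3).val := fun f v => by
    rw [← S.F.el_mul, ← S.F.el_mul, ← S.F.el_conj, ← S.spow_conj hs, ← S.F.el_inv]
    group
  obtain ⟨-, -, -, n3, n4⟩ := (Frame.el_units : el z i₁ i₂ p a ![1, 0, 0, 0, 0] = z ∧ _)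
  constructor <;> intro v
  · have h := key ![0, 0, 0, 1, 0] v
    rw [n3] at h
    have e : ∀ v : V, emul (econj ![0, 0, 0, 1, 0] ![v 0, v 1, v 2, 0, 0])
        (emul ![0, 0, 0, 1, 0] ((fs 1 (-1))^[(v 3).val] (einv ![0, 0, 0, 1, 0]))) =
        ![(fp v) 0, (fp v) 1, (fp v) 2, 0, 0] ∧ (fp v) 3 = v 3 := by decide +kernel
    rw [h, (e v).1, (e v).2]
  · have h := key ![0, 0, 0, 0, 1] v
    rw [n4] at h
    have e : ∀ v : V, emul (econj ![0, 0, 0, 0, 1] ![v 0, v 1, v 2, 0, 0])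
        (emul ![0, 0, 0, 0, 1] ((fs 1 (-1))^[(v 3).val] (einv ![0, 0, 0, 0, 1]))) =
        ![(fa v) 0, (fa v) 1, (fa v) 2, 0, 0] ∧ (fa v) 3 = v 3 := by decide +kernel
    rw [h, (e v).1, (e v).2]

/-- `z` is conjugate to its inverse in the normaliser of `J`. -/
theorem Std.exists_inv : ∃ n ∈ Subgroup.normalizer (Subgroup.closure {z, i₁, i₂, (s : G)} : Set G),
    n * z * n⁻¹ = z⁻¹ := by
  classical
  have hjJ : ∀ v : V, el z i₁ i₂ p a ![v 0, v 1, v 2, 0, 0] * (s : G) ^ (v 3).val ∈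
      Subgroup.closure {z, i₁, i₂, (s : G)} := fun v => (S.mem_J hs).2 ⟨v, rfl⟩
  suffices hneg : IsConj z z⁻¹ by
    obtain ⟨g, hg⟩ := isConj_iff.1 hneg
    obtain ⟨n, hn, he⟩ := S.burnside hs (g := g) (by rw [hg]; exact inv_mem (Subgroup.subset_closure (by simp)))
    exact ⟨n, hn, he.trans hg⟩
  by_contra hneg
  let je : V → G := fun v => el z i₁ i₂ p a ![v 0, v 1, v 2, 0, 0] * (s : G) ^ (v 3).val
  let Θ : Finset V := Finset.univ.filter fun v => IsConj z (je v)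
  have hΘ : ∀ v, v ∈ Θ ↔ IsConj z (je v) := fun v => by simp [Θ]
  obtain ⟨hap, haa⟩ := S.act_pa hs
  have hclosed : ∀ f : V → V, (∃ g, ∀ v, g * je v * g⁻¹ = je (f v)) → ∀ v ∈ Θ, f v ∈ Θ := by
    rintro f ⟨g, hg⟩ v hv
    rw [hΘ, ← hg]
    exact ((hΘ v).1 hv).trans (isConj_iff.2 ⟨g, rfl⟩)
  have hfp := hclosed fp ⟨p, hap⟩
  have hfa := hclosed fa ⟨a, haa⟩
  have hτ : ∀ v ∈ Θ, fp (fa v) ∈ Θ := fun v hv => hfp _ (hfa v hv)
  -- only the centre contributes to the sum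
  have hsum : ∑ v ∈ Θ, v = ![1, 0, 0, 0] := by
    rw [← Finset.sum_filter_add_sum_filter_not Θ (fun v => fp (fa v) = v)]
    have h1 : ∑ v ∈ Θ.filter (fun v => ¬ fp (fa v) = v), v = 0 := by
      refine sum_three _ (fun v => fp (fa v)) _ (fun v hv => ?_) (fun v _ => (tau_facts v).1)
        (fun v hv => (Finset.mem_filter.1 hv).2) (fun v _ => (tau_facts v).2.2.1)
      obtain ⟨hv1, hv2⟩ := Finset.mem_filter.1 hv
      refine Finset.mem_filter.2 ⟨hτ v hv1, fun h => hv2 ?_⟩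
      have h3 := (tau_facts v).1
      rwa [h, h] at h3
    rw [h1, add_zero, ← Finset.sum_filter_add_sum_filter_not _ (fun v => fp v = v)]
    have h2 : ∑ v ∈ (Θ.filter (fun v => fp (fa v) = v)).filter (fun v => ¬ fp v = v), v = 0 := by
      refine sum_three _ fp _ (fun v hv => ?_) (fun v _ => (tau_facts v).2.1)
        (fun v hv => (Finset.mem_filter.1 hv).2)
        (fun v hv => ((tau_facts v).2.2.2.1 (Finset.mem_filter.1 (Finset.mem_filter.1 hv).1).2).1)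
      obtain ⟨hv1, hv2⟩ := Finset.mem_filter.1 hv
      obtain ⟨hv3, hv4⟩ := Finset.mem_filter.1 hv1
      refine Finset.mem_filter.2 ⟨Finset.mem_filter.2 ⟨hfp v hv3, ((tau_facts v).2.2.2.1 hv4).2⟩, fun h => hv2 ?_⟩
      have h3 := (tau_facts v).2.1
      rwa [h, h] at h3
    rw [h2, add_zero]
    have h3 : (Θ.filter (fun v => fp (fa v) = v)).filter (fun v => fp v = v) = {![1, 0, 0, 0]} := by
      ext v
      simp only [Finset.mem_filter, Finset.mem_singleton, hΘ]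
      constructor
      · rintro ⟨⟨hc, h4⟩, h5⟩
        obtain ⟨a1, a2, a3⟩ := (tau_facts v).2.2.2.2 h4 h5
        have hv : v = ![v 0, 0, 0, 0] := by funext i; fin_cases i <;> simp [a1, a2, a3]
        rw [hv]
        rcases (show ∀ x : ZMod 3, x = 0 ∨ x = 1 ∨ x = -1 by decide) (v 0) with h | h | h
        · exfalso
          rw [hv, h] at hc
          obtain ⟨g, hg⟩ := isConj_iff.1 hc
          have hj : je ![0, 0, 0, 0] = 1 := by simp [je, el]
          rw [hj, mul_inv_eq_one, mul_eq_left] at hg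
          exact L.z_ne hg
        · rw [h]
        · exfalso
          rw [hv, h] at hc
          have hj : je ![-1, 0, 0, 0] = z⁻¹ := by
            show el z i₁ i₂ p a ![-1, 0, 0, 0, 0] * (s : G) ^ (0 : ZMod 3).val = z⁻¹
            rw [Frame.el_z, pow_val_neg S.F.cz, ZMod.val_one, pow_one, ZMod.val_zero, pow_zero, mul_one]
          exact hneg (hj ▸ hc)
      · rintro rfl
        refine ⟨⟨?_, by decide⟩, by decide⟩
        simp [je, el, ZMod.val_one]
        exact ⟨1, by simp⟩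
    rw [h3, Finset.sum_singleton]
  -- an element of the normaliser moving `z`
  obtain ⟨α, β, hα, -, hconj⟩ := S.seed hs
  obtain ⟨g, hg⟩ := isConj_iff.1 (hconj 0)
  obtain ⟨n, hn, hne⟩ := S.burnside hs (g := g) (by
    rw [hg]; exact (S.mem_J hs).2 ⟨![0, α, β, 0], by simp⟩)
  choose f hf using fun v => (S.mem_J hs).1 ((Subgroup.mem_normalizer_iff.1 hn _).1 (hjJ v))
  have hadd : ∀ v w, f (v + w) = f v + f w := fun v w => S.je_inj hs (by
    rw [← hf, ← S.je_add hs (f v) (f w), ← hf, ← hf, ← S.je_add hs v w]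
    group)
  have hinj : Function.Injective f := fun v w h => S.je_inj hs (by
    have h' := (hf v).trans ((congrArg je h).trans (hf w).symm)
    exact mul_left_cancel (mul_right_cancel h'))
  have himg : Θ.image f = Θ := by
    refine Finset.eq_of_subset_of_card_le (fun v hv => ?_)
      (le_of_eq (Finset.card_image_of_injective _ hinj).symm)
    obtain ⟨w, hw, rfl⟩ := Finset.mem_image.1 hv
    exact hclosed f ⟨n, hf⟩ w hw
  have hmap : f (∑ v ∈ Θ, v) = ∑ v ∈ Θ, f v := map_sum (AddMonoidHom.mk' f hadd) _ _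
  have hfix : ∑ v ∈ Θ, f v = ∑ v ∈ Θ, v := by
    conv_rhs => rw [← himg]
    rw [Finset.sum_image fun a _ b _ h => hinj h]
  rw [hfix, hsum] at hmap
  have he : n * je ![1, 0, 0, 0] * n⁻¹ = je ![1, 0, 0, 0] := (hf _).trans (congrArg je hmap)
  have hje : je ![1, 0, 0, 0] = z := by simp [je, el, ZMod.val_one]
  rw [hje, hne, hg] at he
  have := congrFun (S.F.el_injective
    (he.trans (Frame.el_units : el z i₁ i₂ p a ![1, 0, 0, 0, 0] = z ∧ _).1.symm)) 1
  simp at this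
  exact hα this

end Pre

end CfsgLib.OEightLocal
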