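import Cfsg.Agent.Lib.OEightLocal.Key
import Cfsg.Agent.Lib.OEightLocal.Coords
import Cfsg.Agent.Lib.Coprime.Generation

/-!
The abelian subgroup of order 81, fusion of `z` in it and in the radical, and signalizers.
-/

set_option autoImplicit false
set_option linter.unusedSectionVars false
set_option linter.style.haveILetI false

namespace CfsgLib.OEightLocal

open CfsgLib.LFourThree (S2 pE sE closure_ps)

theorem s2_cosets : ∀ g : S2, g ^ 8 = 1 ∨ (g * pE) ^ 8 = 1 ∨ (g * (pE * pE)) ^ 8 = 1 := by decide +kernel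

theorem s2_pow_inj : ∀ k j : Fin 3, pE ^ k.val = pE ^ j.val ∨ (pE * pE) ^ k.val = (pE * pE) ^ j.val → k = j := by
  decide +kernel

namespace Pre

theorem fs_iter_mid : ∀ k : Fin 3, ∀ e0 e1 e2 e3 e4 : ZMod 3,
    (fs 1 (-1))^[k.val] ![e0, e1, e2, e3, e4] 1 = e1 + (k.val : ZMod 3) * e3 ∧
    (fs 1 (-1))^[k.val] ![e0, e1, e2, e3, e4] 2 = e2 + (k.val : ZMod 3) * e4 ∧
    (fs 1 (-1))^[k.val] ![e0, e1, e2, e3, e4] 3 = e3 ∧ (fs 1 (-1))^[k.val] ![e0, e1, e2, e3, e4] 4 = e4 := by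
  decide +kernel

theorem sum_three {α M : Type*} [DecidableEq α] [AddCommGroup M] (f : α → M) (τ : α → α) (T : Finset α)
    (hT : ∀ x ∈ T, τ x ∈ T) (h3 : ∀ x ∈ T, τ (τ (τ x)) = x) (hne : ∀ x ∈ T, τ x ≠ x)
    (hs : ∀ x ∈ T, f x + f (τ x) + f (τ (τ x)) = 0) : ∑ x ∈ T, f x = 0 := by
  induction T using Finset.strongInduction with
  | H T ih =>
    rcases T.eq_empty_or_nonempty with rfl | ⟨x, hx⟩
    · simp
    let o : Finset α := {x, τ x, τ (τ x)}
    have ho : o ⊆ T := by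
      intro y hy
      simp only [o, Finset.mem_insert, Finset.mem_singleton] at hy
      rcases hy with rfl | rfl | rfl
      exacts [hx, hT _ hx, hT _ (hT _ hx)]
    have h1 : τ x ≠ x := hne x hx
    have h2 : τ (τ x) ≠ x := fun h => h1 (by
      have := h3 x hx
      rw [h] at this
      exact this)
    have hsum : ∑ y ∈ o, f y = 0 := by
      rw [Finset.sum_insert (by simp [h1.symm, h2.symm]),
        Finset.sum_insert (by simp [(hne _ (hT _ hx)).symm]), Finset.sum_singleton, ← add_assoc]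
      exact hs x hx
    rw [← Finset.sum_sdiff ho, hsum, add_zero]
    refine ih _ (Finset.sdiff_ssubset ho ⟨x, by simp [o]⟩) (fun y hy => ?_)
      (fun y hy => h3 y (Finset.mem_sdiff.1 hy).1) (fun y hy => hne y (Finset.mem_sdiff.1 hy).1)
      (fun y hy => hs y (Finset.mem_sdiff.1 hy).1)
    obtain ⟨hyT, hyo⟩ := Finset.mem_sdiff.1 hy
    refine Finset.mem_sdiff.2 ⟨hT y hyT, fun h => hyo ?_⟩
    simp only [o, Finset.mem_insert, Finset.mem_singleton] at h ⊢
    rcases h with h | h | h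
    · exact Or.inr (Or.inr (by rw [← h3 y hyT, h]))
    · exact Or.inl (by
        have := congrArg (fun w => τ (τ w)) h
        rwa [h3 y hyT, h3 x hx] at this)
    · exact Or.inr (Or.inl (by
        have := congrArg (fun w => τ (τ w)) h
        rwa [h3 y hyT, h3 (τ x) (hT _ hx)] at this))

variable {G : Type*} [Group G] [Finite G] {z : G} {Q : Subgroup G} {m : ℕ}
  {π : Subgroup.centralizer ({z} : Set G) →* S2} {ε : Subgroup.centralizer ({z} : Set G) →* ℤˣ}
  {L : Pre z Q m π ε} {t : Subgroup.centralizer ({z} : Set G)}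
  {O : Subgroup (Subgroup.centralizer ({z} : Set G))} {H : Quat π ε t O}
  {u s : Subgroup.centralizer ({z} : Set G)} {i₁ i₂ p a : G}
  (S : Std L H u s i₁ i₂ p a 1 (-1)) (hs : (s : G) ^ 3 = 1)
include S hs

theorem Std.spow_conj (k : ℕ) (e : E) :
    (s : G) ^ k * el z i₁ i₂ p a e * ((s : G) ^ k)⁻¹ = el z i₁ i₂ p a ((fs 1 (-1))^[k] e) := by
  induction k with
  | zero => simp
  | succ k ih =>
    rw [Function.iterate_succ_apply', ← S.conj_s, ← ih, pow_succ']
    group

theorem Std.pi_pow_inj {k j : ZMod 3} (h : π s ^ k.val = π s ^ j.val) : k = j := by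
  have hk : k.val < 3 := ZMod.val_lt k
  have hj : j.val < 3 := ZMod.val_lt j
  have h' := s2_pow_inj ⟨k.val, hk⟩ ⟨j.val, hj⟩ (by rcases S.s_pi with e | e <;> rw [e] at h <;> simp [h])
  exact ZMod.val_injective 3 (congrArg Fin.val h')

/-- The element of the Sylow subgroup. -/
theorem Std.sy_inj {e f : E} {k j : ZMod 3}
    (h : el z i₁ i₂ p a e * (s : G) ^ k.val = el z i₁ i₂ p a f * (s : G) ^ j.val) : e = f ∧ k = j := by
  have h' : (⟨el z i₁ i₂ p a e, L.le (S.mem e)⟩ : Subgroup.centralizer ({z} : Set G)) * s ^ k.val =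
      ⟨el z i₁ i₂ p a f, L.le (S.mem f)⟩ * s ^ j.val := Subtype.ext (by simpa using h)
  have hk : k = j := by
    refine S.pi_pow_inj hs ?_
    have h'' := congrArg π h'
    rwa [map_mul, map_mul, map_pow, map_pow, ((L.ker ⟨_, L.le (S.mem e)⟩).2 (S.mem e)).1,
      ((L.ker ⟨_, L.le (S.mem f)⟩).2 (S.mem f)).1, one_mul, one_mul] at h''
  subst hk
  exact ⟨S.F.el_injective (mul_right_cancel h), rfl⟩

theorem Std.sy_mul (e f : E) (k j : ZMod 3) :
    el z i₁ i₂ p a e * (s : G) ^ k.val * (el z i₁ i₂ p a f * (s : G) ^ j.val) =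
      el z i₁ i₂ p a (emul e ((fs 1 (-1))^[k.val] f)) * (s : G) ^ (k + j).val := by
  rw [← S.F.el_mul, ← S.spow_conj hs, pow_val_add' hs]
  group

/-- The Sylow subgroup. -/
theorem Std.mem_sy {g : G} : g ∈ Subgroup.closure {z, i₁, i₂, (s : G), p, a} ↔
    ∃ e, ∃ k : ZMod 3, g = el z i₁ i₂ p a e * (s : G) ^ k.val := by
  constructor
  · intro h
    obtain ⟨u0, u1, u2, u3, u4⟩ := (Frame.el_units : el z i₁ i₂ p a ![1, 0, 0, 0, 0] = z ∧ _)
    induction h using Subgroup.closure_induction with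
    | mem x hx =>
      simp only [Set.mem_insert_iff, Set.mem_singleton_iff] at hx
      rcases hx with rfl | rfl | rfl | rfl | rfl | rfl
      · exact ⟨_, 0, by rw [ZMod.val_zero, pow_zero, mul_one, u0]⟩
      · exact ⟨_, 0, by rw [ZMod.val_zero, pow_zero, mul_one, u1]⟩
      · exact ⟨_, 0, by rw [ZMod.val_zero, pow_zero, mul_one, u2]⟩
      · exact ⟨0, 1, by rw [Frame.el_zero, one_mul, ZMod.val_one, pow_one]⟩
      · exact ⟨_, 0, by rw [ZMod.val_zero, pow_zero, mul_one, u3]⟩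
      · exact ⟨_, 0, by rw [ZMod.val_zero, pow_zero, mul_one, u4]⟩
    | one => exact ⟨0, 0, by simp [Frame.el_zero]⟩
    | mul x y _ _ hx hy =>
      obtain ⟨e, k, rfl⟩ := hx; obtain ⟨f, j, rfl⟩ := hy
      exact ⟨_, _, S.sy_mul hs e f k j⟩
    | inv x _ hx =>
      obtain ⟨e, k, rfl⟩ := hx
      refine ⟨(fs 1 (-1))^[(-k).val] (einv e), -k, ?_⟩
      refine inv_eq_of_mul_eq_one_left ?_
      rw [S.sy_mul hs, neg_add_cancel, ZMod.val_zero, pow_zero, mul_one, ← S.F.el_mul,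
        ← S.spow_conj hs, ← S.spow_conj hs, ← S.F.el_inv]
      group
  · rintro ⟨e, k, rfl⟩
    refine mul_mem (mul_mem (mul_mem (mul_mem (mul_mem (pow_mem ?_ _) (pow_mem ?_ _)) (pow_mem ?_ _))
      (pow_mem ?_ _)) (pow_mem ?_ _)) (pow_mem ?_ _) <;> exact Subgroup.subset_closure (by simp)

theorem Std.card_sy : Nat.card (Subgroup.closure {z, i₁, i₂, (s : G), p, a} : Subgroup G) = 729 := by
  have hb : Function.Bijective fun x : E × ZMod 3 =>
      (⟨el z i₁ i₂ p a x.1 * (s : G) ^ x.2.val, (S.mem_sy hs).2 ⟨_, _, rfl⟩⟩ :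
        (Subgroup.closure {z, i₁, i₂, (s : G), p, a} : Subgroup G)) := by
    refine ⟨fun x y h => ?_, fun g => ?_⟩
    · obtain ⟨h1, h2⟩ := S.sy_inj hs (congrArg Subtype.val h)
      exact Prod.ext h1 h2
    · obtain ⟨e, k, h⟩ := (S.mem_sy hs).1 g.2
      exact ⟨(e, k), Subtype.ext h.symm⟩
  rw [← Nat.card_congr (Equiv.ofBijective _ hb)]
  simp

theorem Std.closure_Q : Subgroup.closure {z, i₁, i₂, p, a} = Q := by
  refine le_antisymm ((Subgroup.closure_le _).2 ?_) fun q hq => ?_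
  · rintro x (rfl | rfl | rfl | rfl | rfl)
    exacts [L.zmem, S.v1.1, S.q2, S.vp.1, S.qa]
  · obtain ⟨e, rfl⟩ := S.surj hq
    refine mul_mem (mul_mem (mul_mem (mul_mem (pow_mem ?_ _) (pow_mem ?_ _)) (pow_mem ?_ _)) (pow_mem ?_ _))
      (pow_mem ?_ _) <;> exact Subgroup.subset_closure (by simp)

theorem Std.sylow : ∃ P : Sylow 3 G, (P : Subgroup G) = Subgroup.closure {z, i₁, i₂, (s : G), p, a} := by
  haveI : Fact (Nat.Prime 3) := ⟨Nat.prime_three⟩
  set Sy := Subgroup.closure ({z, i₁, i₂, (s : G), p, a} : Set G)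
  have hp : IsPGroup 3 Sy := IsPGroup.of_card (n := 6) (by rw [S.card_sy hs]; norm_num)
  obtain ⟨P, hP⟩ := hp.exists_le_sylow
  obtain ⟨S0, hS0⟩ := L.sylow
  refine ⟨P, (Subgroup.eq_of_le_of_card_ge hP ?_).symm⟩
  rw [S.card_sy hs, Sylow.card_eq_multiplicity, ← Sylow.card_eq_multiplicity S0]
  obtain ⟨n, hn⟩ := IsPGroup.iff_card.1 S0.2
  have h := Subgroup.card_dvd_of_le hS0
  rw [hn, L.card_cent] at h
  rw [hn]
  have h2 : 3 ^ n ∣ 729 := by
    refine (Nat.Coprime.pow_left n ?_).dvd_of_dvd_mul_right (show 3 ^ n ∣ 729 * (8 * m) by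
      rw [show 729 * (8 * m) = 5832 * m by ring]; exact h)
    rcases L.hm with hm | hm <;> rw [hm] <;> norm_num
  exact Nat.le_of_dvd (by norm_num) h2

theorem Std.pi_mem {g : Subgroup.centralizer ({z} : Set G)} (hε : ε g = 1) {k : ℕ} (h : π g = π s ^ k) :
    (g : G) ∈ Subgroup.closure {z, i₁, i₂, (s : G), p, a} := by
  obtain ⟨q, hq, hd⟩ := L.eq_of_images H (c := s ^ k) (d := g) (by rw [map_pow, h])
    (by rw [map_pow, S.s_eps, one_pow, hε])
  rw [hd]
  refine mul_mem ?_ ?_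
  · rw [SubmonoidClass.coe_pow]; exact pow_mem (Subgroup.subset_closure (by simp)) k
  · rw [← S.closure_Q hs] at hq
    exact Subgroup.closure_mono (by intro x hx; simp at hx ⊢; tauto) hq

/-- A coordinate on `J`. -/
theorem Std.je_add (v w : V) :
    el z i₁ i₂ p a ![v 0, v 1, v 2, 0, 0] * (s : G) ^ (v 3).val *
      (el z i₁ i₂ p a ![w 0, w 1, w 2, 0, 0] * (s : G) ^ (w 3).val) =
    el z i₁ i₂ p a ![(v + w) 0, (v + w) 1, (v + w) 2, 0, 0] * (s : G) ^ ((v + w) 3).val := by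
  rw [S.sy_mul hs, Pi.add_apply v w 3]
  congr 2
  have hfix : ∀ x y r : ZMod 3, fs 1 (-1) ![x, y, r, 0, 0] = ![x, y, r, 0, 0] := fun x y r => by
    apply ext5 <;> simp [fs]
  rw [Function.iterate_fixed (hfix _ _ _)]
  apply ext5 <;> simp [emul]

theorem Std.mem_J {g : G} : g ∈ Subgroup.closure {z, i₁, i₂, (s : G)} ↔
    ∃ v : V, g = el z i₁ i₂ p a ![v 0, v 1, v 2, 0, 0] * (s : G) ^ (v 3).val := by
  constructor
  · intro h
    induction h using Subgroup.closure_induction with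
    | mem x hx =>
      simp only [Set.mem_insert_iff, Set.mem_singleton_iff] at hx
      rcases hx with rfl | rfl | rfl | rfl
      · exact ⟨![1, 0, 0, 0], by simp [el, ZMod.val_one]⟩
      · exact ⟨![0, 1, 0, 0], by simp [el, ZMod.val_one]⟩
      · exact ⟨![0, 0, 1, 0], by simp [el, ZMod.val_one]⟩
      · exact ⟨![0, 0, 0, 1], by simp [el, ZMod.val_one]⟩
    | one => exact ⟨0, by simp [el]⟩
    | mul x y _ _ hx hy =>
      obtain ⟨v, rfl⟩ := hx; obtain ⟨w, rfl⟩ := hy
      exact ⟨v + w, S.je_add hs v w⟩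
    | inv x _ hx =>
      obtain ⟨v, rfl⟩ := hx
      exact ⟨-v, inv_eq_of_mul_eq_one_left (by rw [S.je_add hs, neg_add_cancel]; simp [el])⟩
  · rintro ⟨v, rfl⟩
    simp only [el]
    simp
    refine mul_mem (mul_mem (mul_mem (pow_mem ?_ _) (pow_mem ?_ _)) (pow_mem ?_ _)) (pow_mem ?_ _) <;>
      exact Subgroup.subset_closure (by simp)

theorem Std.je_inj {v w : V}
    (h : el z i₁ i₂ p a ![v 0, v 1, v 2, 0, 0] * (s : G) ^ (v 3).val =
      el z i₁ i₂ p a ![w 0, w 1, w 2, 0, 0] * (s : G) ^ (w 3).val) : v = w := by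
  obtain ⟨he, h3⟩ := S.sy_inj hs h
  funext i
  fin_cases i
  · simpa using congrFun he 0
  · simpa using congrFun he 1
  · simpa using congrFun he 2
  · exact h3

theorem Std.card_J : Nat.card (Subgroup.closure {z, i₁, i₂, (s : G)} : Subgroup G) = 81 := by
  have hb : Function.Bijective fun v : V =>
      (⟨el z i₁ i₂ p a ![v 0, v 1, v 2, 0, 0] * (s : G) ^ (v 3).val, (S.mem_J hs).2 ⟨_, rfl⟩⟩ :
        (Subgroup.closure {z, i₁, i₂, (s : G)} : Subgroup G)) := by
    refine ⟨fun x y h => S.je_inj hs (congrArg Subtype.val h), fun g => ?_⟩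
    obtain ⟨v, h⟩ := (S.mem_J hs).1 g.2
    exact ⟨v, Subtype.ext h.symm⟩
  rw [← Nat.card_congr (Equiv.ofBijective _ hb)]
  simp

theorem Std.J_comm : IsMulCommutative (Subgroup.closure {z, i₁, i₂, (s : G)} : Subgroup G) := by
  refine ⟨⟨fun x y => Subtype.ext ?_⟩⟩
  obtain ⟨v, hv⟩ := (S.mem_J hs).1 x.2
  obtain ⟨w, hw⟩ := (S.mem_J hs).1 y.2
  show (x : G) * y = y * x
  rw [hv, hw, S.je_add hs, S.je_add hs, add_comm]

theorem Std.J_cube {g : G} (hg : g ∈ Subgroup.closure {z, i₁, i₂, (s : G)}) : g ^ 3 = 1 := by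
  obtain ⟨v, rfl⟩ := (S.mem_J hs).1 hg
  rw [pow_succ, pow_two, S.je_add hs, S.je_add hs,
    show v + v + v = 0 from funext fun i => (by decide : ∀ x : ZMod 3, x + x + x = 0) (v i)]
  simp [el]

/-- `J` is the only abelian subgroup of its order in the Sylow subgroup. -/
theorem Std.abelian_eq {A : Subgroup G} (hA : A ≤ Subgroup.closure {z, i₁, i₂, (s : G), p, a})
    (hc : IsMulCommutative A) (h81 : Nat.card A = 81) : A = Subgroup.closure {z, i₁, i₂, (s : G)} := by
  haveI := hc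
  have hcA : ∀ x ∈ A, ∀ y ∈ A, Commute x y := fun x hx y hy =>
    congrArg Subtype.val (mul_comm' (⟨x, hx⟩ : A) ⟨y, hy⟩)
  obtain ⟨u0, u1, u2, u3, u4⟩ := (Frame.el_units : el z i₁ i₂ p a ![1, 0, 0, 0, 0] = z ∧ _)
  set R := Subgroup.closure ({z, i₁, i₂} : Set G) with hR
  have hRQ : R ≤ Q := (Subgroup.closure_le _).2 (by
    rintro x (rfl | rfl | rfl)
    exacts [L.zmem, S.v1.1, S.q2])
  have hRmem : ∀ g, g ∈ R ↔ ∃ x y r, g = el z i₁ i₂ p a ![x, y, r, 0, 0] := by
    intro g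
    constructor
    · intro h
      induction h using Subgroup.closure_induction with
      | mem x hx =>
        simp only [Set.mem_insert_iff, Set.mem_singleton_iff] at hx
        rcases hx with rfl | rfl | rfl
        exacts [⟨_, _, _, u0.symm⟩, ⟨_, _, _, u1.symm⟩, ⟨_, _, _, u2.symm⟩]
      | one => exact ⟨0, 0, 0, by simp [el]⟩
      | mul g h _ _ hx hy =>
        obtain ⟨x, y, r, rfl⟩ := hx; obtain ⟨x', y', r', rfl⟩ := hy
        exact ⟨x + x', y + y', r + r', by
          rw [S.F.el_mul]; exact congrArg _ (by apply ext5 <;> simp [emul])⟩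
      | inv g _ hx =>
        obtain ⟨x, y, r, rfl⟩ := hx
        exact ⟨-x, -y, -r, by rw [S.F.el_inv]; exact congrArg _ (by apply ext5 <;> simp [einv])⟩
    · rintro ⟨x, y, r, rfl⟩
      simp only [el]
      simp
      refine mul_mem (mul_mem (pow_mem ?_ _) (pow_mem ?_ _)) (pow_mem ?_ _) <;>
        exact Subgroup.subset_closure (by simp)
  have hRcard : Nat.card R = 27 := by
    have hb : Function.Bijective fun v : ZMod 3 × ZMod 3 × ZMod 3 =>
        (⟨el z i₁ i₂ p a ![v.1, v.2.1, v.2.2, 0, 0], (hRmem _).2 ⟨_, _, _, rfl⟩⟩ : R) := by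
      refine ⟨fun x y h => ?_, fun g => ?_⟩
      · have h' := S.F.el_injective (congrArg Subtype.val h)
        have a0 := congrFun h' 0
        have a1 := congrFun h' 1
        have a2 := congrFun h' 2
        simp at a0 a1 a2
        exact Prod.ext a0 (Prod.ext a1 a2)
      · obtain ⟨x, y, r, h⟩ := (hRmem _).1 g.2
        exact ⟨(x, y, r), Subtype.ext h.symm⟩
    rw [← Nat.card_congr (Equiv.ofBijective _ hb)]
    simp
  have hinf : ∀ K B : Subgroup G, Nat.card (K ⊓ B : Subgroup G) * K.relIndex B = Nat.card B := fun K B => by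
    have h := Subgroup.relIndex_mul_relIndex (⊥ : Subgroup G) (K ⊓ B) B bot_le inf_le_right
    rwa [Subgroup.relIndex_bot_left, Subgroup.relIndex_bot_left, Subgroup.inf_relIndex_right] at h
  have hne : ∀ K B : Subgroup G, K.relIndex B ≠ 0 := fun K B h => by
    have h' := hinf K B
    rw [h, mul_zero] at h'
    exact Nat.card_pos.ne' h'.symm
  by_cases hAQ : A ≤ Q
  · -- no abelian subgroup of order 81 in the radical
    exfalso
    have h9 : R.relIndex Q = 9 := by
      have h := hinf R Q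
      rw [inf_eq_left.2 hRQ, hRcard, L.card] at h
      omega
    have hle := Subgroup.relIndex_le_of_le_right (H := R) hAQ (hne R Q)
    rw [h9] at hle
    have hd := hinf R A
    rw [h81] at hd
    obtain ⟨f, hf, hfz⟩ : ∃ f ∈ R ⊓ A, f ∉ Subgroup.zpowers z := by
      by_contra hno
      push Not at hno
      have := Subgroup.card_le_of_le (show R ⊓ A ≤ Subgroup.zpowers z from hno)
      rw [L.card_zpowers] at this
      nlinarith [hne R A]
    have hfA : f ∈ A := (Subgroup.mem_inf.1 hf).2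
    have hfQ : f ∈ Q := hAQ hfA
    set M := Q ⊓ Subgroup.centralizer ({f} : Set G) with hM
    have hAM : A ≤ M := fun x hx => ⟨hAQ hx, Subgroup.mem_centralizer_singleton_iff.2 (hcA x hx f hfA)⟩
    have hMne : M ≠ Q := fun e => hfz (L.center f hfQ fun b hb =>
      (Subgroup.mem_centralizer_singleton_iff.1 (Subgroup.mem_inf.1 (e.symm ▸ hb : b ∈ M)).2).symm)
    have hMd := Subgroup.card_dvd_of_le (inf_le_left : M ≤ Q)
    rw [L.card] at hMd
    have hM81 : Nat.card M ≤ 81 := by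
      obtain ⟨k, hk5, hk⟩ := (Nat.dvd_prime_pow Nat.prime_three).1 (show _ ∣ 3 ^ 5 from hMd)
      rw [hk]
      rcases Nat.lt_or_ge k 5 with h | h
      · calc 3 ^ k ≤ 3 ^ 4 := Nat.pow_le_pow_right (by norm_num) (by omega)
          _ = 81 := by norm_num
      · exact absurd (Subgroup.eq_of_le_of_card_ge inf_le_left
          (by rw [hk, L.card, show k = 5 by omega]; norm_num)) hMne
    have hAeq : A = M := Subgroup.eq_of_le_of_card_ge hAM (by rw [h81]; exact hM81)
    obtain ⟨x, y, r, hfe⟩ := (hRmem f).1 (Subgroup.mem_inf.1 hf).1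
    have hR : R ≤ A := fun g hg => by
      rw [hAeq]
      refine ⟨hRQ hg, Subgroup.mem_centralizer_singleton_iff.2 ?_⟩
      obtain ⟨x', y', r', rfl⟩ := (hRmem g).1 hg
      rw [hfe]
      exact S.F.el_commute.2 (by simp [pair])
    have hAR : A ≤ R := by
      intro g hg
      obtain ⟨e, rfl⟩ := S.surj (hAQ hg)
      have h1 := S.F.el_commute.1 (hcA _ hg _ (hR ((hRmem _).2 ⟨_, _, _, rfl⟩ :
        el z i₁ i₂ p a ![0, 1, 0, 0, 0] ∈ R)))
      have h2 := S.F.el_commute.1 (hcA _ hg _ (hR ((hRmem _).2 ⟨_, _, _, rfl⟩ :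
        el z i₁ i₂ p a ![0, 0, 1, 0, 0] ∈ R)))
      simp [pair] at h1 h2
      exact (hRmem _).2 ⟨e 0, e 1, e 2, congrArg _ (by apply ext5 <;> simp [h1, h2])⟩
    have := Subgroup.card_le_of_le hAR
    rw [h81, hRcard] at this
    omega
  · obtain ⟨g, hgA, hgQ⟩ := SetLike.not_le_iff_exists.1 hAQ
    obtain ⟨q, k, rfl⟩ := (S.mem_sy hs).1 (hA hgA)
    have hk0 : k ≠ 0 := by
      rintro rfl
      simp at hgQ
      exact hgQ (S.mem q)
    have hmid : ∀ e : E, Commute (el z i₁ i₂ p a q * (s : G) ^ k.val) (el z i₁ i₂ p a e) → e 3 = 0 ∧ e 4 = 0 := by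
      intro e hc
      have h := mul_inv_eq_iff_eq_mul.2 hc.eq
      rw [show el z i₁ i₂ p a q * (s : G) ^ k.val * el z i₁ i₂ p a e * (el z i₁ i₂ p a q * (s : G) ^ k.val)⁻¹ =
        el z i₁ i₂ p a q * ((s : G) ^ k.val * el z i₁ i₂ p a e * ((s : G) ^ k.val)⁻¹) *
          (el z i₁ i₂ p a q)⁻¹ by group, S.spow_conj hs, S.F.el_conj, S.F.el_injective.eq_iff] at h
      obtain ⟨m1, m2, -, -⟩ := fs_iter_mid ⟨k.val, ZMod.val_lt k⟩ (e 0) (e 1) (e 2) (e 3) (e 4)
      rw [show (![e 0, e 1, e 2, e 3, e 4] : E) = e by apply ext5 <;> simp] at m1 m2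
      have a1 := congrFun h 1
      have a2 := congrFun h 2
      simp only [econj] at a1 a2
      simp only [ZMod.natCast_zmod_val] at m1 m2
      have b1 : e 1 + k * e 3 = e 1 := m1.symm.trans (by simpa using a1)
      have b2 : e 2 + k * e 4 = e 2 := m2.symm.trans (by simpa using a2)
      rw [add_eq_left, mul_eq_zero] at b1 b2
      exact ⟨b1.resolve_left hk0, b2.resolve_left hk0⟩
    have hQR : Q ⊓ A ≤ R := by
      rintro x ⟨hxQ, hxA⟩
      obtain ⟨e, rfl⟩ := S.surj hxQ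
      obtain ⟨h3, h4⟩ := hmid e (hcA _ hgA _ hxA)
      exact (hRmem _).2 ⟨e 0, e 1, e 2, congrArg _ (by apply ext5 <;> simp [h3, h4])⟩
    have h3' : Q.relIndex (Subgroup.closure {z, i₁, i₂, (s : G), p, a}) = 3 := by
      have h := hinf Q (Subgroup.closure {z, i₁, i₂, (s : G), p, a})
      rw [inf_eq_left.2 (show Q ≤ Subgroup.closure {z, i₁, i₂, (s : G), p, a} by
        conv_lhs => rw [← S.closure_Q hs]
        exact Subgroup.closure_mono (by intro x hx; simp at hx ⊢; tauto)), L.card, S.card_sy hs] at h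
      omega
    have hle := Subgroup.relIndex_le_of_le_right (H := Q) hA (hne Q _)
    rw [h3'] at hle
    have hd := hinf Q A
    rw [h81] at hd
    have hRA : R ≤ A := by
      have : Q ⊓ A = R := Subgroup.eq_of_le_of_card_ge hQR (by
        rw [hRcard]
        nlinarith [hne Q A])
      exact this ▸ inf_le_right
    refine Subgroup.eq_of_le_of_card_ge (fun x hx => ?_) (by rw [h81, S.card_J hs])
    obtain ⟨e, j, rfl⟩ := (S.mem_sy hs).1 (hA hx)
    have key : ∀ i : E, i 3 = 0 → i 4 = 0 → el z i₁ i₂ p a i ∈ R → pair e i = 0 := by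
      intro i hi3 hi4 hi
      have hc := hcA _ hx _ (hRA hi)
      refine S.F.el_commute.1 ?_
      have hfix : Commute ((s : G) ^ j.val) (el z i₁ i₂ p a i) := by
        refine mul_inv_eq_iff_eq_mul.1 ((S.spow_conj hs j.val i).trans (congrArg _ ?_))
        exact Function.iterate_fixed (by apply ext5 <;> simp [fs, hi3, hi4]) _
      have h' := hc.mul_left hfix.inv_left
      rwa [mul_inv_cancel_right] at h'
    have h1 := key ![0, 1, 0, 0, 0] (by simp) (by simp) ((hRmem _).2 ⟨_, _, _, rfl⟩)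
    have h2 := key ![0, 0, 1, 0, 0] (by simp) (by simp) ((hRmem _).2 ⟨_, _, _, rfl⟩)
    simp [pair] at h1 h2
    refine (S.mem_J hs).2 ⟨![e 0, e 1, e 2, j], ?_⟩
    have he : e = ![e 0, e 1, e 2, 0, 0] := by apply ext5 <;> simp [h1, h2]
    nth_rewrite 1 [he]
    simp

end Pre

end CfsgLib.OEightLocal
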