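import Cfsg.Agent.Lib.OEightLocal.Invol

/-!
The fixed half of the radical has order 27 and is centralised by the quaternion group.
-/

set_option autoImplicit false
set_option linter.unusedSectionVars false
set_option linter.style.haveILetI false

namespace CfsgLib.OEightLocal

open CfsgLib.LFourThree (S2 pE sE closure_ps)

namespace Pre

variable {G : Type*} [Group G] [Finite G] {z : G} {Q : Subgroup G} {m : ℕ}
  {π : Subgroup.centralizer ({z} : Set G) →* S2} {ε : Subgroup.centralizer ({z} : Set G) →* ℤˣ}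
  (L : Pre z Q m π ε) {t : Subgroup.centralizer ({z} : Set G)} (ht : π t = -1) (ht' : ε t = 1)
  (ht2 : t * t = 1)
include L ht ht' ht2

theorem t_coe_sq : (t : G) * (t : G) = 1 := congrArg Subtype.val ht2

theorem t_notMem : (t : G) ∉ Q := fun h => s2_facts.1 (ht.symm.trans ((L.ker t).2 h).1)

theorem t_not_central : ∃ q ∈ Q, (t : G) * q ≠ q * (t : G) := by
  by_contra h
  push Not at h
  exact L.t_notMem ht ht' ht2 (L.cent (Subgroup.mem_centralizer_iff.2 fun q hq => (h q hq).symm))

theorem t_coprime : ¬ 3 ∣ orderOf t := by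
  rw [orderOf_eq_prime (p := 2) (by rw [pow_two]; exact ht2) fun h => by
    rw [h, map_one] at ht; exact s2_facts.1 ht.symm]
  norm_num

/-- In the non-trivial chief factor only the lower part has fixed cosets. -/
theorem mem_low {A B : Subgroup G} (hzA : Subgroup.zpowers z ≤ A) (hAB : A < B) (hBQ : B ≤ Q)
    (hinv : ∀ k : Subgroup.centralizer ({z} : Set G), ε k = 1 →
      (∀ a ∈ A, (k : G) * a * (k : G)⁻¹ ∈ A) ∧ (∀ b ∈ B, (k : G) * b * (k : G)⁻¹ ∈ B))
    (hirr : ∀ B' : Subgroup G, A < B' → B' < B → ∃ k : Subgroup.centralizer ({z} : Set G),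
      ε k = 1 ∧ ∃ b ∈ B', (k : G) * b * (k : G)⁻¹ ∉ B')
    (hfix : ∀ k : Subgroup.centralizer ({z} : Set G), ε k = 1 → ¬ 3 ∣ orderOf k →
      (∀ a ∈ A, (k : G) * a = a * (k : G)) ∧
      ∀ q ∈ Q, ∃ b ∈ B, ∃ f ∈ Q, (k : G) * f = f * (k : G) ∧ q = b * f)
    {b : G} (hb : b ∈ B) (hc : (t : G) * b * (t : G)⁻¹ * b⁻¹ ∈ A) : b ∈ A := by
  have hQA : ∀ q ∈ Q, ∀ a ∈ A, q * a * q⁻¹ ∈ A := fun q hq a ha =>
    (hinv ⟨q, L.le hq⟩ ((L.ker ⟨q, L.le hq⟩).2 hq).2).1 a ha
  obtain ⟨hAfix, hQfix⟩ := hfix t ht' (L.t_coprime ht ht' ht2)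
  let B' : Subgroup G :=
    { carrier := {b | b ∈ B ∧ (t : G) * b * (t : G)⁻¹ * b⁻¹ ∈ A}
      one_mem' := ⟨one_mem _, by simp⟩
      mul_mem' := by
        rintro x y ⟨hx, hx'⟩ ⟨hy, hy'⟩
        refine ⟨mul_mem hx hy, ?_⟩
        have h := mul_mem hx' (hQA x (hBQ hx) _ hy')
        convert h using 1
        group
      inv_mem' := by
        rintro x ⟨hx, hx'⟩
        refine ⟨inv_mem hx, ?_⟩
        have h := hQA x⁻¹ (inv_mem (hBQ hx)) _ (inv_mem hx')
        convert h using 1
        group }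
  by_contra hbA
  have hAB' : A < B' := by
    refine lt_of_le_of_ne (fun a ha => ⟨hAB.le ha, ?_⟩) fun e => hbA (e ▸ ⟨hb, hc⟩)
    rw [hAfix a ha]
    simp
  rcases eq_or_lt_of_le (show B' ≤ B from fun x hx => hx.1) with he | hlt
  · obtain ⟨q, hq, hne⟩ := L.t_not_central ht ht' ht2
    obtain ⟨x, hx, f, hf, htf, rfl⟩ := hQfix q hq
    have hxA : (t : G) * x * (t : G)⁻¹ * x⁻¹ ∈ A := (he.symm ▸ hx : x ∈ B').2
    set a := (t : G) * x * (t : G)⁻¹ * x⁻¹ with ha
    have hta : (t : G) * a * (t : G)⁻¹ = a := by rw [hAfix a hxA, mul_inv_cancel_right]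
    have haa : a * a = 1 := by
      have ht1 := L.t_coe_sq ht ht' ht2
      have e1 : a⁻¹ = x * (t : G) * x⁻¹ * (t : G)⁻¹ := by rw [ha]; group
      have : a = a⁻¹ :=
        calc a = (t : G) * a * (t : G)⁻¹ := hta.symm
          _ = ((t : G) * t) * x * (t : G)⁻¹ * x⁻¹ * (t : G)⁻¹ := by rw [ha]; group
          _ = a⁻¹ := by rw [e1, ht1, one_mul, inv_eq_of_mul_eq_one_right ht1]
      nth_rewrite 2 [this]
      exact mul_inv_cancel a
    have ha1 : a = 1 := by
      have h3 := L.exp a (hBQ (hAB.le hxA))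
      rwa [pow_succ, pow_two, haa, one_mul] at h3
    refine hne ?_
    rw [ha, mul_inv_eq_one, mul_inv_eq_iff_eq_mul] at ha1
    exact ((show Commute (t : G) x from ha1).mul_right htf).eq
  · obtain ⟨k, hk, x, ⟨hx, hxA⟩, hkx⟩ := hirr B' hAB' hlt
    refine hkx ⟨(hinv k hk).2 x hx, ?_⟩
    have hkt : ((k : G)⁻¹ * t * k * (t : G)⁻¹) ∈ Q := by
      refine (L.ker (k⁻¹ * t * k * t⁻¹)).1 ⟨?_, ?_⟩
      · simp only [map_mul, map_inv, ht]
        rw [mul_assoc (π k)⁻¹, neg_one_mul, ← mul_neg_one, ← mul_assoc, inv_mul_cancel, one_mul,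
          mul_inv_cancel]
      · simp only [map_mul, map_inv, hk, ht', inv_one, mul_one]
    set q := (k : G)⁻¹ * t * k * (t : G)⁻¹ with hq
    set y := (t : G) * x * (t : G)⁻¹ with hy
    have hyB : y ∈ B := (hinv t ht').2 x hx
    have h1 : q * y * q⁻¹ * x⁻¹ ∈ A := by
      have hz' := hzA (L.comm q hkt y (hBQ hyB))
      convert mul_mem hz' hxA using 1
      group
    have h2 := (hinv k hk).1 _ h1
    convert h2 using 1
    rw [hy, hq]
    group

/-- The fixed half. -/
theorem card_fixed : Nat.card (Q ⊓ Subgroup.centralizer ({(t : G)} : Set G) : Subgroup G) = 27 := by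
  classical
  set Q2 := Q ⊓ Subgroup.centralizer ({(t : G)} : Set G) with hQ2
  have hmem : ∀ f : G, f ∈ Q2 ↔ f ∈ Q ∧ (t : G) * f = f * t := fun f => by
    rw [hQ2, Subgroup.mem_inf, Subgroup.mem_centralizer_singleton_iff, eq_comm (a := f * (t : G))]
  have hz2 : z ∈ Q2 := (hmem z).2 ⟨L.zmem, (L.mem_cz.1 t.2)⟩
  have hd : Nat.card Q2 ∣ 3 ^ 5 := by
    have := Subgroup.card_dvd_of_le (inf_le_left : Q2 ≤ Q)
    rw [L.card] at this
    exact this
  obtain ⟨n, hn5, hn⟩ := (Nat.dvd_prime_pow Nat.prime_three).1 hd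
  have hcentral : ∀ f ∈ Q2, (∀ g ∈ Q2, f * g = g * f) → f ∈ Subgroup.zpowers z := by
    intro f hf hc
    refine L.center f ((hmem f).1 hf).1 fun q hq => ?_
    obtain ⟨g, hg, v, hv, htg, htv, rfl⟩ := L.split t.2 (L.t_coe_sq ht ht' ht2) hq
    exact ((show Commute f g from hc g ((hmem g).2 ⟨hg, htg⟩)).mul_right
      (L.fix_inv_comm t.2 ((hmem f).1 hf).1 hv ((hmem f).1 hf).2 htv)).eq
  have hne5 : n ≠ 5 := by
    intro h
    obtain ⟨q, hq, hne⟩ := L.t_not_central ht ht' ht2
    have he : Q2 = Q := Subgroup.eq_of_le_of_card_ge inf_le_left (by rw [L.card, hn, h]; norm_num)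
    exact hne ((hmem q).1 (he.symm ▸ hq)).2
  have hne4 : n ≠ 4 := by
    intro h
    obtain ⟨q, hq, hqne⟩ := L.t_not_central ht ht' ht2
    obtain ⟨f, hf, v, hv, htf, htv, rfl⟩ := L.split t.2 (L.t_coe_sq ht ht' ht2) hq
    have hv2 : v ∉ Q2 := fun h' => hqne ((show Commute (t : G) f from htf).mul_right ((hmem v).1 h').2).eq
    have hle : Q2 ≤ Q ⊓ Subgroup.centralizer ({v} : Set G) := fun g hg =>
      ⟨((hmem g).1 hg).1, Subgroup.mem_centralizer_singleton_iff.2
        (L.fix_inv_comm t.2 ((hmem g).1 hg).1 hv ((hmem g).1 hg).2 htv)⟩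
    have hlt : Q2 < Q ⊓ Subgroup.centralizer ({v} : Set G) :=
      lt_of_le_of_ne hle fun e => hv2 (by rw [e]; exact ⟨hv, Subgroup.mem_centralizer_singleton_iff.2 rfl⟩)
    have he : Q ⊓ Subgroup.centralizer ({v} : Set G) = Q := by
      refine Subgroup.eq_of_le_of_card_ge inf_le_left ?_
      have hd' := Subgroup.card_dvd_of_le (inf_le_left : Q ⊓ Subgroup.centralizer ({v} : Set G) ≤ Q)
      rw [L.card] at hd' ⊢
      obtain ⟨k, hk5, hk⟩ := (Nat.dvd_prime_pow Nat.prime_three).1 (show _ ∣ 3 ^ 5 from hd')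
      have : Nat.card Q2 < Nat.card (Q ⊓ Subgroup.centralizer ({v} : Set G) : Subgroup G) := by
        by_contra hc
        exact hlt.ne (Subgroup.eq_of_le_of_card_ge hle (not_lt.1 hc))
      rw [hn, hk, Nat.pow_lt_pow_iff_right (by norm_num), h] at this
      rw [hk, show k = 5 by omega]; norm_num
    exact hv2 ((Subgroup.zpowers_le.2 hz2) (L.center v hv fun g hg => by
      have := (he.symm ▸ hg : g ∈ Q ⊓ Subgroup.centralizer ({v} : Set G)).2
      exact (Subgroup.mem_centralizer_singleton_iff.1 this).symm))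
  have hne2 : n ≠ 2 := by
    intro h
    haveI : Fact (Nat.Prime 3) := ⟨Nat.prime_three⟩
    have hab : ∀ f ∈ Q2, ∀ g ∈ Q2, f * g = g * f := fun f hf g hg => congrArg Subtype.val
      (IsPGroup.commutative_of_card_eq_prime_sq (p := 3) (G := Q2) (by rw [hn, h])
        ⟨f, hf⟩ ⟨g, hg⟩)
    have h9 := Subgroup.card_le_of_le (fun f hf => hcentral f hf (hab f hf) : Q2 ≤ Subgroup.zpowers z)
    rw [hn, h, L.card_zpowers] at h9
    norm_num at h9
  have hne0 : n ≠ 0 := by
    intro h
    have : Q2 = ⊥ := Subgroup.card_eq_one.1 (by rw [hn, h, pow_zero])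
    rw [this, Subgroup.mem_bot] at hz2
    exact L.z_ne hz2
  have hne1 : n ≠ 1 := by
    intro h
    have hQ2z : Q2 ≤ Subgroup.zpowers z := le_of_eq (Subgroup.eq_of_le_of_card_ge
      (Subgroup.zpowers_le.2 hz2) (by rw [hn, h, L.card_zpowers]; norm_num)).symm
    obtain ⟨A, B, hzA, hAB, hBQ, hinv, hirr, hfix⟩ := L.chief
    obtain ⟨hAfix, hQfix⟩ := hfix t ht' (L.t_coprime ht ht' ht2)
    have hA : A = Subgroup.zpowers z := le_antisymm
      (fun a ha => hQ2z ((hmem a).2 ⟨hBQ (hAB.le ha), hAfix a ha⟩)) hzA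
    have hB : B = Q := le_antisymm hBQ fun q hq => by
      obtain ⟨b, hb, f, hf, htf, rfl⟩ := hQfix q hq
      exact mul_mem hb (hAB.le (hzA (hQ2z ((hmem f).2 ⟨hf, htf⟩))))
    subst hA hB
    -- the module `Q / ⟨z⟩`
    set zq : Subgroup B := (Subgroup.zpowers z).subgroupOf B with hzq
    have hzn : zq.Normal := ⟨fun a ha g => by
      show (g : G) * (a : G) * (g : G)⁻¹ ∈ Subgroup.zpowers z
      have ha' : (a : G) ∈ Subgroup.zpowers z := ha
      rw [L.z_comm (L.le g.2) ha', mul_inv_cancel_right]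
      exact ha⟩
    have hcomm : ∀ x y : B ⧸ zq, x * y = y * x := by
      intro x y
      induction x using QuotientGroup.induction_on with | _ a => ?_
      induction y using QuotientGroup.induction_on with | _ b => ?_
      rw [← QuotientGroup.mk_mul, ← QuotientGroup.mk_mul, QuotientGroup.eq]
      show ((a : G) * b)⁻¹ * ((b : G) * a) ∈ Subgroup.zpowers z
      convert L.comm _ (inv_mem b.2) _ (inv_mem a.2) using 1
      group
    letI : CommGroup (B ⧸ zq) := { (inferInstance : Group (B ⧸ zq)) with mul_comm := hcomm }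
    let act : Subgroup.centralizer ({z} : Set G) → (B →* B) := fun c => MonoidHom.mk'
      (fun q => ⟨(c : G) * q * (c : G)⁻¹, L.conj_mem c.2 q.2⟩) fun a b => Subtype.ext (by
        simp only [Subgroup.coe_mul]; group)
    let ρ : Subgroup.centralizer ({z} : Set G) → (Additive (B ⧸ zq) →+ Additive (B ⧸ zq)) := fun c =>
      MonoidHom.toAdditive (QuotientGroup.map zq zq (act c) fun a ha => by
        show (c : G) * (a : G) * (c : G)⁻¹ ∈ Subgroup.zpowers z
        have ha' : (a : G) ∈ Subgroup.zpowers z := ha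
        rw [L.z_comm c.2 ha', mul_inv_cancel_right]
        exact ha')
    let e : ∀ q : G, q ∈ B → Additive (B ⧸ zq) := fun q hq =>
      Additive.ofMul ((⟨q, hq⟩ : B) : B ⧸ zq)
    have hsurj : ∀ v : Additive (B ⧸ zq), ∃ q hq, e q hq = v := fun v => by
      obtain ⟨⟨q, hq⟩, h⟩ := QuotientGroup.mk_surjective v.toMul
      exact ⟨q, hq, by simp [e, h]⟩
    have hρ : ∀ c q hq, ρ c (e q hq) = e ((c : G) * q * (c : G)⁻¹) (L.conj_mem c.2 hq) :=
      fun c q hq => rfl
    have hmul : ∀ c d v, ρ (c * d) v = ρ c (ρ d v) := fun c d v => by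
      obtain ⟨q, hq, rfl⟩ := hsurj v
      rw [hρ, hρ, hρ]
      congr 1
      simp only [Subgroup.coe_mul]
      group
    have hker : ∀ c d, π c = π d → ε c = ε d → ρ c = ρ d := by
      intro c d h1 h2
      have hq : ((c⁻¹ * d : Subgroup.centralizer ({z} : Set G)) : G) ∈ B := (L.ker _).1
        ⟨by rw [map_mul, map_inv, h1, inv_mul_cancel], by rw [map_mul, map_inv, h2, inv_mul_cancel]⟩
      refine AddMonoidHom.ext fun v => ?_
      have hd : d = c * (c⁻¹ * d) := by group
      rw [hd, hmul]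
      congr 1
      obtain ⟨q, hq', rfl⟩ := hsurj v
      rw [hρ]
      show Additive.ofMul _ = Additive.ofMul _
      refine congrArg Additive.ofMul (QuotientGroup.eq.2 ?_)
      show q⁻¹ * (((c⁻¹ * d : Subgroup.centralizer ({z} : Set G)) : G) * q *
        ((c⁻¹ * d : Subgroup.centralizer ({z} : Set G)) : G)⁻¹) ∈ Subgroup.zpowers z
      convert L.comm _ (inv_mem hq') _ hq using 1
      group
    have hone : ∀ v, ρ 1 v = v := fun v => by
      obtain ⟨q, hq, rfl⟩ := hsurj v
      rw [hρ]; simp [e]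
    have hneg : ∀ v, ρ t v = -v := fun v => by
      obtain ⟨q, hq, rfl⟩ := hsurj v
      obtain ⟨f, hf, w, hw, htf, htw, rfl⟩ := L.split t.2 (L.t_coe_sq ht ht' ht2) hq
      rw [hρ]
      show Additive.ofMul _ = Additive.ofMul (_ : B ⧸ zq)⁻¹
      refine congrArg Additive.ofMul (QuotientGroup.eq.2 ?_)
      have hfz : f ∈ Subgroup.zpowers z := hQ2z ((hmem f).2 ⟨hf, htf⟩)
      show ((t : G) * (f * w) * (t : G)⁻¹)⁻¹ * (f * w)⁻¹ ∈ Subgroup.zpowers z
      have h1 : (t : G) * (f * w) * (t : G)⁻¹ = f * w⁻¹ := by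
        rw [← htw, ← mul_assoc, htf]; group
      rw [h1]
      convert inv_mem (mul_mem hfz hfz) using 1
      have hcw := L.z_comm (L.le hw) hfz
      calc (f * w⁻¹)⁻¹ * (f * w)⁻¹ = w * (f⁻¹ * w⁻¹) * f⁻¹ := by group
        _ = w * (w⁻¹ * f⁻¹) * f⁻¹ := by
          rw [(show Commute w f from hcw).inv_inv.eq]
        _ = _ := by group
    have h3 : ∀ v : Additive (B ⧸ zq), v + v + v = 0 := fun v => by
      obtain ⟨q, hq, rfl⟩ := hsurj v
      show Additive.ofMul _ = Additive.ofMul (1 : B ⧸ zq)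
      refine congrArg Additive.ofMul ((QuotientGroup.eq_one_iff _).2 ?_)
      show q * q * q ∈ Subgroup.zpowers z
      rw [← pow_two, ← pow_succ, L.exp q hq]
      exact one_mem _
    obtain ⟨cp, hcp, hcp'⟩ := L.surj pE 1 (Or.inr rfl)
    obtain ⟨cs, hcs, hcs'⟩ := L.surj sE 1 (Or.inr rfl)
    have hk : ∀ c d, π c = π d → ε c = 1 → ε d = 1 → ∀ v, ρ c v = ρ d v := fun c d h h1 h2 v => by
      rw [hker c d h (h1.trans h2.symm)]
    have hP : ∀ v, ρ cp (ρ cp (ρ cp v)) = v := fun v => by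
      rw [← hmul, ← hmul, hk _ 1 (by rw [map_mul, map_mul, hcp, map_one, s2_facts.2.2.1])
        (by rw [map_mul, map_mul, hcp', mul_one, mul_one]) (map_one ε), hone]
    have hS : ∀ v, ρ cs (ρ cs v) = -v := fun v => by
      rw [← hmul, hk _ t (by rw [map_mul, hcs, ht, s2_facts.2.2.2.1])
        (by rw [map_mul, hcs', mul_one]) ht', hneg]
    have hrel : ∀ v, ρ cs (ρ cp (ρ cs (ρ cp (ρ cp v)))) = -(ρ cp (ρ cp (ρ cs (ρ cp v)))) := fun v => by
      rw [← hneg]
      simp only [← hmul]
      exact hk _ _ (by simp only [map_mul, hcp, hcs, ht]; exact s2_facts.2.2.2.2)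
        (by simp [map_mul, hcp', hcs']) (by simp [map_mul, hcp', hcs', ht']) v
    obtain ⟨q0, hq0, hq0z⟩ : ∃ q ∈ B, q ∉ Subgroup.zpowers z := SetLike.exists_of_lt hAB
    obtain ⟨f, hf0, hPf, hPS⟩ := two_dim h3 (ρ cp) (ρ cs) hP hS hrel (v₀ := e q0 hq0) (fun h => by
      have h' : ((⟨q0, hq0⟩ : B) : B ⧸ zq) = 1 := congrArg Additive.toMul h
      exact hq0z (show q0 ∈ Subgroup.zpowers z from (QuotientGroup.eq_one_iff (N := zq) (⟨q0, hq0⟩ : B)).1 h'))
    set M := AddSubgroup.closure ({f, ρ cs f} : Set (Additive (B ⧸ zq)))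
    have hfM : f ∈ M := AddSubgroup.subset_closure (by simp)
    have hsM : ρ cs f ∈ M := AddSubgroup.subset_closure (by simp)
    have hinvM : ∀ c, ε c = 1 → ∀ v ∈ M, ρ c v ∈ M := by
      let H : Subgroup S2 :=
        { carrier := {g | ∀ c, ε c = 1 → π c = g → ∀ v ∈ M, ρ c v ∈ M}
          one_mem' := fun c hc h v hv => by
            rw [hk c 1 (by rw [h, map_one]) hc (map_one ε), hone]; exact hv
          mul_mem' := fun {g g'} hg hg' c hc h v hv => by
            obtain ⟨c1, h1, h1'⟩ := L.surj g 1 (Or.inr rfl)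
            obtain ⟨c2, h2, h2'⟩ := L.surj g' 1 (Or.inr rfl)
            rw [hk c (c1 * c2) (by rw [h, map_mul, h1, h2]) hc (by rw [map_mul, h1', h2', mul_one]),
              hmul]
            exact hg c1 h1' h1 _ (hg' c2 h2' h2 v hv)
          inv_mem' := fun {g} hg c hc h v hv => by
            have hci : ε c⁻¹ = 1 := by rw [map_inv, hc, inv_one]
            have hmap : ∀ w ∈ M, ρ c⁻¹ w ∈ M := hg c⁻¹ hci (by rw [map_inv, h, inv_inv])
            have hi : Function.Injective (fun w : M => (⟨ρ c⁻¹ w, hmap w w.2⟩ : M)) := fun a b hab => by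
              have h' := congrArg (fun w : M => ρ c (w : Additive (B ⧸ zq))) hab
              simp only [← hmul, mul_inv_cancel, hone] at h'
              exact Subtype.ext h'
            obtain ⟨w, hw⟩ := (Finite.injective_iff_surjective.1 hi) ⟨v, hv⟩
            have hw' : ρ c⁻¹ (w : Additive (B ⧸ zq)) = v := congrArg Subtype.val hw
            rw [← hw', ← hmul, mul_inv_cancel, hone]
            exact w.2 }
      have hHtop : H = ⊤ := by
        rw [eq_top_iff, ← closure_ps, Subgroup.closure_le]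
        rintro g (rfl | rfl) c hc h v hv
        · rw [hk c cp (h.trans hcp.symm) hc hcp']
          induction hv using AddSubgroup.closure_induction with
          | mem x hx =>
            rcases hx with rfl | rfl
            · rw [hPf]; exact hfM
            · rcases hPS with h' | h' <;> rw [h']
              · exact add_mem hsM hfM
              · exact sub_mem hsM hfM
          | zero => rw [map_zero]; exact zero_mem _
          | add x y _ _ hx hy => rw [map_add]; exact add_mem hx hy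
          | neg x _ hx => rw [map_neg]; exact neg_mem hx
        · rw [hk c cs (h.trans hcs.symm) hc hcs']
          induction hv using AddSubgroup.closure_induction with
          | mem x hx =>
            rcases hx with rfl | rfl
            · exact hsM
            · rw [hS]; exact neg_mem hfM
          | zero => rw [map_zero]; exact zero_mem _
          | add x y _ _ hx hy => rw [map_add]; exact add_mem hx hy
          | neg x _ hx => rw [map_neg]; exact neg_mem hx
      intro c hc v hv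
      exact (hHtop ▸ Subgroup.mem_top (π c) : π c ∈ H) c hc rfl v hv
    have hMcard : Nat.card M ≤ 9 := by
      let Φ : Fin 3 × Fin 3 → Additive (B ⧸ zq) := fun ij => ij.1.val • f + ij.2.val • ρ cs f
      have hmod : ∀ (a : ℕ) (v : Additive (B ⧸ zq)), a • v = (a % 3) • v := fun a v => by
        conv_lhs => rw [← Nat.mod_add_div a 3]
        rw [add_nsmul, mul_nsmul, show (3 : ℕ) • v = 0 by rw [succ_nsmul, two_nsmul, h3], nsmul_zero,
          add_zero]
      have hsub : ∀ v ∈ M, v ∈ Set.range Φ := by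
        intro v hv
        induction hv using AddSubgroup.closure_induction with
        | mem x hx =>
          rcases hx with rfl | rfl
          · exact ⟨(1, 0), by simp [Φ]⟩
          · exact ⟨(0, 1), by simp [Φ]⟩
        | zero => exact ⟨(0, 0), by simp [Φ]⟩
        | add x y _ _ hx hy =>
          obtain ⟨⟨i, j⟩, rfl⟩ := hx
          obtain ⟨⟨i', j'⟩, rfl⟩ := hy
          refine ⟨(i + i', j + j'), ?_⟩
          simp only [Φ, Fin.val_add]
          rw [← hmod, ← hmod, add_nsmul, add_nsmul]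
          abel
        | neg x _ hx =>
          obtain ⟨⟨i, j⟩, rfl⟩ := hx
          refine ⟨(-i, -j), ?_⟩
          have hn : ∀ (a : Fin 3) (v : Additive (B ⧸ zq)), (-a).val • v = -(a.val • v) := fun a v => by
            refine eq_neg_of_add_eq_zero_left ?_
            rw [← add_nsmul, hmod, show ((-a).val + a.val) % 3 = 0 by revert a; decide, zero_nsmul]
          simp only [Φ, hn, neg_add]
      refine (Nat.card_le_card_of_surjective (fun ij => ⟨Φ ij, ?_⟩) fun ⟨v, hv⟩ => ?_).trans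
        (le_of_eq (by simp : Nat.card (Fin 3 × Fin 3) = 9))
      · exact add_mem (nsmul_mem hfM _) (nsmul_mem hsM _)
      · obtain ⟨ij, hij⟩ := hsub v hv
        exact ⟨ij, Subtype.ext hij⟩
    -- pull back
    let B' : Subgroup G := ((AddSubgroup.toSubgroup' M).comap (QuotientGroup.mk' zq)).map B.subtype
    have hB' : ∀ q (hq : q ∈ B), q ∈ B' ↔ e q hq ∈ M := fun q hq =>
      ⟨fun ⟨⟨q', hq'⟩, h, he⟩ => by cases he; exact h, fun h => ⟨⟨q, hq⟩, h, rfl⟩⟩
    obtain ⟨q1, hq1, hf1⟩ := hsurj f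
    have hq1z : q1 ∉ Subgroup.zpowers z := fun h => hf0 (hf1.symm.trans
      (congrArg Additive.ofMul ((QuotientGroup.eq_one_iff _).2 h)))
    have hlow : Subgroup.zpowers z < B' := by
      refine lt_of_le_of_ne (fun a ha => (hB' a (L.zpowers_le ha)).2 ?_) fun e' =>
        hq1z (e' ▸ (hB' q1 hq1).2 (by rw [hf1]; exact hfM))
      show Additive.ofMul _ ∈ M
      rw [(QuotientGroup.eq_one_iff _).2 (show (⟨a, L.zpowers_le ha⟩ : B) ∈ zq from ha), ofMul_one]
      exact zero_mem _
    have hhigh : B' < B := by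
      refine lt_of_le_of_ne (Subgroup.map_subtype_le _) fun e' => ?_
      have hMtop : M = ⊤ := by
        rw [eq_top_iff]
        intro v _
        obtain ⟨q, hq, rfl⟩ := hsurj v
        exact (hB' q hq).1 (e'.symm ▸ hq)
      have h81 : Nat.card (B ⧸ zq) = 81 := by
        have h := zq.card_mul_index
        rw [Nat.card_congr (Subgroup.subgroupOfEquivOfLe L.zpowers_le).toEquiv, L.card_zpowers,
          L.card] at h
        rw [← Subgroup.index_eq_card]
        omega
      rw [hMtop, AddSubgroup.card_top, Nat.card_congr Additive.toMul, h81] at hMcard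
      omega
    obtain ⟨k, hk1, b, hb, hkb⟩ := hirr B' hlow hhigh
    have hbB : b ∈ B := Subgroup.map_subtype_le _ hb
    exact hkb ((hB' _ (L.conj_mem k.2 hbB)).2 (by rw [← hρ k b hbB]; exact hinvM k hk1 _ ((hB' b hbB).1 hb)))
  rw [hn, show n = 3 by omega]
  norm_num

/-- An element of 2-power order over `t` centralises the fixed half. -/
theorem O_fix {w : Subgroup.centralizer ({z} : Set G)} (hw : ε w = 1) (hwt : w * w = t) {q : G}
    (hq : q ∈ Q) (hqt : (t : G) * q = q * (t : G)) : (w : G) * q = q * (w : G) := by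
  obtain ⟨A, B, hzA, hAB, hBQ, hinv, hirr, hfix⟩ := L.chief
  have h3 : ¬ 3 ∣ orderOf w := by
    intro h
    have h4 : w ^ 4 = 1 := by
      rw [show (4 : ℕ) = 2 * 2 from rfl, pow_mul, pow_two w, hwt, pow_two, ht2]
    have := h.trans (orderOf_dvd_of_pow_eq_one h4)
    norm_num at this
  obtain ⟨hAfix, hQfix⟩ := hfix w hw h3
  obtain ⟨b, hb, f, hf, hwf, rfl⟩ := hQfix q hq
  have htf : (t : G) * f = f * (t : G) := by
    rw [← hwt, Subgroup.coe_mul]
    exact ((show Commute (w : G) f from hwf).mul_left hwf).eq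
  have htb : (t : G) * b = b * (t : G) := by
    have h : Commute (t : G) (b * f * f⁻¹) :=
      (show Commute (t : G) (b * f) from hqt).mul_right (show Commute (t : G) f from htf).inv_right
    rwa [mul_inv_cancel_right] at h
  have hbA : b ∈ A := L.mem_low ht ht' ht2 hzA hAB hBQ hinv hirr hfix hb (by
    rw [htb, mul_inv_cancel_right, mul_inv_cancel]; exact one_mem _)
  exact ((show Commute (w : G) b from hAfix b hbA).mul_right hwf).eq

end Pre

end CfsgLib.OEightLocal
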