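import Cfsg.Agent.Lib.OEightLocal.Coords

/-!
Coordinates for the three axes of `⟨z, i₂, y⟩` and their sign changes: finite facts.
-/

set_option autoImplicit false
set_option maxRecDepth 100000
set_option synthInstance.maxSize 4000

namespace CfsgLib.OEightLocal

/-- The axes. -/
def axV : Fin 3 → V := ![![1, 0, 0, 2], ![1, 0, 1, 1], ![1, 0, 2, 1]]

/-- The reflection in a vector. -/
def refV (d v : V) : V := v + bJ v d • d

/-- A combination of the axes. -/
def comb (a : Fin 3 → ZMod 3) : V := a 0 • axV 0 + a 1 • axV 1 + a 2 • axV 2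

/-- The map of a product of sign changes, possibly followed by `t`. -/
def sgnV (e : Bool) (b : Fin 3 → Bool) (v : V) : V :=
  (if e then ft else id) ((if b 0 then refV (axV 0) else id)
    ((if b 1 then refV (axV 1) else id) ((if b 2 then refV (axV 2) else id) v)))

theorem axV_facts : ∀ i : Fin 3, axV i 1 = 0 ∧ qJ (axV i) = -1 ∧ axV i ≠ 0 ∧ refV (axV i) (axV i) = -axV i ∧
    ∀ j, i ≠ j → refV (axV i) (axV j) = axV j := by decide +kernel

theorem comb_single : ∀ i : Fin 3, comb (Pi.single i 1) = axV i := by decide +kernel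

theorem comb_e1 : ∀ a : Fin 3 → ZMod 3, comb a 1 = 0 := by decide +kernel

theorem comb_inj : ∀ a b : Fin 3 → ZMod 3, comb a = comb b → a = b := by decide +kernel

theorem exists_comb : ∀ v : V, v 1 = 0 → ∃ a : Fin 3 → ZMod 3, comb a = v := by decide +kernel

theorem off_axes : ∀ v : V, v 1 = 0 → qJ v = -1 → ∃ i : Fin 3, ∃ c : ZMod 3, v = c • axV i := by decide +kernel

theorem refV_comm : ∀ i j : Fin 3, ∀ v : V,
    refV (axV i) (refV (axV j) (refV (axV i) (refV (axV j) v))) = v := by decide +kernel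

theorem refV_fix : ∀ i j : Fin 3, i ≠ j → ∀ c : V, refV (axV i) c = -c → refV (axV j) c = -c → c = 0 := by
  decide +kernel

/-- Values of the sign maps on the basis. -/
def sgnB (e : Bool) (b : Fin 3 → Bool) : Fin 4 → V := fun k =>
  sgnV e b ((![![1, 0, 0, 0], ![0, 1, 0, 0], ![0, 0, 1, 0], ![0, 0, 0, 1]] : Fin 4 → V) k)

theorem sgnB_inj : ∀ e e' : Bool, ∀ b b' : Fin 3 → Bool, sgnB e b = sgnB e' b' → e = e' ∧ b = b' := by
  decide +kernel

theorem sgn_all : ∀ v : V, sgnV true (fun _ => true) v = -v := by decide +kernel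

/-- Reflections move every singular line of `⟨z, i₂, y⟩`. -/
theorem refV_moves : ∀ i : Fin 3, ∀ v : V, v 1 = 0 → v ≠ 0 → qJ v = 0 →
    refV (axV i) v ≠ v ∧ refV (axV i) v ≠ -v := by decide +kernel

/-- `a` moves the singular lines other than that of `z` onto that of `y`. -/
theorem fa_to_y : ∀ v : V, v 1 = 0 → v ≠ 0 → qJ v = 0 → v ≠ ![1, 0, 0, 0] → v ≠ -![1, 0, 0, 0] →
    ∃ k : Fin 3, fa^[k] v = ![0, 0, 0, 1] ∨ fa^[k] v = -![0, 0, 0, 1] := by decide +kernel

theorem fa_fix : ∀ v : V, fa v 3 = v 3 ∧ (v 3 = 0 → fa v 2 = v 2) := by decide +kernel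

theorem fp_fix : ∀ v : V, fp v 3 = v 3 ∧ (v 3 = 0 → fp v 2 = v 2) := by decide +kernel

/-- A vector playing the part of `i₂`. -/
theorem i2_image : ∀ w : V, w 1 = 0 → w 3 = 0 → w 2 = 1 → ∃ k : Fin 3, fa^[k] w = ![0, 0, 1, 0] := by
  decide +kernel

/-- Images of `y`. -/
theorem y_image : ∀ w : V, w 1 = 0 → qJ w = 0 → bJ w ![1, 0, 0, 0] = 1 → bJ w ![0, 0, 1, 0] = 0 →
    w = ![0, 0, 0, 1] := by decide +kernel

/-- Images of `i₁`. -/
theorem i1_image : ∀ w : V, qJ w = 2 → bJ w ![1, 0, 0, 0] = 0 → bJ w ![0, 0, 1, 0] = 0 →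
    bJ w ![0, 0, 0, 1] = 0 → w = ![0, 1, 0, 0] ∨ w = -![0, 1, 0, 0] := by decide +kernel

end CfsgLib.OEightLocal
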