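import Cfsg.Agent.Lib.OEightLocal.InvW

/-!
The centralisers in `C(t)` of the points of `⟨z, i₂, y⟩` that are not axes lie in `W (N(J) ∩ C(t))`.
-/

set_option autoImplicit false
set_option linter.unusedSectionVars false

namespace CfsgLib.OEightLocal.Loc

variable {G : Type*} [Group G] [Finite G] (L : Loc G)

/-- The normaliser of `J` in `C(t)` together with `W`. -/
noncomputable abbrev M₀ : Subgroup G := L.W ⊔ L.NT

theorem mem_NT_of_act {g : G} {f : V → V} (h : L.Act g f) (ht : Commute g L.t) : g ∈ L.NT :=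
  L.mem_NT.2 ⟨h.mem_normalizer, ht⟩

theorem gens_NT : L.z ∈ L.NT ∧ L.i₂ ∈ L.NT ∧ L.y ∈ L.NT ∧ L.a ∈ L.NT ∧ L.u ∈ L.NT ∧ L.t ∈ L.NT := by
  have h := L.O_comm _ L.t_mem
  exact ⟨L.mem_NT.2 ⟨Subgroup.le_normalizer (Subgroup.subset_closure (by simp)), h.1.symm⟩,
    L.mem_NT.2 ⟨Subgroup.le_normalizer (Subgroup.subset_closure (by simp)), h.2.2.symm⟩,
    L.mem_NT.2 ⟨Subgroup.le_normalizer (Subgroup.subset_closure (by simp)), L.comm_ty.symm⟩,
    L.mem_NT_of_act (act_a L) h.2.1.symm, L.mem_NT.2 ⟨(act_u L).choose_spec.1.mem_normalizer, L.comm_ut⟩,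
    L.mem_NT_of_act (act_t L) (Commute.refl _)⟩

theorem M₀_le_ct : L.M₀ ≤ Subgroup.centralizer {L.t} := sup_le L.W_le_ct inf_le_right

theorem cz_ct_le : Subgroup.centralizer {L.z} ⊓ Subgroup.centralizer {L.t} ≤ L.M₀ := by
  rintro c ⟨hc, hct⟩
  obtain ⟨x, hx, w, hw, rfl⟩ := exists_MO L hc
  have hxt : Commute x L.t := by
    have h : Commute (x * w) L.t := Subgroup.mem_centralizer_singleton_iff.1 hct
    simpa using h.mul_left (L.O_comm_t hw).inv_left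
  exact mul_mem (Subgroup.mem_sup_right (L.mem_NT.2 ⟨M_le_NJ L hx, hxt⟩))
    (Subgroup.mem_sup_left (L.O_le_W hw))

/-- `C(x) ∩ C(t) ≤ W (N(J) ∩ C(t))` for the points of type `z` and `i₂`. -/
theorem cent_good (h2 : Subgroup.centralizer {L.i₂} ⊓ Subgroup.centralizer {L.t} ≤ L.M₀) {v : V} (hv : v ≠ 0)
    (h1 : v 1 = 0) (hq : qJ v ≠ -1) :
    Subgroup.centralizer {L.jel v} ⊓ Subgroup.centralizer {L.t} ≤ L.M₀ := by
  have hr : repE (qJ v) ≠ 0 ∧ repE (qJ v) 1 = 0 ∧ qJ (repE (qJ v)) = qJ v :=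
    (by decide : ∀ c : ZMod 3, repE c ≠ 0 ∧ repE c 1 = 0 ∧ qJ (repE c) = c) _
  obtain ⟨n, f, hf, hnt, hfv⟩ := exists_conj_E L hr.1 hv hr.2.1 h1 hr.2.2
  have base : Subgroup.centralizer {L.jel (repE (qJ v))} ⊓ Subgroup.centralizer {L.t} ≤ L.M₀ := by
    rcases (by decide : ∀ c : ZMod 3, c ≠ -1 → c = 0 ∨ c = 1) _ hq with e | e <;> rw [e]
    · rw [show repE 0 = ![1, 0, 0, 0] from rfl, jel_z]; exact L.cz_ct_le
    · rw [show repE 1 = ![0, 0, 1, 0] from rfl, jel_i2]; exact h2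
  rintro g ⟨hg, hgt⟩
  have hgc : Commute g (L.jel v) := Subgroup.mem_centralizer_singleton_iff.1 hg
  rw [← hfv, ← hf] at hgc
  have hn : n ∈ L.M₀ := Subgroup.mem_sup_right (L.mem_NT_of_act hf hnt)
  have hc := hgc.map (MulAut.conj n⁻¹).toMonoidHom
  simp only [MulEquiv.coe_toMonoidHom, MulAut.conj_apply, inv_inv] at hc
  have hm : n⁻¹ * g * n ∈ L.M₀ := base ⟨Subgroup.mem_centralizer_singleton_iff.2
      (by simpa [mul_assoc] using hc.eq),
    Subgroup.mem_centralizer_singleton_iff.2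
      ((hnt.inv_left.mul_left (Subgroup.mem_centralizer_singleton_iff.1 hgt)).mul_left hnt).eq⟩
  rw [show g = n * (n⁻¹ * g * n) * n⁻¹ by group]
  exact mul_mem (mul_mem hn hm) (inv_mem hn)

end CfsgLib.OEightLocal.Loc
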