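import Cfsg.Agent.Lib.OEightLocal.OneFocal
import Cfsg.Agent.Lib.OmegaEightCent.Main
import Cfsg.Agent.Lib.Classical.OrthCenter
import Cfsg.Agent.Lib.Classical.OrthSimple
import Cfsg.Agent.Lib.Classical.OrthForms
import Cfsg.Agent.Lib.Signalizer.Radical
import Cfsg.Agent.Lib.PSolvable.Core
import Cfsg.Agent.Lib.Transfer.Basic
import Cfsg.Agent.Lib.HallHigman.SolubleBounds
import Cfsg.Agent.S0205

/-!
Recognition of `Ω⁺(8,2)` inside the triality extension, from the centraliser of the involution in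
the normal subgroup of index three, and the step from index three to index six.
-/

set_option autoImplicit false
set_option linter.unusedSectionVars false
set_option linter.style.haveILetI false

open Cfsg

namespace CfsgLib.OEightLocal

/-- `Ω⁺(8,2)`. -/
abbrev O8 : Type := ↥(Cfsg.Omega (ZMod 2) (Cfsg.quadFormPlus 4 (ZMod 2)))

theorem omega_simple : IsSimpleGroup O8 := by
  obtain ⟨Q, hQ, hB⟩ := CfsgLib.Orth.exists_quadForm_plus (F := ZMod 2) 4
  show IsSimpleGroup ↥(Cfsg.Omega (ZMod 2) (Cfsg.quadFormPlus 4 (ZMod 2)))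
  rw [← hQ]
  have hn : 5 ≤ Module.finrank (ZMod 2) (Fin 4 ⊕ Fin 4 → ZMod 2) := by
    rw [Module.finrank_pi, Fintype.card_sum, Fintype.card_fin]; norm_num
  have hc := (CfsgLib.Orth.card_center_omega hB hn).1 fun g _ hg => Subtype.ext (Units.ext (by
    rw [hg]
    ext i j
    rw [Matrix.neg_apply, CharTwo.neg_eq]
    rfl))
  haveI := CfsgLib.Orth.pOmega_simple hB hn
  have hbot : Subgroup.center (Cfsg.Omega (ZMod 2) ⇑Q) = ⊥ := Subgroup.card_eq_one.1 hc
  have hinj : Function.Injective (QuotientGroup.mk' (Subgroup.center (Cfsg.Omega (ZMod 2) ⇑Q))) :=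
    (MonoidHom.ker_eq_bot_iff _).1 (by rw [QuotientGroup.ker_mk', hbot])
  exact (MulEquiv.ofBijective _ ⟨hinj, QuotientGroup.mk'_surjective _⟩).isSimpleGroup

variable {G : Type*} [Group G] [Finite G]

namespace Loc

variable (L : Loc G)

theorem exists_order_four : ∃ w ∈ L.O, w * w = L.t := by
  have ht : orderOf L.t = 2 := (L.O_t L.t L.t_mem).2 rfl
  have h8 : ∀ w ∈ L.O, w ^ 8 = 1 := fun w hw => by
    have h := pow_card_eq_one' (x := (⟨w, hw⟩ : L.O))
    rw [L.card_O] at h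
    exact congrArg Subtype.val h
  obtain ⟨w, hw, hne⟩ : ∃ w ∈ L.O, w * w ≠ 1 := by
    by_contra! h
    have hle : L.O ≤ Subgroup.zpowers L.t := fun w hw => by
      by_cases h1 : w = 1
      · rw [h1]; exact one_mem _
      · rw [(L.O_t w hw).1 (orderOf_eq_prime (by rw [pow_two]; exact h w hw) h1)]
        exact Subgroup.mem_zpowers _
    have hd := Subgroup.card_dvd_of_le hle
    rw [L.card_O, Nat.card_zpowers, ht] at hd
    exact absurd hd (by norm_num)
  by_cases h4 : w * w * (w * w) = 1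
  · exact ⟨w, hw, (L.O_t _ (mul_mem hw hw)).1 (orderOf_eq_prime (by rw [pow_two]; exact h4) hne)⟩
  · refine ⟨w * w, mul_mem hw hw, (L.O_t _ (mul_mem (mul_mem hw hw) (mul_mem hw hw))).1
      (orderOf_eq_prime ?_ h4)⟩
    rw [← pow_two w, ← pow_add, ← pow_mul]
    exact h8 w hw

theorem i₁_ne' : L.i₁ ≠ 1 := fun h => L.i₁_notMem_z (by rw [h]; exact one_mem _)

theorem p_ne : L.p ≠ 1 := fun h => L.p_notMem_J (by rw [h]; exact one_mem _)

theorem J_not_normal : ¬ L.J.Normal := by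
  intro hN
  obtain ⟨w, hw, hwt⟩ := L.exists_order_four
  set B : Subgroup G := Subgroup.closure {L.z, L.i₁} with hB
  have hzB : L.z ∈ B := Subgroup.subset_closure (by simp)
  have hiB : L.i₁ ∈ B := Subgroup.subset_closure (by simp)
  have hBJ : B ≤ L.J := Subgroup.closure_mono (by
    intro g hg
    simp only [Set.mem_insert_iff, Set.mem_singleton_iff] at hg ⊢
    tauto)
  have hpn : L.p ∈ Subgroup.normalizer (B : Set G) := by
    refine mem_normalizer_of_conj hB ?_
    intro x hx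
    simp only [Set.mem_insert_iff, Set.mem_singleton_iff] at hx
    rcases hx with hx | hx <;> subst hx
    · rw [L.comm_zp.symm.eq, mul_inv_cancel_right]; exact hzB
    · rw [L.conj_p_i₁]; exact mul_mem hzB hiB
  have hx : w * L.i₁ * w⁻¹ ∈ B := by
    have h1 : w * L.i₁ * w⁻¹ ∈ L.J := hN.conj_mem _ (hBJ hiB) w
    have hle : Subgroup.closure ({L.z, L.i₁, L.p} : Set G) ≤ Subgroup.zpowers L.p ⊔ B := by
      rw [Subgroup.closure_le]
      intro g hg
      simp only [Set.mem_insert_iff, Set.mem_singleton_iff] at hg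
      rcases hg with hg | hg | hg <;> subst hg
      · exact Subgroup.mem_sup_right hzB
      · exact Subgroup.mem_sup_right hiB
      · exact Subgroup.mem_sup_left (Subgroup.mem_zpowers _)
    have h2 : w * L.i₁ * w⁻¹ ∈ ((Subgroup.zpowers L.p ⊔ B : Subgroup G) : Set G) :=
      hle (L.O_Q w hw).2
    rw [Subgroup.coe_mul_of_left_le_normalizer_right _ _ (Subgroup.zpowers_le.mpr hpn)] at h2
    obtain ⟨g, ⟨c, rfl⟩, b, hb, hgb⟩ := h2
    simp only at hgb
    have hc : L.p ^ c ∈ L.J := by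
      have e : L.p ^ c = w * L.i₁ * w⁻¹ * b⁻¹ := by rw [← hgb]; group
      rw [e]
      exact mul_mem h1 (inv_mem (hBJ hb))
    rcases zpow_cases L.cube_p c with e | e | e <;> rw [e] at hc hgb
    · rw [← hgb, one_mul]; exact hb
    · exact absurd hc L.p_notMem_J
    · exact absurd (by simpa using inv_mem hc) L.p_notMem_J
  have hrep : ∀ g ∈ B, ∃ α β : ℤ, g = L.z ^ α * L.i₁ ^ β := by
    intro g hg
    induction hg using Subgroup.closure_induction with
    | mem u hu =>
      simp only [Set.mem_insert_iff, Set.mem_singleton_iff] at hu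
      rcases hu with rfl | rfl
      · exact ⟨1, 0, by simp⟩
      · exact ⟨0, 1, by simp⟩
    | one => exact ⟨0, 0, by simp⟩
    | mul u v _ _ hu hv =>
      obtain ⟨α, β, rfl⟩ := hu
      obtain ⟨α', β', rfl⟩ := hv
      refine ⟨α + α', β + β', ?_⟩
      rw [Commute.mul_mul_mul_comm (L.comm_zi₁.symm.zpow_zpow β α'), ← zpow_add, ← zpow_add]
    | inv u _ hu =>
      obtain ⟨α, β, rfl⟩ := hu
      exact ⟨-α, -β, by rw [(L.comm_zi₁.zpow_zpow α β).eq, mul_inv_rev, zpow_neg, zpow_neg]⟩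
  obtain ⟨α, β, hab⟩ := hrep _ hx
  have hwz : w * L.z * w⁻¹ = L.z := by rw [(L.O_comm w hw).1.eq, mul_inv_cancel_right]
  have ht2 : L.i₁⁻¹ = L.z ^ α * (L.z ^ α * L.i₁ ^ β) ^ β := by
    have e : L.t * L.i₁ * L.t⁻¹ = w * (w * L.i₁ * w⁻¹) * w⁻¹ := by rw [← hwt]; group
    rw [← L.t_i₁, e, hab]
    simp only [← MulAut.conj_apply, map_mul, map_zpow]
    simp only [MulAut.conj_apply, hwz, hab]
  rw [(L.comm_zi₁.zpow_zpow α β).mul_zpow, ← zpow_mul, ← zpow_mul, ← mul_assoc, ← zpow_add] at ht2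
  have hn : L.i₁ ^ (β * β + 1) ∈ Subgroup.zpowers L.z := by
    refine ⟨-(α + α * β), ?_⟩
    show L.z ^ (-(α + α * β)) = L.i₁ ^ (β * β + 1)
    have e : L.i₁ ^ (β * β) = (L.z ^ (α + α * β))⁻¹ * L.i₁⁻¹ := by
      rw [ht2, inv_mul_cancel_left]
    rw [zpow_add_one, e, inv_mul_cancel_right, zpow_neg]
  have h3 : (3 : ℤ) ∣ β * β + 1 := by
    have ho : orderOf L.i₁ = 3 := orderOf_eq_prime L.cube_i₁ L.i₁_ne'
    rcases zpow_cases L.cube_i₁ (β * β + 1) with e | e | e <;> rw [e] at hn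
    · have hd := orderOf_dvd_iff_zpow_eq_one.mpr e
      rw [ho] at hd
      exact_mod_cast hd
    · exact absurd hn L.i₁_notMem_z
    · exact absurd (by simpa using inv_mem hn) L.i₁_notMem_z
  have h0 : ((β * β + 1 : ℤ) : ZMod 3) = 0 := (ZMod.intCast_zmod_eq_zero_iff_dvd _ 3).mpr h3
  push_cast at h0
  exact (by decide : ∀ x : ZMod 3, x * x + 1 ≠ 0) _ h0

theorem no_odd_normal {K : Subgroup G} [hK : K.Normal] (hodd : Odd (Nat.card K)) (hp : L.p ∈ K) :
    False := by
  classical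
  haveI : Group.IsSolvable K := Cfsg.Agent.S0205.result hodd
  have hne : Nontrivial K :=
    nontrivial_of_ne (⟨L.p, hp⟩ : K) 1 fun h => L.p_ne (congrArg Subtype.val h)
  obtain ⟨q, hq, -, hR⟩ := CfsgLib.HallHigman.exists_pCore_ne_bot_of_solvable K hne
  haveI : Fact q.Prime := ⟨hq⟩
  haveI := CfsgLib.Signalizer.pCore_characteristic (G := K) q
  set R : Subgroup G := (Cfsg.pCore q K).map K.subtype with hRdef
  haveI hRn : R.Normal := inferInstanceAs ((Cfsg.pCore q K).map K.subtype).Normal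
  have hRp : IsPGroup q R := (CfsgLib.Fitting.pCore_isPGroup q).map _
  have hRne : R ≠ ⊥ := fun h =>
    hR ((Subgroup.map_eq_bot_iff_of_injective _ K.subtype_injective).mp h)
  by_cases hq3 : q = 3
  swap
  · refine hRne (L.signalizer R ?_ fun j _ k hk => hRn.conj_mem k hk j)
    obtain ⟨n, hn⟩ := IsPGroup.iff_card.mp hRp
    rw [hn]
    exact fun h =>
      hq3 ((Nat.prime_dvd_prime_iff_eq Nat.prime_three hq).mp (Nat.prime_three.dvd_of_dvd_pow h)).symm
  subst hq3
  obtain ⟨S, hS⟩ := L.sylow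
  have hS' : (S : Subgroup G) = L.S := hS
  obtain ⟨P, hP⟩ := hRp.exists_le_sylow
  have hRS : R ≤ L.S := by
    obtain ⟨g, hg⟩ := MulAction.exists_smul_eq G P S
    intro r hr
    rw [← hS', ← hg, Sylow.coe_subgroup_smul, Subgroup.mem_pointwise_smul_iff_inv_smul_mem]
    refine hP ?_
    simpa [MulAut.smul_def] using hRn.conj_mem r hr g⁻¹
  have hSp : IsPGroup 3 L.S := hS' ▸ S.isPGroup'
  have hzT : ∀ T : Subgroup G, T.Normal → T ≤ L.S → T ≠ ⊥ → L.z ∈ T := by
    intro T hT hTS hTne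
    haveI := hT
    have hne' : T.subgroupOf L.S ≠ ⊥ := fun h => hTne (by
      rw [Subgroup.subgroupOf_eq_bot] at h
      exact h.eq_bot_of_le hTS)
    obtain ⟨⟨c, hc⟩, hc1'⟩ := Subgroup.ne_bot_iff_exists_ne_one.mp
      (CfsgLib.IsolatedMin.inf_center_ne_bot hSp (T.subgroupOf L.S) hne')
    have hc1 : c ≠ 1 := fun e => hc1' (Subtype.ext e)
    obtain ⟨hcT, hcz⟩ := Subgroup.mem_inf.mp hc
    obtain ⟨k, hk⟩ := L.mem_zpowers_of_central (c := (c : G)) fun g hg =>
      congrArg Subtype.val (Subgroup.mem_center_iff.mp hcz ⟨g, hg⟩)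
    have hk' : L.z ^ k ∈ T := by
      have : (c : G) ∈ T := hcT
      rwa [← hk] at this
    rcases zpow_cases L.cube_z k with e | e | e
    · exact absurd (Subtype.ext (by rw [← hk]; exact e) : c = 1) hc1
    · rwa [e] at hk'
    · simpa [e] using inv_mem hk'
  haveI : (Subgroup.center R).Characteristic := inferInstance
  set Z : Subgroup G := (Subgroup.center R).map R.subtype with hZdef
  haveI hZn : Z.Normal := inferInstanceAs ((Subgroup.center R).map R.subtype).Normal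
  have hZne : Z ≠ ⊥ := by
    haveI : Nontrivial R := (Subgroup.nontrivial_iff_ne_bot _).mpr hRne
    haveI := hRp.center_nontrivial
    exact fun h => (Subgroup.nontrivial_iff_ne_bot _).mp ‹Nontrivial (Subgroup.center R)›
      ((Subgroup.map_eq_bot_iff_of_injective _ R.subtype_injective).mp h)
  have hZR : Z ≤ R := Subgroup.map_subtype_le _
  have hz : L.z ∈ Z := hzT Z hZn (hZR.trans hRS) hZne
  have hconj : ∀ x : G, IsConj L.z x → x ∈ Z := fun x hx => by
    obtain ⟨c, hc⟩ := isConj_iff.mp hx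
    rw [← hc]
    exact hZn.conj_mem _ hz c
  have hi1 : L.i₁ ∈ Z := by
    have h := mul_mem (hconj _ L.conj_diag.1) (hconj _ L.conj_diag.2)
    have e : L.i₁ * L.i₂ * (L.i₁ * L.i₂⁻¹) = L.i₁ * L.i₁ := by
      rw [Commute.mul_mul_mul_comm L.comm_i₁i₂.symm, mul_inv_cancel, mul_one]
    rw [e] at h
    have e3 : L.i₁ = (L.i₁ * L.i₁)⁻¹ := by
      rw [eq_inv_iff_mul_eq_one, ← mul_assoc, ← pow_two, ← pow_succ]
      exact L.cube_i₁
    rw [e3]
    exact inv_mem h
  have hi2 : L.i₂ ∈ Z := by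
    simpa using mul_mem (inv_mem hi1) (hconj _ L.conj_diag.1)
  have hJZ : L.J ≤ Z := by
    refine (Subgroup.closure_le _).mpr ?_
    intro g hg
    simp only [Set.mem_insert_iff, Set.mem_singleton_iff] at hg
    rcases hg with hg | hg | hg | hg <;> subst hg
    exacts [hz, hi1, hi2, hconj _ L.conj_y]
  have hRJ : R ≤ L.J := by
    refine le_of_le_of_eq ?_ L.cent_J
    intro r hr
    rw [Subgroup.mem_centralizer_iff]
    intro j hj
    obtain ⟨⟨j', hj'R⟩, hj', rfl⟩ := hJZ hj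
    exact (congrArg Subtype.val (Subgroup.mem_center_iff.mp hj' ⟨r, hr⟩)).symm
  exact L.J_not_normal (le_antisymm hRJ (hJZ.trans hZR) ▸ hRn)

/-- The structure of the centraliser of `t` in `N`. -/
def CentHyp (N : Subgroup G) (ht : L.t ∈ N) : Prop :=
  IsExtraspecial 2 (generalizedFittingSubgroup ↥(OmegaEightCent.Cz (⟨L.t, ht⟩ : N))) ∧
  Nat.card (generalizedFittingSubgroup ↥(OmegaEightCent.Cz (⟨L.t, ht⟩ : N))) = 2 ^ 9 ∧
  Nonempty (↥(OmegaEightCent.Cz (⟨L.t, ht⟩ : N)) ⧸ pCore 2 ↥(OmegaEightCent.Cz (⟨L.t, ht⟩ : N)) ≃*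
    Equiv.Perm (Fin 3) × Equiv.Perm (Fin 3) × Equiv.Perm (Fin 3)) ∧
  Subgroup.centralizer (((pCore 2 ↥(OmegaEightCent.Cz (⟨L.t, ht⟩ : N))).map
      (OmegaEightCent.Cz (⟨L.t, ht⟩ : N)).subtype : Subgroup N) : Set N) ≤
    (pCore 2 ↥(OmegaEightCent.Cz (⟨L.t, ht⟩ : N))).map (OmegaEightCent.Cz (⟨L.t, ht⟩ : N)).subtype

theorem iso_of_cent {N : Subgroup G} [hNn : N.Normal] (hX : L.X ≤ N) (ht : L.t ∈ N)
    (h : L.CentHyp N ht) : Nonempty (N ≃* O8) := by
  obtain ⟨h1, h2, ⟨e⟩, h4⟩ := h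
  have hz : orderOf (⟨L.t, ht⟩ : N) = 2 := by
    rw [Subgroup.orderOf_mk]; exact (L.O_t L.t L.t_mem).2 rfl
  rcases OmegaEightCent.classify hz h1 h2 e h4 with hiso | hiso
  · exfalso
    haveI : Fact (Nat.Prime 2) := ⟨Nat.prime_two⟩
    set K : Subgroup G := (oddCore N).map N.subtype with hK
    haveI hKn : K.Normal := inferInstanceAs ((oddCore N).map N.subtype).Normal
    have hodd : Odd (Nat.card K) := by
      rw [hK, Subgroup.card_map_of_injective N.subtype_injective, ← Nat.not_even_iff_odd,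
        even_iff_two_dvd]
      exact CfsgLib.Transfer.not_dvd_card_pPrimeCore (p := 2) (G := N)
    have hmem : L.p * L.p ∈ K := by
      refine ⟨_, hiso ⟨L.p, hX L.p_mem_X⟩, ?_⟩
      show L.p * L.t * L.p⁻¹ * L.t⁻¹ = L.p * L.p
      calc L.p * L.t * L.p⁻¹ * L.t⁻¹ = L.p * (L.t * L.p * L.t⁻¹)⁻¹ := by group
        _ = L.p * L.p := by rw [L.t_p, inv_inv]
    have e3 : L.p = (L.p * L.p)⁻¹ := by
      rw [eq_inv_iff_mul_eq_one, ← mul_assoc, ← pow_two, ← pow_succ]
      exact L.cube_p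
    exact L.no_odd_normal (K := K) hodd (e3 ▸ inv_mem hmem)
  · exact hiso

theorem centralizer_of_iso {N : Subgroup G} (hX : L.X ≤ N) (e : N ≃* O8) :
    Subgroup.centralizer (N : Set G) = ⊥ := by
  haveI : IsSimpleGroup N := by
    haveI := omega_simple
    exact e.isSimpleGroup
  rw [eq_bot_iff]
  intro c hc
  have hcJ : c ∈ L.J := L.cent_J.le
    (Subgroup.centralizer_le (SetLike.coe_subset_coe.mpr (L.J_le_X.trans hX)) hc)
  have hcZ : (⟨c, hX (L.J_le_X hcJ)⟩ : N) ∈ Subgroup.center N :=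
    Subgroup.mem_center_iff.mpr fun n => Subtype.ext (Subgroup.mem_centralizer_iff.mp hc n n.2)
  rcases (inferInstance : (Subgroup.center N).Normal).eq_bot_or_eq_top with h | h
  · rw [h, Subgroup.mem_bot] at hcZ
    exact Subgroup.mem_bot.mpr (congrArg Subtype.val hcZ)
  · exfalso
    have hh : (⟨L.p, hX L.p_mem_X⟩ : N) ∈ Subgroup.center N := h ▸ Subgroup.mem_top _
    have hcomm : L.i₁ * L.p = L.p * L.i₁ :=
      congrArg Subtype.val (Subgroup.mem_center_iff.mp hh ⟨L.i₁, hX L.i₁_mem_X⟩)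
    have hrel := L.rel_p
    rw [← hcomm, mul_inv_cancel_right, mul_inv_cancel] at hrel
    exact L.z_ne hrel.symm

/-- The case `m = 1`, from the centraliser of `t` in the subgroup of index three. -/
theorem index_three
    (hNS : Subgroup.normalizer (L.S : Set G) ≤
      Subgroup.closure {L.z, L.i₁, L.i₂, L.y, L.p, L.a, L.t, L.ν})
    (hcent : ∀ N : Subgroup G, N.Normal → N.index = 3 → L.X ≤ N → ∀ hO : L.O ≤ N, L.ν ∈ N →
      L.a ∉ N → L.CentHyp N (hO L.t_mem)) :
    ∃ N : Subgroup G, N.Normal ∧ Nonempty (N ≃* O8) ∧ Subgroup.centralizer (N : Set G) = ⊥ ∧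
      N.index = 3 ∧ L.X ≤ N := by
  obtain ⟨N, hN, hi, hX, hO, hν, ha⟩ := L.exists_index_three hNS
  haveI := hN
  obtain ⟨e⟩ := L.iso_of_cent hX (hO L.t_mem) (hcent N hN hi hX hO hν ha)
  exact ⟨N, hN, ⟨e⟩, L.centralizer_of_iso hX e, hi, hX⟩

include L in
theorem centre_odd {c : G} (h2 : c * c = 1) (hc : ∀ g : G, g * c = c * g) : c = 1 := by
  have hcJ : c ∈ L.J := L.cent_J.le (Subgroup.mem_centralizer_iff.mpr fun j _ => hc j)
  have h := pow_card_eq_one' (x := (⟨c, hcJ⟩ : L.J))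
  rw [show Nat.card L.J = 81 from L.card_J] at h
  have h' : c ^ 81 = 1 := congrArg Subtype.val h
  rwa [show 81 = 2 * 40 + 1 from rfl, pow_succ, pow_mul, pow_two, h2, one_pow, one_mul] at h'

include L in
/-- The case `m = 2`, from a subgroup of index two. -/
theorem index_six {G₂ : Subgroup G} [hG₂ : G₂.Normal] (h2 : G₂.index = 2) (L₂ : Loc G₂)
    (N : Subgroup G₂) [hN : N.Normal] (e : N ≃* O8)
    (hC : Subgroup.centralizer (N : Set G₂) = ⊥) (hi : N.index = 3) (hX : L₂.X ≤ N) :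
    ∃ M : Subgroup G, M.Normal ∧ Nonempty (M ≃* O8) ∧ Subgroup.centralizer (M : Set G) = ⊥ ∧
      M.index = 6 := by
  haveI : IsSimpleGroup N := by
    haveI := omega_simple
    exact e.isSimpleGroup
  set M : Subgroup G := N.map G₂.subtype with hM
  have hfix : ∀ g : G, N.map (MulAut.conjNormal g : G₂ ≃* G₂).toMonoidHom = N := by
    intro g
    set N' := N.map (MulAut.conjNormal g : G₂ ≃* G₂).toMonoidHom with hN'
    haveI hN'n : N'.Normal := Subgroup.Normal.map hN _ (MulAut.conjNormal g : G₂ ≃* G₂).surjective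
    have hcard : Nat.card N' = Nat.card N :=
      Subgroup.card_map_of_injective (MulAut.conjNormal g : G₂ ≃* G₂).injective
    rcases (inferInstance : (N'.subgroupOf N).Normal).eq_bot_or_eq_top with h | h
    · exfalso
      have hd : N'.relIndex N ∣ N'.index := Subgroup.relIndex_dvd_index_of_normal _ _
      rw [Subgroup.relIndex, h, Subgroup.index_bot, hN', Subgroup.index_map_of_bijective (f := (MulAut.conjNormal g : G₂ ≃* G₂).toMonoidHom) (MulAut.conjNormal g : G₂ ≃* G₂).bijective, hi] at hd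
      have hd' := (Subgroup.card_dvd_of_le hX).trans hd
      rw [L₂.card_X] at hd'
      exact absurd hd' (by norm_num)
    · exact (Subgroup.eq_of_le_of_card_ge (Subgroup.subgroupOf_eq_top.mp h) hcard.le).symm
  haveI hMn : M.Normal := by
    refine ⟨fun m hm g => ?_⟩
    obtain ⟨n, hn, rfl⟩ := hm
    have : (MulAut.conjNormal g : G₂ ≃* G₂) n ∈ N := (hfix g).le ⟨n, hn, rfl⟩
    exact ⟨_, this, MulAut.conjNormal_apply g n⟩
  refine ⟨M, hMn, ⟨(N.equivMapOfInjective G₂.subtype G₂.subtype_injective).symm.trans e⟩, ?_, ?_⟩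
  · have hbot : ∀ c ∈ Subgroup.centralizer (M : Set G), c ∈ G₂ → c = 1 := fun c hc hc2 => by
      have h' : (⟨c, hc2⟩ : G₂) ∈ Subgroup.centralizer (N : Set G₂) :=
        Subgroup.mem_centralizer_iff.mpr fun n hn => Subtype.ext
          (Subgroup.mem_centralizer_iff.mp hc (n : G) ⟨n, hn, rfl⟩)
      rw [hC, Subgroup.mem_bot] at h'
      exact congrArg Subtype.val h'
    rw [eq_bot_iff]
    intro c hc
    have hsq : c * c = 1 := hbot _ (mul_mem hc hc) (Subgroup.mul_self_mem_of_index_two h2 c)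
    refine Subgroup.mem_bot.mpr (L.centre_odd hsq fun g => ?_)
    haveI : (Subgroup.centralizer (M : Set G)).Normal := inferInstance
    have h1 : g * c * g⁻¹ * c⁻¹ = 1 := by
      refine hbot _ (mul_mem (Subgroup.Normal.conj_mem ‹_› c hc g) (inv_mem hc)) ?_
      rw [Subgroup.mul_mem_iff_of_index_two h2, inv_mem_iff]
      exact ⟨fun h => by simpa [mul_assoc] using hG₂.conj_mem _ h g⁻¹, fun h => hG₂.conj_mem c h g⟩
    rw [mul_inv_eq_one, mul_inv_eq_iff_eq_mul] at h1
    exact h1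
  · rw [Subgroup.index_map_subtype, hi, h2]

end Loc

end CfsgLib.OEightLocal
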