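import Cfsg.Agent.Lib.OEightLocal.InvEqNormal
import Cfsg.Agent.Lib.OEightLocal.InvEqModel
import Cfsg.Agent.Lib.OEightLocal.InvWGood
import Cfsg.Agent.Lib.OEightLocal.CentPair
import Cfsg.Agent.Lib.OEightLocal.One

/-!
The centraliser of `t` in the subgroup of index three, for `m = 1`.
-/

set_option autoImplicit false
set_option maxRecDepth 100000
set_option linter.style.haveILetI false
set_option linter.unusedSectionVars false

open Cfsg
open scoped commutatorElement

namespace CfsgLib.OEightLocal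

theorem refV_line : ∀ i : Fin 3, ∀ v : V, v 1 = 0 → refV (axV i) v 1 = 0 := by decide +kernel

theorem sgn_false : ∀ v : V, sgnV false (fun _ => true) v = ft (-v) := by decide +kernel

namespace InvEq

variable {G : Type*} [Group G]

/-- The commutator of two elements. -/
def cm (a b : G) : G := a * b * a⁻¹ * b⁻¹

/-- The commutators with an involution normalising a two-group of class two square to one, given this for
generators. -/
theorem split_closure {t r : G} {W : Subgroup G} {S : Set G} (hS : W = Subgroup.closure S)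
    (ht2 : t * t = 1) (htc : ∀ a ∈ W, Commute a t) (hcm : ∀ a ∈ W, ∀ b ∈ W, cm a b = 1 ∨ cm a b = t)
    (hrt : Commute r t) (hrr : r * r = 1) (hrW : ∀ a ∈ W, r * a * r⁻¹ ∈ W)
    (hgen : ∀ u ∈ S, cm u r * cm u r = 1) {u : G} (hu : u ∈ W) : cm u r * cm u r = 1 := by
  have hsq : ∀ a ∈ W, ∀ b ∈ W, cm a b * cm a b = 1 := fun a ha b hb => by
    rcases hcm a ha b hb with h | h <;> rw [h]
    exacts [one_mul 1, ht2]
  have hz : ∀ a ∈ W, ∀ b ∈ W, ∀ c ∈ W, Commute c (cm a b) := fun a ha b hb c hc => by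
    rcases hcm a ha b hb with h | h <;> rw [h]
    exacts [Commute.one_right c, htc c hc]
  have hinv : ∀ a ∈ W, ∀ b ∈ W, cm b a = cm a b := fun a ha b hb => by
    calc cm b a = (cm a b)⁻¹ := by simp only [cm]; group
      _ = cm a b := inv_eq_of_mul_eq_one_left (hsq a ha b hb)
  have hL : ∀ a ∈ W, ∀ b ∈ W, ∀ c ∈ W, cm (a * b) c = cm a c * cm b c := fun a ha b hb c hc => by
    calc cm (a * b) c = a * cm b c * a⁻¹ * cm a c := by simp only [cm]; group
      _ = cm b c * cm a c := by rw [(hz b hb c hc a ha).eq, mul_inv_cancel_right]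
      _ = _ := by
        rcases hcm a ha c hc with h | h <;> rcases hcm b hb c hc with h' | h' <;> simp [h, h']
  have hR : ∀ a ∈ W, ∀ b ∈ W, ∀ c ∈ W, cm a (b * c) = cm a b * cm a c := fun a ha b hb c hc => by
    rw [← hinv a ha _ (mul_mem hb hc), hL b hb c hc a ha, hinv a ha b hb, hinv a ha c hc]
  have hI : ∀ a ∈ W, ∀ b ∈ W, cm a⁻¹ b = cm a b := fun a ha b hb => by
    have h := hL a⁻¹ (inv_mem ha) a ha b hb
    rw [inv_mul_cancel, show cm 1 b = (1 : G) by simp [cm]] at h
    exact (eq_inv_of_mul_eq_one_left h.symm).trans (inv_eq_of_mul_eq_one_left (hsq a ha b hb))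
  have hI' : ∀ a ∈ W, ∀ b ∈ W, cm a b⁻¹ = cm a b := fun a ha b hb => by
    rw [hinv _ (inv_mem hb) a ha, hI b hb a ha, hinv a ha b hb]
  have hσ : ∀ a ∈ W, ∀ b ∈ W, cm (r * a * r⁻¹) (r * b * r⁻¹) = cm a b := fun a ha b hb => by
    have hc : Commute r (cm a b) := by
      rcases hcm a ha b hb with h | h <;> rw [h]
      exacts [Commute.one_right r, hrt]
    calc cm (r * a * r⁻¹) (r * b * r⁻¹) = r * cm a b * r⁻¹ := by simp only [cm]; group
      _ = _ := by rw [hc.eq, mul_inv_cancel_right]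
  have hcr : ∀ a ∈ W, cm a r = a * (r * a * r⁻¹)⁻¹ := fun a _ => by simp only [cm]; group
  have hmem : ∀ a ∈ W, cm a r ∈ W := fun a ha => hcr a ha ▸ mul_mem ha (inv_mem (hrW a ha))
  have hrr' : ∀ a : G, r * (r * a * r⁻¹) * r⁻¹ = a := fun a => by
    calc r * (r * a * r⁻¹) * r⁻¹ = r * r * a * (r * r)⁻¹ := by group
      _ = a := by rw [hrr]; group
  rw [hS] at hu
  refine (Subgroup.closure_induction (p := fun u _ => u ∈ W ∧ cm u r * cm u r = 1)
    (fun u hu => ⟨hS ▸ Subgroup.subset_closure hu, hgen u hu⟩) ⟨one_mem W, by simp [cm]⟩ ?_ ?_ hu).2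
  · rintro a b - - ⟨ha, ha2⟩ ⟨hb, hb2⟩
    refine ⟨mul_mem ha hb, ?_⟩
    set σa := r * a * r⁻¹
    set σb := r * b * r⁻¹
    have hσa : σa ∈ W := hrW a ha
    have hσb : σb ∈ W := hrW b hb
    have e : cm (a * b) r = a * cm b r * a⁻¹ * cm a r := by simp only [cm]; group
    have hk : cm (cm b r) (cm a r) = 1 := by
      rw [hcr a ha, hcr b hb, hL b hb _ (inv_mem hσb) _ (mul_mem ha (inv_mem hσa)),
        hR b hb a ha _ (inv_mem hσa), hI σb hσb _ (mul_mem ha (inv_mem hσa)), hR σb hσb a ha _ (inv_mem hσa),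
        hI' b hb σa hσa, hI' σb hσb σa hσa, hσ b hb a ha]
      have hy : cm σb a = cm b σa := by
        have := hσ σb hσb a ha
        rw [hrr'] at this
        exact this.symm
      rw [hy]
      rcases hcm b hb a ha with h | h <;> rcases hcm b hb σa hσa with h' | h' <;> simp [h, h', ht2]
    have hkc : Commute (cm b r) (cm a r) := mul_inv_eq_iff_eq_mul.1 (mul_inv_eq_one.1 hk)
    have hz' := hz a ha _ (hmem b hb)
    have e' : cm (a * b) r = cm a (cm b r) * (cm b r * cm a r) := by rw [e]; simp only [cm]; group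
    rw [e', (((hz' _ (mul_mem (hmem b hb) (hmem a ha))))).mul_mul_mul_comm, hsq a ha _ (hmem b hb), one_mul,
      hkc.symm.mul_mul_mul_comm, hb2, ha2, one_mul]
  · rintro a - ⟨ha, ha2⟩
    refine ⟨inv_mem ha, ?_⟩
    calc cm a⁻¹ r * cm a⁻¹ r = a⁻¹ * (cm a r * cm a r)⁻¹ * a := by simp only [cm]; group
      _ = 1 := by rw [ha2]; group

end InvEq

namespace Loc

open InvEq

variable {G : Type*} [Group G] [Finite G] (L : Loc G)

theorem jel_NT {v : V} (hv : v 1 = 0) : L.jel v ∈ L.NT :=
  L.mem_NT.2 ⟨(act_mem_J L (jel_mem L v)).mem_normalizer, (mul_inv_eq_iff_eq_mul.1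
    ((act_t L v).trans (congrArg L.jel (show ft v = v by funext i; fin_cases i <;> simp [ft, hv])))).symm⟩

theorem sq_W (hc : L.CommO) {w : G} (hw : w ∈ L.W) : w * w = 1 ∨ w * w = L.t := by
  obtain ⟨c, rfl⟩ := (L.mem_W hc).1 hw
  rw [← L.mem_T, ← map_mul, L.emb_mem_T hc]
  exact fun k => L.sq_T (c k).2

theorem cm_W (hc : L.CommO) {a b : G} (ha : a ∈ L.W) (hb : b ∈ L.W) : cm a b = 1 ∨ cm a b = L.t := by
  obtain ⟨c, rfl⟩ := (L.mem_W hc).1 ha
  obtain ⟨d, rfl⟩ := (L.mem_W hc).1 hb
  rw [← L.mem_T, cm, ← map_inv, ← map_inv, ← map_mul, ← map_mul, ← map_mul, L.emb_mem_T hc]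
  exact fun k => L.comm_T (c k).2 (d k).2

theorem W_closure : L.W = Subgroup.closure {g | ∃ k, g ∈ L.Os L.rf k} := by
  rw [W, Subgroup.iSup_eq_closure]
  congr 1
  ext g
  simp

/-- The reflection in an axis moves each of the four groups to another one. -/
theorem refl_moves (hc : L.CommO) {i : Fin 3} {r : G} (hr : L.Act r (refV (axV i))) (hrt : Commute r L.t)
    {k : Fin 4} {u : G} (hu : u ∈ L.Os L.rf k) : Commute u (r * u * r⁻¹) := by
  obtain ⟨o, ho, rfl⟩ := hu
  have hp := (pt_facts k k)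
  have h0 : pt k ≠ 0 := (show ∀ k, pt k ≠ 0 by decide +kernel) k
  obtain ⟨m1, m2⟩ := refV_moves i (pt k) hp.1 h0 hp.2.1
  have hl := refV_line i (pt k) hp.1
  have hq : qJ (refV (axV i) (pt k)) = 0 := (qJ_act L hr _).trans hp.2.1
  obtain ⟨j, hj⟩ := sing_pts _ (fun e => h0 (hr.injective (e.trans hr.map_zero.symm))) hl hq
  have hkj : k ≠ j := by
    rintro rfl
    rcases hj with h | h
    exacts [m1 h, m2 h]
  set pk := L.pz k
  set pj := L.pz j
  obtain ⟨nk, ck⟩ := L.rf_flip.sl_mem k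
  obtain ⟨nj, cj⟩ := L.rf_flip.sl_mem j
  have hz : pj⁻¹ * r * pk * L.z * (pj⁻¹ * r * pk)⁻¹ ∈ Subgroup.zpowers L.z := by
    rw [show pj⁻¹ * r * pk * L.z * (pj⁻¹ * r * pk)⁻¹ = pj⁻¹ * (r * (pk * L.z * pk⁻¹) * r⁻¹) * pj by group,
      L.rf_flip.sl_pt k, hr]
    rcases hj with e | e <;> rw [e]
    · rw [← L.rf_flip.sl_pt j]; exact Subgroup.mem_zpowers_iff.2 ⟨1, by simp only [pj, pz]; group⟩
    · rw [jel_neg, ← L.rf_flip.sl_pt j]; exact Subgroup.mem_zpowers_iff.2 ⟨-1, by simp only [pj, pz]; group⟩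
  have hn := L.O_norm (mul_mem (mul_mem (inv_mem nj) hr.mem_normalizer) nk)
    ((cj.inv_left.mul_left hrt).mul_left ck) hz ho
  have e : r * (pk * o * pk⁻¹) * r⁻¹ = pj * (pj⁻¹ * r * pk * o * (pj⁻¹ * r * pk)⁻¹) * pj⁻¹ := by group
  show Commute (pk * o * pk⁻¹) (r * (pk * o * pk⁻¹) * r⁻¹)
  rw [e]
  exact L.rf_flip.pairwise hc hkj ho hn

/-- The centraliser of `t` in the normal subgroup of index three. -/
theorem cent_hyp (hm : L.m = 1) (hc : L.CommO)
    (hgood : ∀ v : V, v ≠ 0 → v 1 = 0 → qJ v ≠ -1 →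
      Subgroup.centralizer ({L.jel v} : Set G) ⊓ Subgroup.centralizer {L.t} ≤ L.W ⊔ L.NT)
    (N : Subgroup G) [hN : N.Normal] (hi : N.index = 3) (hX : L.X ≤ N) (hO : L.O ≤ N) (ha : L.a ∉ N) :
    L.CentHyp N (hO L.t_mem) := by
  classical
  haveI : Fact (Nat.Prime 2) := ⟨Nat.prime_two⟩
  set z : N := ⟨L.t, hO L.t_mem⟩
  let C : Subgroup N := OmegaEightCent.Cz z
  let ι : ↥C →* G := N.subtype.comp C.subtype
  have hι : Function.Injective ι := fun x y h => Subtype.ext (Subtype.ext h)
  have lift : ∀ g ∈ N, Commute g L.t → ∃ m : C, ι m = g := fun g hg hgt =>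
    ⟨⟨⟨g, hg⟩, OmegaEightCent.mem_Cz.2 (Subtype.ext hgt.eq)⟩, rfl⟩
  obtain ⟨τ, hτ⟩ := lift _ (hO L.t_mem) (Commute.refl _)
  have hWN : L.W ≤ N := L.W_le_of N hO
  have hWt : ∀ {w : G}, w ∈ L.W → Commute w L.t := fun hw =>
    Subgroup.mem_centralizer_singleton_iff.1 (L.W_le_ct hw)
  have hzp : ∀ m : C, ι m ∈ Subgroup.zpowers L.t → m ∈ Subgroup.zpowers τ := fun m hm' => by
    obtain ⟨n, hn⟩ := Subgroup.mem_zpowers_iff.1 hm'
    exact Subgroup.mem_zpowers_iff.2 ⟨n, hι (by rw [map_zpow, hτ, hn])⟩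
  have hd1 : ∀ i, axV i 1 = 0 := fun i => (axV_facts i).1
  choose r hr2 hrc hract hrt using fun i => exists_refl L (axV_facts i).2.1
  have hrN : ∀ i, r i ∈ N := fun i => by
    obtain ⟨g, hg⟩ := isConj_iff.1 (hrc i)
    exact hg ▸ hN.conj_mem _ (hO L.t_mem) g
  have hract' : ∀ i, L.Act (r i) (refV (axV i)) := hract
  have hrNT : ∀ i, r i ∈ L.NT := fun i => L.mem_NT.2 ⟨(hract' i).mem_normalizer, hrt i (hd1 i)⟩
  choose s hs using fun i => lift _ (hrN i) (hrt i (hd1 i))
  choose d hd using fun i => lift _ (hX (L.J_le_X (jel_mem L (axV i)))) (L.NT_t (L.jel_NT (hd1 i)))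
  have hax : ∀ a, ι (axEl d a) = L.jel (comb a) := fun a => by
    simp only [axEl, map_mul, map_pow, hd, comb, jel_add, jel_smul]
  have hcomb : ∀ a b, comb (a + b) = comb a + comb b := fun a b => by
    simp only [comb, Pi.add_apply, add_smul]; abel
  let Φ : Multiplicative (Fin 3 → ZMod 3) →* C := MonoidHom.mk' (fun a => axEl d a.toAdd) fun a b => hι (by
    rw [toAdd_mul, hax, hcomb, jel_add, map_mul, hax, hax])
  have hΦ : Φ.range = Subgroup.closure (Set.range d) := by
    refine le_antisymm ?_ ((Subgroup.closure_le _).2 ?_)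
    · rintro _ ⟨a, rfl⟩
      exact mul_mem (mul_mem (pow_mem (Subgroup.subset_closure (Set.mem_range_self 0)) _)
        (pow_mem (Subgroup.subset_closure (Set.mem_range_self 1)) _))
        (pow_mem (Subgroup.subset_closure (Set.mem_range_self 2)) _)
    · rintro _ ⟨i, rfl⟩
      exact ⟨Multiplicative.ofAdd (Pi.single i 1), hι ((hax _).trans (by
        rw [show (Multiplicative.ofAdd (Pi.single i (1 : ZMod 3)) : Multiplicative (Fin 3 → ZMod 3)).toAdd =
          Pi.single i 1 from rfl, comb_single, hd]))⟩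
  have hexT : ∀ x ∈ Subgroup.closure (Set.range d), ∃ a, x = axEl d a := fun x hx => by
    rw [← hΦ] at hx; obtain ⟨a, rfl⟩ := hx; exact ⟨a.toAdd, rfl⟩
  have hcT : Nat.card (Subgroup.closure (Set.range d) : Subgroup C) = 27 := by
    have hinj : Function.Injective Φ := fun a b e => by
      have e' := congrArg ι e
      rw [show ι (Φ a) = L.jel (comb a.toAdd) from hax _, show ι (Φ b) = L.jel (comb b.toAdd) from hax _,
        jel_inj] at e'
      exact comb_inj _ _ e'
    rw [← hΦ, ← Nat.card_congr (MonoidHom.ofInjective hinj).toEquiv,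
      Nat.card_congr Multiplicative.toAdd, Nat.card_fun, Nat.card_zmod, Nat.card_fin]
    norm_num
  have hsact : ∀ b, L.Act (ι (sgnEl s b)) (sgnV false b) := fun b => by
    have h1 : ∀ i (p : Bool), L.Act (ι (if p then s i else 1)) (if p then refV (axV i) else id) := fun i p => by
      cases p
      · simpa using Loc.Act.one (L := L)
      · simpa [hs] using hract' i
    simp only [sgnEl, map_mul]
    exact (((h1 0 _).mul (h1 1 _)).mul (h1 2 _)).congr fun v => rfl
  have hstab : ∀ γ ∈ N, γ ∈ L.NT → ∃ (e : Bool) (a : Fin 3 → ZMod 3) (b : Fin 3 → Bool),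
      γ = (if e then L.t else 1) * L.jel (comb a) * ι (sgnEl s b) := by
    let F : Bool × (Fin 3 → ZMod 3) × (Fin 3 → Bool) → (N ⊓ L.NT : Subgroup G) := fun p =>
      ⟨(if p.1 then L.t else 1) * L.jel (comb p.2.1) * ι (sgnEl s p.2.2), by
        have hs' : ι (sgnEl s p.2.2) ∈ N ⊓ L.NT := Subgroup.mem_inf.2 ⟨(sgnEl s p.2.2).1.2, L.mem_NT.2
          ⟨(hsact _).mem_normalizer, congrArg Subtype.val (OmegaEightCent.mem_Cz.1 (sgnEl s p.2.2).2)⟩⟩
        refine mul_mem (mul_mem ?_ (Subgroup.mem_inf.2 ⟨hX (L.J_le_X (jel_mem L _)), L.jel_NT (comb_e1 _)⟩)) hs'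
        split_ifs
        · exact Subgroup.mem_inf.2 ⟨hO L.t_mem, L.mem_NT.2 ⟨(act_t L).mem_normalizer, Commute.refl _⟩⟩
        · exact one_mem _⟩
    have hact : ∀ p : Bool × (Fin 3 → ZMod 3) × (Fin 3 → Bool), L.Act (F p : G) (sgnV p.1 p.2.2) := fun p => by
      have h1 : L.Act (if p.1 then L.t else 1) (if p.1 then ft else id) := by
        cases p.1
        exacts [Loc.Act.one, act_t L]
      exact ((h1.mul (act_mem_J L (jel_mem L (comb p.2.1)))).mul (hsact p.2.2)).congr fun v => rfl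
    have hFi : Function.Injective F := by
      intro p q h
      have hf := (hact p).unique (h ▸ hact q : L.Act (F p : G) _)
      obtain ⟨he, hb⟩ := sgnB_inj _ _ _ _ (funext fun k => congrFun hf _)
      obtain ⟨e, a, b⟩ := p
      obtain ⟨e', a', b'⟩ := q
      dsimp only at he hb
      subst he hb
      have h' := congrArg Subtype.val h
      simp only [F, mul_left_inj, mul_right_inj, jel_inj] at h'
      rw [comb_inj _ _ h']
    have hcard : Nat.card (N ⊓ L.NT : Subgroup G) = 432 := by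
      have hd3 : (N.subgroupOf L.NT).index ∣ 3 := hi ▸ Subgroup.relIndex_dvd_index_of_normal N L.NT
      have hne : (N.subgroupOf L.NT).index ≠ 1 := fun h => ha (by
        rw [Subgroup.index_eq_one, Subgroup.subgroupOf_eq_top] at h
        exact h (L.mem_NT.2 ⟨(act_a L).mem_normalizer, (L.O_comm L.t L.t_mem).2.1.symm⟩))
      have h3 : (N.subgroupOf L.NT).index = 3 := ((Nat.dvd_prime Nat.prime_three).1 hd3).resolve_left hne
      have e := (N.subgroupOf L.NT).card_mul_index
      rw [h3, show Nat.card L.NT = 1296 by rw [NT, card_normJ_t L, hm, mul_one]] at e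
      rw [← Nat.card_congr (Subgroup.subgroupOfEquivOfLe (inf_le_right : N ⊓ L.NT ≤ L.NT)).toEquiv,
        Subgroup.inf_subgroupOf_right]
      omega
    have hbij := (Nat.bijective_iff_injective_and_card F).2 ⟨hFi, by
      rw [hcard, Nat.card_prod, Nat.card_prod, Nat.card_fun, Nat.card_fun, Nat.card_zmod,
        Nat.card_eq_fintype_card (α := Bool), Fintype.card_bool, Nat.card_fin]
      norm_num⟩
    intro γ h1 h2
    obtain ⟨⟨e, a, b⟩, hF⟩ := hbij.2 ⟨γ, Subgroup.mem_inf.2 ⟨h1, h2⟩⟩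
    exact ⟨e, a, b, (congrArg Subtype.val hF).symm⟩
  have hform : ∀ (g : C) (w : G), w ∈ L.W → ι g * w⁻¹ ∈ L.NT → ∀ (hw' : w ∈ N),
      ∃ v ∈ L.W.comap ι, ∃ a b, g = v * axEl d a * sgnEl s b := by
    intro g w hw hgw hwN
    have hgN : ι g * w⁻¹ ∈ N := mul_mem g.1.2 (inv_mem hwN)
    obtain ⟨e, a, b, he⟩ := hstab _ hgN hgw
    -- move `w` to the left
    set h := ι g * w⁻¹
    have hh : ι g = (h * w * h⁻¹) * h := by simp only [h]; group
    have hw' : h * w * h⁻¹ * (if e then L.t else 1) ∈ L.W := mul_mem (L.NT_norm_W hgw hw) (by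
      split_ifs
      exacts [L.t_mem_W, one_mem _])
    obtain ⟨v, hv⟩ := lift _ (hWN hw') (hWt hw')
    refine ⟨v, by rw [Subgroup.mem_comap, hv]; exact hw', a, b, hι ?_⟩
    rw [map_mul, map_mul, hv, hax, hh]
    calc h * w * h⁻¹ * h = h * w * h⁻¹ * ((if e then L.t else 1) * L.jel (comb a) * ι (sgnEl s b)) := by rw [← he]
      _ = _ := by group
  have hsW : ∀ i, ∀ a ∈ L.W, r i * a * (r i)⁻¹ ∈ L.W := fun i a h => L.NT_norm_W (hrNT i) h
  have hρ : L.Act (r 0 * r 1 * r 2) (fun v => ft (-v)) :=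
    (((hract' 0).mul (hract' 1)).mul (hract' 2)).congr sgn_false
  have hsplit : ∀ i, ∀ u ∈ L.W, cm u (r i) * cm u (r i) = 1 := fun i u hu => by
    refine split_closure L.W_closure L.t_sq (fun a h => hWt h) (fun a h b h' => L.cm_W hc h h') (hrt i (hd1 i))
      (hr2 i) (hsW i) (fun x hx => ?_) hu
    obtain ⟨k, hk⟩ := hx
    have hxW : x ∈ L.W := L.Os_le_W k hk
    have hxc := L.refl_moves hc (hract' i) (hrt i (hd1 i)) hk
    have he : r i * x * (r i)⁻¹ * (r i * x * (r i)⁻¹) = x * x := by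
      have hc2 : Commute (r i) (x * x) := by
        rcases L.sq_W hc hxW with h | h <;> rw [h]
        exacts [Commute.one_right _, hrt i (hd1 i)]
      calc r i * x * (r i)⁻¹ * (r i * x * (r i)⁻¹) = r i * (x * x) * (r i)⁻¹ := by group
        _ = _ := by rw [hc2.eq, mul_inv_cancel_right]
    have e : cm x (r i) = x * (r i * x * (r i)⁻¹)⁻¹ := by simp only [cm]; group
    rw [e, hxc.inv_right.symm.mul_mul_mul_comm, ← _root_.mul_inv_rev, he, mul_inv_cancel]
  let D : InvData C τ :=
    { W := L.W.comap ι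
      d := d
      s := s
      t_mem := by rw [Subgroup.mem_comap, hτ]; exact L.t_mem_W
      t_sq := hι (by rw [map_mul, hτ, map_one, L.t_sq])
      t_ne := fun h => t_ne L (by rw [← hτ, h, map_one])
      t_cen := fun g => hι (by
        rw [map_mul, map_mul, hτ]
        exact congrArg Subtype.val (OmegaEightCent.mem_Cz.1 g.2))
      W_sq := fun w hw => hzp _ (by rw [map_mul, L.mem_T]; exact L.sq_W hc hw)
      W_gen := by
        set S := {w : C | w ∈ L.W.comap ι ∧ w * w = τ}
        have hgen : ∀ g ∈ L.W, g * g = L.t → g ∈ (Subgroup.closure S).map ι := fun g hg hgg => by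
          obtain ⟨m, hm'⟩ := lift g (hWN hg) (hWt hg)
          exact ⟨m, Subgroup.subset_closure ⟨by rw [Subgroup.mem_comap, hm']; exact hg,
            hι (by rw [map_mul, hm', hgg, hτ])⟩, hm'⟩
        have hle : L.W ≤ (Subgroup.closure S).map ι := by
          rw [L.W_closure, Subgroup.closure_le]
          rintro _ ⟨k, o, ho, rfl⟩
          have htS : L.t ∈ (Subgroup.closure S).map ι := by
            obtain ⟨u, hu, hut⟩ := L.exists_order_four
            exact hut ▸ mul_mem (hgen u (L.O_le_W hu) hut) (hgen u (L.O_le_W hu) hut)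
          simp only [SetLike.mem_coe, MulEquiv.coe_toMonoidHom, MulAut.conj_apply]
          by_cases h1 : o = 1
          · rw [h1, mul_one, mul_inv_cancel]; exact one_mem _
          by_cases ht : o = L.t
          · rw [ht, (L.NT_t (L.pz_NT k)).eq, mul_inv_cancel_right]; exact htS
          refine hgen _ (L.pz_mem_W k ho) ?_
          calc L.pz k * o * (L.pz k)⁻¹ * (L.pz k * o * (L.pz k)⁻¹) = L.pz k * (o * o) * (L.pz k)⁻¹ := by group
            _ = L.t := by rw [L.O_sq ho h1 ht, (L.NT_t (L.pz_NT k)).eq, mul_inv_cancel_right]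
        intro w hw
        obtain ⟨m, hm', e⟩ := hle hw
        exact hι e ▸ hm'
      d_cube := fun i => hι (by rw [map_pow, hd, cube_jel, map_one])
      d_comm := fun i j => hι (by
        rw [map_mul, map_mul, hd, hd]; exact J_comm L (jel_mem L _) (jel_mem L _))
      card_T := hcT
      s_sq := fun i => hι (by rw [map_mul, hs, hr2, map_one])
      s_comm := fun i j => hι (by
        rw [map_mul, map_mul, hs, hs]
        rcases eq_or_ne i j with rfl | hij
        · rfl
        have ri : ∀ i, (r i)⁻¹ = r i := fun i => inv_eq_of_mul_eq_one_right (hr2 i)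
        obtain ⟨c, hc'⟩ := (mem_J L).1 (mem_J_of_act L
          ((((hract' i).mul (hract' j)).mul (hract' i)).mul (hract' j) |>.congr fun v => refV_comm i j v))
        have e1 : r i * L.jel c * (r i)⁻¹ = (L.jel c)⁻¹ := by
          rw [hc', _root_.mul_inv_rev, _root_.mul_inv_rev, _root_.mul_inv_rev, ri, ri]
          simp only [← mul_assoc, hr2, one_mul]
        have e2 : r j * L.jel c * (r j)⁻¹ = (L.jel c)⁻¹ := by
          rw [hc', _root_.mul_inv_rev, _root_.mul_inv_rev, _root_.mul_inv_rev, ri, ri]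
          simp only [mul_assoc, hr2, mul_one]
        rw [hract' i, ← jel_neg, jel_inj] at e1
        rw [hract' j, ← jel_neg, jel_inj] at e2
        rw [refV_fix i j hij c e1 e2, jel_zero] at hc'
        calc r i * r j = r i * r j * r i * r j * ((r j)⁻¹ * (r i)⁻¹) := by group
          _ = r j * r i := by rw [← hc', one_mul, ri, ri])
      s_d := fun i => hι (by
        rw [map_mul, map_mul, map_inv, hs, hd, ← jel_neg]
        nth_rewrite 2 [← inv_eq_of_mul_eq_one_right (hr2 i)]
        rw [hract' i, (axV_facts i).2.2.2.1])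
      s_d' := fun i j hij => hι (by
        rw [map_mul, map_mul, hs, hd]
        exact mul_inv_eq_iff_eq_mul.1 ((hract' i _).trans (congrArg L.jel ((axV_facts i).2.2.2.2 j hij))))
      d_W := fun i w hw => by
        rw [Subgroup.mem_comap, map_mul, map_mul, map_inv, hd]
        exact L.NT_norm_W (L.jel_NT (hd1 i)) hw
      s_W := fun i w hw => by
        rw [Subgroup.mem_comap, map_mul, map_mul, hs]
        nth_rewrite 2 [← inv_eq_of_mul_eq_one_right (hr2 i)]
        exact hsW i _ hw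
      norm_T := fun g hg => by
        have hE : (Subgroup.closure (Set.range d)).map ι = Subgroup.closure ({L.z, L.i₂, L.y} : Set G) := by
          refine le_antisymm ?_ ((Subgroup.closure_le _).2 ?_)
          · rw [MonoidHom.map_closure, Subgroup.closure_le]
            rintro _ ⟨_, ⟨i, rfl⟩, rfl⟩
            rw [SetLike.mem_coe, hd, L.jel_fix (hd1 i)]
            exact mul_mem (mul_mem (pow_mem (Subgroup.subset_closure (by simp)) _)
              (pow_mem (Subgroup.subset_closure (by simp)) _)) (pow_mem (Subgroup.subset_closure (by simp)) _)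
          · have hk : ∀ v : V, v 1 = 0 → L.jel v ∈ (Subgroup.closure (Set.range d)).map ι := fun v hv => by
              obtain ⟨a, rfl⟩ := exists_comb v hv
              exact ⟨axEl d a, hΦ ▸ ⟨Multiplicative.ofAdd a, rfl⟩, hax a⟩
            rintro _ (rfl | rfl | rfl)
            exacts [jel_z L ▸ hk _ rfl, jel_i2 L ▸ hk _ rfl, jel_y L ▸ hk _ rfl]
        have hn : ι g ∈ L.NJ := norm_E L (by
          rw [← hE]
          exact Subgroup.le_normalizer_map ι ⟨g, hg, rfl⟩)
        refine hform g 1 (one_mem _) ?_ (one_mem _)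
        rw [inv_one, mul_one]
        exact L.mem_NT.2 ⟨hn, congrArg Subtype.val (OmegaEightCent.mem_Cz.1 g.2)⟩
      fix_W := fun i w hw hwd => hzp _ (L.cW_axis hc hw (show _ = _ by
        rw [← hd, ← map_mul, ← map_mul, hwd.eq]) (hd1 i) (axV_facts i).2.1)
      good := fun x hx hx1 hoff g hg => by
        obtain ⟨a, rfl⟩ := hexT x hx
        have hne : comb a ≠ 0 := fun h => hx1 (hι (by rw [hax, h, jel_zero, map_one]))
        have hq : qJ (comb a) ≠ -1 := fun h => by
          obtain ⟨i, c, e⟩ := off_axes _ (comb_e1 a) h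
          exact hoff i (Subgroup.mem_zpowers_iff.2 ⟨c.val, hι (by
            rw [zpow_natCast, map_pow, hd, hax, e, jel_smul])⟩)
        have hmem : ι g ∈ L.NT ⊔ L.W := by
          rw [sup_comm]
          refine hgood _ hne (comb_e1 a) hq (Subgroup.mem_inf.2 ⟨Subgroup.mem_centralizer_singleton_iff.2 ?_,
            Subgroup.mem_centralizer_singleton_iff.2 (congrArg Subtype.val (OmegaEightCent.mem_Cz.1 g.2))⟩)
          rw [← hax, ← map_mul, ← map_mul, hg.eq]
        rw [← SetLike.mem_coe, Subgroup.coe_mul_of_left_le_normalizer_right _ _ L.NT_le_norm_W] at hmem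
        obtain ⟨h, hh, w, hw, e⟩ := hmem
        simp only at e
        refine hform g w hw ?_ (hWN hw)
        rw [← e, mul_inv_cancel_right]
        exact hh
      split := fun i w hw => hι (by
        rw [map_pow, map_one, map_commutatorElement, hs, pow_two, commutatorElement_def]
        exact hsplit i _ hw)
      twist := by
        obtain ⟨o, ho, hne1, hne2⟩ : ∃ o ∈ L.O, (r 0 * r 1 * r 2) * o * (r 0 * r 1 * r 2)⁻¹ ≠ o ∧
            (r 0 * r 1 * r 2) * o * (r 0 * r 1 * r 2)⁻¹ ≠ o * L.t := by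
          by_contra hcon
          push Not at hcon
          set ρ := r 0 * r 1 * r 2
          obtain ⟨u, hu, u1, ut⟩ := L.exists_noncentral
          have hy : ρ * L.y * ρ⁻¹ = L.y⁻¹ := by
            rw [← jel_y L, hρ, ← jel_neg]; exact congrArg L.jel (by decide)
          have hty : Commute L.y L.t := L.comm_ty.symm
          have h1 : ρ * u * ρ⁻¹ = u ∨ ρ * u * ρ⁻¹ = u * L.t := or_iff_not_imp_left.2 (hcon u hu)
          have h2 := or_iff_not_imp_left.2 (hcon _ (L.O_y u hu))
          rw [show ρ * (L.y * u * L.y⁻¹) * ρ⁻¹ = (ρ * L.y * ρ⁻¹) * (ρ * u * ρ⁻¹) * (ρ * L.y * ρ⁻¹)⁻¹ by group,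
            hy, inv_inv] at h2
          obtain ⟨m1, m2⟩ := L.y_moves hu u1 ut
          -- `y u y⁻¹` and `y⁻¹ u y` agree modulo `t`
          have key : L.y⁻¹ * u * L.y = L.y * u * L.y⁻¹ ∨ L.y⁻¹ * u * L.y = L.y * u * L.y⁻¹ * L.t := by
            have hmv : L.y⁻¹ * (u * L.t) * L.y = L.y⁻¹ * u * L.y * L.t := by
              calc L.y⁻¹ * (u * L.t) * L.y = L.y⁻¹ * u * (L.t * L.y) := by group
                _ = L.y⁻¹ * u * (L.y * L.t) := by rw [hty.eq]
                _ = _ := by group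
            have htt : ∀ x : G, x * L.t * L.t = x := fun x => by rw [mul_assoc, L.t_sq, mul_one]
            rcases h1 with h1 | h1 <;> rcases h2 with h2 | h2 <;> rw [h1] at h2
            · exact Or.inl h2
            · exact Or.inr h2
            · rw [hmv] at h2; right; rw [← h2, htt]
            · rw [hmv] at h2; left; exact mul_right_cancel h2
          have e3 : L.y * (L.y * u * L.y⁻¹) * L.y⁻¹ = L.y⁻¹ * u * L.y := by
            calc L.y * (L.y * u * L.y⁻¹) * L.y⁻¹
                = L.y⁻¹ * (L.y * L.y * L.y * u * (L.y * L.y * L.y)⁻¹) * L.y := by simp [mul_assoc]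
              _ = _ := by rw [← pow_three', L.cube_y]; simp
          have hv1 : L.y * u * L.y⁻¹ ≠ 1 := fun h => u1 (conj_eq_one_iff.1 h)
          have hvt : L.y * u * L.y⁻¹ ≠ L.t := fun h => ut (mul_left_cancel (mul_right_cancel
            (h.trans (fix_eq hty).symm)))
          obtain ⟨n1, n2⟩ := L.y_moves (L.O_y u hu) hv1 hvt
          rw [e3] at n1 n2
          rcases key with h | h
          exacts [n1 h, n2 h]
        have hρO : (r 0 * r 1 * r 2) * o * (r 0 * r 1 * r 2)⁻¹ ∈ L.O := by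
          refine L.O_norm (mul_mem (mul_mem (hract' 0).mem_normalizer (hract' 1).mem_normalizer)
            (hract' 2).mem_normalizer) (((hrt 0 (hd1 0)).mul_left (hrt 1 (hd1 1))).mul_left (hrt 2 (hd1 2))) ?_ ho
          rw [← jel_z L, hρ]
          beta_reduce
          rw [show ft (-(![1, 0, 0, 0] : V)) = -![1, 0, 0, 0] by decide, jel_neg]
          exact inv_mem (Subgroup.mem_zpowers _)
        obtain ⟨w, hw⟩ := lift o (hO ho) (L.O_comm_t ho)
        refine ⟨w, by rw [Subgroup.mem_comap, hw]; exact L.O_le_W ho, fun h => ?_⟩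
        have h' := congrArg ι h
        rw [map_pow, map_one, map_commutatorElement, map_mul, map_mul, hs, hs, hs, hw, commutatorElement_def] at h'
        set ρ := r 0 * r 1 * r 2
        set c := o * (ρ * o * ρ⁻¹)⁻¹
        have hcO : c ∈ L.O := mul_mem ho (inv_mem hρO)
        have e : o * ρ * o⁻¹ * ρ⁻¹ = c := by simp only [c]; group
        rw [e, pow_two] at h'
        have hc1 : c ≠ 1 := fun h0 => hne1 (mul_inv_eq_one.1 h0).symm
        have hct : c ≠ L.t := fun h0 => hne2 (by
          have e1 := mul_inv_eq_iff_eq_mul.1 h0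
          calc ρ * o * ρ⁻¹ = L.t * (L.t * (ρ * o * ρ⁻¹)) := by rw [← mul_assoc, L.t_sq, one_mul]
            _ = o * L.t := by rw [← e1, (L.O_comm_t ho).eq])
        exact t_ne L ((L.O_sq hcO hc1 hct).symm.trans h') }
  haveI := D.W_normal
  have hmap : (L.W.comap ι).map ι = L.W := Subgroup.map_comap_eq_self fun g hg =>
    lift g (hWN hg) (hWt hg)
  let eW : ↥(L.W.comap ι) ≃* L.W :=
    ((L.W.comap ι).equivMapOfInjective ι hι).trans (MulEquiv.subgroupCongr hmap)
  refine ⟨?_, ?_, D.quotient_equiv, ?_⟩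
  · rw [D.generalizedFitting_eq]
    exact Extraspecial.isExtraspecial_congr eW.symm (L.W_extraspecial hc)
  · rw [D.generalizedFitting_eq]
    exact (Nat.card_congr eW.toEquiv).trans (L.card_W hc)
  · rw [D.pCore_eq]
    intro x hx
    rw [Subgroup.mem_centralizer_iff] at hx
    have hxC : x ∈ C := OmegaEightCent.mem_Cz.2 (by
      have := hx z ⟨τ, D.t_mem, Subtype.ext hτ⟩
      exact this.symm)
    refine ⟨⟨x, hxC⟩, D.centralizer_W_le (Subgroup.mem_centralizer_iff.2 fun w hw => Subtype.ext ?_), rfl⟩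
    exact hx _ ⟨w, hw, rfl⟩

/-- The centraliser of `i₂` and `t` lies in `W (N(J) ∩ C(t))`. -/
theorem cent_i2_le_M₀ :
    Subgroup.centralizer ({L.i₂} : Set G) ⊓ Subgroup.centralizer ({L.t} : Set G) ≤ L.M₀ := by
  have h := L.rf_flip
  refine (L.cent_i2_t h.mem h.comm_i₂ h.comm_t h.z_moved).trans (sup_le (sup_le ?_ ?_) ?_)
  · exact L.O_le_W.trans le_sup_left
  · exact (L.Os_le_W 1).trans le_sup_left
  · exact le_sup_of_le_right (inf_le_inf_right _ inf_le_left)

/-- The hypothesis of `index_three` for `m = 1`. -/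
theorem cent_hyp_one (hm : L.m = 1) (N : Subgroup G) [N.Normal] (hi : N.index = 3) (hX : L.X ≤ N)
    (hO : L.O ≤ N) (ha : L.a ∉ N) : L.CentHyp N (hO L.t_mem) :=
  L.cent_hyp hm L.comm_O (fun _ hv h1 hq => L.cent_good L.cent_i2_le_M₀ hv h1 hq) N hi hX hO ha

end Loc

end CfsgLib.OEightLocal
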