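import Mathlib

/-!
The shape of the centraliser of the involution `t`: a two-group `W` with elementary quotient by
`⟨t⟩`, three axes `d i` of order three generating `T`, and three commuting sign involutions.
-/

set_option autoImplicit false

namespace CfsgLib.OEightLocal

open scoped commutatorElement

/-- The product of the signs selected by `b`. -/
def sgnEl {M : Type*} [Group M] (s : Fin 3 → M) (b : Fin 3 → Bool) : M :=
  (if b 0 then s 0 else 1) * (if b 1 then s 1 else 1) * (if b 2 then s 2 else 1)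

/-- The product of the powers of the axes. -/
def axEl {M : Type*} [Group M] (d : Fin 3 → M) (a : Fin 3 → ZMod 3) : M :=
  d 0 ^ (a 0).val * d 1 ^ (a 1).val * d 2 ^ (a 2).val

/-- The configuration. -/
structure InvData (M : Type*) [Group M] (t : M) where
  W : Subgroup M
  d : Fin 3 → M
  s : Fin 3 → M
  t_mem : t ∈ W
  t_sq : t * t = 1
  t_ne : t ≠ 1
  t_cen : ∀ g : M, Commute g t
  W_sq : ∀ w ∈ W, w * w ∈ Subgroup.zpowers t
  W_gen : W ≤ Subgroup.closure {w : M | w ∈ W ∧ w * w = t}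
  d_cube : ∀ i, d i ^ 3 = 1
  d_comm : ∀ i j, Commute (d i) (d j)
  card_T : Nat.card (Subgroup.closure (Set.range d) : Subgroup M) = 27
  s_sq : ∀ i, s i * s i = 1
  s_comm : ∀ i j, Commute (s i) (s j)
  s_d : ∀ i, s i * d i * s i = (d i)⁻¹
  s_d' : ∀ i j, i ≠ j → Commute (s i) (d j)
  d_W : ∀ i, ∀ w ∈ W, d i * w * (d i)⁻¹ ∈ W
  s_W : ∀ i, ∀ w ∈ W, s i * w * s i ∈ W
  norm_T : ∀ g ∈ Subgroup.normalizer ((Subgroup.closure (Set.range d) : Subgroup M) : Set M),
    ∃ w ∈ W, ∃ a b, g = w * axEl d a * sgnEl s b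
  fix_W : ∀ i, ∀ w ∈ W, Commute w (d i) → w ∈ Subgroup.zpowers t
  good : ∀ x ∈ Subgroup.closure (Set.range d), x ≠ 1 → (∀ i, x ∉ Subgroup.zpowers (d i)) →
    ∀ g, Commute g x → ∃ w ∈ W, ∃ a b, g = w * axEl d a * sgnEl s b
  split : ∀ i, ∀ w ∈ W, ⁅w, s i⁆ ^ 2 = 1
  twist : ∃ w ∈ W, ⁅w, s 0 * s 1 * s 2⁆ ^ 2 ≠ 1

namespace InvData

variable {M : Type*} [Group M] {t : M} (D : InvData M t)

/-- The group of order 27. -/
def T : Subgroup M := Subgroup.closure (Set.range D.d)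

include D in
theorem mem_t {g : M} (h : g ∈ Subgroup.zpowers t) : g = 1 ∨ g = t := by
  obtain ⟨k, rfl⟩ := Subgroup.mem_zpowers_iff.1 h
  have h2 : t ^ (2 : ℤ) = 1 := by rw [zpow_two]; exact D.t_sq
  rcases Int.even_or_odd k with ⟨l, rfl⟩ | ⟨l, rfl⟩
  · left; rw [← two_mul, zpow_mul, h2, one_zpow]
  · right; rw [zpow_add_one, zpow_mul, h2, one_zpow, one_mul]

include D in
theorem t_sq_of_mem {g : M} (h : g ∈ Subgroup.zpowers t) : g * g = 1 := by
  rcases D.mem_t h with rfl | rfl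
  · exact one_mul 1
  · exact D.t_sq

include D in
theorem zt_cen {g h : M} (hg : g ∈ Subgroup.zpowers t) : Commute h g := by
  rcases D.mem_t hg with rfl | rfl
  · exact Commute.one_right h
  · exact D.t_cen h

theorem zt_le : Subgroup.zpowers t ≤ D.W := Subgroup.zpowers_le.2 D.t_mem

theorem W_pow_four {w : M} (hw : w ∈ D.W) : w ^ 4 = 1 := by
  rw [show (4 : ℕ) = 2 * 2 from rfl, pow_mul, sq, sq]
  exact D.t_sq_of_mem (D.W_sq w hw)

theorem W_isPGroup : IsPGroup 2 D.W := fun w => ⟨2, Subtype.ext (by simpa using D.W_pow_four w.2)⟩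

theorem pow_val_add {x : M} (hx : x ^ 3 = 1) (a b : ZMod 3) : x ^ (a + b).val = x ^ a.val * x ^ b.val := by
  rw [← pow_add, ZMod.val_add]
  exact (pow_eq_pow_mod _ hx).symm

theorem axEl_add (a b : Fin 3 → ZMod 3) : axEl D.d (a + b) = axEl D.d a * axEl D.d b := by
  have c : ∀ i j (m n : ℕ), Commute (D.d i ^ m) (D.d j ^ n) := fun i j m n => (D.d_comm i j).pow_pow m n
  simp only [axEl, Pi.add_apply, pow_val_add (D.d_cube _)]
  rw [(c 0 1 _ _).mul_mul_mul_comm, (((c 0 2 _ _).mul_left (c 1 2 _ _))).mul_mul_mul_comm]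

/-- The axes as a homomorphism. -/
def axHom : Multiplicative (Fin 3 → ZMod 3) →* M :=
  MonoidHom.mk' (fun a => axEl D.d a.toAdd) fun a b => D.axEl_add _ _

theorem axEl_zero : axEl D.d 0 = 1 := by simp [axEl]

theorem axEl_single : ∀ i, axEl D.d (Pi.single i 1) = D.d i := by
  intro i
  fin_cases i <;> simp [axEl, ZMod.val_one]

theorem range_axHom : D.axHom.range = D.T := by
  refine le_antisymm ?_ ((Subgroup.closure_le _).2 ?_)
  · rintro _ ⟨a, rfl⟩
    exact mul_mem (mul_mem (pow_mem (Subgroup.subset_closure (Set.mem_range_self 0)) _)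
      (pow_mem (Subgroup.subset_closure (Set.mem_range_self 1)) _))
      (pow_mem (Subgroup.subset_closure (Set.mem_range_self 2)) _)
  · rintro _ ⟨i, rfl⟩
    exact ⟨Multiplicative.ofAdd (Pi.single i 1), D.axEl_single i⟩

theorem card_T' : Nat.card D.T = 27 := D.card_T

theorem axHom_injective : Function.Injective D.axHom := by
  have h : Function.Surjective D.axHom.rangeRestrict := D.axHom.rangeRestrict_surjective
  have hb : Function.Bijective D.axHom.rangeRestrict := by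
    haveI : Finite D.axHom.range := Finite.of_surjective _ h
    haveI : Fintype D.axHom.range := Fintype.ofFinite _
    rw [Fintype.bijective_iff_surjective_and_card]
    refine ⟨h, ?_⟩
    rw [← Nat.card_eq_fintype_card (α := D.axHom.range), D.range_axHom, D.card_T']
    rfl
  exact fun a b e => hb.1 (Subtype.ext e)

theorem axEl_inj {a b : Fin 3 → ZMod 3} (h : axEl D.d a = axEl D.d b) : a = b :=
  Multiplicative.ofAdd.injective (D.axHom_injective (a₁ := Multiplicative.ofAdd a)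
    (a₂ := Multiplicative.ofAdd b) h)

theorem axEl_mem (a : Fin 3 → ZMod 3) : axEl D.d a ∈ D.T :=
  D.range_axHom ▸ ⟨Multiplicative.ofAdd a, rfl⟩

theorem exists_ax {x : M} (hx : x ∈ D.T) : ∃ a, x = axEl D.d a := by
  rw [← D.range_axHom] at hx
  obtain ⟨a, rfl⟩ := hx
  exact ⟨a.toAdd, rfl⟩

theorem axEl_neg (a : Fin 3 → ZMod 3) : axEl D.d (-a) = (axEl D.d a)⁻¹ :=
  eq_inv_of_mul_eq_one_left (by rw [← D.axEl_add, neg_add_cancel, D.axEl_zero])

theorem axEl_comm (a b : Fin 3 → ZMod 3) : Commute (axEl D.d a) (axEl D.d b) :=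
  show _ = _ by rw [← D.axEl_add, ← D.axEl_add, add_comm]

theorem axEl_cube (a : Fin 3 → ZMod 3) : axEl D.d a ^ 3 = 1 := by
  rw [pow_succ, pow_two, ← D.axEl_add, ← D.axEl_add]
  have : a + a + a = 0 := funext fun i => (by decide : ∀ r : ZMod 3, r + r + r = 0) _
  rw [this, D.axEl_zero]

theorem sgnEl_mul (b c : Fin 3 → Bool) : sgnEl D.s b * sgnEl D.s c = sgnEl D.s (fun i => b i ^^ c i) := by
  have e : ∀ i (p q : Bool), (if p then D.s i else 1) * (if q then D.s i else 1) =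
      if (p ^^ q) then D.s i else 1 := by
    intro i p q
    cases p <;> cases q <;> simp [D.s_sq]
  have c' : ∀ i j (p q : Bool), Commute (if p then D.s i else 1) (if q then D.s j else 1) := by
    intro i j p q
    cases p <;> cases q <;> simp [D.s_comm i j]
  simp only [sgnEl]
  rw [((c' 2 0 _ _).mul_right (c' 2 1 _ _)).mul_mul_mul_comm, (c' 1 0 _ _).mul_mul_mul_comm, e, e, e]

theorem sgnEl_zero : sgnEl D.s (fun _ => false) = 1 := by simp [sgnEl]

theorem sgnEl_single (i : Fin 3) : sgnEl D.s (fun j => j == i) = D.s i := by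
  fin_cases i <;> simp [sgnEl]

theorem sgnEl_all : sgnEl D.s (fun _ => true) = D.s 0 * D.s 1 * D.s 2 := by simp [sgnEl]

theorem sgnEl_sq (b : Fin 3 → Bool) : sgnEl D.s b * sgnEl D.s b = 1 := by
  rw [D.sgnEl_mul]; simp [sgnEl]

theorem sgnEl_inv (b : Fin 3 → Bool) : (sgnEl D.s b)⁻¹ = sgnEl D.s b :=
  inv_eq_of_mul_eq_one_left (D.sgnEl_sq b)

/-- The effect of the signs on the coordinates. -/
def flip (b : Fin 3 → Bool) (a : Fin 3 → ZMod 3) : Fin 3 → ZMod 3 := fun i => if b i then -a i else a i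

theorem conj_d (b : Fin 3 → Bool) (i : Fin 3) :
    sgnEl D.s b * D.d i * sgnEl D.s b = if b i then (D.d i)⁻¹ else D.d i := by
  let e : Fin 3 → M := fun j => if b j then D.s j else 1
  have hc : ∀ j, j ≠ i → Commute (e j) (D.d i) := fun j hj => by
    simp only [e]; split_ifs
    · exact D.s_d' j i hj
    · exact Commute.one_left _
  have hs : ∀ j k, Commute (e j) (e k) := fun j k => by
    simp only [e]; split_ifs <;> simp [D.s_comm j k]
  have hsq : ∀ j, e j * e j = 1 := fun j => by simp only [e]; split_ifs <;> simp [D.s_sq]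
  have hi : e i * D.d i * e i = if b i then (D.d i)⁻¹ else D.d i := by
    simp only [e]; split_ifs <;> simp [D.s_d]
  rw [← hi]
  show e 0 * e 1 * e 2 * D.d i * (e 0 * e 1 * e 2) = _
  obtain rfl | rfl | rfl : i = 0 ∨ i = 1 ∨ i = 2 := by fin_cases i <;> simp
  · calc e 0 * e 1 * e 2 * D.d 0 * (e 0 * e 1 * e 2) = e 0 * e 1 * (e 2 * D.d 0) * (e 0 * e 1 * e 2) := by group
      _ = e 0 * (e 1 * D.d 0) * (e 2 * e 0 * e 1 * e 2) := by rw [(hc 2 (by decide)).eq]; group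
      _ = e 0 * D.d 0 * (e 1 * (e 2 * e 0 * e 1 * e 2)) := by rw [(hc 1 (by decide)).eq]; group
      _ = e 0 * D.d 0 * (e 0 * (e 1 * e 1) * (e 2 * e 2)) := by
        congr 1
        rw [(hs 2 0).eq, mul_assoc (e 0) (e 2) (e 1), (hs 2 1).eq, ← mul_assoc (e 0), mul_assoc (e 0 * e 1) (e 2),
          ← mul_assoc (e 1) (e 0 * e 1), ← mul_assoc (e 1) (e 0), (hs 1 0).eq, mul_assoc (e 0) (e 1) (e 1)]
      _ = _ := by rw [hsq, hsq, mul_one, mul_one]
  · calc e 0 * e 1 * e 2 * D.d 1 * (e 0 * e 1 * e 2) = e 0 * e 1 * (e 2 * D.d 1) * (e 0 * e 1 * e 2) := by group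
      _ = e 0 * e 1 * D.d 1 * (e 2 * (e 0 * e 1 * e 2)) := by rw [(hc 2 (by decide)).eq]; group
      _ = e 1 * (e 0 * D.d 1) * (e 2 * (e 0 * e 1 * e 2)) := by rw [(hs 0 1).eq]; group
      _ = e 1 * D.d 1 * (e 0 * (e 2 * e 0) * (e 1 * e 2)) := by rw [(hc 0 (by decide)).eq]; group
      _ = e 1 * D.d 1 * (e 0 * e 0 * (e 2 * e 1) * e 2) := by rw [(hs 2 0).eq]; group
      _ = e 1 * D.d 1 * (e 0 * e 0 * (e 1 * (e 2 * e 2))) := by rw [(hs 2 1).eq]; group
      _ = _ := by rw [hsq, hsq, mul_one, one_mul]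
  · calc e 0 * e 1 * e 2 * D.d 2 * (e 0 * e 1 * e 2) = e 2 * (e 0 * e 1) * D.d 2 * (e 0 * e 1 * e 2) := by
          rw [((hs 2 0).mul_right (hs 2 1)).eq]
      _ = e 2 * (e 0 * e 1 * D.d 2) * (e 0 * e 1 * e 2) := by group
      _ = e 2 * D.d 2 * (e 0 * e 1 * (e 0 * e 1) * e 2) := by
        rw [((hc 0 (by decide)).mul_left (hc 1 (by decide))).eq]; group
      _ = _ := by rw [(hs 1 0).mul_mul_mul_comm, hsq, hsq, one_mul, one_mul]

theorem conj_ax (b : Fin 3 → Bool) (a : Fin 3 → ZMod 3) :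
    sgnEl D.s b * axEl D.d a = axEl D.d (flip b a) * sgnEl D.s b := by
  let σ : M →* M := (MulAut.conj (sgnEl D.s b)).toMonoidHom
  have hσ : ∀ g, σ g = sgnEl D.s b * g * sgnEl D.s b := fun g => by
    show sgnEl D.s b * g * (sgnEl D.s b)⁻¹ = _
    rw [D.sgnEl_inv]
  have key : σ (axEl D.d a) = axEl D.d (flip b a) := by
    have hi : ∀ i, σ (D.d i) ^ (a i).val = D.d i ^ (flip b a i).val := by
      intro i
      rw [hσ, D.conj_d]
      unfold flip
      split_ifs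
      · rw [inv_pow, inv_eq_iff_mul_eq_one, ← pow_val_add (D.d_cube i), add_neg_cancel, ZMod.val_zero,
          pow_zero]
      · rfl
    simp only [axEl, map_mul, map_pow, hi]
  rw [← key, hσ, mul_assoc (sgnEl D.s b * axEl D.d a), D.sgnEl_sq, mul_one]

theorem conj_W_d (a : Fin 3 → ZMod 3) : axEl D.d a ∈ Subgroup.normalizer (D.W : Set M) ∧
    ∀ w ∈ D.W, axEl D.d a * w * (axEl D.d a)⁻¹ ∈ D.W := by
  have hmem : ∀ i, D.d i ∈ Subgroup.normalizer (D.W : Set M) := fun i => by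
    rw [Subgroup.mem_normalizer_iff]
    refine fun w => ⟨D.d_W i w, fun hw => ?_⟩
    have h2 := D.d_W i _ (D.d_W i _ hw)
    rwa [show D.d i * (D.d i * (D.d i * w * (D.d i)⁻¹) * (D.d i)⁻¹) * (D.d i)⁻¹ =
      D.d i ^ 3 * w * (D.d i ^ 3)⁻¹ by simp only [pow_succ, pow_zero, one_mul]; group, D.d_cube, inv_one,
      one_mul, mul_one] at h2
  have h : axEl D.d a ∈ Subgroup.normalizer (D.W : Set M) :=
    mul_mem (mul_mem (pow_mem (hmem 0) _) (pow_mem (hmem 1) _)) (pow_mem (hmem 2) _)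
  exact ⟨h, fun w hw => (Subgroup.mem_normalizer_iff.1 h w).1 hw⟩

theorem sgn_mem (b : Fin 3 → Bool) : sgnEl D.s b ∈ Subgroup.normalizer (D.W : Set M) := by
  have hmem : ∀ i, D.s i ∈ Subgroup.normalizer (D.W : Set M) := fun i => by
    rw [Subgroup.mem_normalizer_iff, inv_eq_of_mul_eq_one_left (D.s_sq i)]
    refine fun w => ⟨D.s_W i w, fun hw => ?_⟩
    have h2 := D.s_W i _ hw
    rwa [show D.s i * (D.s i * w * D.s i) * D.s i = (D.s i * D.s i) * w * (D.s i * D.s i) by group,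
      D.s_sq, one_mul, mul_one] at h2
  have : ∀ i (p : Bool), (if p then D.s i else 1) ∈ Subgroup.normalizer (D.W : Set M) := fun i p => by
    cases p <;> simp [hmem i, one_mem]
  exact mul_mem (mul_mem (this 0 _) (this 1 _)) (this 2 _)

/-- Membership in the known subgroup. -/
def Mem (g : M) : Prop := ∃ w ∈ D.W, ∃ a b, g = w * axEl D.d a * sgnEl D.s b

theorem mul_form {w w' : M} (hw : w ∈ D.W) (hw' : w' ∈ D.W) (a a' : Fin 3 → ZMod 3) (b b' : Fin 3 → Bool) :
    ∃ v ∈ D.W, w * axEl D.d a * sgnEl D.s b * (w' * axEl D.d a' * sgnEl D.s b') =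
      v * axEl D.d (a + flip b a') * sgnEl D.s (fun i => b i ^^ b' i) := by
  set x := axEl D.d a * sgnEl D.s b
  refine ⟨w * (x * w' * x⁻¹), mul_mem hw ((Subgroup.mem_normalizer_iff.1
    (mul_mem (D.conj_W_d a).1 (D.sgn_mem b)) w').1 hw'), ?_⟩
  rw [D.axEl_add, ← D.sgnEl_mul]
  calc w * axEl D.d a * sgnEl D.s b * (w' * axEl D.d a' * sgnEl D.s b') =
      w * (x * w' * x⁻¹) * axEl D.d a * (sgnEl D.s b * axEl D.d a') * sgnEl D.s b' := by
        simp only [x]; group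
    _ = _ := by rw [D.conj_ax]; group

/-- The known subgroup. -/
def M0 : Subgroup M where
  carrier := {g | D.Mem g}
  one_mem' := ⟨1, one_mem _, 0, fun _ => false, by rw [D.axEl_zero, D.sgnEl_zero]; simp⟩
  mul_mem' := by
    rintro _ _ ⟨w, hw, a, b, rfl⟩ ⟨w', hw', a', b', rfl⟩
    obtain ⟨v, hv, e⟩ := D.mul_form hw hw' a a' b b'
    exact ⟨v, hv, _, _, e⟩
  inv_mem' := by
    rintro _ ⟨w, hw, a, b, rfl⟩
    have hx := mul_mem (D.sgn_mem b) (D.conj_W_d (-a)).1
    refine ⟨_, (Subgroup.mem_normalizer_iff.1 hx _).1 (inv_mem hw), flip b (-a), b, ?_⟩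
    rw [mul_assoc _ (axEl D.d (flip b (-a))), ← D.conj_ax, mul_inv_rev (w * axEl D.d a), mul_inv_rev w,
      D.axEl_neg, D.sgnEl_inv]
    group

theorem mem_M0 {g : M} : g ∈ D.M0 ↔ ∃ w ∈ D.W, ∃ a b, g = w * axEl D.d a * sgnEl D.s b := Iff.rfl

theorem W_le : D.W ≤ D.M0 := fun w hw => ⟨w, hw, 0, fun _ => false, by rw [D.axEl_zero, D.sgnEl_zero]; simp⟩

theorem T_le : D.T ≤ D.M0 := fun x hx => by
  obtain ⟨a, rfl⟩ := D.exists_ax hx
  exact ⟨1, one_mem _, a, fun _ => false, by rw [D.sgnEl_zero]; simp⟩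

theorem sgnEl_M0 (b : Fin 3 → Bool) : sgnEl D.s b ∈ D.M0 :=
  ⟨1, one_mem _, 0, b, by rw [D.axEl_zero]; simp⟩

theorem s_M0 (i : Fin 3) : D.s i ∈ D.M0 := D.sgnEl_single i ▸ D.sgnEl_M0 _

theorem d_mem_T (i : Fin 3) : D.d i ∈ D.T := Subgroup.subset_closure (Set.mem_range_self i)

theorem M0_le_normalizer : D.M0 ≤ Subgroup.normalizer (D.W : Set M) := by
  rintro _ ⟨w, hw, a, b, rfl⟩
  exact mul_mem (mul_mem (Subgroup.le_normalizer hw) (D.conj_W_d a).1) (D.sgn_mem b)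

theorem W_inf_T {x : M} (hW : x ∈ D.W) (hT : x ∈ D.T) : x = 1 := by
  obtain ⟨a, rfl⟩ := D.exists_ax hT
  have h := orderOf_dvd_of_pow_eq_one (D.W_pow_four hW)
  have h' := orderOf_dvd_of_pow_eq_one (D.axEl_cube a)
  exact orderOf_eq_one_iff.1 (Nat.dvd_one.1 ((by norm_num : Nat.gcd 4 3 = 1) ▸ Nat.dvd_gcd h h'))

theorem coord_eq {w w' : M} (hw : w ∈ D.W) (hw' : w' ∈ D.W) {a a' : Fin 3 → ZMod 3} {b b' : Fin 3 → Bool}
    (e : w * axEl D.d a * sgnEl D.s b = w' * axEl D.d a' * sgnEl D.s b') : w = w' ∧ a = a' ∧ b = b' := by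
  set v := w'⁻¹ * w
  have hv : v ∈ D.W := mul_mem (inv_mem hw') hw
  have e2 : v * axEl D.d a * sgnEl D.s b = axEl D.d a' * sgnEl D.s b' := by
    calc v * axEl D.d a * sgnEl D.s b = w'⁻¹ * (w * axEl D.d a * sgnEl D.s b) := by simp only [v]; group
      _ = _ := by rw [e]; group
  have ev : v = axEl D.d a' * sgnEl D.s (fun i => b' i ^^ b i) * (axEl D.d a)⁻¹ := by
    calc v = v * axEl D.d a * sgnEl D.s b * (sgnEl D.s b)⁻¹ * (axEl D.d a)⁻¹ := by group
      _ = _ := by rw [e2, D.sgnEl_inv, mul_assoc (axEl D.d a'), D.sgnEl_mul]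
  rw [← D.axEl_neg, mul_assoc, D.conj_ax, ← mul_assoc, ← D.axEl_add] at ev
  set c := a' + flip (fun i => b' i ^^ b i) (-a)
  set σ : Fin 3 → Bool := fun i => b' i ^^ b i
  have hb : σ = fun _ => false := by
    funext i
    by_contra hi
    have hi' : σ i = true := by simpa using hi
    have h2 : v * D.d i * v⁻¹ = (D.d i)⁻¹ := by
      rw [ev, mul_inv_rev, D.sgnEl_inv,
        show axEl D.d c * sgnEl D.s σ * D.d i * (sgnEl D.s σ * (axEl D.d c)⁻¹) =
          axEl D.d c * (sgnEl D.s σ * D.d i * sgnEl D.s σ) * (axEl D.d c)⁻¹ by group,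
        D.conj_d, if_pos hi']
      have hcd : Commute (axEl D.d c) (D.d i) := D.axEl_single i ▸ D.axEl_comm c _
      rw [hcd.inv_right.eq, mul_inv_cancel_right]
    have h3 : v * (D.d i * v⁻¹ * (D.d i)⁻¹) = ((D.d i) ^ 2)⁻¹ := by
      rw [← mul_assoc, ← mul_assoc, h2, sq, mul_inv_rev]
    have h4 := D.W_inf_T (h3 ▸ mul_mem hv (D.d_W i _ (inv_mem hv)))
      (inv_mem (pow_mem (D.d_mem_T i) 2))
    have h5 : D.d i = 1 := by
      have e3 := D.d_cube i
      rwa [pow_succ, inv_eq_one.1 h4, one_mul] at e3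
    have := congrFun (D.axEl_inj ((D.axEl_single i).trans (h5.trans D.axEl_zero.symm))) i
    simp at this
  rw [hb, D.sgnEl_zero, mul_one] at ev
  have hv1 := D.W_inf_T hv (ev ▸ D.axEl_mem _)
  have hbb : b = b' := funext fun i => by
    have h1 : (b' i ^^ b i) = false := congrFun hb i
    revert h1; cases b i <;> cases b' i <;> simp
  refine ⟨(inv_mul_eq_one.1 hv1).symm, ?_, hbb⟩
  have h0 : c = 0 := D.axEl_inj (by rw [← ev, hv1, D.axEl_zero])
  have hf : flip σ (-a) = -a := funext fun i => by simp [flip, hb]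
  have h1 : a' + flip σ (-a) = 0 := h0
  rw [hf, ← sub_eq_add_neg, sub_eq_zero] at h1
  exact h1.symm

end InvData

end CfsgLib.OEightLocal
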