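import Mathlib
import Cfsg.Agent.Lib.OEightLocal.InvEqBase

/-!
The three maps onto `S₃`, the Sylow subgroup, and the elements of square in `⟨t⟩`.
-/

set_option autoImplicit false
set_option maxRecDepth 100000
set_option linter.style.haveILetI false
set_option linter.unusedSectionVars false

namespace CfsgLib.OEightLocal

open scoped commutatorElement

/-- The affine permutation `x ↦ ±x + r`. -/
def pm (ε : Bool) (r : ZMod 3) : Equiv.Perm (Fin 3) :=
  let r' : Fin 3 := r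
  (Equiv.addLeft r' : Equiv.Perm (Fin 3)) * (if ε then Equiv.neg (Fin 3) else (1 : Equiv.Perm (Fin 3)))

theorem pm_mul : ∀ ε η : Bool, ∀ a c : ZMod 3, pm (ε ^^ η) (a + if ε then -c else c) = pm ε a * pm η c := by
  decide +kernel

theorem pm_inj : ∀ ε η : Bool, ∀ a c : ZMod 3, pm ε a = pm η c → ε = η ∧ a = c := by decide +kernel

theorem pm_cover : ∀ σ : Equiv.Perm (Fin 3), ∃ ε : Bool, ∃ a : ZMod 3, pm ε a = σ := by decide +kernel

theorem pm_zero : pm false 0 = 1 := by decide +kernel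

theorem pm_three : ∀ ε : Bool, ∀ a : ZMod 3, pm ε a ^ 3 = 1 → ε = false := by decide +kernel

theorem three_cycle_inverted : ∀ σ τ : Equiv.Perm (Fin 3), σ ^ 3 = 1 → σ ≠ 1 → τ * σ * τ⁻¹ = σ⁻¹ → τ ≠ 1 := by
  decide +kernel

namespace InvData

variable {M : Type*} [Group M] {t : M} (D : InvData M t)

/-- The translations of an element of the known subgroup. -/
noncomputable def ca (g : D.M0) : Fin 3 → ZMod 3 := g.2.choose_spec.2.choose

/-- The signs of an element of the known subgroup. -/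
noncomputable def cb (g : D.M0) : Fin 3 → Bool := g.2.choose_spec.2.choose_spec.choose

theorem coord (g : D.M0) : ∃ w ∈ D.W, (g : M) = w * axEl D.d (D.ca g) * sgnEl D.s (D.cb g) :=
  ⟨_, g.2.choose_spec.1, g.2.choose_spec.2.choose_spec.choose_spec⟩

theorem coord_unique {g : D.M0} {w : M} (hw : w ∈ D.W) {a : Fin 3 → ZMod 3} {b : Fin 3 → Bool}
    (e : (g : M) = w * axEl D.d a * sgnEl D.s b) : D.ca g = a ∧ D.cb g = b := by
  obtain ⟨v, hv, e'⟩ := D.coord g
  exact (D.coord_eq hv hw (e'.symm.trans e)).2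

/-- The three maps onto the symmetric group on three points. -/
noncomputable def pi (i : Fin 3) : D.M0 →* Equiv.Perm (Fin 3) :=
  MonoidHom.mk' (fun g => pm (D.cb g i) (D.ca g i)) fun g h => by
    obtain ⟨w, hw, e⟩ := D.coord g
    obtain ⟨w', hw', e'⟩ := D.coord h
    obtain ⟨v, hv, ev⟩ := D.mul_form hw hw' (D.ca g) (D.ca h) (D.cb g) (D.cb h)
    obtain ⟨h1, h2⟩ := D.coord_unique (g := g * h) hv (by rw [Subgroup.coe_mul, e, e', ev])
    rw [h1, h2]
    exact pm_mul _ _ _ _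

theorem pi_apply {g : D.M0} {w : M} (hw : w ∈ D.W) {a : Fin 3 → ZMod 3} {b : Fin 3 → Bool}
    (e : (g : M) = w * axEl D.d a * sgnEl D.s b) (i : Fin 3) : D.pi i g = pm (b i) (a i) := by
  obtain ⟨h1, h2⟩ := D.coord_unique hw e
  show pm _ _ = _
  rw [h1, h2]

theorem pi_ker {g : D.M0} (h : ∀ i, D.pi i g = 1) : (g : M) ∈ D.W := by
  obtain ⟨w, hw, e⟩ := D.coord g
  have h' : ∀ i, D.cb g i = false ∧ D.ca g i = 0 := fun i => pm_inj _ _ _ _ ((h i).trans pm_zero.symm)
  rw [show D.ca g = 0 from funext fun i => (h' i).2, show D.cb g = fun _ => false from funext fun i => (h' i).1,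
    D.axEl_zero, D.sgnEl_zero, mul_one, mul_one] at e
  exact e ▸ hw

theorem pi_W (i : Fin 3) {g : D.M0} (h : (g : M) ∈ D.W) : D.pi i g = 1 := by
  rw [D.pi_apply h (show (g : M) = g * axEl D.d 0 * sgnEl D.s (fun _ => false) by
    rw [D.axEl_zero, D.sgnEl_zero, mul_one, mul_one])]
  exact pm_zero

/-- An axis in the known subgroup. -/
def dM (i : Fin 3) : D.M0 := ⟨D.d i, D.T_le (D.d_mem_T i)⟩

/-- A sign in the known subgroup. -/
def sM (i : Fin 3) : D.M0 := ⟨D.s i, D.s_M0 i⟩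

theorem pi_d (i j : Fin 3) : D.pi i (D.dM j) = pm false (if i = j then 1 else 0) := by
  rw [D.pi_apply (one_mem D.W) (show ((D.dM j : D.M0) : M) = 1 * axEl D.d (Pi.single j 1) *
    sgnEl D.s (fun _ => false) by rw [D.axEl_single, D.sgnEl_zero, one_mul, mul_one]; rfl)]
  simp [Pi.single_apply]

theorem pi_s (i j : Fin 3) : D.pi i (D.sM j) = pm (i == j) 0 := by
  rw [D.pi_apply (one_mem D.W) (show ((D.sM j : D.M0) : M) = 1 * axEl D.d 0 *
    sgnEl D.s (fun k => k == j) by rw [D.axEl_zero, D.sgnEl_single, one_mul, one_mul]; rfl)]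
  rfl

variable [Finite M]

theorem card_M0 : Nat.card D.M0 = Nat.card D.W * 216 := by
  have e : D.M0 ≃ D.W × (Fin 3 → ZMod 3) × (Fin 3 → Bool) := Equiv.symm (Equiv.ofBijective
    (fun p : D.W × (Fin 3 → ZMod 3) × (Fin 3 → Bool) =>
      (⟨p.1 * axEl D.d p.2.1 * sgnEl D.s p.2.2, p.1, p.1.2, p.2.1, p.2.2, rfl⟩ : D.M0))
    ⟨fun p q h => by
      obtain ⟨h1, h2, h3⟩ := D.coord_eq p.1.2 q.1.2 (congrArg Subtype.val h)
      exact Prod.ext (Subtype.ext h1) (Prod.ext h2 h3), fun g => by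
      obtain ⟨w, hw, e⟩ := D.coord g
      exact ⟨(⟨w, hw⟩, D.ca g, D.cb g), Subtype.ext e.symm⟩⟩)
  rw [Nat.card_congr e, Nat.card_prod, Nat.card_prod, Nat.card_fun, Nat.card_fun, Nat.card_zmod,
    Nat.card_eq_fintype_card (α := Bool), Nat.card_fin, Fintype.card_bool]
  norm_num

theorem not_three_dvd_W : ¬ 3 ∣ Nat.card D.W := fun h => by
  haveI : Fact (Nat.Prime 2) := ⟨Nat.prime_two⟩
  obtain ⟨n, hn⟩ := IsPGroup.iff_card.1 D.W_isPGroup
  rw [hn] at h
  exact absurd (Nat.prime_three.dvd_of_dvd_pow h) (by norm_num)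

theorem not81 : ¬ 81 ∣ Nat.card D.M0 := fun h => by
  rw [D.card_M0, show (81 : ℕ) = 27 * 3 from rfl, show (216 : ℕ) = 27 * 8 from rfl, mul_left_comm] at h
  have h3 : 3 ∣ Nat.card D.W * 8 := (Nat.mul_dvd_mul_iff_left (by norm_num : 0 < 27)).1 h
  rcases Nat.prime_three.dvd_mul.1 h3 with h' | h'
  · exact D.not_three_dvd_W h'
  · norm_num at h'

theorem orderOf_T {x : M} (hx : x ∈ D.T) (h1 : x ≠ 1) : orderOf x = 3 := by
  haveI : Fact (Nat.Prime 3) := ⟨Nat.prime_three⟩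
  obtain ⟨a, rfl⟩ := D.exists_ax hx
  exact orderOf_eq_prime (D.axEl_cube a) h1

theorem T_isPGroup : IsPGroup 3 D.T := IsPGroup.of_card (n := 3) (by rw [D.card_T']; norm_num)

/-- Three-subgroups of the known subgroup are conjugate into `T`. -/
theorem conj_into_T {P : Subgroup M} (hP : IsPGroup 3 P) (hle : P ≤ D.M0) :
    ∃ g ∈ D.M0, ∀ x ∈ P, g * x * g⁻¹ ∈ D.T := by
  haveI : Fact (Nat.Prime 3) := ⟨Nat.prime_three⟩
  have hfac : (Nat.card D.M0).factorization 3 = 3 := by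
    refine Nat.le_antisymm ?_ ?_
    · by_contra hlt
      exact D.not81 ((Nat.prime_three.pow_dvd_iff_le_factorization Nat.card_pos.ne').2 (by omega : 4 ≤ _))
    · refine (Nat.prime_three.pow_dvd_iff_le_factorization Nat.card_pos.ne').1 ?_
      rw [D.card_M0]
      exact Dvd.dvd.mul_left (by norm_num) _
  let S : Sylow 3 D.M0 := Sylow.ofCard (D.T.subgroupOf D.M0) (by
    rw [Nat.card_congr (Subgroup.subgroupOfEquivOfLe D.T_le).toEquiv, D.card_T', hfac]; norm_num)
  obtain ⟨P', hP'⟩ := (hP.comap_of_injective D.M0.subtype D.M0.subtype_injective).exists_le_sylow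
  obtain ⟨g, hg⟩ := MulAction.exists_smul_eq D.M0 P' S
  refine ⟨g, g.2, fun x hx => ?_⟩
  have hmem : g * ⟨x, hle hx⟩ * g⁻¹ ∈ (S : Subgroup D.M0) := by
    rw [← hg]
    exact ⟨⟨x, hle hx⟩, hP' hx, rfl⟩
  rw [Sylow.coe_ofCard] at hmem
  exact hmem

theorem conj_elem_into_T {x : M} (hx : x ∈ D.M0) (h3 : x ^ 3 = 1) : ∃ g ∈ D.M0, g * x * g⁻¹ ∈ D.T := by
  have hP : IsPGroup 3 (Subgroup.zpowers x) := fun y => ⟨1, Subtype.ext (by
    obtain ⟨k, hk⟩ := Subgroup.mem_zpowers_iff.1 y.2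
    rw [Subgroup.coe_pow, Subgroup.coe_one, ← hk, pow_one, ← zpow_natCast, ← zpow_mul, mul_comm, zpow_mul,
      zpow_natCast, h3, one_zpow])⟩
  obtain ⟨g, hg, h⟩ := D.conj_into_T hP (Subgroup.zpowers_le.2 hx)
  exact ⟨g, hg, h x (Subgroup.mem_zpowers x)⟩

include D in
theorem zt_normal : (Subgroup.zpowers t).Normal :=
  ⟨fun z hz g => by rw [(D.zt_cen (h := g) hz).eq, mul_inv_cancel_right]; exact hz⟩

/-- The signs act freely on `W` modulo `t`. -/
theorem free {b : Fin 3 → Bool} {i : Fin 3} (hb : b i = true) {w : M} (hw : w ∈ D.W)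
    (hsq : (w * sgnEl D.s b) * (w * sgnEl D.s b) ∈ Subgroup.zpowers t) :
    ∃ c ∈ D.W, ∃ z ∈ Subgroup.zpowers t, w * sgnEl D.s b = c * sgnEl D.s b * c⁻¹ * z := by
  haveI := D.zt_normal
  set q := QuotientGroup.mk' (Subgroup.zpowers t)
  set σ := sgnEl D.s b
  set d := D.d i
  have hq : ∀ g, q g = 1 ↔ g ∈ Subgroup.zpowers t := fun g => QuotientGroup.eq_one_iff g
  have hinv : ∀ v ∈ D.W, (q v)⁻¹ = q v := fun v hv =>
    inv_eq_of_mul_eq_one_left (by rw [← map_mul, hq]; exact D.W_sq v hv)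
  have hcomm : ∀ v ∈ D.W, ∀ v' ∈ D.W, q v * q v' = q v' * q v := fun v hv v' hv' => by
    rw [← map_mul, ← hinv _ (mul_mem hv hv'), map_mul, mul_inv_rev, hinv v hv, hinv v' hv']
  have hσ2 : q σ * q σ = 1 := by rw [← map_mul, D.sgnEl_sq, map_one]
  have hσd : q σ * q d * q σ = (q d)⁻¹ := by
    rw [← map_mul, ← map_mul, D.conj_d, if_pos hb, map_inv]
  have hd3 : q d * q d * q d = 1 := by
    rw [← map_mul, ← map_mul, ← sq, ← pow_succ, D.d_cube, map_one]
  have hu : d * w * d⁻¹ ∈ D.W := D.d_W i w hw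
  have hu' : d * (d * w * d⁻¹) * d⁻¹ ∈ D.W := D.d_W i _ hu
  set v := w * (d * w * d⁻¹) * (d * (d * w * d⁻¹) * d⁻¹)
  have hv : v ∈ D.W := mul_mem (mul_mem hw hu) hu'
  have hvd : q (d * v * d⁻¹) = q v := by
    have h3' : q (d * (d * (d * w * d⁻¹) * d⁻¹) * d⁻¹) = q w := by
      simp only [map_mul, map_inv]
      calc q d * (q d * (q d * q w * (q d)⁻¹) * (q d)⁻¹) * (q d)⁻¹ =
          (q d * q d * q d) * q w * (q d * q d * q d)⁻¹ := by group
        _ = q w := by rw [hd3, one_mul, inv_one, mul_one]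
    rw [show d * v * d⁻¹ = (d * w * d⁻¹) * (d * (d * w * d⁻¹) * d⁻¹) *
      (d * (d * (d * w * d⁻¹) * d⁻¹) * d⁻¹) by simp only [v]; group, map_mul, h3', hcomm _ (mul_mem hu hu') _ hw]
    simp only [v, map_mul, mul_assoc]
  have hvt : v ∈ Subgroup.zpowers t := by
    refine D.fix_W i v hv ?_
    obtain ⟨z, hz, e⟩ : ∃ z ∈ Subgroup.zpowers t, d * v * d⁻¹ = v * z :=
      ⟨v⁻¹ * (d * v * d⁻¹), (hq _).1 (by rw [map_mul, map_inv, hvd, inv_mul_cancel]), by group⟩
    have hz2 := D.t_sq_of_mem hz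
    have hdz : Commute d z := D.zt_cen hz
    have e3 : v = v * z * z * z :=
      calc v = d ^ 3 * v * (d ^ 3)⁻¹ := by rw [D.d_cube]; group
        _ = d * (d * (d * v * d⁻¹) * d⁻¹) * d⁻¹ := by simp only [pow_succ, pow_zero, one_mul]; group
        _ = d * (d * (v * z) * d⁻¹) * d⁻¹ := by rw [e]
        _ = d * (d * v * d⁻¹ * (d * z * d⁻¹)) * d⁻¹ := by group
        _ = d * (v * z * z) * d⁻¹ := by rw [e, hdz.eq, mul_inv_cancel_right]
        _ = d * v * d⁻¹ := by rw [mul_assoc v, hz2, mul_one]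
        _ = v * z * z * z := by rw [e, mul_assoc v z z, hz2, mul_one]
    rw [mul_assoc v z z, hz2, mul_one, left_eq_mul] at e3
    rw [e3, mul_one, mul_inv_eq_iff_eq_mul] at e
    exact e.symm
  have hσw : q σ * q w * q σ = q w := by
    have h : q w * q σ * (q w * q σ) = 1 := by rw [← map_mul, ← map_mul, hq]; exact hsq
    calc q σ * q w * q σ = (q w)⁻¹ * (q w * q σ * (q w * q σ)) := by group
      _ = q w := by rw [h, mul_one, hinv w hw]
  set U := q d * q w * (q d)⁻¹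
  have hUinv : U⁻¹ = U := by
    have := hinv _ hu
    simpa only [map_mul, map_inv] using this
  have hvq : q w * U * (q d * U * (q d)⁻¹) = 1 := by
    have := (hq v).2 hvt
    simpa only [v, map_mul, map_inv] using this
  have hsd' : q σ * (q d)⁻¹ * q σ = q d := by
    rw [← hσd]
    calc q σ * (q σ * q d * q σ) * q σ = (q σ * q σ) * q d * (q σ * q σ) := by group
      _ = q d := by rw [hσ2, one_mul, mul_one]
  have hσU : q σ * U * q σ = q d * U * (q d)⁻¹ := by
    calc q σ * U * q σ = q σ * q d * (q σ * q σ) * q w * (q σ * q σ) * (q d)⁻¹ * q σ := by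
          rw [hσ2]; simp only [U]; group
      _ = (q σ * q d * q σ) * (q σ * q w * q σ) * (q σ * (q d)⁻¹ * q σ) := by group
      _ = (q d)⁻¹ * q w * q d := by rw [hσd, hσw, hsd']
      _ = (q d * q d * q d) * ((q d)⁻¹ * q w * q d) * (q d * q d * q d)⁻¹ := by rw [hd3]; group
      _ = _ := by simp only [U]; group
  refine ⟨_, hu, (d * w * d⁻¹ * σ * (d * w * d⁻¹)⁻¹)⁻¹ * (w * σ), (hq _).1 ?_, by group⟩
  have key : q w * q σ = U * q σ * U⁻¹ := by
    have e1 : q w = U * (q d * U * (q d)⁻¹) := by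
      calc q w = q w * U * (q d * U * (q d)⁻¹) * ((q d * U * (q d)⁻¹)⁻¹ * U⁻¹) := by group
        _ = (q d * U⁻¹ * (q d)⁻¹) * U⁻¹ := by rw [hvq]; group
        _ = _ := by
          rw [hUinv]
          have := hcomm _ hu' _ hu
          simpa only [U, map_mul, map_inv] using this
    rw [e1, ← hσU, hUinv]
    calc U * (q σ * U * q σ) * q σ = U * q σ * U * (q σ * q σ) := by group
      _ = _ := by rw [hσ2, mul_one]
  simp only [map_mul, map_inv]
  rw [key]
  simp only [U]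
  group

/-- Elements of the known subgroup with square in `⟨t⟩`, outside `W`. -/
theorem invol_cases {u : M} (hu : u ∈ D.M0) (hsq : u * u ∈ Subgroup.zpowers t) :
    u ∈ D.W ∨ ∃ b, (∃ i, b i = true) ∧ ∃ g ∈ D.M0, ∃ z ∈ Subgroup.zpowers t,
      u = g * sgnEl D.s b * g⁻¹ * z := by
  obtain ⟨w, hw, a, b, rfl⟩ := hu
  have hg : w * axEl D.d a * sgnEl D.s b ∈ D.M0 := ⟨w, hw, a, b, rfl⟩
  have hpi : ∀ i, pm (b i) (a i) * pm (b i) (a i) = 1 := fun i => by
    rw [← D.pi_apply (g := ⟨_, hg⟩) hw rfl i, ← map_mul]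
    exact D.pi_W i (D.zt_le hsq)
  have h2 : ∀ ε : Bool, ∀ r : ZMod 3, pm ε r * pm ε r = 1 → (ε = false → r = 0) := by decide +kernel
  by_cases hb : ∃ i, b i = true
  · right
    obtain ⟨i, hi⟩ := hb
    set g := axEl D.d (-a)
    -- translate to a sign
    have hflip : flip b a = -a := funext fun j => by
      unfold flip
      split_ifs with h
      · rfl
      · rw [Pi.neg_apply, h2 _ _ (hpi j) (by simpa using h), neg_zero]
    set u0 := w * axEl D.d a * sgnEl D.s b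
    have e : g⁻¹ * u0 * g = (g⁻¹ * w * g) * sgnEl D.s b := by
      have e2 : sgnEl D.s b * g = axEl D.d a * sgnEl D.s b := by
        rw [D.conj_ax]
        congr 2
        funext j
        have := congrFun hflip j
        simp only [flip, Pi.neg_apply] at this ⊢
        split_ifs at this ⊢ with h
        · exact neg_neg _
        · exact this.symm.trans rfl
      calc g⁻¹ * u0 * g = g⁻¹ * w * axEl D.d a * (sgnEl D.s b * g) := by simp only [u0]; group
        _ = g⁻¹ * w * (axEl D.d a * axEl D.d a) * sgnEl D.s b := by rw [e2]; group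
        _ = _ := by
          rw [← D.axEl_add]
          congr 2
          show axEl D.d (a + a) = axEl D.d (-a)
          congr 1
          exact funext fun j => (by decide : ∀ r : ZMod 3, r + r = -r) (a j)
    have hw' : g⁻¹ * w * g ∈ D.W := by
      have := (Subgroup.mem_normalizer_iff''.1 (D.conj_W_d (-a)).1 w).1 hw
      exact this
    have hsq' : (g⁻¹ * w * g * sgnEl D.s b) * (g⁻¹ * w * g * sgnEl D.s b) ∈ Subgroup.zpowers t := by
      rw [← e, show g⁻¹ * u0 * g * (g⁻¹ * u0 * g) = g⁻¹ * (u0 * u0) * g by group, mul_assoc,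
        ← (D.zt_cen (h := g) hsq).eq, inv_mul_cancel_left]
      exact hsq
    obtain ⟨c, hc, z, hz, hcz⟩ := D.free hi hw' hsq'
    refine ⟨b, ⟨i, hi⟩, g * c, mul_mem (D.T_le (D.axEl_mem _)) (D.W_le hc), z, hz, ?_⟩
    calc u0 = g * (g⁻¹ * u0 * g) * g⁻¹ := by group
      _ = g * (c * sgnEl D.s b * c⁻¹ * z) * g⁻¹ := by rw [e, hcz]
      _ = g * (c * sgnEl D.s b * c⁻¹) * (z * g⁻¹) := by group
      _ = _ := by rw [← (D.zt_cen (h := g⁻¹) hz).eq, mul_inv_rev]; group
  · left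
    push Not at hb
    have hb' : b = fun _ => false := funext fun i => by simpa using hb i
    have ha : a = 0 := funext fun i => h2 _ _ (hpi i) (congrFun hb' i)
    rw [ha, hb', D.axEl_zero, D.sgnEl_zero, mul_one, mul_one]
    exact hw

end InvData

end CfsgLib.OEightLocal
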