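import Mathlib
import Cfsg.Agent.Lib.OEightLocal.InvEqMaps
import Cfsg.Agent.Lib.NineTI.KleinAutomizer

/-!
The known subgroup contains the centralisers of all nontrivial elements of `T`; it is strongly
3-embedded.
-/

set_option autoImplicit false
set_option maxRecDepth 100000
set_option linter.style.haveILetI false
set_option linter.unusedSectionVars false

namespace CfsgLib.OEightLocal

theorem neg_one_sub_one_ne : ¬ (-1 - 1 : ZMod 3) = 0 := by decide

namespace InvData

variable {M : Type*} [Group M] [Finite M] {t : M} (D : InvData M t)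

theorem normalizer_T_le : Subgroup.normalizer (D.T : Set M) ≤ D.M0 := fun g hg => D.norm_T g hg

theorem mem_normalizer_T_of {g : M} (h : ∀ x ∈ D.T, g * x * g⁻¹ ∈ D.T) :
    g ∈ Subgroup.normalizer (D.T : Set M) := by
  rw [Subgroup.mem_normalizer_iff]
  intro x
  refine ⟨h x, fun hx => ?_⟩
  obtain ⟨⟨y, hy⟩, e⟩ := (Finite.injective_iff_surjective
    (f := fun y : D.T => (⟨g * y * g⁻¹, h y y.2⟩ : D.T))).1
      (fun y z e => Subtype.ext (mul_left_cancel (mul_right_cancel (congrArg Subtype.val e)))) ⟨_, hx⟩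
  rw [← mul_left_cancel (mul_right_cancel (congrArg Subtype.val e))]
  exact hy

include D in
theorem not81_M : ¬ 81 ∣ Nat.card M := fun h => by
  haveI : Fact (Nat.Prime 3) := ⟨Nat.prime_three⟩
  obtain ⟨K, hK, hle⟩ := Sylow.exists_subgroup_card_pow_succ (p := 3) (n := 3) (by simpa using h)
    (H := D.T) (by rw [D.card_T']; norm_num)
  have hi : (D.T.subgroupOf K).index = 3 := by
    have e := (D.T.subgroupOf K).card_mul_index
    rw [Nat.card_congr (Subgroup.subgroupOfEquivOfLe hle).toEquiv, D.card_T', hK] at e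
    omega
  haveI : (D.T.subgroupOf K).Normal := by
    refine Subgroup.normal_of_index_eq_minFac_card ?_
    rw [hi, hK, Nat.Prime.pow_minFac Nat.prime_three (by norm_num)]
  have hKN := (Subgroup.le_normalizer_of_normal_subgroupOf (K := K) hle).trans D.normalizer_T_le
  have h1 := Subgroup.card_dvd_of_le hKN
  rw [hK] at h1
  exact D.not81 (by simpa using h1)

/-- Fusion inside `T` of an element with centraliser in the known subgroup. -/
theorem mem_of_conj {x : M} (hx : x ∈ D.T) (hcx : ∀ g, Commute g x → g ∈ D.M0) {g : M}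
    (h : g * x * g⁻¹ ∈ D.T) : g ∈ D.M0 := by
  let P := D.T.map (MulAut.conj g⁻¹).toMonoidHom
  have hP : IsPGroup 3 P := D.T_isPGroup.map _
  have hle : P ≤ D.M0 := by
    rintro _ ⟨y, hy, rfl⟩
    refine hcx _ ?_
    obtain ⟨b, hb⟩ := D.exists_ax hy
    obtain ⟨c, hc⟩ := D.exists_ax h
    have hcomm : Commute y (g * x * g⁻¹) := by rw [hb, hc]; exact D.axEl_comm b c
    show (g⁻¹ * y * g⁻¹⁻¹) * x = x * (g⁻¹ * y * g⁻¹⁻¹)
    calc (g⁻¹ * y * g⁻¹⁻¹) * x = g⁻¹ * (y * (g * x * g⁻¹)) * g := by group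
      _ = g⁻¹ * (g * x * g⁻¹ * y) * g := by rw [hcomm.eq]
      _ = _ := by group
  obtain ⟨c, hc, hcP⟩ := D.conj_into_T hP hle
  have hn : c * g⁻¹ ∈ Subgroup.normalizer (D.T : Set M) := D.mem_normalizer_T_of fun y hy => by
    have := hcP _ ⟨y, hy, rfl⟩
    simp only [MulEquiv.coe_toMonoidHom, MulAut.conj_apply, inv_inv] at this
    rwa [show c * g⁻¹ * y * (c * g⁻¹)⁻¹ = c * (g⁻¹ * y * g) * c⁻¹ by group]
  have h2 := mul_mem (inv_mem hc) (D.normalizer_T_le hn)
  rw [inv_mul_cancel_left] at h2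
  simpa using inv_mem h2

theorem single_ne (i : Fin 3) : D.d i ≠ 1 := fun h => by
  have := congrFun (D.axEl_inj ((D.axEl_single i).trans (h.trans D.axEl_zero.symm))) i
  simp at this

theorem zpowers_d {i : Fin 3} {a : Fin 3 → ZMod 3} (h : axEl D.d a ∈ Subgroup.zpowers (D.d i)) :
    ∀ j, j ≠ i → a j = 0 := by
  obtain ⟨k, hk⟩ := Subgroup.mem_zpowers_iff.1 h
  have e : D.d i ^ k = axEl D.d ((k : ZMod 3) • Pi.single i 1) := by
    have h1 : D.d i ^ k = D.axHom (Multiplicative.ofAdd (Pi.single i (1 : ZMod 3)) ^ k) := by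
      rw [map_zpow]; congr 1; exact (D.axEl_single i).symm
    rw [h1, ← ofAdd_zsmul]
    show axEl D.d (k • Pi.single i (1 : ZMod 3)) = _
    rw [← Int.cast_smul_eq_zsmul (ZMod 3)]
  rw [e] at hk
  intro j hj
  rw [← D.axEl_inj hk]
  simp [Pi.single_apply, hj]

theorem good' {a : Fin 3 → ZMod 3} {i j : Fin 3} (hij : i ≠ j) (hi : a i ≠ 0) (hj : a j ≠ 0) {g : M}
    (hg : Commute g (axEl D.d a)) : g ∈ D.M0 := by
  refine D.good _ (D.axEl_mem a) (fun e => hi ?_) (fun k hk => ?_) g hg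
  · rw [D.axEl_inj (e.trans D.axEl_zero.symm)]; rfl
  · rcases eq_or_ne i k with rfl | hik
    · exact hj (D.zpowers_d hk j hij.symm)
    · exact hi (D.zpowers_d hk i hik)

theorem M0_cent_axis (i : Fin 3) {g : M} (hg : g ∈ D.M0) (hc : Commute g (D.d i)) :
    ∃ z ∈ Subgroup.zpowers t, ∃ a b, b i = false ∧ g = z * axEl D.d a * sgnEl D.s b := by
  obtain ⟨w, hw, a, b, rfl⟩ := hg
  have hm : w * axEl D.d a * sgnEl D.s b ∈ D.M0 := ⟨w, hw, a, b, rfl⟩
  have hc' : Commute (D.pi i ⟨_, hm⟩) (D.pi i (D.dM i)) := Commute.map (show Commute (⟨_, hm⟩ : D.M0) (D.dM i)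
    from Subtype.ext hc.eq) _
  rw [D.pi_apply hw rfl i, D.pi_d, if_pos rfl] at hc'
  have hdec : ∀ ε : Bool, ∀ r : ZMod 3, Commute (pm ε r) (pm false 1) → ε = false := by
    unfold Commute SemiconjBy; decide +kernel
  have hb := hdec _ _ hc'
  refine ⟨w, D.fix_W i w hw ?_, a, b, hb, rfl⟩
  have h1 : Commute (axEl D.d a * sgnEl D.s b) (D.d i) := by
    refine Commute.mul_left (D.axEl_single i ▸ D.axEl_comm a _) ?_
    have e := D.conj_d b i
    rw [hb, if_neg Bool.false_ne_true] at e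
    calc sgnEl D.s b * D.d i = sgnEl D.s b * D.d i * (sgnEl D.s b * sgnEl D.s b) := by rw [D.sgnEl_sq, mul_one]
      _ = (sgnEl D.s b * D.d i * sgnEl D.s b) * sgnEl D.s b := by group
      _ = _ := by rw [e]
  have h2 := hc.mul_left h1.inv_left
  rwa [show w * axEl D.d a * sgnEl D.s b * (axEl D.d a * sgnEl D.s b)⁻¹ = w by group] at h2

theorem sgn_comm_axis {b : Fin 3 → Bool} {i : Fin 3} (hb : b i = false) : Commute (sgnEl D.s b) (D.d i) := by
  have e := D.conj_d b i
  rw [hb, if_neg Bool.false_ne_true] at e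
  calc sgnEl D.s b * D.d i = sgnEl D.s b * D.d i * (sgnEl D.s b * sgnEl D.s b) := by rw [D.sgnEl_sq, mul_one]
    _ = (sgnEl D.s b * D.d i * sgnEl D.s b) * sgnEl D.s b := by group
    _ = _ := by rw [e]

/-- The centraliser of an axis lies in the known subgroup. -/
theorem axis_le (i : Fin 3) : Subgroup.centralizer ({D.d i} : Set M) ≤ D.M0 := by
  classical
  haveI : Fact (Nat.Prime 3) := ⟨Nat.prime_three⟩
  set C := Subgroup.centralizer ({D.d i} : Set M)
  have hC : ∀ g, g ∈ C ↔ Commute g (D.d i) := fun g => Subgroup.mem_centralizer_singleton_iff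
  have heC : D.d i * t ∈ C := (hC _).2 ((Commute.refl _).mul_left (D.t_cen (D.d i)).symm)
  let et : C := ⟨D.d i * t, heC⟩
  let E : Subgroup C := Subgroup.zpowers et
  haveI hE : E.Normal := by
    refine ⟨fun n hn g => ?_⟩
    obtain ⟨k, rfl⟩ := Subgroup.mem_zpowers_iff.1 hn
    have hcg : Commute (g : C) et := Subtype.ext (((hC _).1 g.2).mul_right (D.t_cen g)).eq
    rw [(hcg.zpow_right k).eq, mul_inv_cancel_right]
    exact hn
  set q := QuotientGroup.mk' E
  have hq : ∀ g : C, q g = 1 ↔ g ∈ E := fun g => QuotientGroup.eq_one_iff g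
  -- the elements of `E`
  have hEmem : ∀ g : C, g ∈ E → ∃ r : ZMod 3, ∃ z ∈ Subgroup.zpowers t,
      (g : M) = z * axEl D.d (Pi.single i r) := by
    intro g hg
    obtain ⟨k, rfl⟩ := Subgroup.mem_zpowers_iff.1 hg
    refine ⟨k, t ^ k, zpow_mem (Subgroup.mem_zpowers t) k, ?_⟩
    rw [Subgroup.coe_zpow, show (et : M) = D.d i * t from rfl, (D.t_cen (D.d i)).mul_zpow,
      ((D.t_cen (D.d i)).zpow_zpow k k).eq]
    congr 1
    have h1 : D.d i ^ k = D.axHom (Multiplicative.ofAdd (Pi.single i (1 : ZMod 3)) ^ k) := by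
      rw [map_zpow]; congr 1; exact (D.axEl_single i).symm
    rw [h1, ← ofAdd_zsmul]
    show axEl D.d (k • Pi.single i (1 : ZMod 3)) = _
    congr 1
    rw [← Pi.single_smul, zsmul_eq_mul, mul_one]
  have hTC : D.T ≤ C := fun x hx => (hC x).2 (by
    obtain ⟨a, rfl⟩ := D.exists_ax hx
    exact D.axEl_single i ▸ D.axEl_comm a _)
  have hET : ∀ g : C, g ∈ E → (g : M) ^ 3 = 1 → (g : M) ∈ D.T := fun g hg h3 => by
    obtain ⟨r, z, hz, e⟩ := hEmem g hg
    have hz1 : z = 1 := by
      rw [e, (D.zt_cen (h := axEl D.d (Pi.single i r)) hz).symm.mul_pow, D.axEl_cube, mul_one, pow_succ,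
        sq, D.t_sq_of_mem hz, one_mul] at h3
      exact h3
    rw [e, hz1, one_mul]
    exact D.axEl_mem _
  let ax : (Fin 3 → ZMod 3) → C := fun a => ⟨axEl D.d a, hTC (D.axEl_mem a)⟩
  have hax : ∀ a, q (ax a) = 1 → ∀ j, j ≠ i → a j = 0 := by
    intro a ha j hj
    obtain ⟨r, z, hz, e⟩ := hEmem _ ((hq _).1 ha)
    have h := (D.coord_eq (w := 1) (a := a) (b := fun _ => false) (w' := z) (a' := Pi.single i r)
      (b' := fun _ => false) (one_mem _) (D.zt_le hz) (by
        rw [one_mul, D.sgnEl_zero, mul_one, mul_one]; exact e)).2.1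
    rw [h, Pi.single_eq_of_ne hj]
  -- the image of `T`
  let B : Subgroup (C ⧸ E) := (D.T.subgroupOf C).map q
  have hBmem : ∀ u, u ∈ B ↔ ∃ a, q (ax a) = u := by
    intro u
    constructor
    · rintro ⟨x, hx, rfl⟩
      obtain ⟨a, ha⟩ := D.exists_ax (show (x : M) ∈ D.T from hx)
      exact ⟨a, congrArg q (Subtype.ext ha.symm)⟩
    · rintro ⟨a, rfl⟩
      exact ⟨ax a, D.axEl_mem a, rfl⟩
  have haxmul : ∀ a a', ax (a + a') = ax a * ax a' := fun a a' => Subtype.ext (D.axEl_add a a')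
  have hBnorm : ∀ (g : C) (a : Fin 3 → ZMod 3) (u : C), q (g * ax a * g⁻¹) = q u → (u : M) ∈ D.T →
      (g : M) * axEl D.d a * (g : M)⁻¹ ∈ D.T := by
    intro g a u hgu hu
    obtain ⟨v, hv, e⟩ : ∃ v ∈ E, g * ax a * g⁻¹ = u * v :=
      ⟨u⁻¹ * (g * ax a * g⁻¹), (hq _).1 (by rw [map_mul, map_inv, hgu, inv_mul_cancel]), by group⟩
    have e' : (g : M) * axEl D.d a * (g : M)⁻¹ = (u : M) * v := congrArg Subtype.val e
    have hcomm : Commute (u : M) v := by
      obtain ⟨c, hc⟩ := D.exists_ax hu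
      obtain ⟨r, z, hz, ev⟩ := hEmem v hv
      rw [hc, ev]
      exact (D.zt_cen hz).mul_right (D.axEl_comm _ _)
    have hv3 : (v : M) ^ 3 = 1 := by
      have h3 : ((g : M) * axEl D.d a * (g : M)⁻¹) ^ 3 = 1 := by rw [conj_pow, D.axEl_cube, mul_one, mul_inv_cancel]
      obtain ⟨c, hc⟩ := D.exists_ax hu
      rw [e', hcomm.mul_pow, hc, D.axEl_cube, one_mul] at h3
      exact h3
    rw [e']
    exact mul_mem hu (hET v hv hv3)
  -- an element normalising or centralising an image lies in the known subgroup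
  have hlift : ∀ (g : C) (a : Fin 3 → ZMod 3) (j : Fin 3), j ≠ i → a j ≠ 0 →
      q g * q (ax a) * (q g)⁻¹ ∈ B → (g : M) ∈ D.M0 := by
    intro g a j hj haj hgB
    obtain ⟨c, hc⟩ := (hBmem _).1 hgB
    let a' : Fin 3 → ZMod 3 := Function.update a i 1
    have hdiff : q (ax (a' + -a)) = 1 := by
      rw [hq]
      have e : a' + -a = Pi.single i (1 - a i) := funext fun k => by
        rcases eq_or_ne k i with rfl | hk
        · simp [a', sub_eq_add_neg]
        · simp [a', hk]
      refine Subgroup.mem_zpowers_iff.2 ⟨4 * ((1 - a i).val : ℤ), Subtype.ext ?_⟩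
      rw [Subgroup.coe_zpow, show (et : M) = D.d i * t from rfl, (D.t_cen (D.d i)).mul_zpow]
      show _ = axEl D.d (a' + -a)
      have hd : ∀ r : ZMod 3, axEl D.d (Pi.single i r) = D.d i ^ r.val := fun r => by
        fin_cases i <;> simp [axEl]
      rw [e, hd, zpow_mul, zpow_mul, show t ^ (4 : ℤ) = 1 by
        rw [show (4 : ℤ) = 2 * 2 from rfl, zpow_mul, zpow_two, zpow_two, D.t_sq, one_mul],
        show D.d i ^ (4 : ℤ) = D.d i by
          rw [show (4 : ℤ) = 3 + 1 from rfl, zpow_add_one, show D.d i ^ (3 : ℤ) = 1 by exact_mod_cast D.d_cube i,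
            one_mul], one_zpow, mul_one, zpow_natCast]
    have hsame : q (ax a') = q (ax a) := by
      calc q (ax a') = q (ax ((a' + -a) + a)) := by rw [neg_add_cancel_right]
        _ = _ := by rw [haxmul, map_mul, hdiff, one_mul]
    have h1 : (g : M) * axEl D.d a' * (g : M)⁻¹ ∈ D.T := by
      refine hBnorm g a' (ax c) ?_ (D.axEl_mem c)
      rw [map_mul, map_mul, map_inv, hsame, hc]
    exact D.mem_of_conj (D.axEl_mem a')
      (fun x hx => D.good' hj.symm (by simp [a']) (by simp [a', hj, haj]) hx) h1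
  -- the signs fixing the axis
  let σb : (Fin 3 → Bool) → Fin 3 → Bool := fun b j => if j = i then false else b j
  let sg : (Fin 3 → Bool) → C := fun b =>
    ⟨sgnEl D.s (σb b), (hC _).2 (D.sgn_comm_axis (by simp [σb]))⟩
  have hσb : ∀ b, b i = false → σb b = b := fun b hb => funext fun j => by
    simp only [σb]; split_ifs with h
    · rw [h, hb]
    · rfl
  have hM0C : ∀ g : C, (g : M) ∈ D.M0 → ∃ a b, b i = false ∧ q g = q (ax a * sg b) := by
    intro g hg
    obtain ⟨z, hz, a, b, hb, e⟩ := D.M0_cent_axis i hg ((hC _).1 g.2)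
    refine ⟨a, b, hb, ?_⟩
    obtain ⟨k, rfl⟩ := Subgroup.mem_zpowers_iff.1 hz
    have hzE : (⟨t ^ k, (hC _).2 ((D.t_cen (D.d i)).symm.zpow_left k)⟩ : C) ∈ E := by
      refine Subgroup.mem_zpowers_iff.2 ⟨3 * k, Subtype.ext ?_⟩
      rw [Subgroup.coe_zpow, show (et : M) = D.d i * t from rfl, zpow_mul, (D.t_cen (D.d i)).mul_zpow,
        show D.d i ^ (3 : ℤ) = 1 by exact_mod_cast D.d_cube i, one_mul,
        show t ^ (3 : ℤ) = t by rw [show (3 : ℤ) = 2 + 1 from rfl, zpow_add_one, zpow_two, D.t_sq, one_mul]]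
    calc q g = q (⟨t ^ k, (hC _).2 ((D.t_cen (D.d i)).symm.zpow_left k)⟩ * (ax a * sg b)) := by
          congr 1; exact Subtype.ext (by rw [e, mul_assoc]; simp only [Subgroup.coe_mul, ax, sg, hσb b hb])
      _ = _ := by rw [map_mul, (hq _).2 hzE, one_mul]
  have hsgconj : ∀ b a, b i = false → sg b * ax a * (sg b)⁻¹ = ax (flip b a) := by
    intro b a hb
    refine Subtype.ext ?_
    simp only [Subgroup.coe_mul, InvMemClass.coe_inv, sg, ax, hσb b hb]
    rw [D.conj_ax, mul_inv_cancel_right]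
  have hBnormalize : ∀ g : C, (g : M) ∈ D.M0 → q g ∈ Subgroup.normalizer (B : Set (C ⧸ E)) := by
    intro g hg
    obtain ⟨a, b, hb, e⟩ := hM0C g hg
    rw [e, map_mul]
    refine mul_mem (Subgroup.le_normalizer ((hBmem _).2 ⟨a, rfl⟩)) ?_
    rw [Subgroup.mem_normalizer_iff]
    have hstep : ∀ u ∈ B, q (sg b) * u * (q (sg b))⁻¹ ∈ B := by
      intro u hu
      obtain ⟨c, rfl⟩ := (hBmem u).1 hu
      rw [← map_mul, ← map_inv, ← map_mul, hsgconj b c hb]
      exact (hBmem _).2 ⟨_, rfl⟩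
    refine fun u => ⟨hstep u, fun hu => ?_⟩
    have h2 := hstep _ hu
    have hsq : q (sg b) * q (sg b) = 1 := by
      rw [← map_mul, show sg b * sg b = 1 from Subtype.ext (D.sgnEl_sq _), map_one]
    rw [inv_eq_of_mul_eq_one_left hsq] at h2
    rwa [show q (sg b) * (q (sg b) * u * q (sg b)) * q (sg b) = (q (sg b) * q (sg b)) * u * (q (sg b) * q (sg b))
      by group, hsq, one_mul, mul_one] at h2
  have hBcomm : ∀ u ∈ B, ∀ v ∈ B, u * v = v * u := by
    intro u hu v hv
    obtain ⟨a, rfl⟩ := (hBmem u).1 hu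
    obtain ⟨c, rfl⟩ := (hBmem v).1 hv
    rw [← map_mul, ← map_mul, ← haxmul, ← haxmul, add_comm]
  have haxneg : ∀ a a', q (ax a) = q (ax a') → q (ax (a - a')) = 1 := by
    intro a a' e
    have h := congrArg q (haxmul (a - a') a')
    rw [sub_add_cancel, map_mul, e] at h
    exact right_eq_mul.1 h
  have hcard : Nat.card B = 9 := by
    let ι := {j : Fin 3 // j ≠ i}
    let ext0 : (ι → ZMod 3) → Fin 3 → ZMod 3 := fun f j => if h : j = i then 0 else f ⟨j, h⟩
    let φ : (ι → ZMod 3) → B := fun f => ⟨q (ax (ext0 f)), (hBmem _).2 ⟨_, rfl⟩⟩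
    rw [← Nat.card_eq_of_bijective φ ⟨fun f f' e => funext fun j => ?_, fun u => ?_⟩]
    · rw [Nat.card_fun, Nat.card_zmod, Nat.card_eq_fintype_card]
      have : ∀ i : Fin 3, Fintype.card {j : Fin 3 // j ≠ i} = 2 := by decide
      rw [show Fintype.card ι = 2 from this i]
      rfl
    · have := hax _ (haxneg _ _ (congrArg Subtype.val e)) j.1 j.2
      simpa [ext0, j.2, sub_eq_zero] using this
    · obtain ⟨a, ha⟩ := (hBmem _).1 u.2
      refine ⟨fun j => a j.1, Subtype.ext ?_⟩
      rw [← ha]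
      have hz : q (ax (a - ext0 fun j => a j.1)) = 1 := by
        rw [hq]
        refine Subgroup.mem_zpowers_iff.2 ⟨4 * ((a i).val : ℤ), Subtype.ext ?_⟩
        have e : a - (ext0 fun j => a j.1) = Pi.single i (a i) := funext fun k => by
          rcases eq_or_ne k i with rfl | hk
          · simp [ext0]
          · simp [ext0, hk]
        rw [Subgroup.coe_zpow, show (et : M) = D.d i * t from rfl, (D.t_cen (D.d i)).mul_zpow]
        show _ = axEl D.d (a - ext0 fun j => a j.1)
        have hd : ∀ r : ZMod 3, axEl D.d (Pi.single i r) = D.d i ^ r.val := fun r => by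
          fin_cases i <;> simp [axEl]
        rw [e, hd, zpow_mul, zpow_mul, show t ^ (4 : ℤ) = 1 by
          rw [show (4 : ℤ) = 2 * 2 from rfl, zpow_mul, zpow_two, zpow_two, D.t_sq, one_mul],
          show D.d i ^ (4 : ℤ) = D.d i by
            rw [show (4 : ℤ) = 3 + 1 from rfl, zpow_add_one, show D.d i ^ (3 : ℤ) = 1 by exact_mod_cast D.d_cube i,
              one_mul], one_zpow, mul_one, zpow_natCast]
      show q (ax (ext0 fun j => a j.1)) = q (ax a)
      calc q (ax (ext0 fun j => a j.1)) = 1 * q (ax (ext0 fun j => a j.1)) := (one_mul _).symm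
        _ = _ := by rw [← hz, ← map_mul, ← haxmul, sub_add_cancel]
  have hnontriv : ∀ u ∈ B, u ≠ 1 → ∃ a j, j ≠ i ∧ a j ≠ 0 ∧ q (ax a) = u := by
    intro u hu hu1
    obtain ⟨a, rfl⟩ := (hBmem u).1 hu
    by_contra hcon
    push Not at hcon
    refine hu1 ((hq _).2 (Subgroup.mem_zpowers_iff.2 ⟨4 * ((a i).val : ℤ), Subtype.ext ?_⟩))
    have e : a = Pi.single i (a i) := funext fun k => by
      rcases eq_or_ne k i with rfl | hk
      · simp
      · rw [Pi.single_eq_of_ne hk]
        by_contra h0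
        exact hcon a k hk h0 rfl
    rw [Subgroup.coe_zpow, show (et : M) = D.d i * t from rfl, (D.t_cen (D.d i)).mul_zpow]
    show _ = axEl D.d a
    have hd : ∀ r : ZMod 3, axEl D.d (Pi.single i r) = D.d i ^ r.val := fun r => by
      fin_cases i <;> simp [axEl]
    rw [e, hd, zpow_mul, zpow_mul, show t ^ (4 : ℤ) = 1 by
      rw [show (4 : ℤ) = 2 * 2 from rfl, zpow_mul, zpow_two, zpow_two, D.t_sq, one_mul],
      show D.d i ^ (4 : ℤ) = D.d i by
        rw [show (4 : ℤ) = 3 + 1 from rfl, zpow_add_one, show D.d i ^ (3 : ℤ) = 1 by exact_mod_cast D.d_cube i,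
          one_mul], one_zpow, mul_one, zpow_natCast, Pi.single_eq_same]
  obtain ⟨j₀, hj₀⟩ : ∃ j, j ≠ i := exists_ne i
  have hinM0 : ∀ g : C, q g ∈ Subgroup.normalizer (B : Set (C ⧸ E)) → (g : M) ∈ D.M0 := fun g hg =>
    hlift g (Pi.single j₀ 1) j₀ hj₀ (by simp) ((Subgroup.mem_normalizer_iff.1 hg _).1 ((hBmem _).2 ⟨_, rfl⟩))
  have hyp : CfsgLib.NineTI.Hyp B := by
    refine ⟨hcard, hBcomm, ?_, ?_, ?_, ?_⟩
    · intro u hu
      obtain ⟨a, rfl⟩ := (hBmem u).1 hu
      rw [← map_pow, show ax a ^ 3 = 1 from Subtype.ext (D.axEl_cube a), map_one]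
    · intro Q hQ hle
      obtain ⟨n, hn⟩ := IsPGroup.iff_card.1 hQ
      have h9 : 3 ^ 2 ∣ 3 ^ n := by
        have := Subgroup.card_dvd_of_le hle
        rwa [hcard, hn] at this
      have hn2 : 2 ≤ n := (Nat.pow_dvd_pow_iff_le_right (by norm_num)).1 h9
      have hn3 : n < 3 := by
        by_contra hge
        refine D.not81_M ?_
        have h1 : Nat.card (Q.comap q) = Nat.card E * Nat.card Q := by
          have h := Subgroup.card_eq_card_quotient_mul_card_subgroup (E.subgroupOf (Q.comap q))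
          have hle' : E ≤ Q.comap q := fun x hx => by
            rw [Subgroup.mem_comap, (hq x).2 hx]; exact one_mem Q
          rw [Nat.card_congr (Subgroup.subgroupOfEquivOfLe hle').toEquiv] at h
          rw [h, mul_comm]
          congr 1
          let f : Q.comap q →* Q := ((q.comp (Q.comap q).subtype).codRestrict Q fun x => x.2)
          have hfk : f.ker = E.subgroupOf (Q.comap q) := by
            ext x
            rw [MonoidHom.mem_ker, Subgroup.mem_subgroupOf, ← hq, Subtype.ext_iff]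
            rfl
          rw [← hfk]
          refine Nat.card_congr (QuotientGroup.quotientKerEquivOfSurjective f fun y => ?_).toEquiv
          obtain ⟨x, hx⟩ := QuotientGroup.mk'_surjective E y.1
          exact ⟨⟨x, show q x ∈ Q by rw [show q x = y.1 from hx]; exact y.2⟩, Subtype.ext hx⟩
        have h6 : 3 ∣ Nat.card E := by
          refine dvd_trans ?_ (orderOf_dvd_natCard (⟨et, Subgroup.mem_zpowers et⟩ : E))
          rw [Subgroup.orderOf_mk, ← Subgroup.orderOf_coe, show (et : M) = D.d i * t from rfl,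
            (D.t_cen (D.d i)).orderOf_mul_eq_mul_orderOf_of_coprime (by
              rw [D.orderOf_T (D.d_mem_T i) (D.single_ne i), orderOf_eq_prime (p := 2) (by rw [sq, D.t_sq]) D.t_ne]
              norm_num)]
          rw [D.orderOf_T (D.d_mem_T i) (D.single_ne i)]
          exact Dvd.intro _ rfl
        have h81 : 3 * 3 ^ 3 ∣ Nat.card E * Nat.card Q := Nat.mul_dvd_mul h6 (hn ▸ Nat.pow_dvd_pow 3 (not_lt.1 hge))
        rw [← h1] at h81
        exact (h81.trans ((Subgroup.card_subgroup_dvd_card _).trans (Subgroup.card_subgroup_dvd_card C)))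
      exact (Subgroup.eq_of_le_of_card_ge hle (by rw [hn, hcard, show n = 2 by omega]; norm_num)).symm
    · refine le_antisymm (fun u hu => ?_) fun u hu v hv => (hBcomm v hv u hu)
      obtain ⟨g, rfl⟩ := QuotientGroup.mk'_surjective E u
      have hg : (g : M) ∈ D.M0 := hlift g (Pi.single j₀ 1) j₀ hj₀ (by simp) (by
        rw [← hu _ ((hBmem _).2 ⟨_, rfl⟩), mul_inv_cancel_right]
        exact (hBmem _).2 ⟨_, rfl⟩)
      obtain ⟨a, b, hb, e⟩ := hM0C g hg
      suffices hb0 : b = fun _ => false by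
        rw [show q g = q (ax a) by
          rw [e, map_mul, show sg b = 1 from Subtype.ext (by
            show sgnEl D.s (σb b) = 1
            rw [hσb b hb, hb0, D.sgnEl_zero]), map_one, mul_one]]
        exact (hBmem _).2 ⟨a, rfl⟩
      funext j
      by_contra hbj
      have hbj' : b j = true := by simpa using hbj
      have hji : j ≠ i := fun h => by rw [h, hb] at hbj'; exact Bool.false_ne_true hbj'
      have h1 := hu _ ((hBmem _).2 ⟨Pi.single j 1, rfl⟩)
      change q (ax (Pi.single j 1)) * q g = q g * q (ax (Pi.single j 1)) at h1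
      have h2 : q (ax (flip b (Pi.single j 1))) = q (ax (Pi.single j 1)) := by
        rw [← hsgconj b _ hb, map_mul, map_mul, map_inv, mul_inv_eq_iff_eq_mul]
        rw [e, map_mul] at h1
        have hc := hBcomm _ ((hBmem _).2 ⟨a, rfl⟩) _ ((hBmem _).2 ⟨Pi.single j 1, rfl⟩)
        have h3 : q (ax a) * (q (sg b) * q (ax (Pi.single j 1))) = q (ax a) * (q (ax (Pi.single j 1)) * q (sg b)) := by
          rw [← mul_assoc, ← h1, ← mul_assoc, ← mul_assoc, hc]
        exact mul_left_cancel h3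
      have h3 := hax _ (haxneg _ _ h2) j hji
      simp [flip, hbj'] at h3
      exact absurd h3 neg_one_sub_one_ne
    · intro u hu hu1 v hv
      obtain ⟨g, rfl⟩ := QuotientGroup.mk'_surjective E v
      obtain ⟨a, j, hj, haj, rfl⟩ := hnontriv u hu hu1
      refine hBnormalize g (hlift g a j hj haj ?_)
      rw [Subgroup.mem_centralizer_singleton_iff.1 hv, mul_inv_cancel_right]
      exact hu
  let P : Subgroup (C ⧸ E) :=
    { carrier := {u | ∃ b, b i = false ∧ q (sg b) = u}
      one_mem' := ⟨fun _ => false, rfl, by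
        rw [show sg (fun _ => false) = 1 from Subtype.ext (by
          show sgnEl D.s (σb fun _ => false) = 1
          rw [hσb _ rfl, D.sgnEl_zero]), map_one]⟩
      mul_mem' := by
        rintro _ _ ⟨b, hb, rfl⟩ ⟨c, hc, rfl⟩
        refine ⟨fun j => b j ^^ c j, by simp [hb, hc], ?_⟩
        rw [← map_mul]
        congr 1
        refine Subtype.ext ?_
        show sgnEl D.s (σb fun j => b j ^^ c j) = sgnEl D.s (σb b) * sgnEl D.s (σb c)
        rw [hσb b hb, hσb c hc, hσb _ (by simp [hb, hc]), D.sgnEl_mul]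
      inv_mem' := by
        rintro _ ⟨b, hb, rfl⟩
        refine ⟨b, hb, ?_⟩
        rw [← map_inv]
        congr 1
        exact Subtype.ext (D.sgnEl_inv _).symm }
  have hPsq : ∀ p ∈ P, p * p = 1 := by
    rintro _ ⟨b, -, rfl⟩
    rw [← map_mul, show sg b * sg b = 1 from Subtype.ext (D.sgnEl_sq _), map_one]
  have hPc : Nat.card P = 4 := by
    rw [← Nat.card_eq_of_bijective (fun b : {b : Fin 3 → Bool // b i = false} =>
      (⟨q (sg b.1), b.1, b.2, rfl⟩ : P)) ⟨fun b c e => ?_, fun u => ?_⟩]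
    · rw [Nat.card_eq_fintype_card]
      have : ∀ i : Fin 3, Fintype.card {b : Fin 3 → Bool // b i = false} = 4 := by decide
      exact this i
    · have e' : q (sg b.1) = q (sg c.1) := congrArg Subtype.val e
      have h1 : q (sg b.1 * sg c.1) = 1 := by
        rw [map_mul, ← e', ← map_mul, show sg b.1 * sg b.1 = 1 from Subtype.ext (D.sgnEl_sq _), map_one]
      obtain ⟨r, z, hz, ez⟩ := hEmem _ ((hq _).1 h1)
      have h2 := (D.coord_eq (w := 1) (a := 0) (b := fun j => b.1 j ^^ c.1 j) (w' := z) (a' := Pi.single i r)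
        (b' := fun _ => false) (one_mem _) (D.zt_le hz) (by
          rw [← D.sgnEl_mul, D.axEl_zero, D.sgnEl_zero, mul_one, mul_one, ← hσb _ b.2, ← hσb _ c.2, one_mul]
          exact ez)).2.2
      refine Subtype.ext (funext fun j => ?_)
      have h3 := congrFun h2 j
      revert h3
      cases b.1 j <;> cases c.1 j <;> simp
    · obtain ⟨b, hb, e⟩ := u.2
      exact ⟨⟨b, hb⟩, Subtype.ext e⟩
  have hPle : P ≤ Subgroup.normalizer (B : Set (C ⧸ E)) := by
    rintro _ ⟨b, -, rfl⟩
    exact hBnormalize _ (D.sgnEl_M0 _)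
  have htop := CfsgLib.NineTI.normalizer_eq_top_of_klein hyp P hPle hPc hPsq fun n hn => by
    obtain ⟨g, rfl⟩ := QuotientGroup.mk'_surjective E n
    obtain ⟨a, b, hb, e⟩ := hM0C g (hinM0 g hn)
    exact ⟨q (ax a), (hBmem _).2 ⟨a, rfl⟩, q (sg b), ⟨b, hb, rfl⟩, by rw [← map_mul, ← e]⟩
  intro g hg
  exact hinM0 ⟨g, hg⟩ (by rw [htop]; exact Subgroup.mem_top _)

/-- The centraliser of a nontrivial element of `T` lies in the known subgroup. -/
theorem cent_T_le {x : M} (hx : x ∈ D.T) (h1 : x ≠ 1) {g : M} (hg : Commute g x) : g ∈ D.M0 := by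
  by_cases h : ∃ i, x ∈ Subgroup.zpowers (D.d i)
  · obtain ⟨i, hi⟩ := h
    obtain ⟨k, hk⟩ := Subgroup.mem_zpowers_iff.1 hi
    refine D.axis_le i (Subgroup.mem_centralizer_singleton_iff.2 ?_)
    -- the axis is a power of `x`
    have h3 : orderOf x = 3 := D.orderOf_T hx h1
    have hmem : D.d i ∈ Subgroup.zpowers x := by
      have hle : Subgroup.zpowers x ≤ Subgroup.zpowers (D.d i) := Subgroup.zpowers_le.2 hi
      have := Subgroup.eq_of_le_of_card_ge hle (by
        rw [Nat.card_zpowers, Nat.card_zpowers, h3, D.orderOf_T (D.d_mem_T i) (D.single_ne i)])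
      exact this ▸ Subgroup.mem_zpowers _
    obtain ⟨l, hl⟩ := Subgroup.mem_zpowers_iff.1 hmem
    exact hl ▸ (hg.zpow_right l).eq
  · push Not at h
    exact D.good x hx h1 h g hg

/-- The known subgroup is strongly 3-embedded. -/
theorem strong {x g : M} (hx : x ∈ D.M0) (h3 : orderOf x = 3) (h : g * x * g⁻¹ ∈ D.M0) : g ∈ D.M0 := by
  have hx3 : x ^ 3 = 1 := orderOf_dvd_iff_pow_eq_one.1 h3.dvd
  obtain ⟨u, hu, hux⟩ := D.conj_elem_into_T hx hx3
  obtain ⟨v, hv, hvx⟩ := D.conj_elem_into_T h (by rw [conj_pow, hx3, mul_one, mul_inv_cancel])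
  have hne : u * x * u⁻¹ ≠ 1 := fun e => by
    rw [conj_eq_one_iff] at e
    rw [e, orderOf_one] at h3
    norm_num at h3
  have h2 : v * g * u⁻¹ * (u * x * u⁻¹) * (v * g * u⁻¹)⁻¹ ∈ D.T := by
    rwa [show v * g * u⁻¹ * (u * x * u⁻¹) * (v * g * u⁻¹)⁻¹ = v * (g * x * g⁻¹) * v⁻¹ by group]
  have h4 := mul_mem (mul_mem (inv_mem hv) (D.mem_of_conj hux (fun g hg => D.cent_T_le hux hne hg) h2)) hu
  rwa [show v⁻¹ * (v * g * u⁻¹) * u = g by group] at h4

end InvData

end CfsgLib.OEightLocal
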