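import Mathlib
import Cfsg.Prelude
import Cfsg.Agent.Lib.OEightLocal.InvEqStrong
import Cfsg.Agent.Lib.LFourThree.InvCentCore
import Cfsg.Agent.Lib.Layer.Characteristic

/-!
Three norm-three kernels meet in `W`; a second triple, through the sign involutions, gives equality
with the known subgroup.
-/

set_option autoImplicit false
set_option maxRecDepth 100000
set_option linter.style.haveILetI false
set_option linter.unusedSectionVars false

namespace CfsgLib.OEightLocal

open Cfsg CfsgLib.Char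
open scoped commutatorElement

theorem pm_comm_cycle : ∀ ε : Bool, ∀ r : ZMod 3, ε = true →
    (pm ε r * pm false 1 * (pm ε r)⁻¹ * (pm false 1)⁻¹) ^ 3 = 1 ∧
      pm ε r * pm false 1 * (pm ε r)⁻¹ * (pm false 1)⁻¹ ≠ 1 := by decide +kernel

theorem pm_cycle : ∀ r : ZMod 3, r ≠ 0 → pm false r ^ 3 = 1 ∧ pm false r ≠ 1 := by decide +kernel

theorem pm_sign_cycle : ∀ σ : Equiv.Perm (Fin 3), σ ^ 3 = 1 → σ ≠ 1 →
    (σ * pm true 0 * σ⁻¹ * (pm true 0)⁻¹) ^ 3 = 1 ∧ σ * pm true 0 * σ⁻¹ * (pm true 0)⁻¹ ≠ 1 := by decide +kernel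

theorem pm_orbit : ∀ x : Fin 3, x = 0 ∨ pm false 1 0 = x ∨ (pm false 1 * pm false 1) 0 = x := by decide +kernel

theorem pm_sign : Equiv.Perm.sign (pm true 0) = -1 := by decide +kernel

namespace InvData

variable {M : Type*} [Group M] [Finite M] {t : M} (D : InvData M t)

theorem pi_form_d (i : Fin 3) (g : D.M0) :
    ∃ ε r, D.pi i g = pm ε r := ⟨D.cb g i, D.ca g i, rfl⟩

/-- The kernel of the two constituents for the map `π i`. -/
theorem exists_kernel (i : Fin 3) (E : Set M)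
    (hE : ∀ a ∈ E, a * a ∈ Subgroup.zpowers t ∧ ∀ u : D.M0, IsConj a (u : M) → D.pi i u = 1) :
    ∃ K : Subgroup M, K.Normal ∧ E ⊆ K ∧
      ∀ g : D.M0, D.pi i g ^ 3 = 1 → D.pi i g ≠ 1 → (g : M) ∉ K := by
  classical
  haveI : Fintype D.M0 := Fintype.ofFinite _
  let ρ : D.M0 →* Equiv.Perm (Fin 3) := D.pi i
  letI : MulAction D.M0 (Fin 3) := MulAction.compHom (Fin 3) ρ
  have hsmul : ∀ (n : D.M0) (x : Fin 3), n • x = ρ n x := fun _ _ => rfl
  have hd : ρ (D.dM i) = pm false 1 := by show D.pi i (D.dM i) = _; rw [D.pi_d, if_pos rfl]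
  haveI : MulAction.IsPretransitive D.M0 (Fin 3) := by
    have h0 : ∀ x : Fin 3, ∃ n : D.M0, n • (0 : Fin 3) = x := fun x => by
      rcases pm_orbit x with e | e | e
      · exact ⟨1, by rw [e, one_smul]⟩
      · exact ⟨D.dM i, by rw [hsmul, hd, e]⟩
      · exact ⟨D.dM i * D.dM i, by rw [hsmul, map_mul, hd, e]⟩
    refine ⟨fun x y => ?_⟩
    obtain ⟨n, rfl⟩ := h0 x
    obtain ⟨m, rfl⟩ := h0 y
    exact ⟨m * n⁻¹, by rw [mul_smul, inv_smul_smul]⟩
  let sgn : D.M0 →* ℂˣ := (Units.map ((Int.castRingHom ℂ).toMonoidHom)).comp (Equiv.Perm.sign.comp ρ)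
  let f : D.M0 → ℂ := fun n => 2 + (sgn n : ℂ) - (Nat.card (MulAction.fixedBy (Fin 3) n) : ℂ)
  have hgen : IsGeneralizedCharacter D.M0 f := by
    have h2 : IsCharacter D.M0 (fun _ : D.M0 => (2 : ℂ)) := by
      have := isCharacter_add (isCharacter_one (G := D.M0)) (isCharacter_one (G := D.M0))
      have e : ((fun _ : D.M0 => (1 : ℂ)) + fun _ => 1) = fun _ => 2 := funext fun _ => by
        simp [one_add_one_eq_two]
      exact e ▸ this
    exact isGeneralized_sub (isGeneralized_of_isCharacter (isCharacter_add h2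
      (isCharacter_monoidHom sgn))) (isGeneralized_of_isCharacter (isCharacter_perm (Fin 3)))
  have hfval : ∀ n : D.M0, f n = ((2 + ((Equiv.Perm.sign (ρ n) : ℤˣ) : ℤ) -
      ((Finset.univ.filter fun x => ρ n x = x).card : ℤ) : ℤ) : ℂ) := fun n => by
    have hfix : Nat.card (MulAction.fixedBy (Fin 3) n) = (Finset.univ.filter fun x => ρ n x = x).card := by
      rw [← Fintype.card_subtype, ← Nat.card_eq_fintype_card]
      exact Nat.card_congr (Equiv.subtypeEquivRight fun x => Iff.rfl)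
    simp only [f, hfix]
    push_cast
    rfl
  let S : Set M := {x | x ∈ D.M0 ∧ 3 ∣ orderOf x}
  have hsupp3 : ∀ n : D.M0, f n ≠ 0 → ρ n ^ 3 = 1 ∧ ρ n ≠ 1 := fun n hn => by
    rcases LFourThree.perm_three_value (ρ n) with e | ⟨-, e1, e2⟩
    · exact absurd (by rw [hfval, e, Int.cast_zero]) hn
    · exact ⟨e1, e2⟩
  have hord : ∀ n : D.M0, f n ≠ 0 → 3 ∣ orderOf (n : M) := fun n hn => by
    haveI : Fact (Nat.Prime 3) := ⟨Nat.prime_three⟩
    rw [Subgroup.orderOf_coe]
    obtain ⟨e1, e2⟩ := hsupp3 n hn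
    exact orderOf_eq_prime e1 e2 ▸ orderOf_map_dvd ρ n
  have hsupp : ∀ n : D.M0, (n : M) ∉ S → f n = 0 := fun n hn => by
    by_contra hne
    exact hn ⟨n.2, hord n hne⟩
  have three_part : ∀ x : M, 3 ∣ orderOf x → orderOf (x ^ (orderOf x / 3)) = 3 := fun x hx => by
    have hpos := orderOf_pos x
    rw [orderOf_pow_of_dvd (Nat.div_pos (Nat.le_of_dvd hpos hx) (by norm_num)).ne' (Nat.div_dvd_of_dvd hx),
      Nat.div_div_self hx hpos.ne']
  have hTI : ∀ g : M, g ∉ D.M0 → ∀ x ∈ S, g * x * g⁻¹ ∈ S → x = 1 := by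
    intro r hr x hx hx'
    exfalso
    refine hr (D.strong (pow_mem hx.1 _) (three_part x hx.2) ?_)
    rw [← conj_pow]
    exact pow_mem hx'.1 _
  have h1 : f 1 = 0 := by
    rcases LFourThree.perm_three_value (ρ 1) with e | ⟨-, -, e⟩
    · rw [hfval, e, Int.cast_zero]
    · exact absurd (map_one ρ) e
  have hone : classInner f (fun _ => (1 : ℂ)) = 1 := by
    have hsum : ∑ n : D.M0, (sgn n : ℂ) = 0 := by
      refine StrongReal.sum_hom_eq_zero sgn fun hs => ?_
      have := congrArg Units.val (DFunLike.congr_fun hs (D.sM i))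
      have hsi : ρ (D.sM i) = pm true 0 := by show D.pi i (D.sM i) = _; rw [D.pi_s, beq_self_eq_true]
      simp only [sgn, MonoidHom.comp_apply, MonoidHom.one_apply, Units.coe_map, Units.val_one,
        hsi, pm_sign] at this
      norm_num at this
    have hburn : ∑ n : D.M0, (Nat.card (MulAction.fixedBy (Fin 3) n) : ℂ) = (Nat.card D.M0 : ℂ) := by
      have hb := MulAction.sum_card_fixedBy_eq_card_orbits_mul_card_group D.M0 (Fin 3)
      haveI : Subsingleton (Quotient (MulAction.orbitRel D.M0 (Fin 3))) :=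
        (MulAction.pretransitive_iff_subsingleton_quotient D.M0 (Fin 3)).mp inferInstance
      have h1' : Fintype.card (Quotient (MulAction.orbitRel D.M0 (Fin 3))) = 1 :=
        Fintype.card_eq_one_iff.mpr ⟨Quotient.mk'' 0, fun q => Subsingleton.elim _ _⟩
      have h2' : ∑ n : D.M0, Nat.card (MulAction.fixedBy (Fin 3) n) = Nat.card D.M0 := by
        simp only [Nat.card_eq_fintype_card]
        rw [h1', one_mul] at hb
        exact hb
      exact_mod_cast h2'
    simp only [classInner, f, map_one, mul_one]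
    rw [Finset.sum_sub_distrib, Finset.sum_add_distrib, hsum, hburn, Finset.sum_const,
      Finset.card_univ, nsmul_eq_mul, ← Nat.card_eq_fintype_card, add_zero]
    have : (Nat.card D.M0 : ℂ) ≠ 0 := Nat.cast_ne_zero.mpr Nat.card_pos.ne'
    field_simp
    ring
  have hnorm : classInner f f = 3 := by
    have e : classInner f f = 3 * classInner f (fun _ => (1 : ℂ)) := by
      simp only [classInner, Finset.mul_sum]
      refine Finset.sum_congr rfl fun n _ => ?_
      rcases LFourThree.perm_three_value (ρ n) with e | ⟨e, -⟩ <;> rw [hfval n, e] <;> push_cast <;>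
        simp only [map_zero, map_ofNat, map_one] <;> ring
    rw [e, hone, mul_one]
  have ha' : ∀ a ∈ E, ∀ r : M, r * a * r⁻¹ ∉ S := fun a ha r hr => by
    have h4 : (r * a * r⁻¹) ^ 4 = 1 := by
      rw [conj_pow, show (4 : ℕ) = 2 * 2 from rfl, pow_mul, sq, sq, D.t_sq_of_mem (hE a ha).1, mul_one,
        mul_inv_cancel]
    exact absurd (hr.2.trans (orderOf_dvd_of_pow_eq_one h4)) (by norm_num)
  have hno' : ∀ a ∈ E, ∀ n : D.M0, f n ≠ 0 → ∀ u v : M, IsConj a u → IsConj a v → u * v ≠ n := by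
    intro a ha n hn u v hu hv e
    have hconj : ∀ w : M, IsConj a w → w * w = a * a := by
      intro w hw
      obtain ⟨r, rfl⟩ := isConj_iff.mp hw
      calc r * a * r⁻¹ * (r * a * r⁻¹) = r * (a * a) * r⁻¹ := by group
        _ = a * a := by rw [(D.zt_cen (h := r) (hE a ha).1).eq, mul_inv_cancel_right]
    have hinv : u * (n : M) * u⁻¹ = (n : M)⁻¹ := by
      rw [← e]
      exact LFourThree.CentData.mul_eq_inv_mul (hconj u hu) (hconj v hv)
        (fun g => (D.zt_cen (h := g) (hE a ha).1).eq) (D.t_sq_of_mem (hE a ha).1)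
    have hxi : u * (n : M) ^ (orderOf (n : M) / 3) * u⁻¹ = ((n : M) ^ (orderOf (n : M) / 3))⁻¹ := by
      rw [← conj_pow, hinv, inv_pow]
    have hxm : (n : M) ^ (orderOf (n : M) / 3) ∈ D.M0 := pow_mem n.2 _
    have humem : u ∈ D.M0 := D.strong hxm (three_part _ (hord n hn)) (g := u) (hxi ▸ inv_mem hxm)
    obtain ⟨e1, e2⟩ := hsupp3 n hn
    refine three_cycle_inverted (ρ n) (ρ ⟨u, humem⟩) e1 e2 ?_ ((hE a ha).2 ⟨u, humem⟩ hu)
    rw [← map_inv, ← map_mul, ← map_inv, ← map_mul]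
    exact congrArg ρ (Subtype.ext hinv)
  obtain ⟨K, hK, hEK, hex⟩ :=
    LFourThree.exists_normal_of_norm_three_excl D.M0 S hTI f hgen hsupp h1 hnorm hone E ha' hno'
  refine ⟨K, hK, hEK, fun g hg hg1 => hex g ?_⟩
  have hval : ∀ σ : Equiv.Perm (Fin 3), σ ^ 3 = 1 → σ ≠ 1 →
      2 + ((Equiv.Perm.sign σ : ℤˣ) : ℤ) - ((Finset.univ.filter fun x => σ x = x).card : ℤ) = 3 := by
    decide +kernel
  rw [hfval, hval _ hg hg1]
  exact_mod_cast (by norm_num : (3 : ℤ) ≠ 0)

/-- The element of order three conjugates into `T`. -/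
theorem conj_M_into_T {x : M} (h3 : orderOf x = 3) : ∃ g : M, g * x * g⁻¹ ∈ D.T := by
  haveI : Fact (Nat.Prime 3) := ⟨Nat.prime_three⟩
  have hfac : (Nat.card M).factorization 3 = 3 := by
    refine Nat.le_antisymm ?_ ?_
    · by_contra hlt
      exact D.not81_M ((Nat.prime_three.pow_dvd_iff_le_factorization Nat.card_pos.ne').2 (by omega : 4 ≤ _))
    · refine (Nat.prime_three.pow_dvd_iff_le_factorization Nat.card_pos.ne').1 ?_
      have := D.T.card_subgroup_dvd_card
      rwa [D.card_T'] at this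
  let S : Sylow 3 M := Sylow.ofCard D.T (by rw [D.card_T', hfac]; norm_num)
  have hP : IsPGroup 3 (Subgroup.zpowers x) := IsPGroup.of_card (n := 1) (by rw [Nat.card_zpowers, h3, pow_one])
  obtain ⟨P', hP'⟩ := hP.exists_le_sylow
  obtain ⟨g, hg⟩ := MulAction.exists_smul_eq M P' S
  refine ⟨g, ?_⟩
  have hmem : g * x * g⁻¹ ∈ (S : Subgroup M) := by
    rw [← hg]
    exact ⟨x, hP' (Subgroup.mem_zpowers x), rfl⟩
  rwa [Sylow.coe_ofCard] at hmem

/-- A normal subgroup missing all three-cycles of the three maps lies in `W`. -/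
theorem small_kernel {K : Subgroup M} (hK : K.Normal)
    (hex : ∀ i, ∀ g : D.M0, D.pi i g ^ 3 = 1 → D.pi i g ≠ 1 → (g : M) ∉ K) : K ≤ D.W := by
  have hM0 : ∀ m : D.M0, (m : M) ∈ K → (m : M) ∈ D.W := fun m hm => D.pi_ker fun i => by
    obtain ⟨ε, r, e⟩ := D.pi_form_d i m
    cases ε
    · by_contra hne
      rw [e] at hne
      have hr : r ≠ 0 := fun h => hne (h ▸ pm_zero)
      obtain ⟨h3, h1⟩ := pm_cycle r hr
      exact hex i m (e ▸ h3) (e ▸ h1) hm
    · exfalso
      obtain ⟨h3, h1⟩ := pm_comm_cycle true r rfl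
      have e2 : D.pi i (m * D.dM i * m⁻¹ * (D.dM i)⁻¹) = pm true r * pm false 1 * (pm true r)⁻¹ * (pm false 1)⁻¹ := by
        simp [map_mul, map_inv, e, D.pi_d]
      refine hex i _ (e2 ▸ h3) (e2 ▸ h1) ?_
      simp only [Subgroup.coe_mul, InvMemClass.coe_inv]
      rw [mul_assoc (m : M), mul_assoc (m : M)]
      exact mul_mem hm (hK.conj_mem _ (inv_mem hm) _)
  have h3 : ¬ 3 ∣ Nat.card K := fun h => by
    haveI : Fact (Nat.Prime 3) := ⟨Nat.prime_three⟩
    obtain ⟨⟨x, hx⟩, e⟩ := exists_prime_orderOf_dvd_card' 3 h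
    rw [Subgroup.orderOf_mk] at e
    obtain ⟨g, hg⟩ := D.conj_M_into_T e
    have h1 := D.W_inf_T (hM0 ⟨_, D.T_le hg⟩ (hK.conj_mem x hx g)) hg
    rw [conj_eq_one_iff] at h1
    rw [h1, orderOf_one] at e
    norm_num at e
  haveI : IsMulCommutative D.T := ⟨⟨fun x y => Subtype.ext (by
    obtain ⟨a, ha⟩ := D.exists_ax x.2
    obtain ⟨b, hb⟩ := D.exists_ax y.2
    rw [Subgroup.coe_mul, Subgroup.coe_mul, ha, hb]
    exact (D.axEl_comm a b).eq)⟩⟩
  have hle : K ≤ D.M0 := by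
    refine CfsgLib.Coprime.le_of_centralizer_le (A := D.T) ?_ ?_ ?_ fun g hg h1 x hx =>
      D.cent_T_le hg h1 (Subgroup.mem_centralizer_singleton_iff.1 hx.2)
    · refine CfsgLib.Coprime.not_isCyclic_of_exponent (p := 3) ?_ (by norm_num) (by rw [D.card_T']; norm_num)
      intro x hx
      obtain ⟨a, rfl⟩ := D.exists_ax hx
      exact D.axEl_cube a
    · haveI := hK
      exact Subgroup.le_normalizer_of_normal
    · rw [D.card_T', show (27 : ℕ) = 3 ^ 3 by norm_num]
      exact (Nat.prime_three.coprime_iff_not_dvd.2 h3).pow_left 3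
  exact fun x hx => hM0 ⟨x, hle hx⟩ hx

theorem W_normal : D.W.Normal := by
  choose K hKn hKE hKex using fun i => D.exists_kernel i {w | w ∈ D.W ∧ w * w = t} (fun a ha =>
    ⟨by rw [ha.2]; exact Subgroup.mem_zpowers t, fun u hu => by
      obtain ⟨r, hr⟩ := isConj_iff.mp hu
      have huu : (u : M) * u = t := by
        rw [← hr, show r * a * r⁻¹ * (r * a * r⁻¹) = r * (a * a) * r⁻¹ by group, ha.2, (D.t_cen r).eq,
          mul_inv_cancel_right]
      refine D.pi_W i ?_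
      rcases D.invol_cases u.2 (by rw [huu]; exact Subgroup.mem_zpowers t) with h | ⟨b, -, g, -, z, hz, e⟩
      · exact h
      · exfalso
        have hc : Commute (g * sgnEl D.s b * g⁻¹) z := D.zt_cen hz
        rw [e, hc.symm.mul_mul_mul_comm, D.t_sq_of_mem hz, mul_one,
          show g * sgnEl D.s b * g⁻¹ * (g * sgnEl D.s b * g⁻¹) = g * (sgnEl D.s b * sgnEl D.s b) * g⁻¹ by group,
          D.sgnEl_sq, mul_one, mul_inv_cancel] at huu
        exact D.t_ne huu.symm⟩)
  haveI := hKn 0; haveI := hKn 1; haveI := hKn 2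
  have hW : D.W ≤ K 0 ⊓ K 1 ⊓ K 2 :=
    le_inf (le_inf (D.W_gen.trans ((Subgroup.closure_le _).2 (hKE 0)))
      (D.W_gen.trans ((Subgroup.closure_le _).2 (hKE 1)))) (D.W_gen.trans ((Subgroup.closure_le _).2 (hKE 2)))
  have hsmall : K 0 ⊓ K 1 ⊓ K 2 ≤ D.W := D.small_kernel inferInstance fun i g h3 h1 hg => by
    refine hKex i g h3 h1 ?_
    fin_cases i
    · exact hg.1.1
    · exact hg.1.2
    · exact hg.2
  rw [le_antisymm hW hsmall]
  infer_instance

/-- Commutators with `u` in `W` are involutions. -/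
def Split (u : M) : Prop := ∀ w ∈ D.W, ⁅w, u⁆ ^ 2 = 1

theorem split_conj {u : M} (h : D.Split u) (g : M) : D.Split (g * u * g⁻¹) := fun w hw => by
  have hw' : g⁻¹ * w * g ∈ D.W := by simpa using D.W_normal.conj_mem w hw g⁻¹
  have e : ⁅w, g * u * g⁻¹⁆ = g * ⁅g⁻¹ * w * g, u⁆ * g⁻¹ := by
    simp only [commutatorElement_def]; group
  rw [e, conj_pow, h _ hw', mul_one, mul_inv_cancel]

theorem split_mul {u z : M} (h : D.Split u) (hz : z ∈ Subgroup.zpowers t) : D.Split (u * z) := fun w hw => by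
  have e : ⁅w, u * z⁆ = ⁅w, u⁆ := by
    simp only [commutatorElement_def, mul_inv_rev]
    calc w * (u * z) * w⁻¹ * (z⁻¹ * u⁻¹) = w * u * (z * w⁻¹) * z⁻¹ * u⁻¹ := by group
      _ = w * u * (w⁻¹ * z) * z⁻¹ * u⁻¹ := by rw [(D.zt_cen (h := w⁻¹) hz).eq]
      _ = _ := by group
  rw [e]; exact h w hw

theorem s_conj_pi {i j : Fin 3} (hij : i ≠ j) (u : D.M0) (hu : IsConj (D.s j) (u : M)) :
    D.pi i u = 1 := by
  obtain ⟨r, hr⟩ := isConj_iff.mp hu
  have huu : (u : M) * u = 1 := by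
    rw [← hr, show r * D.s j * r⁻¹ * (r * D.s j * r⁻¹) = r * (D.s j * D.s j) * r⁻¹ by group, D.s_sq]
    group
  rcases D.invol_cases u.2 (by rw [huu]; exact one_mem _) with h | ⟨b, -, g, hg, z, hz, e⟩
  · exact D.pi_W i h
  have hsplit : D.Split (u : M) := hr ▸ D.split_conj (fun w hw => D.split j w hw) r
  obtain ⟨l, hl⟩ : ∃ l, b l = false := by
    by_contra hcon
    push Not at hcon
    have hball : b = fun _ => true := funext fun l => by simpa using hcon l
    obtain ⟨w, hw, hne⟩ := D.twist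
    refine hne ?_
    rw [← D.sgnEl_all, ← hball]
    have hσ : sgnEl D.s b = g⁻¹ * (u : M) * g * z := by
      rw [e]
      calc sgnEl D.s b = sgnEl D.s b * (z * z) := by rw [D.t_sq_of_mem hz, mul_one]
        _ = g⁻¹ * (g * sgnEl D.s b * g⁻¹) * (g * z) * z := by group
        _ = g⁻¹ * (g * sgnEl D.s b * g⁻¹) * (z * g) * z := by rw [(D.zt_cen (h := g) hz).eq]
        _ = _ := by group
    rw [hσ]
    have hs2 := D.split_conj hsplit g⁻¹
    rw [inv_inv] at hs2
    exact D.split_mul hs2 hz w hw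
  haveI : Fact (Nat.Prime 3) := ⟨Nat.prime_three⟩
  set x := g * D.d l * g⁻¹
  have hxM : x ∈ D.M0 := mul_mem (mul_mem hg (D.T_le (D.d_mem_T l))) (inv_mem hg)
  have hx3 : orderOf x = 3 := by
    simp only [x]
    rw [show g * D.d l * g⁻¹ = MulAut.conj g (D.d l) from rfl, MulEquiv.orderOf_eq]
    exact D.orderOf_T (D.d_mem_T l) (D.single_ne l)
  have hxu : Commute x u := by
    rw [e]
    refine Commute.mul_right ?_ (D.zt_cen hz)
    have hc := (D.sgn_comm_axis hl).eq
    show _ = _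
    calc g * D.d l * g⁻¹ * (g * sgnEl D.s b * g⁻¹) = g * (D.d l * sgnEl D.s b) * g⁻¹ := by group
      _ = g * (sgnEl D.s b * D.d l) * g⁻¹ := by rw [hc]
      _ = g * sgnEl D.s b * g⁻¹ * (g * D.d l * g⁻¹) := by group
  set y := r * D.d i * r⁻¹
  have hy3 : orderOf y = 3 := by
    simp only [y]
    rw [show r * D.d i * r⁻¹ = MulAut.conj r (D.d i) from rfl, MulEquiv.orderOf_eq]
    exact D.orderOf_T (D.d_mem_T i) (D.single_ne i)
  have hyu : Commute y u := by
    rw [← hr]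
    have hc := (D.s_d' j i hij.symm).eq
    show _ = _
    calc r * D.d i * r⁻¹ * (r * D.s j * r⁻¹) = r * (D.d i * D.s j) * r⁻¹ := by group
      _ = r * (D.s j * D.d i) * r⁻¹ := by rw [hc]
      _ = r * D.s j * r⁻¹ * (r * D.d i * r⁻¹) := by group
  set C := Subgroup.centralizer ({(u : M)} : Set M)
  let xC : C := ⟨x, Subgroup.mem_centralizer_singleton_iff.2 hxu.eq⟩
  let yC : C := ⟨y, Subgroup.mem_centralizer_singleton_iff.2 hyu.eq⟩
  obtain ⟨P, hP⟩ := (IsPGroup.of_card (n := 1) (G := Subgroup.zpowers xC) (p := 3)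
    (by rw [Nat.card_zpowers, pow_one, ← Subgroup.orderOf_coe]; exact hx3)).exists_le_sylow
  obtain ⟨P', hP'⟩ := (IsPGroup.of_card (n := 1) (G := Subgroup.zpowers yC) (p := 3)
    (by rw [Nat.card_zpowers, pow_one, ← Subgroup.orderOf_coe]; exact hy3)).exists_le_sylow
  obtain ⟨c, hc⟩ := MulAction.exists_smul_eq C P' P
  have hPM : ∀ p : C, p ∈ (P : Subgroup C) → (p : M) ∈ D.M0 := by
    intro p hp
    haveI : Nontrivial (P : Subgroup C) := ⟨⟨⟨xC, hP (Subgroup.mem_zpowers xC)⟩, 1, fun e => by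
      have : x = 1 := congrArg (fun q : (P : Subgroup C) => ((q : C) : M)) e
      rw [this, orderOf_one] at hx3
      norm_num at hx3⟩⟩
    haveI := P.2.center_nontrivial
    have h3 : 3 ∣ Nat.card (Subgroup.center (P : Subgroup C)) := by
      obtain ⟨n, hn⟩ := IsPGroup.iff_card.1 (P.2.to_subgroup (Subgroup.center (P : Subgroup C)))
      rw [hn]
      rcases n with _ | n
      · exfalso
        have h1 := Finite.one_lt_card (α := Subgroup.center (P : Subgroup C))
        rw [pow_zero] at hn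
        omega
      · exact dvd_pow_self 3 (by omega)
    obtain ⟨ζ, hζ⟩ := exists_prime_orderOf_dvd_card' 3 h3
    have hζc : ∀ q : (P : Subgroup C), (((q : C) : M)) * (ζ.1 : C) = ((ζ.1 : C) : M) * (q : C) := fun q =>
      congrArg (fun q : (P : Subgroup C) => ((q : C) : M)) (Subgroup.mem_center_iff.1 ζ.2 q)
    have hζ3 : orderOf ((ζ.1 : C) : M) = 3 := by rw [Subgroup.orderOf_coe, Subgroup.orderOf_coe, Subgroup.orderOf_coe, hζ]
    have hζM : ((ζ.1 : C) : M) ∈ D.M0 := by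
      refine D.strong hxM hx3 ?_
      rw [← hζc ⟨xC, hP (Subgroup.mem_zpowers xC)⟩]
      show x * _ * _ ∈ _
      rw [mul_inv_cancel_right]
      exact hxM
    refine D.strong hζM hζ3 ?_
    rw [hζc ⟨p, hp⟩, mul_inv_cancel_right]
    exact hζM
  have hcy : (c : M) * r * D.d i * ((c : M) * r)⁻¹ ∈ D.M0 := by
    have h1 : c * yC * c⁻¹ ∈ (P : Subgroup C) := by
      rw [← hc]
      exact ⟨yC, hP' (Subgroup.mem_zpowers yC), rfl⟩
    have h2 := hPM _ h1
    rwa [show (c : M) * r * D.d i * ((c : M) * r)⁻¹ = (c : M) * y * (c : M)⁻¹ by simp only [y]; group]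
  have hcr : (c : M) * r ∈ D.M0 := D.strong (D.T_le (D.d_mem_T i))
    (D.orderOf_T (D.d_mem_T i) (D.single_ne i)) hcy
  have hu' : u = ⟨_, hcr⟩ * D.sM j * ⟨_, hcr⟩⁻¹ := Subtype.ext (by
    have hcu : (c : M) * u = u * c := Subgroup.mem_centralizer_singleton_iff.1 c.2
    calc (u : M) = (c : M) * u * (c : M)⁻¹ := by rw [hcu, mul_inv_cancel_right]
      _ = (c : M) * (r * D.s j * r⁻¹) * (c : M)⁻¹ := by rw [hr]
      _ = (c : M) * r * D.s j * ((c : M) * r)⁻¹ := by group)
  rw [hu', map_mul, map_mul, map_inv, D.pi_s, show (i == j) = false from beq_eq_false_iff_ne.2 hij, pm_zero,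
    mul_one, mul_inv_cancel]

/-- The group is the known subgroup. -/
theorem M0_eq_top : D.M0 = ⊤ := by
  choose K hKn hKE hKex using fun i => D.exists_kernel i
    ({w | w ∈ D.W ∧ w * w = t} ∪ {u | ∃ j, i ≠ j ∧ u = D.s j}) (fun a ha => by
      rcases ha with ha | ⟨j, hij, rfl⟩
      · refine ⟨by rw [ha.2]; exact Subgroup.mem_zpowers t, fun u hu => D.pi_W i ?_⟩
        obtain ⟨r, hr⟩ := isConj_iff.mp hu
        exact hr ▸ D.W_normal.conj_mem a ha.1 r
      · exact ⟨by rw [D.s_sq]; exact one_mem _, fun u hu => D.s_conj_pi hij u hu⟩)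
  have hd : ∀ i j, i ≠ j → D.d j ∈ K i := fun i j hij => by
    have hs : D.s j ∈ K i := hKE i (Or.inr ⟨j, hij, rfl⟩)
    have h2 : D.d j * D.d j ∈ K i := by
      have h := mul_mem ((hKn i).conj_mem _ hs (D.d j)) hs
      rwa [show D.d j * D.s j * (D.d j)⁻¹ * D.s j = D.d j * (D.s j * (D.d j)⁻¹ * D.s j) by group,
        show D.s j * (D.d j)⁻¹ * D.s j = D.d j by
          rw [← inv_inj, mul_inv_rev, mul_inv_rev, inv_inv, inv_eq_of_mul_eq_one_left (D.s_sq j), ← mul_assoc,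
            D.s_d]] at h
    have h4 := mul_mem h2 h2
    rwa [show D.d j * D.d j * (D.d j * D.d j) = D.d j ^ 3 * D.d j by simp only [pow_succ, pow_zero, one_mul, mul_assoc], D.d_cube, one_mul] at h4
  haveI := hKn 0; haveI := hKn 1; haveI := hKn 2
  have hsmall : K 0 ⊓ K 1 ⊓ K 2 ≤ D.W := D.small_kernel inferInstance fun i g h3 h1 hg => by
    refine hKex i g h3 h1 ?_
    fin_cases i
    · exact hg.1.1
    · exact hg.1.2
    · exact hg.2
  have h2 : K 2 ≤ D.M0 := fun k hk => by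
    have hd2 : D.d 2 ∈ K 0 ⊓ K 1 := ⟨hd 0 2 (by decide), hd 1 2 (by decide)⟩
    have hmem : k * D.d 2 * k⁻¹ * (D.d 2)⁻¹ ∈ K 0 ⊓ K 1 ⊓ K 2 := by
      refine Subgroup.mem_inf.2 ⟨mul_mem ((inferInstance : (K 0 ⊓ K 1).Normal).conj_mem _ hd2 k) (inv_mem hd2), ?_⟩
      rw [mul_assoc k, mul_assoc k]
      exact mul_mem hk ((hKn 2).conj_mem _ (inv_mem hk) _)
    refine D.strong (D.T_le (D.d_mem_T 2)) (D.orderOf_T (D.d_mem_T 2) (D.single_ne 2)) ?_
    have := mul_mem (D.W_le (hsmall hmem)) (D.T_le (D.d_mem_T 2))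
    rwa [inv_mul_cancel_right] at this
  rw [eq_top_iff]
  intro g _
  exact D.strong (D.T_le (D.d_mem_T 0)) (D.orderOf_T (D.d_mem_T 0) (D.single_ne 0))
    (h2 ((hKn 2).conj_mem _ (hd 2 0 (by decide)) g))

theorem mem_all (g : M) : g ∈ D.M0 := D.M0_eq_top ▸ Subgroup.mem_top g

/-- `W` contains its centraliser. -/
theorem centralizer_W_le : Subgroup.centralizer (D.W : Set M) ≤ D.W := by
  intro m hm
  by_contra hmW
  haveI := D.W_normal
  set K := Subgroup.centralizer (D.W : Set M)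
  have hK : K.Normal := inferInstance
  obtain ⟨i, hi⟩ : ∃ i, D.pi i ⟨m, D.mem_all m⟩ ≠ 1 := by
    by_contra hcon
    push Not at hcon
    exact hmW (D.pi_ker hcon)
  -- a three-cycle for `π i`
  obtain ⟨c, hc, hc3, hc1⟩ : ∃ c : D.M0, (c : M) ∈ K ∧ D.pi i c ^ 3 = 1 ∧ D.pi i c ≠ 1 := by
    obtain ⟨ε, r, e⟩ := D.pi_form_d i ⟨m, D.mem_all m⟩
    cases ε
    · rw [e] at hi
      obtain ⟨h3, h1⟩ := pm_cycle r (fun h => hi (h ▸ pm_zero))
      exact ⟨_, hm, e ▸ h3, e ▸ h1⟩
    · set m' : D.M0 := ⟨m, D.mem_all m⟩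
      obtain ⟨h3, h1⟩ := pm_comm_cycle true r rfl
      have e2 : D.pi i (m' * D.dM i * m'⁻¹ * (D.dM i)⁻¹) = pm true r * pm false 1 * (pm true r)⁻¹ * (pm false 1)⁻¹ := by
        simp [map_mul, map_inv, e, D.pi_d]
      refine ⟨_, ?_, e2 ▸ h3, e2 ▸ h1⟩
      simp only [Subgroup.coe_mul, InvMemClass.coe_inv]
      rw [mul_assoc (m' : M), mul_assoc (m' : M)]
      exact mul_mem hm (hK.conj_mem _ (inv_mem hm) _)
  set c' := c * D.sM i * c⁻¹ * (D.sM i)⁻¹
  have hc' : (c' : M) ∈ K := by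
    simp only [c', Subgroup.coe_mul, InvMemClass.coe_inv]
    rw [mul_assoc (c : M), mul_assoc (c : M)]
    exact mul_mem hc (hK.conj_mem _ (inv_mem hc) _)
  have hpi : ∀ j, D.pi j c' = if j = i then D.pi i c * pm true 0 * (D.pi i c)⁻¹ * (pm true 0)⁻¹ else 1 := by
    intro j
    simp only [c', map_mul, map_inv, D.pi_s]
    split_ifs with h
    · subst h; rw [beq_self_eq_true]
    · rw [show (j == i) = false from beq_eq_false_iff_ne.2 h, pm_zero, mul_one, mul_inv_cancel, inv_one,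
        mul_one]
  obtain ⟨h3, h1⟩ := pm_sign_cycle _ hc3 hc1
  obtain ⟨w, hw, e⟩ := D.coord c'
  have hb : D.cb c' = fun _ => false := funext fun j => by
    have h := hpi j
    rcases eq_or_ne j i with rfl | hj
    · rw [if_pos rfl] at h
      exact pm_three (D.cb c' j) (D.ca c' j) (show D.pi j c' ^ 3 = 1 by rw [h]; exact h3)
    · rw [if_neg hj] at h
      exact (pm_inj _ _ _ _ ((show pm (D.cb c' j) (D.ca c' j) = 1 from h).trans pm_zero.symm)).1
  have ha : D.ca c' = Pi.single i (D.ca c' i) := funext fun j => by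
    rcases eq_or_ne j i with rfl | hj
    · rw [Pi.single_eq_same]
    · have h := hpi j
      rw [if_neg hj] at h
      rw [Pi.single_eq_of_ne hj]
      exact (pm_inj _ _ _ _ ((show pm (D.cb c' j) (D.ca c' j) = 1 from h).trans pm_zero.symm)).2
  have hr : D.ca c' i ≠ 0 := fun h0 => by
    have h := hpi i
    rw [if_pos rfl] at h
    refine h1 (h.symm.trans ?_)
    show pm (D.cb c' i) (D.ca c' i) = 1
    rw [hb, h0, pm_zero]
  rw [hb, D.sgnEl_zero, mul_one, ha] at e
  set r := D.ca c' i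
  set x := axEl D.d (Pi.single i r)
  -- the axis centralises `W`
  have hcomm : ∀ v ∈ D.W, Commute v (D.d i) := by
    intro v hv
    have h4 : (c' : M) * v * (c' : M)⁻¹ = v := by
      rw [← hc' v hv, mul_inv_cancel_right]
    have h5 : x * v * x⁻¹ = w⁻¹ * v * w := by
      rw [e] at h4
      calc x * v * x⁻¹ = w⁻¹ * (w * x * v * (w * x)⁻¹) * w := by group
        _ = _ := by rw [h4]
    have hz : v⁻¹ * (w⁻¹ * v * w) ∈ Subgroup.zpowers t := by
      haveI := D.zt_normal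
      set q := QuotientGroup.mk' (Subgroup.zpowers t)
      have hq : ∀ g, q g = 1 ↔ g ∈ Subgroup.zpowers t := fun g => QuotientGroup.eq_one_iff g
      have hsq : ∀ a ∈ D.W, (q a)⁻¹ = q a := fun a ha =>
        inv_eq_of_mul_eq_one_left (by rw [← map_mul, hq]; exact D.W_sq a ha)
      rw [← hq]
      simp only [map_mul, map_inv, hsq v hv, hsq w hw]
      rw [← mul_assoc, ← mul_assoc, ← map_mul, ← map_mul, ← map_mul, hq]
      have := D.W_sq _ (mul_mem hv hw)
      simpa [mul_assoc] using this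
    set z := v⁻¹ * (w⁻¹ * v * w)
    have h5' : x * v * x⁻¹ = v * z := by rw [h5]; simp only [z]; group
    have hxz : x * z * x⁻¹ = z := by rw [(D.zt_cen (h := x) hz).eq, mul_inv_cancel_right]
    have hz2 := D.t_sq_of_mem hz
    have e3 : v = v * z :=
      calc v = x ^ 3 * v * (x ^ 3)⁻¹ := by rw [D.axEl_cube]; group
        _ = x * (x * (x * v * x⁻¹) * x⁻¹) * x⁻¹ := by simp only [pow_succ, pow_zero, one_mul]; group
        _ = x * (x * (v * z) * x⁻¹) * x⁻¹ := by rw [h5']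
        _ = x * (x * v * x⁻¹ * (x * z * x⁻¹)) * x⁻¹ := by group
        _ = x * v * x⁻¹ := by rw [show x * v * x⁻¹ * (x * z * x⁻¹) = v * z * z by rw [h5', hxz], mul_assoc v, hz2, mul_one]
        _ = v * z := h5'
    have hvx : Commute v x := by
      rw [← e3, mul_inv_eq_iff_eq_mul] at h5'
      exact h5'.symm
    have hx : x = D.d i ^ r.val := by
      simp only [x]
      clear_value r
      fin_cases i <;> simp [axEl]
    have hd : D.d i = x ^ r.val := by
      rw [hx, ← pow_mul, pow_eq_pow_mod _ (D.d_cube i)]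
      have : r.val * r.val % 3 = 1 := (by decide : ∀ r : ZMod 3, r ≠ 0 → r.val * r.val % 3 = 1) r hr
      rw [this, pow_one]
    rw [hd]
    exact hvx.pow_right _
  obtain ⟨w', hw', hne⟩ := D.twist
  refine hne ?_
  have hwt := D.fix_W i w' hw' (hcomm w' hw')
  have : ⁅w', D.s 0 * D.s 1 * D.s 2⁆ = 1 :=
    commutatorElement_eq_one_iff_commute.2 (D.zt_cen (h := D.s 0 * D.s 1 * D.s 2) hwt).symm
  rw [this, one_pow]

theorem pi_all_surjective : Function.Surjective
    (fun g : M => fun i => D.pi i ⟨g, D.mem_all g⟩) := by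
  intro σ
  choose ε a h using fun i => pm_cover (σ i)
  refine ⟨axEl D.d a * sgnEl D.s ε, funext fun i => ?_⟩
  rw [← h i]
  exact D.pi_apply (one_mem D.W) (by simp) i

/-- The quotient by `W`. -/
noncomputable def quotHom : M →* Equiv.Perm (Fin 3) × Equiv.Perm (Fin 3) × Equiv.Perm (Fin 3) :=
  MonoidHom.mk' (fun g => (D.pi 0 ⟨g, D.mem_all g⟩, D.pi 1 ⟨g, D.mem_all g⟩, D.pi 2 ⟨g, D.mem_all g⟩))
    fun g h => by
      simp only [Prod.mk_mul_mk, ← map_mul]
      rfl

theorem quotHom_ker : D.quotHom.ker = D.W := by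
  ext g
  rw [MonoidHom.mem_ker]
  constructor
  · intro h
    have h' : (D.pi 0 ⟨g, D.mem_all g⟩, D.pi 1 ⟨g, D.mem_all g⟩, D.pi 2 ⟨g, D.mem_all g⟩) = (1, 1, 1) := h
    simp only [Prod.mk.injEq] at h'
    exact D.pi_ker (g := ⟨g, D.mem_all g⟩) fun i => by
      fin_cases i
      · exact h'.1
      · exact h'.2.1
      · exact h'.2.2
  · intro h
    show (_, _, _) = ((1 : Equiv.Perm (Fin 3)), (1 : Equiv.Perm (Fin 3)), (1 : Equiv.Perm (Fin 3)))
    rw [D.pi_W 0 h, D.pi_W 1 h, D.pi_W 2 h]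

theorem quotHom_surjective : Function.Surjective D.quotHom := fun σ => by
  obtain ⟨g, hg⟩ := D.pi_all_surjective ![σ.1, σ.2.1, σ.2.2]
  exact ⟨g, Prod.ext (congrFun hg 0) (Prod.ext (congrFun hg 1) (congrFun hg 2))⟩

theorem pCore_eq : Cfsg.pCore 2 M = D.W := by
  haveI := D.W_normal
  refine le_antisymm ?_ (Fitting.le_pCore inferInstance D.W_isPGroup)
  haveI := Fitting.pCore_normal (G := M) 2
  refine D.small_kernel inferInstance fun i g h3 h1 hg => h1 ?_
  haveI : Fact (Nat.Prime 2) := ⟨Nat.prime_two⟩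
  obtain ⟨n, hn⟩ := Fitting.pCore_isPGroup (G := M) 2 ⟨_, hg⟩
  have e : (g : M) ^ 2 ^ n = 1 := congrArg Subtype.val hn
  have e2 : D.pi i g ^ 2 ^ n = 1 := by rw [← map_pow, show g ^ 2 ^ n = 1 from Subtype.ext e, map_one]
  have d1 := orderOf_dvd_of_pow_eq_one h3
  have d2 := orderOf_dvd_of_pow_eq_one e2
  exact orderOf_eq_one_iff.1 (Nat.dvd_one.1
    ((Nat.Coprime.pow_right n (by norm_num : Nat.Coprime 3 2)).gcd_eq_one ▸ Nat.dvd_gcd d1 d2))

theorem generalizedFitting_eq : Cfsg.generalizedFittingSubgroup M = D.W := by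
  haveI : Fact (Nat.Prime 2) := ⟨Nat.prime_two⟩
  rw [Layer.generalizedFitting_eq_pCore_iff.2 (by rw [D.pCore_eq]; exact D.centralizer_W_le), D.pCore_eq]

include D in
/-- The quotient by the core is `S₃ × S₃ × S₃`. -/
theorem quotient_equiv : Nonempty (M ⧸ Cfsg.pCore 2 M ≃*
    Equiv.Perm (Fin 3) × Equiv.Perm (Fin 3) × Equiv.Perm (Fin 3)) := by
  haveI := Fitting.pCore_normal (G := M) 2
  haveI := D.W_normal
  exact ⟨(QuotientGroup.quotientMulEquivOfEq (D.pCore_eq.trans D.quotHom_ker.symm)).trans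
    (QuotientGroup.quotientKerEquivOfSurjective D.quotHom D.quotHom_surjective)⟩

end InvData

end CfsgLib.OEightLocal
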