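import Cfsg.Agent.Lib.OEightLocal.OrbitCor

/-!
Transitivity of `N(J) ∩ C(t)` on the points of `⟨z, i₂, y⟩` with a given value of the form.
-/

set_option autoImplicit false
set_option linter.style.haveILetI false

namespace CfsgLib.OEightLocal

/-- The exchange of `z` and `y`. -/
def fs (v : V) : V := ![v 3, v 1, v 2, v 0]

/-- The representatives in `⟨z, i₂, y⟩`. -/
def repE (c : ZMod 3) : V :=
  if c = 0 then ![1, 0, 0, 0] else if c = 1 then ![0, 0, 1, 0] else ![1, 0, 0, 2]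

set_option synthInstance.maxSize 4000 in
theorem reps_E : ∀ v : V, v 1 = 0 → v ≠ 0 → ∃ b s : Bool, ∃ i j : Fin 3,
    v = sgn b (fa^[i] ((bif s then fs else id) (fa^[j] (repE (qJ v))))) := by decide +kernel

variable {G : Type*} [Group G] (L : Loc G)

/-- `N(J) ∩ C(t)` is transitive on each value of the form in `⟨z, i₂, y⟩`. -/
theorem exists_conj_E [Finite G] {v w : V} (hv : v ≠ 0) (hw : w ≠ 0) (hv1 : v 1 = 0) (hw1 : w 1 = 0)
    (h : qJ v = qJ w) : ∃ n f, L.Act n f ∧ Commute n L.t ∧ f v = w := by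
  obtain ⟨r, -, -, hrt, hr, -, -, -, -⟩ := exists_swap L
  have act : ∀ (u : V), u 1 = 0 → u ≠ 0 → ∃ n f, L.Act n f ∧ Commute n L.t ∧ f (repE (qJ u)) = u := by
    intro u h1 h0
    obtain ⟨b, s, i, j, e⟩ := reps_E u h1 h0
    have hat : Commute L.a L.t := (L.O_comm _ L.t_mem).2.1.symm
    have hB : ∃ n, L.Act n (sgn b) ∧ Commute n L.t := ⟨_, act_sgn L b, by
      cases b; exacts [Commute.one_left _, L.comm_νt]⟩
    have hS : ∃ n, L.Act n (bif s then fs else id) ∧ Commute n L.t := by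
      cases s
      exacts [⟨1, Loc.Act.one, Commute.one_left _⟩, ⟨r, hr, hrt⟩]
    obtain ⟨nb, hb, cb⟩ := hB
    obtain ⟨ns, hs, cs⟩ := hS
    refine ⟨_, _, ((hb.mul (Act_iterate L (act_a L) i)).mul hs).mul (Act_iterate L (act_a L) j),
      ((cb.mul_left (hat.pow_left _)).mul_left cs).mul_left (hat.pow_left _), e.symm⟩
  obtain ⟨n, f, hf, hn, hfw⟩ := act w hw1 hw
  obtain ⟨m, g, hg, hm, hgv⟩ := act v hv1 hv
  obtain ⟨gi, hgi, hii⟩ := hg.inv
  refine ⟨_, _, hf.mul hgi, hn.mul_left hm.inv_left, ?_⟩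
  have e : gi v = repE (qJ v) := hg.injective (by rw [hii, hgv])
  rw [Function.comp_apply, e, h, hfw]

end CfsgLib.OEightLocal
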