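import Cfsg.Agent.Lib.OEightLocal.WDef
import Cfsg.Agent.Lib.OEightLocal.OrbitE
import Cfsg.Agent.Lib.Extraspecial.Setting
import Mathlib.GroupTheory.NoncommPiCoprod

/-!
The extraspecial group `W = O₀ O₁ O₂ O₃` of order `2^9`, the coordinates on it given by `O⁴ → W`, the action
of `C_J(t)` in these coordinates, and its normalisation by `N(J) ∩ C(t)`.
-/

set_option autoImplicit false
set_option linter.unusedSectionVars false
set_option linter.style.haveILetI false

namespace CfsgLib.OEightLocal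

theorem pt_facts : ∀ j k : Fin 4, pt k 1 = 0 ∧ qJ (pt k) = 0 ∧ (bJ (pt j) (pt k) = 0 ↔ j = k) := by
  decide +kernel

theorem axis_pt : ∀ v : V, v 1 = 0 → qJ v = -1 → ∀ k, bJ v (pt k) ≠ 0 := by decide +kernel

theorem bJ_e0 : ∀ v : V, bJ v ![1, 0, 0, 0] = v 3 := by decide +kernel

namespace Loc

variable {G : Type*} [Group G] [Finite G] (L : Loc G)

/-- The normaliser of `J` inside the centraliser of `t`. -/
def NT : Subgroup G := L.NJ ⊓ Subgroup.centralizer {L.t}

theorem mem_NT {g : G} : g ∈ L.NT ↔ g ∈ L.NJ ∧ Commute g L.t :=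
  and_congr_right fun _ => Subgroup.mem_centralizer_singleton_iff

theorem NT_t {g : G} (hg : g ∈ L.NT) : Commute g L.t := (L.mem_NT.1 hg).2

/-- The chosen exchange of `z` and `y`. -/
noncomputable def rf : G := (exists_swap L).choose

theorem rf_flip : L.Flip L.rf :=
  ⟨(exists_swap L).choose_spec.2.2.2.1, (exists_swap L).choose_spec.1, (exists_swap L).choose_spec.2.2.1⟩

/-- The chosen representatives of the four points. -/
noncomputable abbrev pz (k : Fin 4) : G := L.sl L.rf k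

theorem pz_NT (k : Fin 4) : L.pz k ∈ L.NT := L.mem_NT.2 (L.rf_flip.sl_mem k)

theorem pz_zero : L.pz 0 = 1 := rfl

/-- The group generated by the four conjugates of `O`. -/
noncomputable def W : Subgroup G := ⨆ k : Fin 4, L.Os L.rf k

theorem Os_le_W (k : Fin 4) : L.Os L.rf k ≤ L.W := le_iSup (L.Os L.rf) k

theorem pz_mem_W (k : Fin 4) {w : G} (hw : w ∈ L.O) : L.pz k * w * (L.pz k)⁻¹ ∈ L.W :=
  L.Os_le_W k ⟨w, hw, rfl⟩

theorem O_le_W : L.O ≤ L.W := fun w hw => by simpa [pz_zero] using L.pz_mem_W 0 hw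

theorem t_mem_W : L.t ∈ L.W := L.O_le_W L.t_mem

theorem W_le_ct : L.W ≤ Subgroup.centralizer {L.t} := iSup_le fun k => by
  rintro _ ⟨w, hw, rfl⟩
  exact Subgroup.mem_centralizer_singleton_iff.2
    (((L.NT_t (L.pz_NT k)).mul_left (L.O_comm_t hw)).mul_left (L.NT_t (L.pz_NT k)).inv_left).eq

theorem W_le_of (N : Subgroup G) [N.Normal] (h : L.O ≤ N) : L.W ≤ N := iSup_le fun k => by
  rintro _ ⟨w, hw, rfl⟩
  exact Subgroup.Normal.conj_mem ‹_› w (h hw) _

theorem NT_norm_W {g : G} (hg : g ∈ L.NT) {w : G} (hw : w ∈ L.W) : g * w * g⁻¹ ∈ L.W := by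
  have hle : L.W.map (MulAut.conj g).toMonoidHom ≤ L.W := by
    rw [W, Subgroup.map_iSup]
    refine iSup_le fun k => ?_
    rintro _ ⟨_, ⟨x, hx, rfl⟩, rfl⟩
    obtain ⟨hgJ, hgt⟩ := L.mem_NT.1 hg
    obtain ⟨j, hj⟩ := L.rf_flip.conj_O (mul_mem hgJ (L.rf_flip.sl_mem k).1)
      (hgt.mul_left (L.rf_flip.sl_mem k).2)
    refine le_iSup (L.Os L.rf) j ?_
    simpa [mul_assoc] using hj x hx
  exact hle ⟨w, hw, rfl⟩

theorem NT_le_norm_W : L.NT ≤ Subgroup.normalizer (L.W : Set G) := fun g hg =>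
  Subgroup.mem_normalizer_iff.2 fun w => ⟨L.NT_norm_W hg, fun h => by
    have := L.NT_norm_W (inv_mem hg) h
    simpa [mul_assoc] using this⟩

/-- The conjugation of `O` by a representative. -/
noncomputable def ins (k : Fin 4) : L.O →* G := (MulAut.conj (L.pz k)).toMonoidHom.comp L.O.subtype

theorem ins_apply (k : Fin 4) (w : L.O) : L.ins k w = L.pz k * w * (L.pz k)⁻¹ := rfl

theorem ins_injective (k : Fin 4) : Function.Injective (L.ins k) := fun _ _ h =>
  Subtype.ext ((MulAut.conj (L.pz k)).injective h)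

/-- Conjugation of `O` by a power of `y`. -/
noncomputable def yc (c : ZMod 3) : L.O →* L.O where
  toFun w := ⟨L.y ^ c.val * w * (L.y ^ c.val)⁻¹, L.O_y_pow _ w.2⟩
  map_one' := Subtype.ext (by simp)
  map_mul' a b := Subtype.ext (by simp [mul_assoc])

theorem yc_zero (w : L.O) : L.yc 0 w = w := Subtype.ext (by simp [yc])

/-- The action of an element of `C_J(t)` on one of the four groups. -/
theorem conj_ins {v : V} (hv : v 1 = 0) (k : Fin 4) (w : L.O) :
    L.jel v * L.ins k w * (L.jel v)⁻¹ = L.ins k (L.yc (bJ v (pt k)) w) := by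
  obtain ⟨hn, hnt⟩ := L.mem_NT.1 (L.pz_NT k)
  obtain ⟨f, hf⟩ := exists_act_map L hn
  obtain ⟨v', rfl⟩ := hf.bijective.2 v
  have e0 : f ![1, 0, 0, 0] = pt k := jel_injective L (by rw [← hf, jel_z, L.rf_flip.sl_pt])
  have h1 : v' 1 = 0 := by
    have h' : ft v' = v' := hf.injective (jel_injective L (by
      rw [← hf, ← act_t L v']
      calc L.pz k * (L.t * L.jel v' * L.t⁻¹) * (L.pz k)⁻¹
          = L.pz k * L.t * L.jel v' * (L.pz k * L.t)⁻¹ := by group
        _ = L.t * L.pz k * L.jel v' * (L.t * L.pz k)⁻¹ := by rw [hnt.eq]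
        _ = L.t * (L.pz k * L.jel v' * (L.pz k)⁻¹) * L.t⁻¹ := by group
        _ = _ := by
          rw [hf, act_t L]
          exact congrArg L.jel (by funext i; fin_cases i <;> simp [ft, hv]))
    )
    have h7 : -v' 1 = v' 1 := congrFun h' 1
    revert h7; generalize v' 1 = c; revert c; decide
  rw [← e0, bJ_act L hf, bJ_e0]
  have hv' : L.jel (f v') = L.pz k * L.jel v' * (L.pz k)⁻¹ := (hf v').symm
  rw [hv', ins_apply, ins_apply]
  show _ = L.pz k * (L.y ^ (v' 3).val * (w : G) * (L.y ^ (v' 3).val)⁻¹) * (L.pz k)⁻¹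
  rw [← L.O_jel h1 w.2]
  group

/-- The componentwise action of an element of `C_J(t)`. -/
noncomputable def turn (v : V) : (Fin 4 → L.O) →* (Fin 4 → L.O) where
  toFun w k := L.yc (bJ v (pt k)) (w k)
  map_one' := by funext k; exact map_one _
  map_mul' a b := by funext k; exact map_mul _ _ _

theorem mem_T {x : G} : x ∈ Subgroup.zpowers L.t ↔ x = 1 ∨ x = L.t := by
  refine ⟨fun h => ?_, fun h => ?_⟩
  · obtain ⟨n, rfl⟩ := Subgroup.mem_zpowers_iff.1 h
    obtain ⟨q, rfl | rfl⟩ := Int.even_or_odd' n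
    · left; rw [zpow_mul, zpow_two, L.t_sq, one_zpow]
    · right; rw [zpow_add, zpow_mul, zpow_two, L.t_sq, one_zpow, one_mul, zpow_one]
  · rcases h with rfl | rfl
    exacts [one_mem _, Subgroup.mem_zpowers _]

/-- A non-trivial power of `y` fixes only `⟨t⟩` in `O` modulo `⟨t⟩`. -/
theorem yc_fpf {c : ZMod 3} (hc : c ≠ 0) {w : L.O}
    (h : (L.yc c w : G) * (w : G)⁻¹ ∈ Subgroup.zpowers L.t) : (w : G) ∈ Subgroup.zpowers L.t := by
  have key : ∀ x ∈ L.O, (L.y * x * L.y⁻¹ = x ∨ L.y * x * L.y⁻¹ = x * L.t) → x ∈ Subgroup.zpowers L.t := by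
    intro x hx hor
    rw [L.mem_T]
    by_contra hne
    push Not at hne
    obtain ⟨m1, m2⟩ := L.y_moves hx hne.1 hne.2
    rcases hor with e | e
    exacts [m1 e, m2 e]
  rw [L.mem_T] at h
  rcases key_split c hc with rfl | rfl
  · have e : (L.yc 1 w : G) = L.y * w * L.y⁻¹ := by simp [yc, ZMod.val_one]
    rw [e] at h
    refine key _ w.2 ?_
    rcases h with h | h
    · exact Or.inl (mul_inv_eq_one.1 h)
    · exact Or.inr ((mul_inv_eq_iff_eq_mul.1 h).trans (L.O_comm_t w.2).eq.symm)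
  · have e : L.y * (L.yc (-1) w : G) * L.y⁻¹ = w := by
      show L.y * (L.y ^ 2 * (w : G) * (L.y ^ 2)⁻¹) * L.y⁻¹ = w
      rw [show L.y * (L.y ^ 2 * (w : G) * (L.y ^ 2)⁻¹) * L.y⁻¹ = L.y ^ 3 * w * (L.y ^ 3)⁻¹ by group, L.cube_y]
      simp
    set x : G := (L.yc (-1) w : G)
    have hx : x ∈ L.O := (L.yc (-1) w).2
    rcases h with h | h
    · have hxw := mul_inv_eq_one.1 h
      exact hxw ▸ key x hx (Or.inl (e.trans hxw.symm))
    · have hxw : x = L.t * w := mul_inv_eq_iff_eq_mul.1 h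
      have hwx : (w : G) = x * L.t := by
        rw [hxw, mul_assoc, (L.O_comm_t w.2).eq, ← mul_assoc, L.t_sq, one_mul]
      rw [hwx]
      exact mul_mem (key x hx (Or.inr (e.trans hwx))) (Subgroup.mem_zpowers _)

theorem sq_T {w : G} (hw : w ∈ L.O) : w * w ∈ Subgroup.zpowers L.t := by
  rw [L.mem_T]
  by_cases h1 : w = 1
  · left; rw [h1, one_mul]
  by_cases ht : w = L.t
  · left; rw [ht, L.t_sq]
  right; exact L.O_sq hw h1 ht

theorem comm_T {a b : G} (ha : a ∈ L.O) (hb : b ∈ L.O) : a * b * a⁻¹ * b⁻¹ ∈ Subgroup.zpowers L.t := by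
  have hcen : Commute (a * a)⁻¹ b⁻¹ := by
    rcases L.mem_T.1 (L.sq_T ha) with h | h <;> rw [h]
    · simp
    · exact ((L.O_comm_t hb).symm.inv_left).inv_right
  have e : a * b * a⁻¹ * b⁻¹ = a * b * (a * b) * (a * a)⁻¹ * (b * b)⁻¹ := by
    calc a * b * a⁻¹ * b⁻¹ = a * b * (a * b) * (b⁻¹ * (a * a)⁻¹) * b⁻¹ := by group
      _ = _ := by rw [← hcen.eq]; group
  rw [e]
  exact mul_mem (mul_mem (L.sq_T (mul_mem ha hb)) (inv_mem (L.sq_T ha))) (inv_mem (L.sq_T hb))

/-! ### The coordinates -/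

variable (hc : L.CommO)

/-- The coordinates on `W`. -/
noncomputable def emb : (Fin 4 → L.O) →* G :=
  MonoidHom.noncommPiCoprod L.ins fun _ _ h v w => L.rf_flip.pairwise hc h v.2 w.2

theorem emb_single (k : Fin 4) (w : L.O) : L.emb hc (Pi.mulSingle k w) = L.ins k w :=
  MonoidHom.noncommPiCoprod_mulSingle _ _ _

theorem emb_range : (L.emb hc).range = L.W := by
  refine (MonoidHom.noncommPiCoprod_range L.ins).trans (iSup_congr fun k => ?_)
  rw [ins, MonoidHom.range_comp, Subgroup.range_subtype]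
  rfl

theorem mem_W {w : G} : w ∈ L.W ↔ ∃ c, L.emb hc c = w := by rw [← L.emb_range hc]; rfl

theorem emb_turn {v : V} (hv : v 1 = 0) (w : Fin 4 → L.O) :
    L.jel v * L.emb hc w * (L.jel v)⁻¹ = L.emb hc (L.turn v w) := by
  have h : (MulAut.conj (L.jel v)).toMonoidHom.comp (L.emb hc) = (L.emb hc).comp (L.turn v) := by
    refine MonoidHom.pi_ext fun k x => ?_
    have e : L.turn v (Pi.mulSingle k x) = Pi.mulSingle k (L.yc (bJ v (pt k)) x) := by
      funext i
      show L.yc (bJ v (pt i)) ((Pi.mulSingle k x : Fin 4 → L.O) i) = _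
      rcases eq_or_ne i k with rfl | hik
      · simp
      · simp [hik]
    simp only [MonoidHom.comp_apply, MulEquiv.coe_toMonoidHom, MulAut.conj_apply, e, emb_single]
    exact L.conj_ins hv k x
  exact congrArg (fun φ : (Fin 4 → L.O) →* G => φ w) h

theorem pi_T_le : Subgroup.pi Set.univ (fun _ : Fin 4 => (Subgroup.zpowers L.t).subgroupOf L.O) ≤
    (Subgroup.zpowers L.t).comap (L.emb hc) := by
  refine Subgroup.pi_le_iff.2 fun k => ?_
  rintro _ ⟨x, hx, rfl⟩
  rw [Subgroup.mem_comap, MonoidHom.mulSingle_apply, emb_single, ins_apply]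
  have hx' : (x : G) ∈ Subgroup.zpowers L.t := hx
  obtain ⟨n, hn⟩ := Subgroup.mem_zpowers_iff.1 hx'
  rw [← hn, ((L.NT_t (L.pz_NT k)).zpow_right n).eq, mul_inv_cancel_right]
  exact Subgroup.zpow_mem _ (Subgroup.mem_zpowers _) n

theorem emb_mem_T_aux (S : Finset (Fin 4)) : ∀ j ∉ S, ∀ w : Fin 4 → L.O,
    L.emb hc w ∈ Subgroup.zpowers L.t → (∀ k, k ≠ j → k ∉ S → (w k : G) ∈ Subgroup.zpowers L.t) →
      (w j : G) ∈ Subgroup.zpowers L.t := by
  classical
  induction S using Finset.induction with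
  | empty =>
    intro j _ w hw hk
    have h0 : L.emb hc (Function.update w j 1) ∈ Subgroup.zpowers L.t := L.pi_T_le hc fun k _ => by
      rcases eq_or_ne k j with rfl | h
      · simp
      · rw [Function.update_of_ne h]; exact hk k h (Finset.notMem_empty k)
    have e : w = Pi.mulSingle j (w j) * Function.update w j 1 := by
      funext k
      rcases eq_or_ne k j with rfl | h
      · simp
      · simp [h]
    rw [e, map_mul, emb_single, Subgroup.mul_mem_cancel_right _ h0, ins_apply] at hw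
    obtain ⟨n, hn⟩ := Subgroup.mem_zpowers_iff.1 hw
    have e2 : (w j : G) = (L.pz j)⁻¹ * L.t ^ n * L.pz j := by rw [hn]; group
    rw [e2, ((L.NT_t (L.pz_NT j)).inv_left.zpow_right n).eq, inv_mul_cancel_right]
    exact Subgroup.zpow_mem _ (Subgroup.mem_zpowers _) n
  | insert i S hi ih =>
    intro j hj w hw hk
    obtain ⟨hij, hjS⟩ : i ≠ j ∧ j ∉ S := by
      simp only [Finset.mem_insert, not_or] at hj
      exact ⟨fun h => hj.1 h.symm, hj.2⟩
    have h1 : pt i 1 = 0 := (pt_facts i i).1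
    have htw : Commute (L.jel (pt i)) (L.emb hc w) := by
      obtain ⟨n, hn⟩ := Subgroup.mem_zpowers_iff.1 hw
      rw [← hn]
      refine Commute.zpow_right ?_ n
      have h : ft (pt i) = pt i := by
        funext k; fin_cases k <;> simp [ft, h1]
      exact (mul_inv_eq_iff_eq_mul.1 (show L.t * L.jel (pt i) * L.t⁻¹ = L.jel (pt i) by rw [act_t L, h])).symm
    set w' := L.turn (pt i) w * w⁻¹ with hw'def
    have hw' : L.emb hc w' = 1 := by
      rw [hw'def, map_mul, ← L.emb_turn hc h1, map_inv, htw.eq, mul_inv_cancel_right, mul_inv_cancel]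
    have hval : ∀ k, (w' k : G) = (L.yc (bJ (pt i) (pt k)) (w k) : G) * (w k : G)⁻¹ := fun k => rfl
    have hres := ih j hjS w' (by rw [hw']; exact one_mem _) fun k hkj hkS => by
      rw [hval]
      rcases eq_or_ne k i with rfl | hki
      · rw [(pt_facts k k).2.2.2 rfl, yc_zero, mul_inv_cancel]; exact one_mem _
      · have hT := hk k hkj (by simp [hki, hkS])
        refine mul_mem ?_ (inv_mem hT)
        obtain ⟨n, hn⟩ := Subgroup.mem_zpowers_iff.1 hT
        show L.y ^ _ * (w k : G) * (L.y ^ _)⁻¹ ∈ _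
        rw [← hn, ((L.comm_ty.symm.pow_left _).zpow_right n).eq, mul_inv_cancel_right]
        exact Subgroup.zpow_mem _ (Subgroup.mem_zpowers _) n
    rw [hval] at hres
    exact L.yc_fpf (fun h => hij ((pt_facts i j).2.2.1 h)) hres

/-- The decomposition in `W` is unique modulo `⟨t⟩`. -/
theorem emb_mem_T {w : Fin 4 → L.O} :
    L.emb hc w ∈ Subgroup.zpowers L.t ↔ ∀ k, (w k : G) ∈ Subgroup.zpowers L.t := by
  classical
  refine ⟨fun h j => L.emb_mem_T_aux hc (Finset.univ.erase j) j (Finset.notMem_erase j _) w h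
    fun k hkj hk => absurd (Finset.mem_erase.2 ⟨hkj, Finset.mem_univ k⟩) hk, fun h => L.pi_T_le hc fun k _ => h k⟩

theorem t_ord_zpowers : Nat.card (Subgroup.zpowers L.t) = 2 := by rw [Nat.card_zpowers, L.t_ord]

include hc in
theorem card_W : Nat.card L.W = 2 ^ 9 := by
  classical
  set T := Subgroup.zpowers L.t
  have hT : T ≤ L.O := Subgroup.zpowers_le.2 L.t_mem
  have hP : Nat.card (T.comap (L.emb hc)) = 16 := by
    refine (Nat.card_congr ((Equiv.subtypeEquivRight fun w => L.emb_mem_T hc).trans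
      (Equiv.subtypePiEquivPi (p := fun (_ : Fin 4) (x : L.O) => (x : G) ∈ T)))).trans ?_
    rw [Nat.card_pi]
    have : Nat.card {x : L.O // (x : G) ∈ T} = 2 := by
      rw [show Nat.card {x : L.O // (x : G) ∈ T} = Nat.card (T.subgroupOf L.O) from rfl,
        Nat.card_congr (Subgroup.subgroupOfEquivOfLe hT).toEquiv, L.t_ord_zpowers]
    simp [this]
  have h := (T.comap (L.emb hc)).card_mul_index
  rw [hP, Nat.card_fun, Nat.card_fin, L.card_O, Subgroup.index_comap, L.emb_range hc] at h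
  have h2 := (T.subgroupOf L.W).card_mul_index
  rw [Nat.card_congr (Subgroup.subgroupOfEquivOfLe (hT.trans L.O_le_W)).toEquiv, L.t_ord_zpowers] at h2
  rw [Subgroup.relIndex] at h
  omega

include hc in
theorem W_pgroup : IsPGroup 2 L.W := IsPGroup.of_card (L.card_W hc)

include hc in
/-- The centre of `W` is `⟨t⟩`. -/
theorem center_W_mem {w : G} (hw : w ∈ L.W) (h : ∀ v ∈ L.W, Commute w v) : w ∈ Subgroup.zpowers L.t := by
  classical
  obtain ⟨c, rfl⟩ := (L.mem_W hc).1 hw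
  refine (L.emb_mem_T hc).2 fun j => L.mem_T.2 (L.O_center (c j).2 fun x hx => ?_)
  set s : Fin 4 → L.O := Pi.mulSingle j ⟨x, hx⟩
  have hs : L.emb hc s ∈ L.W := (L.mem_W hc).2 ⟨s, rfl⟩
  have e : c * s * c⁻¹ * s⁻¹ = Pi.mulSingle j (c j * ⟨x, hx⟩ * (c j)⁻¹ * ⟨x, hx⟩⁻¹) := by
    funext i
    rcases eq_or_ne i j with rfl | hij
    · simp [s]
    · simp [s, hij]
  have h1 : L.emb hc (c * s * c⁻¹ * s⁻¹) = 1 := by
    rw [map_mul, map_mul, map_mul, map_inv, map_inv, (h _ hs).eq, mul_inv_cancel_right, mul_inv_cancel]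
  rw [e, emb_single, ← (L.ins j).map_one] at h1
  have h2 : (c j : G) * x * (c j : G)⁻¹ * x⁻¹ = 1 := congrArg Subtype.val (L.ins_injective j h1)
  exact mul_inv_eq_iff_eq_mul.1 (mul_inv_eq_one.1 h2)

include hc in
theorem W_extraspecial : Cfsg.IsExtraspecial 2 L.W := by
  have hTW : Subgroup.zpowers L.t ≤ L.W := Subgroup.zpowers_le.2 L.t_mem_W
  have hZ : Subgroup.center L.W = (Subgroup.zpowers L.t).subgroupOf L.W := by
    ext x
    rw [Subgroup.mem_center_iff, Subgroup.mem_subgroupOf]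
    refine ⟨fun h => L.center_W_mem hc x.2 fun v hv => (congrArg Subtype.val (h ⟨v, hv⟩)).symm, fun h v => ?_⟩
    obtain ⟨n, hn⟩ := Subgroup.mem_zpowers_iff.1 h
    refine Subtype.ext ?_
    rw [Subgroup.coe_mul, Subgroup.coe_mul, ← hn]
    have hvt : Commute (v : G) L.t := Subgroup.mem_centralizer_singleton_iff.1 (L.W_le_ct v.2)
    exact (hvt.zpow_right n).eq
  have hcard : Nat.card (Subgroup.center L.W) = 2 := by
    rw [hZ, Nat.card_congr (Subgroup.subgroupOfEquivOfLe hTW).toEquiv, L.t_ord_zpowers]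
  refine Extraspecial.isExtraspecial_of (L.W_pgroup hc) hcard (fun a b => ?_) (fun a => ?_) ?_
  · rw [hZ, Subgroup.mem_subgroupOf, commutatorElement_def]
    obtain ⟨c, hc'⟩ := (L.mem_W hc).1 a.2
    obtain ⟨d, hd⟩ := (L.mem_W hc).1 b.2
    simp only [Subgroup.coe_mul, Subgroup.coe_inv]
    rw [← hc', ← hd, ← map_inv, ← map_inv, ← map_mul, ← map_mul, ← map_mul, L.emb_mem_T hc]
    exact fun k => L.comm_T (c k).2 (d k).2
  · rw [hZ, Subgroup.mem_subgroupOf]
    obtain ⟨c, hc'⟩ := (L.mem_W hc).1 a.2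
    rw [Subgroup.coe_pow, ← hc', ← map_pow, L.emb_mem_T hc]
    intro k
    rw [Pi.pow_apply, Subgroup.coe_pow, pow_two]
    exact L.sq_T (c k).2
  · by_contra hne
    push Not at hne
    have htop : Subgroup.center L.W = ⊤ := top_unique fun x _ =>
      Subgroup.mem_center_iff.2 fun v => commutatorElement_eq_one_iff_commute.1 (hne v x)
    rw [htop, Subgroup.card_top, L.card_W hc] at hcard
    norm_num at hcard

include hc in
/-- An axis centralises only `⟨t⟩` in `W`. -/
theorem cW_axis {w : G} {v : V} (hw : w ∈ L.W) (hwv : Commute w (L.jel v)) (h1 : v 1 = 0) (hq : qJ v = -1) :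
    w ∈ Subgroup.zpowers L.t := by
  obtain ⟨c, rfl⟩ := (L.mem_W hc).1 hw
  have h : L.emb hc (L.turn v c * c⁻¹) = 1 := by
    rw [map_mul, ← L.emb_turn hc h1, map_inv, hwv.symm.eq, mul_inv_cancel_right, mul_inv_cancel]
  refine (L.emb_mem_T hc).2 fun k => L.yc_fpf (axis_pt v h1 hq k) ?_
  exact (L.emb_mem_T hc).1 (h ▸ one_mem _) k

end Loc

end CfsgLib.OEightLocal
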