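import Cfsg.Agent.Lib.OEightLocal.InvW

/-!
`W ∩ N(J) = ⟨t⟩`, the kernel of the coordinates of `W`, and the permutation of the four factors by
`N(J) ∩ C(t)`.
-/

set_option autoImplicit false
set_option linter.unusedSectionVars false

namespace CfsgLib.OEightLocal

theorem pt_signed : ∀ k l : Fin 4, pt k = pt l ∨ pt k = -pt l → k = l := by decide +kernel

namespace Loc

variable {G : Type*} [Group G] [Finite G] (L : Loc G)

/-- The rotation of the three factors other than `O` by `a`. -/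
def aPerm : Equiv.Perm (Fin 4) := Equiv.swap 1 2 * Equiv.swap 2 3

theorem pz_a (k : Fin 4) {w : G} (hw : w ∈ L.O) :
    L.a * (L.pz k * w * (L.pz k)⁻¹) * L.a⁻¹ = L.pz (aPerm k) * w * (L.pz (aPerm k))⁻¹ := by
  obtain ⟨h0, hs⟩ := L.rf_flip.sl_a w hw
  refine Fin.cases ?_ (fun i => ?_) k
  · rw [show aPerm 0 = 0 by decide, pz_zero]; simpa using h0
  · rw [(by decide : ∀ i : Fin 3, aPerm i.succ = (i + 1).succ) i]; exact hs i

/-- An element of `N(J) ∩ C(t)` permutes the four factors. -/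
theorem exists_perm {g : G} (hg : g ∈ L.NT) :
    ∃ (σ : Equiv.Perm (Fin 4)) (φ : Fin 4 → L.O →* L.O), (∀ k, Function.Injective (φ k)) ∧
      ∀ (k : Fin 4) (w : L.O), g * L.ins k w * g⁻¹ = L.ins (σ k) (φ k w) := by
  classical
  obtain ⟨hgJ, hgt⟩ := L.mem_NT.1 hg
  obtain ⟨f, hf⟩ := exists_act_map L hgJ
  have hsing : ∀ k, ∃ j, f (pt k) = pt j ∨ f (pt k) = -pt j := by
    intro k
    have hk := pt_facts k k
    refine sing_pts _ (fun h0 => ?_) ?_ (by rw [qJ_act L hf]; exact hk.2.1)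
    · have h00 : f 0 = 0 := hf.map_zero
      have := hf.injective (h0.trans h00.symm)
      exact (by decide : ∀ k : Fin 4, pt k ≠ 0) k this
    · have hft : ft (pt k) = pt k := by funext i; fin_cases i <;> simp [ft, hk.1]
      have h' : ft (f (pt k)) = f (pt k) := jel_injective L (by
        rw [← act_t L, ← hf]
        calc L.t * (g * L.jel (pt k) * g⁻¹) * L.t⁻¹ = L.t * g * L.jel (pt k) * (L.t * g)⁻¹ := by group
          _ = g * L.t * L.jel (pt k) * (g * L.t)⁻¹ := by rw [hgt.eq]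
          _ = g * (L.t * L.jel (pt k) * L.t⁻¹) * g⁻¹ := by group
          _ = _ := by rw [act_t L, hft])
      have h7 : -f (pt k) 1 = f (pt k) 1 := congrFun h' 1
      revert h7; generalize f (pt k) 1 = c; revert c; decide
  choose σ hσ using hsing
  have hinj : Function.Injective σ := fun k l h => by
    refine pt_signed k l ?_
    have hneg : ∀ v, f (-v) = -f v := fun v => by
      refine eq_neg_of_add_eq_zero_left ?_
      rw [← hf.add, neg_add_cancel, hf.map_zero]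
    rcases hσ k with e | e <;> rcases hσ l with e' | e' <;> rw [h] at e
    · exact Or.inl (hf.injective (e.trans e'.symm))
    · exact Or.inr (hf.injective (by rw [hneg, e, e', neg_neg]))
    · exact Or.inr (hf.injective (by rw [hneg, e, e']))
    · exact Or.inl (hf.injective (e.trans e'.symm))
  let n : Fin 4 → G := fun k => (L.pz (σ k))⁻¹ * g * L.pz k
  have hn : ∀ k, ∀ w ∈ L.O, n k * w * (n k)⁻¹ ∈ L.O := fun k w hw => by
    obtain ⟨hkJ, hkt⟩ := L.mem_NT.1 (L.pz_NT k)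
    obtain ⟨hsJ, hst⟩ := L.mem_NT.1 (L.pz_NT (σ k))
    refine L.O_norm (mul_mem (mul_mem (inv_mem hsJ) hgJ) hkJ) ((hst.inv_left.mul_left hgt).mul_left hkt) ?_ hw
    rw [show n k * L.z * (n k)⁻¹ = (L.pz (σ k))⁻¹ * (g * (L.pz k * L.z * (L.pz k)⁻¹) * g⁻¹) * L.pz (σ k) by
      simp only [n]; group, L.rf_flip.sl_pt, hf]
    rcases hσ k with e | e <;> rw [e]
    · rw [← L.rf_flip.sl_pt]; exact Subgroup.mem_zpowers_iff.2 ⟨1, by group⟩
    · rw [jel_neg, ← L.rf_flip.sl_pt]; exact Subgroup.mem_zpowers_iff.2 ⟨-1, by group⟩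
  refine ⟨Equiv.ofBijective σ (Finite.injective_iff_bijective.1 hinj), fun k =>
    ((MulAut.conj (n k)).toMonoidHom.comp L.O.subtype).codRestrict L.O fun w => hn k w w.2, fun k v w h => ?_,
    fun k w => ?_⟩
  · exact Subtype.ext ((MulAut.conj (n k)).injective (congrArg Subtype.val h))
  · show g * (L.pz k * (w : G) * (L.pz k)⁻¹) * g⁻¹ = L.pz (σ k) * (n k * (w : G) * (n k)⁻¹) * (L.pz (σ k))⁻¹
    simp only [n]; group

variable (hc : L.CommO)

/-- The coordinates of the image under `a`. -/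
theorem emb_a (w : Fin 4 → L.O) : L.a * L.emb hc w * L.a⁻¹ = L.emb hc fun j => w (aPerm.symm j) := by
  let P : (Fin 4 → L.O) →* (Fin 4 → L.O) := MonoidHom.pi fun j => Pi.evalMonoidHom _ (aPerm.symm j)
  have h : (MulAut.conj L.a).toMonoidHom.comp (L.emb hc) = (L.emb hc).comp P := by
    refine MonoidHom.pi_ext fun k x => ?_
    have e : P (Pi.mulSingle k x) = Pi.mulSingle (aPerm k) x := by
      funext j
      show (Pi.mulSingle k x : Fin 4 → L.O) (aPerm.symm j) = _
      rcases eq_or_ne j (aPerm k) with rfl | hj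
      · simp
      · rw [Pi.mulSingle_eq_of_ne hj, Pi.mulSingle_eq_of_ne fun h => hj (by rw [← h, Equiv.apply_symm_apply])]
    simp only [MonoidHom.comp_apply, MulEquiv.coe_toMonoidHom, MulAut.conj_apply, e, emb_single]
    exact L.pz_a k x.2
  exact congrArg (fun φ : (Fin 4 → L.O) →* G => φ w) h

/-- The coordinates of the image under an element of `N(J) ∩ C(t)`. -/
theorem emb_NT {g : G} (hg : g ∈ L.NT) : ∃ (σ : Equiv.Perm (Fin 4)) (φ : Fin 4 → L.O →* L.O),
    (∀ k, Function.Injective (φ k)) ∧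
      ∀ w, g * L.emb hc w * g⁻¹ = L.emb hc fun j => φ (σ.symm j) (w (σ.symm j)) := by
  obtain ⟨σ, φ, hφ, he⟩ := L.exists_perm hg
  refine ⟨σ, φ, hφ, fun w => ?_⟩
  let P : (Fin 4 → L.O) →* (Fin 4 → L.O) :=
    MonoidHom.pi fun j => (φ (σ.symm j)).comp (Pi.evalMonoidHom _ (σ.symm j))
  have h : (MulAut.conj g).toMonoidHom.comp (L.emb hc) = (L.emb hc).comp P := by
    refine MonoidHom.pi_ext fun k x => ?_
    have e : P (Pi.mulSingle k x) = Pi.mulSingle (σ k) (φ k x) := by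
      funext j
      show φ (σ.symm j) ((Pi.mulSingle k x : Fin 4 → L.O) (σ.symm j)) = _
      rcases eq_or_ne j (σ k) with rfl | hj
      · simp
      · rw [Pi.mulSingle_eq_of_ne hj, Pi.mulSingle_eq_of_ne fun h => hj (by rw [← h, Equiv.apply_symm_apply]),
          map_one]
    simp only [MonoidHom.comp_apply, MulEquiv.coe_toMonoidHom, MulAut.conj_apply, e, emb_single]
    exact he k x
  exact congrArg (fun φ : (Fin 4 → L.O) →* G => φ w) h

/-- On `⟨t⟩⁴` the coordinates multiply. -/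
theorem emb_of_T {w : Fin 4 → L.O} (h : ∀ k, (w k : G) ∈ Subgroup.zpowers L.t) :
    L.emb hc w = w 0 * w 1 * w 2 * w 3 := by
  have e : w = Pi.mulSingle 0 (w 0) * Pi.mulSingle 1 (w 1) * Pi.mulSingle 2 (w 2) * Pi.mulSingle 3 (w 3) := by
    funext k; fin_cases k <;> simp
  have hi : ∀ k, L.ins k (w k) = w k := fun k => by
    rw [ins_apply]
    refine fix_eq ?_
    obtain ⟨n, hn⟩ := Subgroup.mem_zpowers_iff.1 (h k)
    rw [← hn]; exact (L.NT_t (L.pz_NT k)).zpow_right n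
  conv_lhs => rw [e]
  simp only [map_mul, emb_single, hi]

/-- The kernel of the coordinates. -/
theorem emb_eq_one {w : Fin 4 → L.O} :
    L.emb hc w = 1 ↔ (∀ k, (w k : G) ∈ Subgroup.zpowers L.t) ∧ (w 0 : G) * w 1 * w 2 * w 3 = 1 := by
  refine ⟨fun h => ?_, fun ⟨h, h'⟩ => (L.emb_of_T hc h).trans h'⟩
  have hT := (L.emb_mem_T hc).1 (h ▸ one_mem _)
  exact ⟨hT, (L.emb_of_T hc hT).symm.trans h⟩

include hc in
/-- `W ∩ N(J) = ⟨t⟩`. -/
theorem W_inf_NJ : L.W ⊓ L.NJ = Subgroup.zpowers L.t := by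
  refine le_antisymm ?_ (le_inf (Subgroup.zpowers_le.2 L.t_mem_W)
    (Subgroup.zpowers_le.2 (act_t L).mem_normalizer))
  rintro g ⟨hgW, hgJ⟩
  set d : V := ![1, 0, 0, 2] with hd
  have hd1 : d 1 = 0 := rfl
  obtain ⟨f, hf⟩ := exists_act_map L hgJ
  -- the commutator with an element of `C_J(t)` is a 2-element of `J`
  have hjt : L.jel d ∈ L.NT := L.mem_NT.2 ⟨Subgroup.le_normalizer (jel_mem L d), by
    refine (mul_inv_eq_iff_eq_mul.1 (show L.t * L.jel d * L.t⁻¹ = L.jel d from ?_)).symm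
    rw [act_t L]
    exact congrArg L.jel (by rw [hd]; decide)⟩
  have hW : g * L.jel d * g⁻¹ * (L.jel d)⁻¹ ∈ L.W := by
    rw [show g * L.jel d * g⁻¹ * (L.jel d)⁻¹ = g * (L.jel d * g⁻¹ * (L.jel d)⁻¹) by group]
    exact mul_mem hgW (L.NT_norm_W hjt (inv_mem hgW))
  have hJ : g * L.jel d * g⁻¹ * (L.jel d)⁻¹ = L.jel (f d - d) := by
    rw [hf, ← jel_neg, ← jel_add, sub_eq_add_neg]
  have h1 : g * L.jel d * g⁻¹ * (L.jel d)⁻¹ = 1 := by
    refine Cent.eq_one_of_coprime (m := 3) (n := 2 ^ 9) (by rw [hJ, cube_jel]) ?_ (by norm_num)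
    rw [← L.card_W hc]
    exact congrArg Subtype.val (pow_card_eq_one' (x := (⟨_, hW⟩ : L.W)))
  exact L.cW_axis hc hgW (mul_inv_eq_iff_eq_mul.1 (mul_inv_eq_one.1 h1)) hd1 (by rw [hd]; decide)

end Loc

end CfsgLib.OEightLocal
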