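import Cfsg.Agent.Lib.OEightLocal.InvWGood
import Cfsg.Agent.Lib.OEightLocal.InvWPerm
import Cfsg.Agent.Lib.OEightLocal.CentPair

/-!
The facts about `W` and `W (N(J) ∩ C(t))` with the commutation hypothesis and the centraliser of `i₂`
discharged.
-/

set_option autoImplicit false
set_option linter.unusedSectionVars false

namespace CfsgLib.OEightLocal.Loc

variable {G : Type*} [Group G] [Finite G] (L : Loc G)

theorem rf_move : L.rf * L.z * L.rf⁻¹ ∉ Subgroup.zpowers L.z := L.rf_flip.z_moved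

theorem cent_i₂_le_M₀ :
    Subgroup.centralizer {L.i₂} ⊓ Subgroup.centralizer {L.t} ≤ L.M₀ := by
  refine (L.cent_i2_t L.rf_flip.mem L.rf_flip.comm_i₂ L.rf_flip.comm_t L.rf_move).trans (sup_le (sup_le
    (L.O_le_W.trans le_sup_left) ?_) ?_)
  · rintro _ ⟨w, hw, rfl⟩
    exact Subgroup.mem_sup_left (L.pz_mem_W 1 hw)
  · exact (le_inf (inf_le_left.trans inf_le_left) inf_le_right).trans le_sup_right

/-- The points of `⟨z, i₂, y⟩` other than axes have their centraliser in `C(t)` inside `W (N(J) ∩ C(t))`. -/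
theorem cent_good_M₀ {v : V} (hv : v ≠ 0) (h1 : v 1 = 0) (hq : qJ v ≠ -1) :
    Subgroup.centralizer {L.jel v} ⊓ Subgroup.centralizer {L.t} ≤ L.M₀ :=
  L.cent_good L.cent_i₂_le_M₀ hv h1 hq

theorem card_W_eq : Nat.card L.W = 2 ^ 9 := L.card_W L.comm_O

theorem W_isExtraspecial : Cfsg.IsExtraspecial 2 L.W := L.W_extraspecial L.comm_O

theorem axis_cent_W {w : G} {v : V} (hw : w ∈ L.W) (hwv : Commute w (L.jel v)) (h1 : v 1 = 0) (hq : qJ v = -1) :
    w ∈ Subgroup.zpowers L.t := L.cW_axis L.comm_O hw hwv h1 hq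

end CfsgLib.OEightLocal.Loc
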