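import Cfsg.Agent.Lib.OEightLocal.TwoDim
import Mathlib.GroupTheory.Sylow

/-!
The involution and the quaternion group of the centraliser, and the two halves of the radical.
-/

set_option autoImplicit false
set_option linter.unusedSectionVars false
set_option linter.style.haveILetI false

namespace CfsgLib.OEightLocal

open CfsgLib.LFourThree (S2 pE sE closure_ps)

theorem s2_facts : (-1 : S2) ≠ 1 ∧ (-1 : S2) * -1 = 1 ∧ pE * pE * pE = 1 ∧ sE * sE = -1 ∧
    sE * (pE * (sE * (pE * pE))) = -1 * (pE * (pE * (sE * pE))) := by decide +kernel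

theorem s2_two : ∀ g : S2, g * g = 1 → g = 1 ∨ g = -1 := by decide +kernel

theorem s2_four : ∀ g : S2, g ^ 8 = 1 → g = 1 ∨ g = -1 ∨ g * g = -1 := by decide +kernel

theorem s2_card : Nat.card S2 = 24 := by
  rw [Nat.card_eq_fintype_card]
  decide +kernel

namespace Pre

variable {G : Type*} [Group G] [Finite G] {z : G} {Q : Subgroup G} {m : ℕ}
  {π : Subgroup.centralizer ({z} : Set G) →* S2} {ε : Subgroup.centralizer ({z} : Set G) →* ℤˣ}
  (L : Pre z Q m π ε)
include L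

theorem card_cent : Nat.card (Subgroup.centralizer ({z} : Set G)) = 5832 * m := by
  let f := π.prod ε
  have hk : f.ker.map (Subgroup.centralizer ({z} : Set G)).subtype = Q := by
    ext g
    constructor
    · rintro ⟨c, hc, rfl⟩
      exact (L.ker c).1 ⟨congrArg Prod.fst hc, congrArg Prod.snd hc⟩
    · intro hg
      exact ⟨⟨g, L.le hg⟩, Prod.ext ((L.ker ⟨g, L.le hg⟩).2 hg).1 ((L.ker ⟨g, L.le hg⟩).2 hg).2, rfl⟩
  have hkc : Nat.card f.ker = 243 := by
    rw [← L.card, ← hk, Subgroup.card_map_of_injective (Subgroup.centralizer ({z} : Set G)).subtype_injective]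
  have hrc : Nat.card f.range = 24 * m := by
    rcases L.hm with hm | hm
    · have : f.range = (⊤ : Subgroup S2).prod (⊥ : Subgroup ℤˣ) := by
        ext ⟨g, e⟩
        constructor
        · rintro ⟨c, hc⟩
          exact ⟨Subgroup.mem_top _, (congrArg Prod.snd hc).symm.trans (L.eps_one hm c)⟩
        · rintro ⟨-, he⟩
          obtain ⟨c, hc, hc'⟩ := L.surj g e (Or.inr he)
          exact ⟨c, Prod.ext hc hc'⟩
      rw [this, Nat.card_congr (Subgroup.prodEquiv _ _).toEquiv, Nat.card_prod, Subgroup.card_top,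
        Subgroup.card_bot, s2_card, hm]
    · have : f.range = ⊤ := by
        rw [eq_top_iff]
        rintro ⟨g, e⟩ -
        obtain ⟨c, hc, hc'⟩ := L.surj g e (Or.inl hm)
        exact ⟨c, Prod.ext hc hc'⟩
      rw [this, Subgroup.card_top, Nat.card_prod, s2_card, hm, Nat.card_eq_fintype_card]
      rfl
  have h := f.ker.card_mul_index
  rw [Subgroup.index_ker, hkc, hrc] at h
  rw [← h]
  ring

/-- The involution. -/
theorem exists_t : ∃ t : Subgroup.centralizer ({z} : Set G), π t = -1 ∧ ε t = 1 ∧ t * t = 1 := by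
  obtain ⟨c, hc, hc'⟩ := L.surj (-1) 1 (Or.inr rfl)
  have hq : ((c * c : Subgroup.centralizer ({z} : Set G)) : G) ∈ Q :=
    (L.ker _).1 ⟨by rw [map_mul, hc, s2_facts.2.1], by rw [map_mul, hc', mul_one]⟩
  refine ⟨c * c * c, by rw [map_mul, map_mul, hc, s2_facts.2.1, one_mul],
    by rw [map_mul, map_mul, hc', mul_one, mul_one], ?_⟩
  calc c * c * c * (c * c * c) = (c * c) ^ 3 := by simp [pow_succ, mul_assoc]
    _ = 1 := Subtype.ext (by rw [SubmonoidClass.coe_pow, L.exp _ hq]; rfl)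

/-- A quaternion group through a given involution. -/
theorem exists_O {t : Subgroup.centralizer ({z} : Set G)} (ht : π t = -1) (ht' : ε t = 1)
    (ht2 : t * t = 1) :
    ∃ O : Subgroup (Subgroup.centralizer ({z} : Set G)), t ∈ O ∧ Nat.card O = 8 ∧
      (∀ w ∈ O, ε w = 1) ∧ (∀ w ∈ O, ∀ w' ∈ O, π w = π w' → w = w') ∧
      ∀ w ∈ O, w = 1 ∨ w = t ∨ w * w = t := by
  haveI : Fact (Nat.Prime 2) := ⟨Nat.prime_two⟩
  have hz : IsPGroup 2 (Subgroup.zpowers (⟨t, ht'⟩ : ε.ker)) := IsPGroup.of_card (n := 1) (by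
    rw [Nat.card_zpowers, pow_one]
    refine orderOf_eq_prime (by rw [pow_two]; exact Subtype.ext ht2) fun h => ?_
    have : t = 1 := congrArg Subtype.val h
    rw [this, map_one] at ht
    exact s2_facts.1 ht.symm)
  obtain ⟨P, hP⟩ := hz.exists_le_sylow
  have hinj : ∀ w ∈ (P : Subgroup ε.ker), π (w : Subgroup.centralizer ({z} : Set G)) = 1 → w = 1 := by
    intro w hw h
    have hq : ((w : Subgroup.centralizer ({z} : Set G)) : G) ∈ Q := (L.ker _).1 ⟨h, w.2⟩
    have h3 : w ^ 3 = 1 := Subtype.ext (Subtype.ext (by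
      simp only [SubmonoidClass.coe_pow]
      rw [L.exp _ hq]; rfl))
    obtain ⟨k, hk⟩ := P.2 ⟨w, hw⟩
    have hk' : w ^ (2 ^ k) = 1 := congrArg Subtype.val hk
    have := pow_gcd_eq_one.2 ⟨h3, hk'⟩
    rwa [(Nat.Coprime.pow_right k (by norm_num) : Nat.gcd 3 (2 ^ k) = 1), pow_one] at this
  have hcard : Nat.card (P : Subgroup ε.ker) = 8 := by
    rw [Sylow.card_eq_multiplicity]
    have hk : Nat.card ε.ker = 5832 := by
      have h := ε.ker.card_mul_index
      rw [Subgroup.index_ker, L.card_cent] at h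
      rcases L.hm with hm | hm
      · have hr : ε.range = ⊥ := MonoidHom.range_eq_bot_iff.2 (MonoidHom.ext fun c => L.eps_one hm c)
        rw [hr, Subgroup.card_bot, hm] at h
        simpa using h
      · have hr : ε.range = ⊤ := by
          rw [eq_top_iff]
          intro e _
          obtain ⟨c, -, hc⟩ := L.surj 1 e (Or.inl hm)
          exact ⟨c, hc⟩
        rw [hr, Subgroup.card_top, hm, Nat.card_eq_fintype_card (α := ℤˣ), Fintype.card_units_int] at h
        omega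
    rw [hk]
    have h : (5832 : ℕ).factorization 2 = 3 := by
      rw [show (5832 : ℕ) = 2 ^ 3 * 729 from rfl, Nat.factorization_mul (by norm_num) (by norm_num),
        Nat.Prime.factorization_pow Nat.prime_two]
      simp [Nat.factorization_eq_zero_of_not_dvd (show ¬ 2 ∣ 729 by norm_num)]
    rw [h]; norm_num
  refine ⟨(P : Subgroup ε.ker).map ε.ker.subtype, ⟨⟨t, ht'⟩, hP (Subgroup.mem_zpowers _), rfl⟩, ?_,
    ?_, ?_, ?_⟩
  · rw [Subgroup.card_map_of_injective ε.ker.subtype_injective, hcard]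
  · rintro _ ⟨w, -, rfl⟩
    exact w.2
  · rintro _ ⟨w, hw, rfl⟩ _ ⟨w', hw', rfl⟩ h
    refine congrArg Subtype.val (inv_mul_eq_one.1 (hinj _ (mul_mem (inv_mem hw) hw') ?_))
    simp only [Subgroup.coe_subtype] at h
    rw [Subgroup.coe_mul, Subgroup.coe_inv, map_mul, map_inv, h, inv_mul_cancel]
  · rintro _ ⟨w, hw, rfl⟩
    have h8 : π (w : Subgroup.centralizer ({z} : Set G)) ^ 8 = 1 := by
      have h : (⟨w, hw⟩ : (P : Subgroup ε.ker)) ^ 8 = 1 := hcard ▸ pow_card_eq_one'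
      rw [← map_pow, ← SubmonoidClass.coe_pow, show w ^ 8 = 1 from congrArg Subtype.val h]
      exact map_one _
    have ht'' : (⟨t, ht'⟩ : ε.ker) ∈ (P : Subgroup ε.ker) := hP (Subgroup.mem_zpowers _)
    have key : ∀ w' ∈ (P : Subgroup ε.ker), π (w' : Subgroup.centralizer ({z} : Set G)) = -1 →
        (w' : Subgroup.centralizer ({z} : Set G)) = t := fun w' hw' h => by
      have h1 : w'⁻¹ * ⟨t, ht'⟩ = 1 := hinj _ (mul_mem (inv_mem hw') ht'') (by
        rw [Subgroup.coe_mul, Subgroup.coe_inv, map_mul, map_inv, h, ht, inv_mul_cancel])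
      exact congrArg Subtype.val (inv_mul_eq_one.1 h1)
    rcases s2_four _ h8 with h | h | h
    · exact Or.inl (congrArg Subtype.val (hinj w hw h))
    · exact Or.inr (Or.inl (key w hw h))
    · exact Or.inr (Or.inr (key (w * w) (mul_mem hw hw) (by rw [Subgroup.coe_mul, map_mul, h])))

/-- Each element of `Q` is the product of a fixed and an inverted element. -/
theorem split {t : G} (ht : t ∈ Subgroup.centralizer ({z} : Set G)) (ht2 : t * t = 1) {q : G} (hq : q ∈ Q) :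
    ∃ f ∈ Q, ∃ v ∈ Q, t * f = f * t ∧ t * v * t⁻¹ = v⁻¹ ∧ q = f * v := by
  have hti : t⁻¹ = t := inv_eq_of_mul_eq_one_right ht2
  set T := t * q * t⁻¹ with hT
  have hTQ : T ∈ Q := L.conj_mem ht hq
  have hTT : t * T * t⁻¹ = q := by
    rw [hT, hti]
    calc t * (t * q * t) * t = (t * t) * q * (t * t) := by group
      _ = q := by rw [ht2, one_mul, mul_one]
  have hc := L.comm T hTQ q hq
  -- `T` and `q` commute
  have hcomm : T * q = q * T := by
    have hfix : t * (T * q * T⁻¹ * q⁻¹) * t⁻¹ = T * q * T⁻¹ * q⁻¹ := by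
      rw [L.z_comm ht hc, mul_inv_cancel_right]
    have hswap : t * (T * q * T⁻¹ * q⁻¹) * t⁻¹ = (T * q * T⁻¹ * q⁻¹)⁻¹ := by
      calc t * (T * q * T⁻¹ * q⁻¹) * t⁻¹ =
            (t * T * t⁻¹) * (t * q * t⁻¹) * (t * T * t⁻¹)⁻¹ * (t * q * t⁻¹)⁻¹ := by group
        _ = _ := by rw [hTT, ← hT]; group
    have hsq : (T * q * T⁻¹ * q⁻¹) * (T * q * T⁻¹ * q⁻¹) = 1 :=
      mul_eq_one_iff_eq_inv.2 (hfix.symm.trans hswap)
    have h3 : (T * q * T⁻¹ * q⁻¹) ^ 3 = 1 := L.exp _ (L.zpowers_le hc)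
    rw [pow_succ, pow_two, hsq, one_mul, mul_inv_eq_one, mul_inv_eq_iff_eq_mul] at h3
    exact h3
  have hq3 := L.exp q hq
  have hT3 := L.exp T hTQ
  have hinvq : q⁻¹ = q * q := inv_eq_of_mul_eq_one_right (by rw [← mul_assoc, ← pow_two, ← pow_succ, hq3])
  have hinvT : T⁻¹ = T * T := inv_eq_of_mul_eq_one_right (by rw [← mul_assoc, ← pow_two, ← pow_succ, hT3])
  have hC : Commute T q := hcomm
  refine ⟨q⁻¹ * T⁻¹, mul_mem (inv_mem hq) (inv_mem hTQ), T * q⁻¹, mul_mem hTQ (inv_mem hq), ?_, ?_, ?_⟩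
  · have h : t * (q⁻¹ * T⁻¹) * t⁻¹ = q⁻¹ * T⁻¹ := by
      calc t * (q⁻¹ * T⁻¹) * t⁻¹ = (t * q * t⁻¹)⁻¹ * (t * T * t⁻¹)⁻¹ := by group
        _ = T⁻¹ * q⁻¹ := by rw [← hT, hTT]
        _ = _ := hC.inv_inv.eq
    exact mul_inv_eq_iff_eq_mul.1 h
  · calc t * (T * q⁻¹) * t⁻¹ = (t * T * t⁻¹) * (t * q * t⁻¹)⁻¹ := by group
      _ = q * T⁻¹ := by rw [hTT, ← hT]
      _ = _ := by group
  · calc q = (q * q * q) * q := by rw [show q * q * q = 1 by rw [← pow_two, ← pow_succ, hq3], one_mul]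
      _ = q⁻¹ * q⁻¹ := by rw [hinvq]; group
      _ = q⁻¹ * T⁻¹ * (T * q⁻¹) := by group

/-- Fixed and inverted elements commute. -/
theorem fix_inv_comm {t : G} (ht : t ∈ Subgroup.centralizer ({z} : Set G)) {f v : G} (hf : f ∈ Q)
    (hv : v ∈ Q) (hft : t * f = f * t) (hvt : t * v * t⁻¹ = v⁻¹) : f * v = v * f := by
  have hc := L.comm f hf v hv
  have h1 : t * (f * v * f⁻¹ * v⁻¹) * t⁻¹ = f * v * f⁻¹ * v⁻¹ := by
    rw [L.z_comm ht hc, mul_inv_cancel_right]
  have hff : t * f * t⁻¹ = f := by rw [hft, mul_inv_cancel_right]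
  have h2 : t * (f * v * f⁻¹ * v⁻¹) * t⁻¹ = f * v⁻¹ * f⁻¹ * v := by
    calc t * (f * v * f⁻¹ * v⁻¹) * t⁻¹ =
          (t * f * t⁻¹) * (t * v * t⁻¹) * (t * f * t⁻¹)⁻¹ * (t * v * t⁻¹)⁻¹ := by group
      _ = _ := by rw [hff, hvt, inv_inv]
  set c := f * v * f⁻¹ * v⁻¹ with hcdef
  have h3 : f * v⁻¹ * f⁻¹ * v = c⁻¹ := by
    have : c = v⁻¹ * c * v := by
      rw [L.z_comm (L.le (inv_mem hv)) hc, inv_mul_cancel_right]
    rw [this, hcdef]; group
  have hsq : c * c = 1 := mul_eq_one_iff_eq_inv.2 ((h1.symm.trans h2).trans h3)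
  have h3' : c ^ 3 = 1 := L.exp _ (L.zpowers_le hc)
  rw [pow_succ, pow_two, hsq, one_mul, hcdef, mul_inv_eq_one, mul_inv_eq_iff_eq_mul] at h3'
  exact h3'

end Pre

end CfsgLib.OEightLocal
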