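import Cfsg.Agent.Lib.OEightLocal.StdExists

/-!
A conjugate of `z` in the radical meets both halves: the element of order three has order three and
acts alike on the two halves.
-/

set_option autoImplicit false
set_option linter.unusedSectionVars false

namespace CfsgLib.OEightLocal

open CfsgLib.LFourThree (S2 pE sE closure_ps)

theorem s2_conj_three : ∀ g : S2, g * g * g = 1 → g ≠ 1 →
    ∃ h : S2, h * g * h⁻¹ = pE ∨ h * g * h⁻¹ = pE * pE := by decide +kernel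

theorem s2_three_comm : ∀ g h : S2, g * g * g = 1 → h * h * h = 1 → g * h * (g * h) * (g * h) = 1 →
    g * (h * h) * (g * (h * h)) * (g * (h * h)) = 1 → g * h = h * g ∧ (g = 1 ∨ h = 1 ∨ h = g ∨ h = g * g) := by
  decide +kernel

theorem key_arith : ∀ k d3 d4 c y1 y2 : ZMod 3, k ≠ 0 → d3 = k * y1 → c * d4 = k * y2 →
    d3 * y1 - d4 * y2 = 0 → ¬ (y1 = 0 ∧ y2 = 0) → c = 1 ∧ y1 ≠ 0 ∧ y2 ≠ 0 := by decide +kernel

theorem sq_arith : ∀ q3 q4 y1 y2 : ZMod 3, y1 ≠ 0 → y2 ≠ 0 → q3 * y1 = q4 * y2 → q3 * q3 = q4 * q4 := by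
  decide +kernel

namespace Pre

theorem norm_arith : ∀ l q0 q1 q2 q3 q4 : ZMod 3, q3 * q3 = q4 * q4 →
    emul (emul (fs 1 l ![q0, q1, q2, q3, q4]) (fs 1 l (fs 1 l ![q0, q1, q2, q3, q4])))
      (fs 1 l (fs 1 l (fs 1 l ![q0, q1, q2, q3, q4]))) = 0 := by decide +kernel

/-- Two orthogonal vectors to a given one which do not commute. -/
theorem exists_orth (v : E) : ∃ a b : E, pair a v = 0 ∧ pair b v = 0 ∧ pair a b ≠ 0 := by
  have h1 : ∀ x : ZMod 3, x ≠ 0 → x * x = 1 := by decide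
  by_cases h3 : v 3 = 0
  · by_cases hv : v 1 = 0
    · exact ⟨![0, 1, 0, 0, 0], ![0, 0, 0, 1, 0], by simp [pair, h3], by simp [pair, hv],
        by simp [pair]⟩
    · refine ⟨![0, 0, 1, -(v 4 * v 1), 0], ![0, 0, 0, v 2 * v 1, 1], ?_, ?_, by simp [pair]⟩
      · simp [pair]; linear_combination (-v 4) * h1 _ hv
      · simp [pair]; linear_combination (v 2) * h1 _ hv
  · refine ⟨![0, v 3 * v 4, 1, 0, 0], ![0, -(v 3 * v 2), 0, 0, 1], ?_, ?_, by simp [pair]⟩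
    · simp [pair]; linear_combination (-v 4) * h1 _ h3
    · simp [pair]; linear_combination (v 2) * h1 _ h3

variable {G : Type*} [Group G] [Finite G] {z : G} {Q : Subgroup G} {m : ℕ}
  {π : Subgroup.centralizer ({z} : Set G) →* S2} {ε : Subgroup.centralizer ({z} : Set G) →* ℤˣ}
  {L : Pre z Q m π ε} {t : Subgroup.centralizer ({z} : Set G)}
  {O : Subgroup (Subgroup.centralizer ({z} : Set G))} {H : Quat π ε t O}
  {u s : Subgroup.centralizer ({z} : Set G)} {i₁ i₂ p a : G} {c l : ZMod 3}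
  (S : Std L H u s i₁ i₂ p a c l)
include S

theorem Std.mem (e : E) : el z i₁ i₂ p a e ∈ Q := L.el_mem H S.v1.1 S.vp.1 S.q2 S.qa e

theorem Std.surj {q : G} (hq : q ∈ Q) : ∃ e, el z i₁ i₂ p a e = q :=
  L.el_surj H S.F S.v1.1 S.vp.1 S.q2 S.qa hq

theorem Std.conj_s (e : E) : (s : G) * el z i₁ i₂ p a e * (s : G)⁻¹ = el z i₁ i₂ p a (fs c l e) :=
  S.F.conj_s (L.mem_cz.1 s.2) S.s1 S.s2 S.sp S.sa e

/-- The shape of conjugates of `z` in the radical and its consequences. -/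
theorem Std.key {x : G} (hx : x * z * x⁻¹ ∈ Q) (hxz : x * z * x⁻¹ ∉ Subgroup.zpowers z) :
    c = 1 ∧ (s : G) ^ 3 = 1 ∧ ∃ cc : Subgroup.centralizer ({z} : Set G), ∃ k α β : ZMod 3,
      α ≠ 0 ∧ β ≠ 0 ∧ (cc : G) * (x * z * x⁻¹) * (cc : G)⁻¹ = el z i₁ i₂ p a ![k, α, β, 0, 0] := by
  set Y := x * z * x⁻¹ with hY
  have cube_img : ∀ g : Subgroup.centralizer ({z} : Set G), (g : G) ^ 3 = 1 →
      π g * π g * π g = 1 ∧ ε g = 1 := by
    intro g hg
    have h : g * g * g = 1 := Subtype.ext (by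
      show (g : G) * g * g = 1
      rw [← pow_two, ← pow_succ]; exact hg)
    refine ⟨by rw [← map_mul, ← map_mul, h, map_one], ?_⟩
    have h' : ε g * ε g * ε g = 1 := by rw [← map_mul, ← map_mul, h, map_one]
    rwa [L.eps_sq, one_mul] at h'
  have hYC : ∀ {g : G}, Commute g Y → x⁻¹ * g * x ∈ Subgroup.centralizer ({z} : Set G) := fun {g} hg => by
    rw [L.mem_cz]
    calc x⁻¹ * g * x * z = x⁻¹ * (g * Y) * x := by rw [hY]; group
      _ = x⁻¹ * (Y * g) * x := by rw [hg.eq]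
      _ = _ := by rw [hY]; group
  have hQY : ∀ {g : G}, x⁻¹ * g * x ∈ Q → Commute g Y := fun {g} hg => by
    have h : Commute (x⁻¹ * g * x) z := L.mem_cz.1 (L.le hg)
    have h' := (Commute.conj_iff x).2 h
    simpa [hY, mul_assoc] using h'
  obtain ⟨yv, hyv⟩ := S.surj hx
  -- `z` lies in the conjugate radical
  have hzQx : x⁻¹ * z * x ∈ Q := by
    obtain ⟨a', b', ha', hb', hab⟩ := exists_orth yv
    have hca : Commute (el z i₁ i₂ p a a') Y := by rw [← hyv]; exact S.F.el_commute.2 ha'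
    have hcb : Commute (el z i₁ i₂ p a b') Y := by rw [← hyv]; exact S.F.el_commute.2 hb'
    set A : Subgroup.centralizer ({z} : Set G) := ⟨_, hYC hca⟩ with hA
    set B : Subgroup.centralizer ({z} : Set G) := ⟨_, hYC hcb⟩ with hB
    have hcube : ∀ g : G, g ∈ Q → (x⁻¹ * g * x) ^ 3 = 1 := fun g hg => by
      rw [show x⁻¹ * g * x = x⁻¹ * g * (x⁻¹)⁻¹ by group, conj_pow, L.exp g hg]; simp
    obtain ⟨hA3, hA'⟩ := cube_img A (hcube _ (S.mem a'))
    obtain ⟨hB3, hB'⟩ := cube_img B (hcube _ (S.mem b'))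
    have hAB := (cube_img (A * B) (by
      convert hcube _ (mul_mem (S.mem a') (S.mem b')) using 2
      simp only [Subgroup.coe_mul, hA, hB]; group)).1
    have hABB := (cube_img (A * (B * B)) (by
      convert hcube _ (mul_mem (S.mem a') (mul_mem (S.mem b') (S.mem b'))) using 2
      simp only [Subgroup.coe_mul, hA, hB]; group)).1
    simp only [map_mul] at hAB hABB
    have hcomm := (s2_three_comm _ _ hA3 hB3 hAB hABB).1
    have hq : ((A * B * A⁻¹ * B⁻¹ : Subgroup.centralizer ({z} : Set G)) : G) ∈ Q := by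
      refine (L.ker _).1 ⟨?_, by simp [map_mul, hA', hB']⟩
      rw [map_mul, map_mul, map_mul, hcomm, map_inv, map_inv]
      group
    simp only [Subgroup.coe_mul, Subgroup.coe_inv, hA, hB] at hq
    set w := el z i₁ i₂ p a a' * el z i₁ i₂ p a b' * (el z i₁ i₂ p a a')⁻¹ * (el z i₁ i₂ p a b')⁻¹ with hwdef
    have hwQ : x⁻¹ * w * x ∈ Q := by convert hq using 1; rw [hwdef]; group
    have hwz : w ∈ Subgroup.zpowers z := L.comm _ (S.mem a') _ (S.mem b')
    have hw1 : w ≠ 1 := fun h => hab (S.F.el_commute.1 (mul_inv_eq_iff_eq_mul.1 (mul_inv_eq_one.1 h)))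
    obtain ⟨n, hn⟩ := Subgroup.mem_zpowers_iff.1 (L.zpow_gen hwz hw1)
    rw [← hn, show x⁻¹ * w ^ n * x = (x⁻¹ * w * x) ^ n by
      rw [show x⁻¹ * w * x = x⁻¹ * w * (x⁻¹)⁻¹ by group, conj_zpow, inv_inv]]
    exact zpow_mem hwQ n
  -- an element of the conjugate radical outside the radical
  obtain ⟨zv, hzv⟩ := S.surj hzQx
  obtain ⟨a', b', ha', hb', hab⟩ := exists_orth zv
  have hcz : ∀ e : E, pair e zv = 0 → x * el z i₁ i₂ p a e * x⁻¹ ∈ Subgroup.centralizer ({z} : Set G) := by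
    intro e he
    rw [L.mem_cz]
    have h : Commute (el z i₁ i₂ p a e) (x⁻¹ * z * x) := by rw [← hzv]; exact S.F.el_commute.2 he
    have h' := (Commute.conj_iff x).2 h
    simpa [mul_assoc] using h'.eq
  obtain ⟨g, d, hgQ, hdQ, hgx, hdx, hne⟩ : ∃ (g : Subgroup.centralizer ({z} : Set G)) (d : G),
      (g : G) ∉ Q ∧ d ∈ Q ∧ x⁻¹ * (g : G) * x ∈ Q ∧ x⁻¹ * d * x ∈ Q ∧ ¬ Commute (g : G) d := by
    set A : Subgroup.centralizer ({z} : Set G) := ⟨_, hcz a' ha'⟩ with hA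
    set B : Subgroup.centralizer ({z} : Set G) := ⟨_, hcz b' hb'⟩ with hB
    have hAx : x⁻¹ * (A : G) * x = el z i₁ i₂ p a a' := by simp only [hA]; group
    have hBx : x⁻¹ * (B : G) * x = el z i₁ i₂ p a b' := by simp only [hB]; group
    have hAB : ¬ Commute (A : G) (B : G) := fun h => hab (S.F.el_commute.1 (by
      have h' := (Commute.conj_iff x⁻¹).2 h
      rwa [inv_inv, hAx, hBx] at h'))
    have hcube : ∀ g : G, g ∈ Q → (x * g * x⁻¹) ^ 3 = 1 := fun g hg => by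
      rw [conj_pow, L.exp g hg]; simp
    obtain ⟨hA3, hA'⟩ := cube_img A (hcube _ (S.mem a'))
    obtain ⟨hB3, hB'⟩ := cube_img B (hcube _ (S.mem b'))
    have hAB3 := (cube_img (A * B) (by
      convert hcube _ (mul_mem (S.mem a') (S.mem b')) using 2
      simp only [Subgroup.coe_mul, hA, hB]; group)).1
    have hABB := (cube_img (A * (B * B)) (by
      convert hcube _ (mul_mem (S.mem a') (mul_mem (S.mem b') (S.mem b'))) using 2
      simp only [Subgroup.coe_mul, hA, hB]; group)).1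
    simp only [map_mul] at hAB3 hABB
    have hnot : ∀ g₁ g₂ : Subgroup.centralizer ({z} : Set G), (g₁ : G) ∈ Q → (g₂ : G) ∈ Q →
        x⁻¹ * (g₁ : G) * x ∈ Q → x⁻¹ * (g₂ : G) * x ∈ Q → Commute (g₁ : G) (g₂ : G) := by
      intro g₁ g₂ h1 h2 h3 h4
      set w := (g₁ : G) * g₂ * (g₁ : G)⁻¹ * (g₂ : G)⁻¹ with hwdef
      have hwz : w ∈ Subgroup.zpowers z := L.comm _ h1 _ h2
      have hw' : x⁻¹ * w * x ∈ Subgroup.zpowers z := by
        convert L.comm _ h3 _ h4 using 1; rw [hwdef]; group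
      by_contra hc
      have hw1 : w ≠ 1 := fun h => hc (mul_inv_eq_iff_eq_mul.1 (mul_inv_eq_one.1 h))
      refine hxz ?_
      obtain ⟨n, hn⟩ := Subgroup.mem_zpowers_iff.1 (L.zpow_gen hw' (fun h => hw1 (by
        calc w = x * (x⁻¹ * w * x) * x⁻¹ := by group
          _ = 1 := by rw [h]; group)))
      have : Y = w ^ n := by
        rw [hY, ← hn, show x⁻¹ * w * x = x⁻¹ * w * (x⁻¹)⁻¹ by group, conj_zpow]; group
      rw [this]
      exact zpow_mem hwz n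
    have hinQ : ∀ g : Subgroup.centralizer ({z} : Set G), (g : G) ^ 3 = 1 → π g = 1 → (g : G) ∈ Q :=
      fun g h3 h => (L.ker g).1 ⟨h, (cube_img g h3).2⟩
    have hAxQ : x⁻¹ * (A : G) * x ∈ Q := hAx ▸ S.mem a'
    have hBxQ : x⁻¹ * (B : G) * x ∈ Q := hBx ▸ S.mem b'
    rcases (s2_three_comm _ _ hA3 hB3 hAB3 hABB).2 with h | h | h | h
    · have hA0 := hinQ A (hcube _ (S.mem a')) h
      exact ⟨B, A, fun hB0 => hAB (hnot A B hA0 hB0 hAxQ hBxQ), hA0, hBxQ, hAxQ, fun h => hAB h.symm⟩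
    · have hB0 := hinQ B (hcube _ (S.mem b')) h
      exact ⟨A, B, fun hA0 => hAB (hnot A B hA0 hB0 hAxQ hBxQ), hB0, hAxQ, hBxQ, hAB⟩
    · by_cases hAQ : (A : G) ∈ Q
      · have hB0 := hinQ B (hcube _ (S.mem b')) (by rw [h]; exact ((L.ker A).2 hAQ).1)
        exact absurd (hnot A B hAQ hB0 hAxQ hBxQ) hAB
      refine ⟨A, ((B * A⁻¹ : Subgroup.centralizer ({z} : Set G)) : G), hAQ, (L.ker _).1 ⟨by
        rw [map_mul, map_inv, h, mul_inv_cancel], by simp [map_mul, hA', hB']⟩, hAxQ, ?_, fun hc => hAB ?_⟩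
      · simp only [Subgroup.coe_mul, Subgroup.coe_inv]
        convert mul_mem hBxQ (inv_mem hAxQ) using 1; group
      · simpa using hc.mul_right (Commute.refl (A : G))
    · by_cases hAQ : (A : G) ∈ Q
      · have hB0 := hinQ B (hcube _ (S.mem b')) (by rw [h, ((L.ker A).2 hAQ).1, mul_one])
        exact absurd (hnot A B hAQ hB0 hAxQ hBxQ) hAB
      refine ⟨A, ((B * A : Subgroup.centralizer ({z} : Set G)) : G), hAQ, (L.ker _).1 ⟨by
        rw [map_mul, h, hA3], by simp [map_mul, hA', hB']⟩, hAxQ, ?_, fun hc => hAB ?_⟩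
      · simp only [Subgroup.coe_mul]
        convert mul_mem hBxQ hAxQ using 1; group
      · simpa using hc.mul_right (Commute.refl (A : G)).inv_right
  -- move it to `s`
  have hg3 : (g : G) ^ 3 = 1 := by
    rw [show (g : G) = x * (x⁻¹ * g * x) * x⁻¹ by group, conj_pow, L.exp _ hgx]; simp
  obtain ⟨hπ3, hεg⟩ := cube_img g hg3
  obtain ⟨h, hh⟩ := s2_conj_three (π g) hπ3 fun h => hgQ ((L.ker g).1 ⟨h, hεg⟩)
  obtain ⟨cc, hcc, hccε⟩ := L.surj h 1 (Or.inr rfl)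
  obtain ⟨g', hg'π, hg'ε, hg'3, hg'Y, hg'd, hg'c⟩ : ∃ g' : Subgroup.centralizer ({z} : Set G),
      π g' = π s ∧ ε g' = 1 ∧ (g' : G) ^ 3 = 1 ∧ Commute (g' : G) ((cc : G) * Y * (cc : G)⁻¹) ∧
      ¬ Commute (g' : G) ((cc : G) * d * (cc : G)⁻¹) ∧
      ∃ n : ℤ, (g' : G) * ((cc : G) * d * (cc : G)⁻¹) * (g' : G)⁻¹ * ((cc : G) * d * (cc : G)⁻¹)⁻¹ =
        ((cc : G) * Y * (cc : G)⁻¹) ^ n := by
    have main : ∀ g₀ : Subgroup.centralizer ({z} : Set G), x⁻¹ * (g₀ : G) * x ∈ Q → ¬ Commute (g₀ : G) d →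
        (g₀ : G) ^ 3 = 1 → π (cc * g₀ * cc⁻¹) = π s →
        ∃ g' : Subgroup.centralizer ({z} : Set G),
          π g' = π s ∧ ε g' = 1 ∧ (g' : G) ^ 3 = 1 ∧ Commute (g' : G) ((cc : G) * Y * (cc : G)⁻¹) ∧
          ¬ Commute (g' : G) ((cc : G) * d * (cc : G)⁻¹) ∧
          ∃ n : ℤ, (g' : G) * ((cc : G) * d * (cc : G)⁻¹) * (g' : G)⁻¹ * ((cc : G) * d * (cc : G)⁻¹)⁻¹ =
            ((cc : G) * Y * (cc : G)⁻¹) ^ n := fun g₀ h1 h2 h3 h4 => ⟨cc * g₀ * cc⁻¹, h4,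
      by rw [map_mul, map_mul, map_inv, (cube_img g₀ h3).2, hccε]; simp,
      by simp only [Subgroup.coe_mul, Subgroup.coe_inv]; rw [conj_pow, h3]; simp,
      (by simp only [Subgroup.coe_mul, Subgroup.coe_inv]; exact (Commute.conj_iff _).2 (hQY h1)),
      (by simp only [Subgroup.coe_mul, Subgroup.coe_inv]; exact fun h => h2 ((Commute.conj_iff _).1 h)),
      (by
        obtain ⟨n, hn⟩ := Subgroup.mem_zpowers_iff.1 (L.comm _ h1 _ hdx)
        refine ⟨n, ?_⟩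
        simp only [Subgroup.coe_mul, Subgroup.coe_inv]
        rw [conj_zpow, show Y ^ n = x * z ^ n * x⁻¹ by rw [hY, conj_zpow], hn]
        group)⟩
    have hinv : x⁻¹ * ((g⁻¹ : Subgroup.centralizer ({z} : Set G)) : G) * x ∈ Q := by
      convert inv_mem hgx using 1; simp [mul_assoc]
    have hinv3 : ((g⁻¹ : Subgroup.centralizer ({z} : Set G)) : G) ^ 3 = 1 := by simp [hg3]
    have hpp : pE * pE = pE⁻¹ := mul_eq_one_iff_eq_inv.1 s2_facts.2.2.1
    have hπc : π (cc * g * cc⁻¹) = pE ∨ π (cc * g * cc⁻¹) = pE * pE := by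
      rw [map_mul, map_mul, map_inv, hcc]; exact hh
    have hπi : π (cc * g⁻¹ * cc⁻¹) = (π (cc * g * cc⁻¹))⁻¹ := by rw [← map_inv]; congr 1; group
    have hdi : ¬ Commute ((g⁻¹ : Subgroup.centralizer ({z} : Set G)) : G) d := fun h => hne (by
      simpa using h.inv_left)
    rcases hπc with h1 | h1 <;> rcases S.s_pi with h2 | h2
    · exact main g hgx hne hg3 (h1.trans h2.symm)
    · exact main g⁻¹ hinv hdi hinv3 (by rw [hπi, h1, h2, hpp])
    · exact main g⁻¹ hinv hdi hinv3 (by rw [hπi, h1, h2, hpp, inv_inv])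
    · exact main g hgx hne hg3 (h1.trans h2.symm)
  obtain ⟨qq, hqq, hgs⟩ := L.eq_of_images H hg'π.symm (S.s_eps.trans hg'ε.symm)
  obtain ⟨qv, rfl⟩ := S.surj hqq
  obtain ⟨dv, hdv⟩ := S.surj (L.conj_mem cc.2 hdQ)
  obtain ⟨y', hy'⟩ := S.surj (L.conj_mem cc.2 hx)
  rw [← hy'] at hg'Y hg'c
  rw [← hdv] at hg'd hg'c
  have hconj : ∀ e, (g' : G) * el z i₁ i₂ p a e * (g' : G)⁻¹ = el z i₁ i₂ p a (fs c l (econj qv e)) := by
    intro e
    rw [hgs, show (s : G) * el z i₁ i₂ p a qv * el z i₁ i₂ p a e * ((s : G) * el z i₁ i₂ p a qv)⁻¹ =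
      (s : G) * (el z i₁ i₂ p a qv * el z i₁ i₂ p a e * (el z i₁ i₂ p a qv)⁻¹) * (s : G)⁻¹ by group,
      S.F.el_conj, S.conj_s]
  have hYfix := hg'Y.eq
  rw [← mul_inv_eq_iff_eq_mul, hconj, S.F.el_injective.eq_iff] at hYfix
  have hdY : pair dv y' = 0 := by
    refine S.F.el_commute.1 ?_
    rw [hdv, hy']
    exact (Commute.conj_iff _).2 (hQY hdx)
  obtain ⟨n, hn⟩ := hg'c
  rw [hconj, S.F.el_inv, S.F.el_mul, ← zpow_mod_orderOf] at hn
  obtain ⟨k, hk⟩ : ∃ k : ZMod 3, el z i₁ i₂ p a (emul (fs c l (econj qv dv)) (einv dv)) =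
      el z i₁ i₂ p a (epow k y') := by
    rw [hn]
    have hd3 : orderOf (el z i₁ i₂ p a y') ∣ 3 := orderOf_dvd_of_pow_eq_one (L.exp _ (S.mem y'))
    obtain ⟨j, hj⟩ := Int.eq_ofNat_of_zero_le (Int.emod_nonneg n
      (by exact_mod_cast (orderOf_pos (el z i₁ i₂ p a y')).ne') : 0 ≤ n % (orderOf (el z i₁ i₂ p a y') : ℤ))
    refine ⟨j, ?_⟩
    rw [hj, zpow_natCast, ← S.F.el_pow]
    exact pow_val_nat (L.exp _ (S.mem y')) rfl
  have hk' := S.F.el_injective hk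
  have hk0 : k ≠ 0 := by
    rintro rfl
    refine hg'd (mul_inv_eq_iff_eq_mul.1 ?_)
    rw [hconj]
    have h0 : emul (fs c l (econj qv dv)) (einv dv) = 0 := by
      rw [hk']; apply ext5 <;> simp [epow]
    calc el z i₁ i₂ p a (fs c l (econj qv dv)) = el z i₁ i₂ p a (fs c l (econj qv dv)) *
          (el z i₁ i₂ p a dv)⁻¹ * el z i₁ i₂ p a dv := by group
      _ = _ := by rw [S.F.el_inv, S.F.el_mul, h0, Frame.el_zero, one_mul]
  have f1 := congrFun hk' 1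
  have f2 := congrFun hk' 2
  have f3 := congrFun hk' 3
  have f4 := congrFun hk' 4
  have g0 := congrFun hYfix 0
  simp [emul, einv, fs, econj, epow] at f1 f2 f3 f4 g0
  have hy3 : y' 3 = 0 := f3.resolve_left hk0
  have hy4 : y' 4 = 0 := f4.resolve_left hk0
  have hne12 : ¬ (y' 1 = 0 ∧ y' 2 = 0) := by
    rintro ⟨h1, h2⟩
    refine hxz ?_
    have hye : y' = ![y' 0, 0, 0, 0, 0] := by apply ext5 <;> simp [h1, h2, hy3, hy4]
    have hzy : el z i₁ i₂ p a y' ∈ Subgroup.zpowers z := by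
      rw [hye, Frame.el_z]; exact pow_mem (Subgroup.mem_zpowers z) _
    rw [hy'] at hzy
    have := L.z_comm (inv_mem cc.2) hzy
    rw [show Y = (cc : G)⁻¹ * ((cc : G) * Y * (cc : G)⁻¹) * cc by group, this, inv_mul_cancel_right]
    exact hzy
  simp [pair, hy3, hy4] at hdY
  obtain ⟨hc1, hα, hβ⟩ := key_arith k (dv 3) (dv 4) c (y' 1) (y' 2) hk0 (by linear_combination f1)
    (by linear_combination f2) (by linear_combination hdY) hne12
  refine ⟨hc1, ?_, cc, y' 0, y' 1, y' 2, hα, hβ, ?_⟩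
  · simp [hy3, hy4] at g0
    have hq := sq_arith (qv 3) (qv 4) _ _ hα hβ (by linear_combination g0)
    have hN := norm_arith l (qv 0) (qv 1) (qv 2) (qv 3) (qv 4) hq
    rw [show (![qv 0, qv 1, qv 2, qv 3, qv 4] : E) = qv by apply ext5 <;> simp] at hN
    subst hc1
    have e1 := S.conj_s qv
    have e2 := S.conj_s (fs 1 l qv)
    have e3 := S.conj_s (fs 1 l (fs 1 l qv))
    rw [← e2, ← e1] at e3
    rw [← e1] at e2
    have h3 : el z i₁ i₂ p a (emul (emul (fs 1 l qv) (fs 1 l (fs 1 l qv))) (fs 1 l (fs 1 l (fs 1 l qv)))) *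
        (s : G) ^ 3 = 1 := by
      rw [← S.F.el_mul, ← S.F.el_mul, ← e1, ← e2, ← e3, ← hg'3, hgs]
      simp [pow_succ, mul_assoc]
    rwa [hN, Frame.el_zero, one_mul] at h3
  · rw [← hy']
    exact congrArg _ (by apply ext5 <;> simp [hy3, hy4])

omit S in
/-- Adapted generators with the relations of the interface. -/
theorem exists_std' (L : Pre z Q m π ε) (H : Quat π ε t O) :
    ∃ u s i₁ i₂ p a, Std L H u s i₁ i₂ p a 1 (-1) ∧ (s : G) ^ 3 = 1 := by
  obtain ⟨u, s, i₁, i₂, p, a, c, l, S⟩ := L.exists_std H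
  obtain ⟨x, hx, hxz⟩ := L.conj_Q
  obtain ⟨rfl, hs3, -⟩ := S.key hx hxz
  have hzt : Commute (t : G) z := L.mem_cz.1 t.2
  obtain ⟨n0, -, n2, -, n4⟩ := (Frame.el_units : el z i₁ i₂ p a ![1, 0, 0, 0, 0] = z ∧ _)
  have hzp : z ^ (l + 1).val ∈ Subgroup.zpowers z := pow_mem (Subgroup.mem_zpowers z) _
  refine ⟨u, s, i₁, i₂ * z ^ (l + 1).val, p, a, ?_, hs3⟩
  have hl : m = 2 → l + 1 = 0 := by
    intro hm
    have hsa : (s : G) * a * (s : G)⁻¹ = el z i₁ i₂ p a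
        (emul (emul ![0, 0, 0, 0, 1] ![0, 0, 1, 0, 0]) ![l, 0, 0, 0, 0]) := by
      rw [← S.F.el_mul, ← S.F.el_mul, n2, n4, Frame.el_z, S.sa]
      simp [ZMod.val_one]
    have huz : Commute (u : G) z := L.mem_cz.1 u.2
    have h : (u : G) * ((s : G) * a * (s : G)⁻¹) * (u : G)⁻¹ =
        (s : G) * ((u : G) * a * (u : G)⁻¹) * (s : G)⁻¹ := by
      calc _ = ((u : G) * s) * a * ((u : G) * s)⁻¹ := by group
        _ = ((s : G) * u) * a * ((s : G) * u)⁻¹ := by rw [S.us.eq]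
        _ = _ := by group
    rw [S.u_a hm, ← conj_inv, hsa, S.F.el_inv] at h
    rw [show (u : G) * el z i₁ i₂ p a (emul (emul ![0, 0, 0, 0, 1] ![0, 0, 1, 0, 0]) ![l, 0, 0, 0, 0]) *
      (u : G)⁻¹ = ((u : G) * a * (u : G)⁻¹) * ((u : G) * i₂ * (u : G)⁻¹) *
        ((u : G) * z * (u : G)⁻¹) ^ l.val by
        rw [← S.F.el_mul, ← S.F.el_mul, n2, n4, Frame.el_z, conj_pow]; group,
      S.u_a hm, S.u_2 hm, huz.eq, mul_inv_cancel_right,
      show a⁻¹ = (el z i₁ i₂ p a ![0, 0, 0, 0, 1])⁻¹ by rw [n4],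
      show i₂⁻¹ = (el z i₁ i₂ p a ![0, 0, 1, 0, 0])⁻¹ by rw [n2],
      ← Frame.el_z (i₁ := i₁) (i₂ := i₂) (p := p) (a := a), S.F.el_inv, S.F.el_inv, S.F.el_mul,
      S.F.el_mul, S.F.el_injective.eq_iff] at h
    have h0 := congrFun h 0
    simp [emul, einv] at h0
    exact (by decide : ∀ l : ZMod 3, -1 + l = -l → l + 1 = 0) l h0
  have hcz : ∀ g : G, Commute g z → Commute g (z ^ (l + 1).val) := fun g hg => hg.pow_right _
  exact
    { F := L.frame_of H S.v1 S.vp (mul_mem S.q2 (L.zpowers_le hzp)) (S.t2.mul_right (hcz _ hzt))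
        S.qa S.ta S.F.rp (by
          calc i₂ * z ^ (l + 1).val * a = i₂ * a * z ^ (l + 1).val := by
                rw [mul_assoc, ← (hcz a S.F.hza.symm).eq, mul_assoc]
            _ = z * a * (i₂ * z ^ (l + 1).val) := by rw [S.F.ra]; group)
      v1 := S.v1, vp := S.vp, q2 := mul_mem S.q2 (L.zpowers_le hzp), t2 := S.t2.mul_right (hcz _ hzt)
      qa := S.qa, ta := S.ta, u_one := S.u_one, u_eps := S.u_eps, u_sq := S.u_sq, u_pi := S.u_pi
      ut := S.ut, uO := S.uO, uV := S.uV, u_a := S.u_a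
      u_2 := fun hm => by rw [hl hm, ZMod.val_zero, pow_zero, mul_one]; exact S.u_2 hm
      us := S.us, st := S.st, s_pi := S.s_pi, s_eps := S.s_eps, s1 := S.s1
      s2 := S.s2.mul_right (hcz _ (L.mem_cz.1 s.2)), sp := S.sp
      sa := by
        rw [S.sa, ZMod.val_one, pow_one, pow_one, mul_assoc a, mul_assoc a, mul_assoc i₂,
          ← pow_val_add' S.F.cz, (by decide : ∀ l : ZMod 3, l + 1 + -1 = l) l] }

end Pre

end CfsgLib.OEightLocal
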