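import Cfsg.Agent.Lib.OEightLocal.Seed

/-!
The involution inverting `J`, commuting with `t` and `u`.
-/

set_option autoImplicit false
set_option linter.unusedSectionVars false

namespace CfsgLib.OEightLocal

open CfsgLib.LFourThree (S2 pE sE closure_ps)

theorem s2_comm_conj : ∀ g : S2, g * g * g = 1 → (∀ h : S2, g * (h * g * h⁻¹) = h * g * h⁻¹ * g) → g = 1 := by
  decide +kernel

theorem s2_neg_comm : ∃ g h : S2, g ^ 8 = 1 ∧ h ^ 8 = 1 ∧ g * h * g⁻¹ * h⁻¹ = -1 := by decide +kernel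

theorem s2_norm_two : ∀ g : S2, g ^ 8 = 1 →
    (g * pE * g⁻¹ = pE ∨ g * pE * g⁻¹ = pE * pE) → g = 1 ∨ g = -1 := by decide +kernel

namespace Pre

variable {G : Type*} [Group G] [Finite G] {z : G} {Q : Subgroup G} {m : ℕ}
  {π : Subgroup.centralizer ({z} : Set G) →* S2} {ε : Subgroup.centralizer ({z} : Set G) →* ℤˣ}
  {L : Pre z Q m π ε} {t : Subgroup.centralizer ({z} : Set G)}
  {O : Subgroup (Subgroup.centralizer ({z} : Set G))} {H : Quat π ε t O}
  {u s : Subgroup.centralizer ({z} : Set G)} {i₁ i₂ p a : G}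
  (S : Std L H u s i₁ i₂ p a 1 (-1)) (hs : (s : G) ^ 3 = 1)
include S hs

omit S hs in
theorem inv_conj_C {n : G} (hn : n * z * n⁻¹ = z ∨ n * z * n⁻¹ = z⁻¹) {x : G}
    (hx : x ∈ Subgroup.centralizer ({z} : Set G)) : n * x * n⁻¹ ∈ Subgroup.centralizer ({z} : Set G) := by
  rw [Subgroup.mem_centralizer_singleton_iff]
  have h : Commute (n * x * n⁻¹) (n * z * n⁻¹) :=
    (Commute.conj_iff n).2 (Subgroup.mem_centralizer_singleton_iff.1 hx : Commute x z)
  rcases hn with e | e <;> rw [e] at h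
  · exact h
  · simpa using h.inv_right.eq

theorem Std.norm_Q {n : G} (hn : n * z * n⁻¹ = z ∨ n * z * n⁻¹ = z⁻¹) {q : G} (hq : q ∈ Q) :
    n * q * n⁻¹ ∈ Q := by
  let c : ∀ q, q ∈ Q → Subgroup.centralizer ({z} : Set G) := fun q hq => ⟨n * q * n⁻¹, inv_conj_C hn (L.le hq)⟩
  have hmul : ∀ (a b : G) (ha : a ∈ Q) (hb : b ∈ Q), c a ha * c b hb = c (a * b) (mul_mem ha hb) := fun a b ha hb =>
    Subtype.ext (by simp [c, mul_assoc])
  have h3 : ∀ a ha, c a ha * c a ha * c a ha = 1 := fun a ha => Subtype.ext (by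
    show n * a * n⁻¹ * (n * a * n⁻¹) * (n * a * n⁻¹) = 1
    rw [show n * a * n⁻¹ * (n * a * n⁻¹) * (n * a * n⁻¹) = n * (a * a * a) * n⁻¹ by group, ← pow_two,
      ← pow_succ, L.exp a ha]
    group)
  have hπ3 : ∀ (a : G) (ha : a ∈ Q), π (c a ha) * π (c a ha) * π (c a ha) = 1 := fun a ha => by
    rw [← map_mul, ← map_mul, h3 a ha, map_one]
  refine (L.ker (c q hq)).1 ⟨?_, ?_⟩
  · refine s2_comm_conj _ (hπ3 q hq) fun g => ?_
    obtain ⟨h, rfl, -⟩ := L.surj g 1 (Or.inr rfl)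
    have hh' : n⁻¹ * (h : G) * n ∈ Subgroup.centralizer ({z} : Set G) := by
      have h' := inv_conj_C (n := n⁻¹) (z := z) (by
        rcases hn with e | e
        · left
          calc n⁻¹ * z * (n⁻¹)⁻¹ = n⁻¹ * (n * z * n⁻¹) * n := by rw [e]; group
            _ = z := by group
        · right
          calc n⁻¹ * z * (n⁻¹)⁻¹ = n⁻¹ * (n * z * n⁻¹)⁻¹ * n := by rw [e]; group
            _ = z⁻¹ := by group) h.2
      rwa [inv_inv] at h'
    set q' := n⁻¹ * (h : G) * n * q * (n⁻¹ * (h : G) * n)⁻¹ with hq'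
    have hq'Q : q' ∈ Q := L.conj_mem hh' hq
    have e : h * c q hq * h⁻¹ = c q' hq'Q := Subtype.ext (by
      simp only [c, hq', Subgroup.coe_mul, Subgroup.coe_inv]; group)
    rw [← map_inv, ← map_mul, ← map_mul, e]
    have h1 := hπ3 _ (mul_mem hq hq'Q)
    have h2 := hπ3 _ (mul_mem hq (mul_mem hq'Q hq'Q))
    rw [← hmul _ _ hq hq'Q, map_mul] at h1
    rw [← hmul _ _ hq (mul_mem hq'Q hq'Q), ← hmul _ _ hq'Q hq'Q, map_mul, map_mul] at h2
    exact (s2_three_comm _ _ (hπ3 q hq) (hπ3 q' hq'Q) h1 h2).1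
  · have h' := congrArg ε (h3 q hq)
    rw [map_mul, map_mul, map_one, L.eps_sq, one_mul] at h'
    exact h'

theorem Std.Q_norm_J {q : G} (hq : q ∈ Q) :
    q ∈ Subgroup.normalizer (Subgroup.closure {z, i₁, i₂, (s : G)} : Set G) := by
  have key : ∀ f : E, ∀ x ∈ Subgroup.closure {z, i₁, i₂, (s : G)},
      el z i₁ i₂ p a f * x * (el z i₁ i₂ p a f)⁻¹ ∈ Subgroup.closure {z, i₁, i₂, (s : G)} := by
    intro f x hx
    obtain ⟨v, rfl⟩ := (S.mem_J hs).1 hx
    set g := emul (econj f ![v 0, v 1, v 2, 0, 0]) (emul f ((fs 1 (-1))^[(v 3).val] (einv f))) with hg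
    have he : el z i₁ i₂ p a f * (el z i₁ i₂ p a ![v 0, v 1, v 2, 0, 0] * (s : G) ^ (v 3).val) *
        (el z i₁ i₂ p a f)⁻¹ = el z i₁ i₂ p a g * (s : G) ^ (v 3).val := by
      rw [hg, ← S.F.el_mul, ← S.F.el_mul, ← S.F.el_conj, ← S.spow_conj hs, ← S.F.el_inv]
      group
    have hm := fs_iter_mid ⟨(v 3).val, ZMod.val_lt _⟩ (einv f 0) (einv f 1) (einv f 2) (einv f 3) (einv f 4)
    rw [show (![einv f 0, einv f 1, einv f 2, einv f 3, einv f 4] : E) = einv f by
      apply ext5 <;> simp] at hm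
    have g3 : g 3 = 0 := by simp [hg, emul, econj]; rw [hm.2.2.1]; simp [einv]
    have g4 : g 4 = 0 := by simp [hg, emul, econj]; rw [hm.2.2.2]; simp [einv]
    rw [he]
    refine (S.mem_J hs).2 ⟨![g 0, g 1, g 2, v 3], ?_⟩
    have hge : g = ![g 0, g 1, g 2, 0, 0] := by apply ext5 <;> simp [g3, g4]
    simp only [Matrix.cons_val_zero, Matrix.cons_val_one, Matrix.cons_val]
    rw [← hge]
  obtain ⟨f, rfl⟩ := S.surj hq
  rw [Subgroup.mem_normalizer_iff]
  intro x
  refine ⟨key f x, fun hx => ?_⟩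
  have h := key (einv f) _ hx
  rw [← S.F.el_inv] at h
  simpa [mul_assoc] using h

/-- An element normalising `J`, inverting `z` and commuting with `t` and `u`, of 2-power order. -/
theorem Std.exists_n : ∃ n, n ∈ Subgroup.normalizer (Subgroup.closure {z, i₁, i₂, (s : G)} : Set G) ∧
    n * z * n⁻¹ = z⁻¹ ∧ Commute (t : G) n ∧ Commute (u : G) n ∧ ∃ k : ℕ, n ^ (2 ^ k) = 1 := by
  obtain ⟨n, hnJ, hnz⟩ := S.exists_inv hs
  set J := Subgroup.closure ({z, i₁, i₂, (s : G)} : Set G) with hJ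
  have hQn : ∀ {n' : G}, n' * z * n'⁻¹ = z⁻¹ → ∀ {g : G}, n' * g * n'⁻¹ ∈ Q → g ∈ Q := by
    intro n' h g hg
    have h' : n'⁻¹ * z * (n'⁻¹)⁻¹ = z⁻¹ := by
      calc n'⁻¹ * z * (n'⁻¹)⁻¹ = n'⁻¹ * (n' * z * n'⁻¹)⁻¹ * n' := by rw [h]; group
        _ = _ := by group
    have := S.norm_Q hs (Or.inr h') hg
    simpa [mul_assoc] using this
  -- commute with `t`
  obtain ⟨g, g', hg, hg', hgg⟩ := s2_neg_comm
  obtain ⟨w, hw, rfl⟩ := L.O_image H hg
  obtain ⟨w', hw', rfl⟩ := L.O_image H hg'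
  have ht : w * w' * w⁻¹ * w'⁻¹ = t := H.inj _ (mul_mem (mul_mem (mul_mem hw hw') (inv_mem hw)) (inv_mem hw'))
    t H.mem (by rw [map_mul, map_mul, map_mul, map_inv, map_inv, hgg, H.ht])
  set c1 : Subgroup.centralizer ({z} : Set G) := ⟨n * w * n⁻¹, inv_conj_C (Or.inr hnz) w.2⟩
  set c2 : Subgroup.centralizer ({z} : Set G) := ⟨n * w' * n⁻¹, inv_conj_C (Or.inr hnz) w'.2⟩
  set t' := c1 * c2 * c1⁻¹ * c2⁻¹ with ht'
  have ht'c : (t' : G) = n * (t : G) * n⁻¹ := by
    rw [← ht, ht']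
    simp only [Subgroup.coe_mul, Subgroup.coe_inv, c1, c2]; group
  have ht'2 : t' * t' = 1 := Subtype.ext (by
    rw [Subgroup.coe_mul, ht'c, show n * (t : G) * n⁻¹ * (n * (t : G) * n⁻¹) = n * ((t : G) * t) * n⁻¹ by group,
      show (t : G) * t = 1 from congrArg Subtype.val H.ht2]
    simp)
  have ht'ε : ε t' = 1 := by
    rw [ht', map_mul, map_mul, map_mul, map_inv, map_inv, mul_comm (ε c1) (ε c2), mul_inv_cancel_right,
      mul_inv_cancel]
  have ht'π : π t' = -1 := by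
    rcases s2_two (π t') (by rw [← map_mul, ht'2, map_one]) with h | h
    · exfalso
      have hq := hQn hnz (ht'c ▸ (L.ker t').1 ⟨h, ht'ε⟩)
      exact s2_facts.1 (H.ht.symm.trans ((L.ker t).2 hq).1)
    · exact h
  obtain ⟨r, hr, hd⟩ := L.eq_of_images H (c := t) (d := t') (H.ht.trans ht'π.symm) (H.ht'.trans ht'ε.symm)
  have hti : (t : G)⁻¹ = t := L.t_inv H
  have htt : (t : G) * t = 1 := congrArg Subtype.val H.ht2
  have hrt : (t : G) * r * (t : G)⁻¹ = r⁻¹ := by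
    rw [hti]
    refine eq_inv_of_mul_eq_one_left ?_
    rw [← hd, show (t' : G) = (t : G) * r from hd]
    have := congrArg Subtype.val ht'2
    rw [Subgroup.coe_mul, hd] at this
    simpa [mul_assoc] using this
  set n1 := r⁻¹ * n with hn1
  have hr3 : r * r * r = 1 := by rw [← pow_two, ← pow_succ, L.exp r hr]
  have h1t : Commute (t : G) n1 := by
    refine Eq.symm (mul_inv_eq_iff_eq_mul.1 ?_)
    calc n1 * (t : G) * n1⁻¹ = r⁻¹ * (n * (t : G) * n⁻¹) * r := by rw [hn1]; group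
      _ = r⁻¹ * ((t : G) * r * (t : G)⁻¹) * (t : G) * r := by rw [← ht'c, hd]; group
      _ = r⁻¹ * r⁻¹ * ((t : G) * r) := by rw [hrt]; group
      _ = r⁻¹ * r⁻¹ * (((t : G) * r * (t : G)⁻¹) * t) := by group
      _ = r⁻¹ * r⁻¹ * r⁻¹ * t := by rw [hrt]; group
      _ = (r * r * r)⁻¹ * t := by group
      _ = t := by rw [hr3]; simp
  have h1z : n1 * z * n1⁻¹ = z⁻¹ := by
    rw [hn1, show r⁻¹ * n * z * (r⁻¹ * n)⁻¹ = r⁻¹ * (n * z * n⁻¹) * r by group, hnz,
      ((show Commute r z from L.mem_cz.1 (L.le hr)).inv_left.inv_right).eq, inv_mul_cancel_right]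
  have h1J : n1 ∈ Subgroup.normalizer (J : Set G) := mul_mem (inv_mem (S.Q_norm_J hs hr)) hnJ
  -- commute with `u`
  obtain ⟨n2, h2J, h2z, h2t, h2u⟩ : ∃ n2, n2 ∈ Subgroup.normalizer (J : Set G) ∧ n2 * z * n2⁻¹ = z⁻¹ ∧
      Commute (t : G) n2 ∧ Commute (u : G) n2 := by
    rcases L.hm with hm | hm
    · exact ⟨n1, h1J, h1z, h1t, by rw [S.u_one hm]; exact Commute.one_left _⟩
    set u' : Subgroup.centralizer ({z} : Set G) := ⟨n1 * u * n1⁻¹, inv_conj_C (Or.inr h1z) u.2⟩ with hu'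
    have hu'2 : u' * u' = 1 := Subtype.ext (by
      show n1 * (u : G) * n1⁻¹ * (n1 * (u : G) * n1⁻¹) = 1
      rw [show n1 * (u : G) * n1⁻¹ * (n1 * (u : G) * n1⁻¹) = n1 * ((u : G) * u) * n1⁻¹ by group,
        show (u : G) * u = 1 from congrArg Subtype.val S.u_sq]
      simp)
    have hu'π := s2_two (π u') (by rw [← map_mul, hu'2, map_one])
    have hn1t : n1 * (t : G) * n1⁻¹ = t := by rw [h1t.symm.eq, mul_inv_cancel_right]
    have hback : ∀ c : Subgroup.centralizer ({z} : Set G), n1 * (c : G) * n1⁻¹ = c → π c = π u' →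
        ε c = ε u' → π u = π c ∧ ε u = ε c := by
      intro c hc h1 h2
      obtain ⟨q, hq, hd⟩ := L.eq_of_images H h1 h2
      have hd' : n1 * (u : G) * n1⁻¹ = (c : G) * q := hd
      have hq' : n1 * ((c : G)⁻¹ * u) * n1⁻¹ ∈ Q := by
        rw [show n1 * ((c : G)⁻¹ * u) * n1⁻¹ = (n1 * (c : G) * n1⁻¹)⁻¹ * (n1 * (u : G) * n1⁻¹) by group,
          hc, hd', inv_mul_cancel_left]
        exact hq
      obtain ⟨k1, k2⟩ := (L.ker (c⁻¹ * u)).2 (hQn h1z hq')
      rw [map_mul, map_inv, inv_mul_eq_one] at k1 k2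
      exact ⟨k1.symm, k2.symm⟩
    have hu'ε : ε u' = -1 := by
      rcases Int.units_eq_one_or (ε u') with h | h
      · exfalso
        have : ε u = 1 := by
          rcases hu'π with e | e
          · exact (hback 1 (by simp) (by rw [e, map_one]) (by rw [h, map_one])).2.trans (map_one ε)
          · exact (hback t hn1t (by rw [e, H.ht]) (by rw [h, H.ht'])).2.trans H.ht'
        rw [S.u_eps hm] at this
        exact absurd this (by decide)
      · exact h
    have hut' : Commute (t : G) (u' : G) := by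
      show Commute (t : G) (n1 * (u : G) * n1⁻¹)
      have h := (Commute.conj_iff n1).2 S.ut
      rwa [hn1t] at h
    have hu'v : ∀ v, Inv L H v → Commute (u' : G) v := by
      intro v hv
      have h1 : Inv L H (n1⁻¹ * v * n1) := by
        refine ⟨hQn h1z (by simpa [mul_assoc] using hv.1), ?_⟩
        calc (t : G) * (n1⁻¹ * v * n1) * (t : G)⁻¹ = ((t : G) * n1⁻¹) * v * ((t : G) * n1⁻¹)⁻¹ := by group
          _ = (n1⁻¹ * t) * v * (n1⁻¹ * t)⁻¹ := by rw [h1t.inv_right.eq]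
          _ = n1⁻¹ * ((t : G) * v * (t : G)⁻¹) * n1 := by group
          _ = _ := by rw [hv.2]; group
      have h := (Commute.conj_iff n1).2 (S.uV _ h1)
      rwa [show n1 * (n1⁻¹ * v * n1) * n1⁻¹ = v by group] at h
    have hu'u : π u' = π u := by
      by_contra hne
      have hπ : π (t * u) = π u' := by
        rw [map_mul, H.ht]
        rcases S.u_pi with e | e <;> rcases hu'π with f | f <;> rw [e, f] at hne ⊢
        · exact absurd rfl hne
        · simp
        · simp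
        · exact absurd rfl hne
      obtain ⟨q, hq, hd⟩ := L.eq_of_images H (c := t * u) (d := u') hπ
        (by rw [map_mul, H.ht', S.u_eps hm, hu'ε, one_mul])
      rw [Subgroup.coe_mul] at hd
      have hc := L.comm q hq i₁ S.v1.1
      have hqv : q * i₁ * q⁻¹ = (q * i₁ * q⁻¹ * i₁⁻¹) * i₁ := by group
      have h := (hu'v i₁ S.v1).eq
      rw [← mul_inv_eq_iff_eq_mul, hd, show (t : G) * u * q * i₁ * ((t : G) * u * q)⁻¹ =
        (t : G) * ((u : G) * (q * i₁ * q⁻¹) * (u : G)⁻¹) * (t : G)⁻¹ by group, hqv,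
        show (u : G) * (q * i₁ * q⁻¹ * i₁⁻¹ * i₁) * (u : G)⁻¹ = ((u : G) * (q * i₁ * q⁻¹ * i₁⁻¹) * (u : G)⁻¹) *
          ((u : G) * i₁ * (u : G)⁻¹) by group, L.z_comm u.2 hc, mul_inv_cancel_right, (S.uV _ S.v1).eq,
        mul_inv_cancel_right, show (t : G) * (q * i₁ * q⁻¹ * i₁⁻¹ * i₁) * (t : G)⁻¹ =
          ((t : G) * (q * i₁ * q⁻¹ * i₁⁻¹) * (t : G)⁻¹) * ((t : G) * i₁ * (t : G)⁻¹) by group,
        L.z_comm t.2 hc, mul_inv_cancel_right, S.v1.2] at h
      obtain ⟨he, -⟩ := L.inv_coset H (L.inv_inv' H S.v1) S.v1 hc h.symm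
      have h3 := S.F.c1
      have hi : i₁ * i₁ = 1 := mul_eq_one_iff_eq_inv.2 he
      rw [pow_succ, pow_two, hi, one_mul] at h3
      have := S.F.rp
      rw [h3, mul_one, mul_one] at this
      exact S.F.z_ne (right_eq_mul.1 this)
    obtain ⟨q, hq, hd⟩ := L.eq_of_images H (c := u) (d := u') hu'u.symm (by rw [S.u_eps hm, hu'ε])
    have hd' : n1 * (u : G) * n1⁻¹ = (u : G) * q := hd
    have hqt : Commute (t : G) q := by
      have h := S.ut.inv_right.mul_right hut'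
      rwa [hd, inv_mul_cancel_left] at h
    have huu : (u : G) * u = 1 := congrArg Subtype.val S.u_sq
    have hqu : (u : G) * q * (u : G) = q⁻¹ := by
      refine eq_inv_of_mul_eq_one_left ?_
      have := congrArg Subtype.val hu'2
      rw [Subgroup.coe_mul, hd] at this
      simpa [mul_assoc] using this
    refine ⟨q⁻¹ * n1, mul_mem (inv_mem (S.Q_norm_J hs hq)) h1J, ?_, hqt.inv_right.mul_right h1t, ?_⟩
    · rw [show q⁻¹ * n1 * z * (q⁻¹ * n1)⁻¹ = q⁻¹ * (n1 * z * n1⁻¹) * q by group, h1z,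
        ((show Commute q z from L.mem_cz.1 (L.le hq)).inv_left.inv_right).eq, inv_mul_cancel_right]
    · refine Eq.symm (mul_inv_eq_iff_eq_mul.1 ?_)
      calc q⁻¹ * n1 * (u : G) * (q⁻¹ * n1)⁻¹ = q⁻¹ * (n1 * (u : G) * n1⁻¹) * q := by group
        _ = q⁻¹ * (u : G) * q * q := by rw [hd']; group
        _ = ((u : G) * q * u) * (u : G) * q * q := by rw [hqu]
        _ = (u : G) * (q * ((u : G) * u)) * q * q := by group
        _ = (u : G) * (q * q * q) := by rw [huu]; group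
        _ = u := by rw [show q * q * q = 1 by rw [← pow_two, ← pow_succ, L.exp q hq], mul_one]
  -- the 2-part
  obtain ⟨a', b', hb, hab⟩ : ∃ k b : ℕ, Odd b ∧ orderOf n2 = 2 ^ k * b := by
    obtain ⟨k, b, hb, h⟩ := Nat.exists_eq_two_pow_mul_odd (orderOf_pos n2).ne'
    exact ⟨k, b, hb, h⟩
  have hpow : ∀ b : ℕ, Odd b → n2 ^ b * z * (n2 ^ b)⁻¹ = z⁻¹ := by
    rintro b ⟨j, rfl⟩
    have h2 : Commute (n2 * n2) z := by
      refine mul_inv_eq_iff_eq_mul.1 ?_
      calc n2 * n2 * z * (n2 * n2)⁻¹ = n2 * (n2 * z * n2⁻¹) * n2⁻¹ := by group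
        _ = z := by rw [h2z, ← conj_inv, h2z, inv_inv]
    rw [pow_succ, show n2 ^ (2 * j) * n2 * z * (n2 ^ (2 * j) * n2)⁻¹ =
      n2 ^ (2 * j) * (n2 * z * n2⁻¹) * (n2 ^ (2 * j))⁻¹ by group, h2z, pow_mul, pow_two,
      ((h2.pow_left j).inv_right).eq, mul_inv_cancel_right]
  exact ⟨n2 ^ b', pow_mem h2J _, hpow b' hb, h2t.pow_right _, h2u.pow_right _,
    a', by rw [← pow_mul, mul_comm, ← hab, pow_orderOf_eq_one]⟩

omit hs in
/-- Images of the generators under an element preserving the data. -/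
theorem Std.image_i {n : G} (hJ : ∀ x ∈ Subgroup.closure ({z, i₁, i₂, (s : G)} : Set G),
      n * x * n⁻¹ ∈ Subgroup.closure ({z, i₁, i₂, (s : G)} : Set G))
    (hQ : ∀ q ∈ Q, n * q * n⁻¹ ∈ Q) (hs : (s : G) ^ 3 = 1) {x : G} (hx : x ∈ ({i₁, i₂} : Set G)) :
    ∃ k α β : ZMod 3, n * x * n⁻¹ = el z i₁ i₂ p a ![k, α, β, 0, 0] := by
  have hxQ : x ∈ Q := by rcases hx with rfl | rfl; exacts [S.v1.1, S.q2]
  obtain ⟨v, hv⟩ := (S.mem_J hs).1 (hJ x (Subgroup.subset_closure (by rcases hx with rfl | rfl <;> simp)))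
  obtain ⟨e, he⟩ := S.surj (hQ x hxQ)
  refine ⟨v 0, v 1, v 2, ?_⟩
  have h : el z i₁ i₂ p a e * (s : G) ^ (0 : ZMod 3).val =
      el z i₁ i₂ p a ![v 0, v 1, v 2, 0, 0] * (s : G) ^ (v 3).val := by
    rw [ZMod.val_zero, pow_zero, mul_one, he, hv]
  rw [← he, (S.sy_inj hs h).1]

/-- The involution inverting `z`, commuting with `t` and `u`, up to signs. -/
theorem Std.exists_invol_n : ∃ n, n ∈ Subgroup.normalizer (Subgroup.closure {z, i₁, i₂, (s : G)} : Set G) ∧
    n * n = 1 ∧ n * z * n⁻¹ = z⁻¹ ∧ Commute (t : G) n ∧ Commute (u : G) n ∧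
    n * i₁ * n⁻¹ = i₁⁻¹ ∧ n * i₂ * n⁻¹ = i₂⁻¹ := by
  obtain ⟨u0, n1', n2', -, -⟩ := (Frame.el_units : el z i₁ i₂ p a ![1, 0, 0, 0, 0] = z ∧ _)
  obtain ⟨n, hnJ, hnz, hnt, hnu, k, hk⟩ := S.exists_n hs
  set J := Subgroup.closure ({z, i₁, i₂, (s : G)} : Set G) with hJ
  have hconjJ : ∀ g, g ∈ Subgroup.normalizer (J : Set G) → ∀ x ∈ J, g * x * g⁻¹ ∈ J :=
    fun g hg x hx => (Subgroup.mem_normalizer_iff.1 hg x).1 hx
  -- images of `i₁` and `i₂`
  have himg : ∀ g, g ∈ Subgroup.normalizer (J : Set G) → g * z * g⁻¹ = z⁻¹ → Commute (t : G) g →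
      ∃ α β c : ZMod 3, (α = 1 ∨ α = -1) ∧ (β = 1 ∨ β = -1) ∧
        g * i₁ * g⁻¹ = el z i₁ i₂ p a ![0, α, 0, 0, 0] ∧ g * i₂ * g⁻¹ = el z i₁ i₂ p a ![c, 0, β, 0, 0] := by
    intro g hg hgz hgt
    have hgQ : ∀ q ∈ Q, g * q * g⁻¹ ∈ Q := fun q hq => S.norm_Q hs (Or.inr hgz) hq
    obtain ⟨k1, α, β1, h1⟩ := S.image_i (hconjJ g hg) hgQ hs (x := i₁) (by simp)
    obtain ⟨c, α2, β, h2⟩ := S.image_i (hconjJ g hg) hgQ hs (x := i₂) (by simp)
    have hgi : ∀ x, Commute (t : G) x → Commute (t : G) (g * x * g⁻¹) := fun x hx =>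
      (hgt.mul_right hx).mul_right hgt.inv_right
    have hI : Inv L H (g * i₁ * g⁻¹) := by
      refine ⟨hgQ _ S.v1.1, ?_⟩
      calc (t : G) * (g * i₁ * g⁻¹) * (t : G)⁻¹ = ((t : G) * g) * i₁ * ((t : G) * g)⁻¹ := by group
        _ = (g * t) * i₁ * (g * t)⁻¹ := by rw [hgt.eq]
        _ = g * ((t : G) * i₁ * (t : G)⁻¹) * g⁻¹ := by group
        _ = _ := by rw [S.v1.2, conj_inv]
    rw [h1] at hI
    obtain ⟨a0, a2, -⟩ := L.inv_coord H S.F S.v1 S.vp S.t2 S.ta hI
    simp at a0 a2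
    have b1 : α2 = 0 := by
      have h := hgi i₂ S.t2
      rw [h2] at h
      have h' := mul_inv_eq_iff_eq_mul.2 h.eq
      rw [L.conj_t H S.F S.v1 S.vp S.t2 S.ta, S.F.el_injective.eq_iff] at h'
      have := congrFun h' 1
      simp [ft] at this
      exact (by decide : ∀ x : ZMod 3, -x = x → x = 0) _ this
    subst a0; subst a2; subst b1
    have hzc : ∀ (c' : ZMod 3) (x : G), g * x * g⁻¹ = el z i₁ i₂ p a ![c', 0, 0, 0, 0] →
        x = el z i₁ i₂ p a ![-c', 0, 0, 0, 0] := by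
      intro c' x hx
      have h : g * x * g⁻¹ = g * el z i₁ i₂ p a ![-c', 0, 0, 0, 0] * g⁻¹ := by
        rw [hx, Frame.el_z, Frame.el_z, pow_val_neg S.F.cz, ← conj_pow, ← conj_inv, hgz, inv_inv]
      exact mul_left_cancel (mul_right_cancel h)
    have hα : α ≠ 0 := by
      intro h
      subst h
      have := congrFun (S.F.el_injective (n1'.trans (hzc 0 i₁ (h1.trans (congrArg _
        (by apply ext5 <;> simp)))))) 1
      simp at this
    have hβ : β ≠ 0 := by
      intro h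
      subst h
      have := congrFun (S.F.el_injective (n2'.trans (hzc c i₂ (h2.trans (congrArg _
        (by apply ext5 <;> simp)))))) 2
      simp at this
    have h2' : ∀ x : ZMod 3, x ≠ 0 → x = 1 ∨ x = -1 := by decide
    exact ⟨α, β, c, h2' _ hα, h2' _ hβ, h1, h2⟩
  -- the square centralises everything
  have hn2z : n * n * z * (n * n)⁻¹ = z := by
    rw [show n * n * z * (n * n)⁻¹ = n * (n * z * n⁻¹) * n⁻¹ by group, hnz, ← conj_inv, hnz, inv_inv]
  set x : Subgroup.centralizer ({z} : Set G) := ⟨n * n, L.mem_cz.2 (mul_inv_eq_iff_eq_mul.1 hn2z)⟩ with hx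
  have hxk : x ^ (2 ^ k) = 1 := Subtype.ext (by
    rw [SubmonoidClass.coe_pow]
    show (n * n) ^ (2 ^ k) = 1
    rw [← pow_two, ← pow_mul, mul_comm 2, pow_mul, hk, one_pow])
  have hπ8 : π x ^ 8 = 1 := by
    have h24 : π x ^ 24 = 1 := s2_card ▸ pow_card_eq_one'
    have h2k : π x ^ (2 ^ k) = 1 := by rw [← map_pow, hxk, map_one]
    have hd : orderOf (π x) ∣ 8 := by
      have h1 := Nat.dvd_gcd (orderOf_dvd_of_pow_eq_one h24) (orderOf_dvd_of_pow_eq_one h2k)
      refine h1.trans ?_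
      rw [show (24 : ℕ) = 3 * 8 from rfl, Nat.Coprime.gcd_mul_left_cancel _
        (Nat.Coprime.pow_right k (by norm_num))]
      exact Nat.gcd_dvd_left 8 _
    exact orderOf_dvd_iff_pow_eq_one.1 hd
  have hsJ : n * n * (s : G) * (n * n)⁻¹ ∈ J :=
    hconjJ _ (mul_mem hnJ hnJ) _ (Subgroup.subset_closure (by simp))
  have hπx : π x = 1 ∨ π x = -1 := by
    obtain ⟨v, hv⟩ := (S.mem_J hs).1 hsJ
    have he : x * s * x⁻¹ = ⟨el z i₁ i₂ p a ![v 0, v 1, v 2, 0, 0], L.le (S.mem _)⟩ * s ^ (v 3).val :=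
      Subtype.ext (by simp [hx]; simpa [mul_assoc] using hv)
    have he' := congrArg π he
    rw [map_mul, map_mul, map_inv, map_mul,
      ((L.ker ⟨el z i₁ i₂ p a ![v 0, v 1, v 2, 0, 0], L.le (S.mem _)⟩).2 (S.mem _)).1, one_mul, map_pow] at he'
    have h3 : pE * pE * (pE * pE) = pE := by decide +kernel
    have hne : π s ≠ 1 := by rcases S.s_pi with e | e <;> rw [e]; exacts [s2_pE.1, s2_pE.2.2.1]
    refine s2_norm_two _ hπ8 ?_
    rcases (show ∀ w : ZMod 3, w = 0 ∨ w = 1 ∨ w = 2 by decide) (v 3) with h | h | h <;> rw [h] at he'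
    · rw [ZMod.val_zero, pow_zero, conj_eq_one_iff] at he'
      exact absurd he' hne
    · rw [ZMod.val_one, pow_one] at he'
      rcases S.s_pi with e | e <;> rw [e] at he'
      · exact Or.inl he'
      · refine Or.inl ?_
        calc π x * pE * (π x)⁻¹ = π x * (pE * pE * (pE * pE)) * (π x)⁻¹ := by rw [h3]
          _ = (π x * (pE * pE) * (π x)⁻¹) * (π x * (pE * pE) * (π x)⁻¹) := by group
          _ = pE := by rw [he', h3]
    · rw [show (2 : ZMod 3).val = 2 from rfl, pow_two] at he'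
      rcases S.s_pi with e | e <;> rw [e] at he'
      · exact Or.inr he'
      · refine Or.inr ?_
        calc π x * pE * (π x)⁻¹ = π x * (pE * pE * (pE * pE)) * (π x)⁻¹ := by rw [h3]
          _ = (π x * (pE * pE) * (π x)⁻¹) * (π x * (pE * pE) * (π x)⁻¹) := by group
          _ = pE * pE := by rw [he', h3]
  obtain ⟨e, he2, het, heu, he1, heQ⟩ : ∃ e : Subgroup.centralizer ({z} : Set G), e * e = 1 ∧
      Commute (t : G) (e : G) ∧ Commute (u : G) (e : G) ∧
      (e = 1 ∨ e = t ∨ (m = 2 ∧ e = u) ∨ (m = 2 ∧ e = t * u)) ∧ π e = π x ∧ ε e = ε x := by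
    have htu : (t * u) * (t * u) = 1 := by
      rw [(show Commute u t from Subtype.ext S.ut.symm.eq).mul_mul_mul_comm, H.ht2, S.u_sq, one_mul]
    have hutu : Commute (u : G) ((t * u : Subgroup.centralizer ({z} : Set G)) : G) := S.ut.symm.mul_right (Commute.refl _)
    have httu : Commute (t : G) ((t * u : Subgroup.centralizer ({z} : Set G)) : G) := (Commute.refl _).mul_right S.ut
    rcases Int.units_eq_one_or (ε x) with hε | hε
    · rcases hπx with h | h
      · exact ⟨1, one_mul 1, Commute.one_right _, Commute.one_right _, Or.inl rfl, by rw [h, map_one], by rw [hε, map_one]⟩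
      · exact ⟨t, H.ht2, Commute.refl _, S.ut.symm, Or.inr (Or.inl rfl), by rw [h, H.ht], by rw [hε, H.ht']⟩
    · have hm : m = 2 := L.hm.resolve_left fun hm => by
        rw [L.eps_one hm x] at hε
        exact absurd hε (by decide)
      by_cases hu : π u = π x
      · exact ⟨u, S.u_sq, S.ut, Commute.refl _, Or.inr (Or.inr (Or.inl ⟨hm, rfl⟩)), hu, by rw [hε, S.u_eps hm]⟩
      · refine ⟨t * u, htu, httu, hutu, Or.inr (Or.inr (Or.inr ⟨hm, rfl⟩)), ?_, by rw [map_mul, H.ht', S.u_eps hm, hε, one_mul]⟩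
        rw [map_mul, H.ht]
        rcases S.u_pi with a1 | a1 <;> rcases hπx with a2 | a2 <;> rw [a1, a2] at hu ⊢
        · exact absurd rfl hu
        · rw [mul_one]
        · exact s2_facts.2.1
        · exact absurd rfl hu
  obtain ⟨q, hq, hd⟩ := L.eq_of_images H heQ.1 heQ.2
  have hd' : n * n = (e : G) * q := hd
  have hee : (e : G) * e = 1 := congrArg Subtype.val he2
  have hq' : q = (e : G) * (n * n) := by rw [hd', ← mul_assoc, hee, one_mul]
  have hqt : Commute (t : G) q := hq' ▸ het.mul_right (hnt.mul_right hnt)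
  have hqu : Commute (u : G) q := hq' ▸ heu.mul_right (hnu.mul_right hnu)
  have hqe : Commute (e : G) q := by
    rcases he1 with h | h | ⟨-, h⟩ | ⟨-, h⟩ <;> subst h
    · exact Commute.one_left _
    · exact hqt
    · exact hqu
    · exact hqt.mul_left hqu
  have hq1 : q = 1 := by
    have h2 : q ^ (2 ^ (k + 1)) = 1 := by
      have h1 : (n * n) ^ (2 ^ (k + 1)) = 1 := by
        have hh : (n * n) ^ (2 ^ k) = 1 := congrArg Subtype.val hxk
        rw [pow_succ, pow_mul, hh, one_pow]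
      rw [hd', hqe.mul_pow, pow_succ', pow_mul (e : G), pow_two, hee, one_pow, one_mul] at h1
      rwa [pow_succ']
    have := pow_gcd_eq_one.2 ⟨h2, L.exp q hq⟩
    rwa [(Nat.Coprime.pow_left (k + 1) (by norm_num) : Nat.gcd (2 ^ (k + 1)) 3 = 1), pow_one] at this
  rw [hq1, mul_one] at hd'
  obtain ⟨α, β, c, hα, hβ, h1, h2⟩ := himg n hnJ hnz hnt
  have pm : ∀ x : ZMod 3, x = 1 ∨ x = -1 → x * x = 1 := by decide
  have hneg : ∀ x : ZMod 3, x = -x → x = 0 := by decide
  have hii : n * n * i₁ * (n * n)⁻¹ = i₁ := by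
    rw [show n * n * i₁ * (n * n)⁻¹ = n * (n * i₁ * n⁻¹) * n⁻¹ by group, h1,
      show el z i₁ i₂ p a ![0, α, 0, 0, 0] = i₁ ^ α.val by simp [el], ← conj_pow, h1, S.F.el_pow]
    refine Eq.trans (congrArg _ ?_) n1'
    apply ext5 <;> simp [epow, pm _ hα]
  have hjj : ∃ c' : ZMod 3, n * n * i₂ * (n * n)⁻¹ = el z i₁ i₂ p a ![c', 0, 1, 0, 0] := by
    refine ⟨-c + β * c, ?_⟩
    rw [show n * n * i₂ * (n * n)⁻¹ = n * (n * i₂ * n⁻¹) * n⁻¹ by group, h2,
      show el z i₁ i₂ p a ![c, 0, β, 0, 0] = z ^ c.val * i₂ ^ β.val by simp [el],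
      show n * (z ^ c.val * i₂ ^ β.val) * n⁻¹ = (n * z * n⁻¹) ^ c.val * (n * i₂ * n⁻¹) ^ β.val by
        simp only [conj_pow]; group, hnz, h2, ← pow_val_neg S.F.cz,
      ← Frame.el_z (i₁ := i₁) (i₂ := i₂) (p := p) (a := a), S.F.el_pow, S.F.el_mul]
    refine congrArg _ ?_
    apply ext5 <;> simp [emul, epow, pm _ hβ]
  have hi1ne : ¬ i₁⁻¹ = i₁ := fun h => by
    rw [← n1', S.F.el_inv] at h
    have := congrFun (S.F.el_injective h) 1
    simp [einv] at this
    exact absurd this (by decide)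
  have he : e = 1 := by
    rcases he1 with h | h | ⟨hm, h⟩ | ⟨hm, h⟩
    · exact h
    · exfalso
      rw [hd', h, S.v1.2] at hii
      exact hi1ne hii
    · exfalso
      obtain ⟨c', hjj⟩ := hjj
      rw [hd', h, S.u_2 hm] at hjj
      have hjj' : (el z i₁ i₂ p a ![0, 0, 1, 0, 0])⁻¹ = el z i₁ i₂ p a ![c', 0, 1, 0, 0] := by
        rw [n2']; exact hjj
      rw [S.F.el_inv] at hjj'
      have := congrFun (S.F.el_injective hjj') 2
      simp [einv] at this
      exact absurd this (by decide)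
    · exfalso
      rw [hd', h, Subgroup.coe_mul, show (t : G) * (u : G) * i₁ * ((t : G) * u)⁻¹ =
        (t : G) * ((u : G) * i₁ * (u : G)⁻¹) * (t : G)⁻¹ by group, (S.uV _ S.v1).eq, mul_inv_cancel_right,
        S.v1.2] at hii
      exact hi1ne hii
  rw [he, OneMemClass.coe_one] at hd'
  -- signs
  have htfix : ∀ {g : G}, Commute (t : G) g → (t : G) * g * (t : G)⁻¹ = g := fun h => by
    rw [h.eq, mul_inv_cancel_right]
  have hti2 := htfix S.t2
  have htz := htfix (show Commute (t : G) z from L.mem_cz.1 t.2)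
  have htJ : (t : G) ∈ Subgroup.normalizer (J : Set G) := by
    have key : ∀ g ∈ J, (t : G) * g * (t : G)⁻¹ ∈ J := by
      intro g hg
      induction hg using Subgroup.closure_induction with
      | mem y hy =>
        simp only [Set.mem_insert_iff, Set.mem_singleton_iff] at hy
        rcases hy with rfl | rfl | rfl | rfl
        · rw [htz]; exact Subgroup.subset_closure (by simp)
        · rw [S.v1.2]; exact inv_mem (Subgroup.subset_closure (by simp))
        · rw [hti2]; exact Subgroup.subset_closure (by simp)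
        · rw [htfix S.st]; exact Subgroup.subset_closure (by simp)
      | one => simp
      | mul y w _ _ hy hw => convert mul_mem hy hw using 1; group
      | inv y _ hy => convert inv_mem hy using 1; group
    rw [Subgroup.mem_normalizer_iff]
    intro g
    refine ⟨key g, fun hg => ?_⟩
    have h := key _ hg
    rwa [show (t : G) * ((t : G) * g * (t : G)⁻¹) * (t : G)⁻¹ = ((t : G) * t) * g * ((t : G) * t)⁻¹ by group,
      show (t : G) * t = 1 from congrArg Subtype.val H.ht2, _root_.inv_one, mul_one, one_mul] at h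
  obtain ⟨n4, h4J, h4n, h4z, h4t, h4u, h41⟩ : ∃ n4, n4 ∈ Subgroup.normalizer (J : Set G) ∧ n4 * n4 = 1 ∧
      n4 * z * n4⁻¹ = z⁻¹ ∧ Commute (t : G) n4 ∧ Commute (u : G) n4 ∧ n4 * i₁ * n4⁻¹ = i₁⁻¹ := by
    rcases hα with rfl | rfl
    · refine ⟨(t : G) * n, mul_mem htJ hnJ, ?_, ?_, (Commute.refl _).mul_right hnt,
        S.ut.symm.mul_right hnu, ?_⟩
      · rw [hnt.symm.mul_mul_mul_comm, hd', mul_one]
        exact congrArg Subtype.val H.ht2
      · rw [show (t : G) * n * z * ((t : G) * n)⁻¹ = (t : G) * (n * z * n⁻¹) * (t : G)⁻¹ by group, hnz,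
          ← conj_inv, htz]
      · rw [show (t : G) * n * i₁ * ((t : G) * n)⁻¹ = (t : G) * (n * i₁ * n⁻¹) * (t : G)⁻¹ by group, h1, n1']
        exact S.v1.2
    · refine ⟨n, hnJ, hd', hnz, hnt, hnu, h1.trans ?_⟩
      conv_rhs => rw [← n1', S.F.el_inv]
      exact congrArg _ (by apply ext5 <;> simp [einv])
  obtain ⟨n5, h5J, h5n, h5z, h5t, h5u, h51, c5, h52⟩ : ∃ n5, n5 ∈ Subgroup.normalizer (J : Set G) ∧
      n5 * n5 = 1 ∧ n5 * z * n5⁻¹ = z⁻¹ ∧ Commute (t : G) n5 ∧ Commute (u : G) n5 ∧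
      n5 * i₁ * n5⁻¹ = i₁⁻¹ ∧ ∃ c, n5 * i₂ * n5⁻¹ = el z i₁ i₂ p a ![c, 0, -1, 0, 0] := by
    obtain ⟨α4, β4, c4, -, hβ4, -, h42⟩ := himg n4 h4J h4z h4t
    rcases hβ4 with rfl | rfl
    swap
    · exact ⟨n4, h4J, h4n, h4z, h4t, h4u, h41, c4, h42⟩
    rcases L.hm with hm | hm
    · -- a single half cannot be fixed
      exfalso
      obtain ⟨α₀, β₀, hα₀, hβ₀, hconj⟩ := S.seed hs
      obtain ⟨g, hg⟩ := isConj_iff.1 (hconj (-(c4 * β₀)))
      set Y := el z i₁ i₂ p a ![-(c4 * β₀), α₀, β₀, 0, 0] with hY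
      obtain ⟨g1, hg1, hg1e⟩ := S.burnside hs (g := g)
        (by rw [hg]; exact (S.mem_J hs).2 ⟨![-(c4 * β₀), α₀, β₀, 0], by simp [hY]⟩)
      rw [hg] at hg1e
      set η := n4 * (t : G) with hη
      have hηn : η * η = 1 := by
        rw [hη, h4t.mul_mul_mul_comm, h4n, one_mul]
        exact congrArg Subtype.val H.ht2
      have hηz : η * z * η⁻¹ = z⁻¹ := by
        rw [hη, show n4 * (t : G) * z * (n4 * (t : G))⁻¹ = n4 * ((t : G) * z * (t : G)⁻¹) * n4⁻¹ by group,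
          htz, h4z]
      have hη1 : η * i₁ * η⁻¹ = i₁ := by
        rw [hη, show n4 * (t : G) * i₁ * (n4 * (t : G))⁻¹ = n4 * ((t : G) * i₁ * (t : G)⁻¹) * n4⁻¹ by group,
          S.v1.2, ← conj_inv, h41, inv_inv]
      have hη2 : η * i₂ * η⁻¹ = el z i₁ i₂ p a ![c4, 0, 1, 0, 0] := by
        rw [hη, show n4 * (t : G) * i₂ * (n4 * (t : G))⁻¹ = n4 * ((t : G) * i₂ * (t : G)⁻¹) * n4⁻¹ by group,
          hti2, h42]
      have hηY : η * Y * η⁻¹ = Y := by
        have hY' : Y = z ^ (-(c4 * β₀)).val * i₁ ^ α₀.val * i₂ ^ β₀.val := by simp [hY, el]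
        conv_lhs => rw [hY']
        rw [show η * (z ^ (-(c4 * β₀)).val * i₁ ^ α₀.val * i₂ ^ β₀.val) * η⁻¹ = (η * z * η⁻¹) ^ (-(c4 * β₀)).val *
          (η * i₁ * η⁻¹) ^ α₀.val * (η * i₂ * η⁻¹) ^ β₀.val by simp only [conj_pow]; group, hηz, hη1, hη2,
          ← pow_val_neg S.F.cz, neg_neg, ← Frame.el_z (i₁ := i₁) (i₂ := i₂) (p := p) (a := a),
          show i₁ ^ α₀.val = el z i₁ i₂ p a ![0, 1, 0, 0, 0] ^ α₀.val by rw [n1'],
          S.F.el_pow, S.F.el_pow, S.F.el_mul, S.F.el_mul, hY]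
        refine congrArg _ ?_
        apply ext5 <;> simp [emul, epow]
        exact (by decide : ∀ a b : ZMod 3, a * b + b * a = -(a * b)) c4 β₀
      set η' := g1⁻¹ * η * g1 with hη'
      have hη'n : η' * η' = 1 := by
        rw [hη', show g1⁻¹ * η * g1 * (g1⁻¹ * η * g1) = g1⁻¹ * (η * η) * g1 by group, hηn]; group
      have hη'J : η' ∈ Subgroup.normalizer (J : Set G) := mul_mem (mul_mem (inv_mem hg1) (mul_mem h4J htJ)) hg1
      have hη'z : η' * z * η'⁻¹ = z := by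
        calc η' * z * η'⁻¹ = g1⁻¹ * (η * (g1 * z * g1⁻¹) * η⁻¹) * g1 := by rw [hη']; group
          _ = z := by rw [hg1e, hηY, ← hg1e]; group
      set v := g1⁻¹ * z * g1 with hv
      have hη'v : η' * v * η'⁻¹ = v⁻¹ := by
        calc η' * v * η'⁻¹ = g1⁻¹ * (η * z * η⁻¹) * g1 := by rw [hη', hv]; group
          _ = v⁻¹ := by rw [hηz, hv]; group
      have hvJ : v ∈ J := by
        have h := hconjJ _ (inv_mem hg1) z (Subgroup.subset_closure (by simp))
        rwa [inv_inv] at h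
      have hvc : IsConj z v := isConj_iff.2 ⟨g1⁻¹, by rw [inv_inv]⟩
      set y : Subgroup.centralizer ({z} : Set G) := ⟨η', L.mem_cz.2 (mul_inv_eq_iff_eq_mul.1 hη'z)⟩ with hy
      have hy2 : y * y = 1 := Subtype.ext hη'n
      have hyπ : π y = -1 := by
        rcases s2_two (π y) (by rw [← map_mul, hy2, map_one]) with h | h
        · exfalso
          have hyQ : η' ∈ Q := (L.ker y).1 ⟨h, L.eps_one hm y⟩
          have h3 := L.exp η' hyQ
          rw [pow_succ, pow_two, hη'n, one_mul] at h3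
          rw [h3, _root_.inv_one, mul_one, one_mul] at hη'v
          have hv3 := S.J_cube hs hvJ
          rw [pow_succ, pow_two, mul_eq_one_iff_eq_inv.2 hη'v, one_mul] at hv3
          refine L.z_ne ?_
          calc z = g1 * v * g1⁻¹ := by rw [hv]; group
            _ = 1 := by rw [hv3]; group
        · exact h
      obtain ⟨q', hq', hyd⟩ := L.eq_of_images H (c := t) (d := y) (H.ht.trans hyπ.symm)
        (by rw [H.ht', L.eps_one hm y])
      have hyd' : η' = (t : G) * q' := hyd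
      obtain ⟨w, hw⟩ := (S.mem_J hs).1 hvJ
      have hw3 : w 3 = 0 := by
        have hvC : v ∈ Subgroup.centralizer ({z} : Set G) := S.J_le hs hvJ
        have hyv : y * ⟨v, hvC⟩ * y⁻¹ = (⟨v, hvC⟩ : Subgroup.centralizer ({z} : Set G))⁻¹ :=
          Subtype.ext hη'v
        have hvπ : π ⟨v, hvC⟩ = π s ^ (w 3).val := by
          have e1 : (⟨v, hvC⟩ : Subgroup.centralizer ({z} : Set G)) =
              ⟨el z i₁ i₂ p a ![w 0, w 1, w 2, 0, 0], L.le (S.mem _)⟩ * s ^ (w 3).val :=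
            Subtype.ext (by simp [hw])
          rw [e1, map_mul, map_pow,
            ((L.ker ⟨el z i₁ i₂ p a ![w 0, w 1, w 2, 0, 0], L.le (S.mem _)⟩).2 (S.mem _)).1, one_mul]
        have h := congrArg π hyv
        rw [map_mul, map_mul, map_inv, map_inv, hyπ, hvπ,
          (show ∀ g : S2, -1 * g * (-1)⁻¹ = g by decide +kernel)] at h
        have hs3 : π s ^ 3 = 1 := by rw [← map_pow, show s ^ 3 = 1 from Subtype.ext hs, map_one]
        rw [← inv_pow, ← pow_val_neg hs3] at h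
        exact hneg _ (S.pi_pow_inj hs h)
      rw [hw3, ZMod.val_zero, pow_zero, mul_one] at hw
      obtain ⟨f, hf⟩ := S.surj hq'
      rw [hyd', ← hf, hw, show (t : G) * el z i₁ i₂ p a f * el z i₁ i₂ p a ![w 0, w 1, w 2, 0, 0] *
        ((t : G) * el z i₁ i₂ p a f)⁻¹ = (t : G) * (el z i₁ i₂ p a f * el z i₁ i₂ p a ![w 0, w 1, w 2, 0, 0] *
          (el z i₁ i₂ p a f)⁻¹) * (t : G)⁻¹ by group, S.F.el_conj, L.conj_t H S.F S.v1 S.vp S.t2 S.ta,
        S.F.el_inv, S.F.el_injective.eq_iff] at hη'v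
      have h2' := congrFun hη'v 2
      simp [ft, econj, einv] at h2'
      have hw2 := hneg _ h2'
      have hvz : v ∈ Subgroup.zpowers z := by
        by_contra hvz
        obtain ⟨g', hg'⟩ := isConj_iff.1 hvc
        obtain ⟨fe, hfe, -, hfe2, -⟩ := S.shape hs (g := g') (by rw [hg', hw]; exact S.mem _)
          (by rw [hg']; exact hvz)
        rw [hg', hw] at hfe
        exact hfe2 (by rw [← S.F.el_injective hfe]; simpa using hw2)
      obtain ⟨j, hj⟩ := Subgroup.mem_zpowers_iff.1 hvz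
      have hfix : η' * v * η'⁻¹ = v := by rw [← hj, ← conj_zpow, hη'z]
      have hvi : v⁻¹ = v := by
        calc v⁻¹ = η' * v * η'⁻¹ := by
              rw [hη', hv, show g1⁻¹ * η * g1 * (g1⁻¹ * z * g1) * (g1⁻¹ * η * g1)⁻¹ =
                g1⁻¹ * (η * z * η⁻¹) * g1 by group, hηz]
              group
          _ = v := hfix
      have hv3 := S.J_cube hs hvJ
      rw [pow_succ, pow_two, mul_eq_one_iff_eq_inv.2 hvi.symm, one_mul] at hv3
      refine L.z_ne ?_
      calc z = g1 * v * g1⁻¹ := by rw [hv]; group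
        _ = 1 := by rw [hv3]; group
    · -- multiply by `u`
      have huJ : (u : G) ∈ Subgroup.normalizer (J : Set G) := by
        have key : ∀ g ∈ J, (u : G) * g * (u : G)⁻¹ ∈ J := by
          intro g hg
          induction hg using Subgroup.closure_induction with
          | mem y hy =>
            simp only [Set.mem_insert_iff, Set.mem_singleton_iff] at hy
            rcases hy with rfl | rfl | rfl | rfl
            · rw [(show Commute (u : G) y from L.mem_cz.1 u.2).eq, mul_inv_cancel_right]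
              exact Subgroup.subset_closure (by simp)
            · rw [(S.uV _ S.v1).eq, mul_inv_cancel_right]; exact Subgroup.subset_closure (by simp)
            · rw [S.u_2 hm]; exact inv_mem (Subgroup.subset_closure (by simp))
            · rw [S.us.eq, mul_inv_cancel_right]; exact Subgroup.subset_closure (by simp)
          | one => simp
          | mul y w _ _ hy hw => convert mul_mem hy hw using 1; group
          | inv y _ hy => convert inv_mem hy using 1; group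
        rw [Subgroup.mem_normalizer_iff]
        intro g
        refine ⟨key g, fun hg => ?_⟩
        have h := key _ hg
        rwa [show (u : G) * ((u : G) * g * (u : G)⁻¹) * (u : G)⁻¹ = ((u : G) * u) * g * ((u : G) * u)⁻¹ by group,
          show (u : G) * u = 1 from congrArg Subtype.val S.u_sq, _root_.inv_one, mul_one, one_mul] at h
      refine ⟨n4 * (u : G), mul_mem h4J huJ, ?_, ?_, h4t.mul_right S.ut, h4u.mul_right (Commute.refl _), ?_,
        -c4 - 0, ?_⟩
      · rw [h4u.mul_mul_mul_comm, h4n, one_mul]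
        exact congrArg Subtype.val S.u_sq
      · rw [show n4 * (u : G) * z * (n4 * (u : G))⁻¹ = n4 * ((u : G) * z * (u : G)⁻¹) * n4⁻¹ by group,
          (show Commute (u : G) z from L.mem_cz.1 u.2).eq, mul_inv_cancel_right, h4z]
      · rw [show n4 * (u : G) * i₁ * (n4 * (u : G))⁻¹ = n4 * ((u : G) * i₁ * (u : G)⁻¹) * n4⁻¹ by group,
          (S.uV _ S.v1).eq, mul_inv_cancel_right, h41]
      · rw [show n4 * (u : G) * i₂ * (n4 * (u : G))⁻¹ = n4 * ((u : G) * i₂ * (u : G)⁻¹) * n4⁻¹ by group,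
          S.u_2 hm, ← conj_inv, h42, S.F.el_inv]
        refine congrArg _ ?_
        apply ext5 <;> simp [einv]
  refine ⟨n5, h5J, h5n, h5z, h5t, h5u, h51, ?_⟩
  have hc5 : c5 = 0 := by
    have h : n5 * (n5 * i₂ * n5⁻¹) * n5⁻¹ = i₂ := by
      rw [show n5 * (n5 * i₂ * n5⁻¹) * n5⁻¹ = (n5 * n5) * i₂ * (n5 * n5)⁻¹ by group, h5n]; simp
    rw [h52, show el z i₁ i₂ p a ![c5, 0, -1, 0, 0] = z ^ c5.val * i₂ ^ (-1 : ZMod 3).val by simp [el],
      show n5 * (z ^ c5.val * i₂ ^ (-1 : ZMod 3).val) * n5⁻¹ =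
        (n5 * z * n5⁻¹) ^ c5.val * (n5 * i₂ * n5⁻¹) ^ (-1 : ZMod 3).val by simp only [conj_pow]; group,
      h5z, h52, ← pow_val_neg S.F.cz, ← Frame.el_z (i₁ := i₁) (i₂ := i₂) (p := p) (a := a), S.F.el_pow,
      S.F.el_mul] at h
    have := congrFun (S.F.el_injective (h.trans n2'.symm)) 0
    simp [emul, epow] at this
    exact (by decide : ∀ x : ZMod 3, -x + -x = 0 → x = 0) c5 this
  rw [h52, hc5, ← n2', S.F.el_inv]
  simp only [n2']
  refine congrArg _ ?_
  apply ext5 <;> simp [einv]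

end Pre

end CfsgLib.OEightLocal
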