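import Cfsg.Agent.Lib.OEightLocal.Basic
import Cfsg.Agent.Lib.IsolatedMin.Basic
import Cfsg.Agent.S2807

/-!
The normal subgroup of index three in the triality extension: the element `a` is outside the focal
subgroup, by Yoshida's transfer theorem.
-/

set_option autoImplicit false
set_option linter.unusedSectionVars false

open scoped commutatorElement

namespace CfsgLib.OEightLocal

variable {G : Type*} [Group G]

/-- `J⟨p⟩`. -/
def Loc.X (L : Loc G) : Subgroup G := Subgroup.closure {L.z, L.i₁, L.i₂, L.y, L.p}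

namespace Loc

variable (L : Loc G)

theorem z_mem_X : L.z ∈ L.X := Subgroup.subset_closure (by simp)
theorem i₁_mem_X : L.i₁ ∈ L.X := Subgroup.subset_closure (by simp)
theorem i₂_mem_X : L.i₂ ∈ L.X := Subgroup.subset_closure (by simp)
theorem y_mem_X : L.y ∈ L.X := Subgroup.subset_closure (by simp)
theorem p_mem_X : L.p ∈ L.X := Subgroup.subset_closure (by simp)

theorem X_le_S : L.X ≤ L.S :=
  Subgroup.closure_mono (by
    intro g hg
    simp only [Set.mem_insert_iff, Set.mem_singleton_iff] at hg ⊢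
    tauto)

theorem J_le_X : L.J ≤ L.X :=
  Subgroup.closure_mono (by
    intro g hg
    simp only [Set.mem_insert_iff, Set.mem_singleton_iff] at hg ⊢
    tauto)

theorem a_mem_S : L.a ∈ L.S := Subgroup.subset_closure (by simp)

theorem conj_p_i₁ : L.p * L.i₁ * L.p⁻¹ = L.z * L.i₁ := by
  calc L.p * L.i₁ * L.p⁻¹ = (L.p * L.i₁ * L.p⁻¹ * L.i₁⁻¹) * L.i₁ := by group
    _ = _ := by rw [L.rel_p]

theorem conj_p_y : L.p * L.y * L.p⁻¹ = L.i₁⁻¹ * L.z * L.y := by
  have hz : L.z⁻¹ * L.z⁻¹ = L.z := by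
    rw [← mul_inv_rev, inv_eq_iff_mul_eq_one, ← pow_two, ← pow_succ, L.cube_z]
  have h : L.y = L.z * L.i₁ * L.z * (L.p * L.y * L.p⁻¹) := by
    have h0 : L.y * L.p = L.p * L.i₁ * L.z * L.y := by
      rw [← L.rel_yp, inv_mul_cancel_right]
    calc L.y = L.y * L.p * L.p⁻¹ := by group
      _ = L.p * L.i₁ * L.z * L.y * L.p⁻¹ := by rw [h0]
      _ = (L.p * L.i₁ * L.p⁻¹) * (L.p * L.z * L.p⁻¹) * (L.p * L.y * L.p⁻¹) := by group
      _ = _ := by rw [L.conj_p_i₁, L.comm_zp.symm.eq, mul_inv_cancel_right]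
  have h' : L.p * L.y * L.p⁻¹ = (L.z * L.i₁ * L.z)⁻¹ * L.y := eq_inv_mul_of_mul_eq h.symm
  rw [h', mul_inv_rev, mul_inv_rev]
  have c : Commute L.z⁻¹ L.i₁⁻¹ := L.comm_zi₁.inv_inv
  rw [← mul_assoc L.z⁻¹, c.eq, mul_assoc (L.i₁⁻¹), hz]

theorem conj_a_i₂ : L.a⁻¹ * L.i₂ * L.a = L.z * L.i₂ := by
  have h0 : L.i₂ * L.a = L.z * L.a * L.i₂ := by
    rw [← L.rel_a]; group
  rw [mul_assoc, h0, L.comm_za.eq, ← mul_assoc, ← mul_assoc, inv_mul_cancel, one_mul]

theorem conj_a_y : L.a⁻¹ * L.y * L.a = L.i₂ * L.z⁻¹ * L.y := by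
  have h0 : L.y * L.a = L.a * L.i₂ * L.z⁻¹ * L.y := by
    rw [← L.rel_ya, inv_mul_cancel_right]
  rw [mul_assoc, h0]; group

theorem J_comm' {g h : G} (hg : g ∈ L.J) (hh : h ∈ L.J) : g * h = h * g := by
  have hm : IsMulCommutative L.J := Subgroup.isMulCommutative_closure (by
    simp only [Set.mem_insert_iff, Set.mem_singleton_iff]
    rintro u (rfl | rfl | rfl | rfl) v (rfl | rfl | rfl | rfl) <;>
      first
        | rfl
        | exact L.comm_zi₁.eq | exact L.comm_zi₁.eq.symm | exact L.comm_zi₂.eq | exact L.comm_zi₂.eq.symm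
        | exact L.comm_zy.eq | exact L.comm_zy.eq.symm | exact L.comm_i₁i₂.eq | exact L.comm_i₁i₂.eq.symm
        | exact L.comm_yi₁.eq | exact L.comm_yi₁.eq.symm | exact L.comm_yi₂.eq | exact L.comm_yi₂.eq.symm)
  exact congrArg Subtype.val (hm.is_comm.comm ⟨g, hg⟩ ⟨h, hh⟩)

theorem J_rep {g : G} (hg : g ∈ L.J) :
    ∃ α β γ δ : ℤ, g = L.z ^ α * L.i₁ ^ β * (L.i₂ ^ γ * L.y ^ δ) := by
  induction hg using Subgroup.closure_induction with
  | mem u hu =>
    simp only [Set.mem_insert_iff, Set.mem_singleton_iff] at hu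
    rcases hu with rfl | rfl | rfl | rfl
    · exact ⟨1, 0, 0, 0, by simp⟩
    · exact ⟨0, 1, 0, 0, by simp⟩
    · exact ⟨0, 0, 1, 0, by simp⟩
    · exact ⟨0, 0, 0, 1, by simp⟩
  | one => exact ⟨0, 0, 0, 0, by simp⟩
  | mul u v _ _ hu hv =>
    obtain ⟨α, β, γ, δ, rfl⟩ := hu
    obtain ⟨α', β', γ', δ', rfl⟩ := hv
    refine ⟨α + α', β + β', γ + γ', δ + δ', ?_⟩
    have c1 : Commute (L.i₁ ^ β) (L.z ^ α') := L.comm_zi₁.symm.zpow_zpow _ _
    have c2 : Commute (L.y ^ δ) (L.i₂ ^ γ') := L.comm_yi₂.zpow_zpow _ _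
    have c3 : Commute (L.i₂ ^ γ * L.y ^ δ) (L.z ^ α' * L.i₁ ^ β') :=
      ((L.comm_zi₂.symm.zpow_zpow γ α').mul_left (L.comm_zy.symm.zpow_zpow δ α')).mul_right
        ((L.comm_i₁i₂.symm.zpow_zpow γ β').mul_left (L.comm_yi₁.zpow_zpow δ β'))
    rw [Commute.mul_mul_mul_comm c3, Commute.mul_mul_mul_comm c1, Commute.mul_mul_mul_comm c2,
      ← zpow_add, ← zpow_add, ← zpow_add, ← zpow_add]
  | inv u _ hu =>
    obtain ⟨α, β, γ, δ, rfl⟩ := hu
    refine ⟨-α, -β, -γ, -δ, ?_⟩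
    have c3 : Commute (L.i₂ ^ γ * L.y ^ δ) (L.z ^ α * L.i₁ ^ β) :=
      ((L.comm_zi₂.symm.zpow_zpow γ α).mul_left (L.comm_zy.symm.zpow_zpow δ α)).mul_right
        ((L.comm_i₁i₂.symm.zpow_zpow γ β).mul_left (L.comm_yi₁.zpow_zpow δ β))
    rw [← c3.eq, mul_inv_rev, mul_inv_rev, mul_inv_rev, ((L.comm_zi₁.symm.zpow_zpow β α).inv_inv).eq,
      ((L.comm_yi₂.zpow_zpow δ γ).inv_inv).eq]
    simp only [zpow_neg]

theorem zpow_cases {g : G} (hg : g ^ 3 = 1) (n : ℤ) : g ^ n = 1 ∨ g ^ n = g ∨ g ^ n = g⁻¹ := by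
  have h : g ^ n = g ^ (n % 3) := by
    conv_lhs => rw [← Int.emod_add_mul_ediv n 3]
    rw [zpow_add, zpow_mul, show (3 : ℤ) = ((3 : ℕ) : ℤ) from rfl, zpow_natCast, hg, one_zpow, mul_one]
  rcases (by omega : n % 3 = 0 ∨ n % 3 = 1 ∨ n % 3 = 2) with e | e | e <;> rw [h, e]
  · exact Or.inl (zpow_zero g)
  · exact Or.inr (Or.inl (zpow_one g))
  · refine Or.inr (Or.inr (eq_inv_of_mul_eq_one_left ?_))
    rw [← zpow_add_one, show ((2 : ℤ) + 1) = ((3 : ℕ) : ℤ) from rfl, zpow_natCast, hg]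

theorem i₁_notMem_z : L.i₁ ∉ Subgroup.zpowers L.z := by
  rintro ⟨k, hk⟩
  have h : Commute L.p L.i₁ := by rw [← hk]; exact L.comm_zp.symm.zpow_right k
  have := L.rel_p
  rw [h.eq, mul_inv_cancel_right, mul_inv_cancel] at this
  exact L.z_ne this.symm

theorem p_notMem_J : L.p ∉ L.J := fun h => by
  have := L.rel_p
  rw [L.J_comm' h (Subgroup.subset_closure (by simp)), mul_inv_cancel_right, mul_inv_cancel] at this
  exact L.z_ne this.symm

/-- The centre of `S`. -/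
theorem mem_zpowers_of_central {c : G} (h : ∀ g ∈ L.S, g * c = c * g) : c ∈ Subgroup.zpowers L.z := by
  have hcJ : c ∈ L.J := L.cent_J.le (Subgroup.mem_centralizer_iff.mpr fun j hj =>
    h j (L.X_le_S (L.J_le_X hj)))
  obtain ⟨α, β, γ, δ, rfl⟩ := L.J_rep hcJ
  have hfix : ∀ g ∈ L.S, g * (L.z ^ α * L.i₁ ^ β * (L.i₂ ^ γ * L.y ^ δ)) * g⁻¹ =
      L.z ^ α * L.i₁ ^ β * (L.i₂ ^ γ * L.y ^ δ) := fun g hg => by
    rw [h g hg, mul_inv_cancel_right]
  have hp := hfix L.p (L.X_le_S L.p_mem_X)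
  simp only [← MulAut.conj_apply, map_mul, map_zpow] at hp
  simp only [MulAut.conj_apply, L.conj_p_i₁, L.conj_p_y, L.comm_zp.symm.eq, L.comm_pi₂.eq,
    mul_inv_cancel_right] at hp
  rw [L.comm_zi₁.mul_zpow, Commute.mul_zpow ((L.comm_yi₁.symm.inv_left).mul_left L.comm_zy),
    (L.comm_zi₁.symm.inv_left).mul_zpow] at hp
  have hd : L.z ^ β * (L.i₁⁻¹ ^ δ * L.z ^ δ) = 1 := by
    have c1 : Commute (L.i₁⁻¹ ^ δ * L.z ^ δ) (L.i₂ ^ γ) :=
      ((L.comm_i₁i₂.inv_left).zpow_zpow δ γ).mul_left (L.comm_zi₂.zpow_zpow δ γ)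
    have c2 : Commute (L.i₁⁻¹ ^ δ * L.z ^ δ) (L.z ^ α * L.i₁ ^ β) :=
      ((L.comm_zi₁.symm.inv_left.zpow_zpow δ α).mul_left ((Commute.refl L.z).zpow_zpow δ α)).mul_right
        (((Commute.refl L.i₁).inv_left.zpow_zpow δ β).mul_left (L.comm_zi₁.zpow_zpow δ β))
    have e : L.z ^ α * (L.z ^ β * L.i₁ ^ β) * (L.i₂ ^ γ * (L.i₁⁻¹ ^ δ * L.z ^ δ * L.y ^ δ)) =
        L.z ^ β * (L.i₁⁻¹ ^ δ * L.z ^ δ) * (L.z ^ α * L.i₁ ^ β * (L.i₂ ^ γ * L.y ^ δ)) := by
      calc L.z ^ α * (L.z ^ β * L.i₁ ^ β) * (L.i₂ ^ γ * (L.i₁⁻¹ ^ δ * L.z ^ δ * L.y ^ δ))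
          = (L.z ^ α * L.z ^ β) * L.i₁ ^ β * ((L.i₂ ^ γ * (L.i₁⁻¹ ^ δ * L.z ^ δ)) * L.y ^ δ) := by
            simp only [mul_assoc]
        _ = (L.z ^ β * L.z ^ α) * L.i₁ ^ β * (((L.i₁⁻¹ ^ δ * L.z ^ δ) * L.i₂ ^ γ) * L.y ^ δ) := by
            rw [c1.eq, ((Commute.refl L.z).zpow_zpow α β).eq]
        _ = L.z ^ β * ((L.z ^ α * L.i₁ ^ β) * (L.i₁⁻¹ ^ δ * L.z ^ δ)) * (L.i₂ ^ γ * L.y ^ δ) := by
            simp only [mul_assoc]
        _ = _ := by rw [← c2.eq]; simp only [mul_assoc]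
    rw [e] at hp
    exact mul_eq_right.mp hp
  have hδ : L.y ^ δ = 1 ∧ L.i₁⁻¹ ^ δ * L.z ^ δ = 1 := by
    have hz : L.i₁ ^ δ ∈ Subgroup.zpowers L.z := by
      have e : L.i₁⁻¹ ^ δ = (L.z ^ β)⁻¹ * (L.z ^ δ)⁻¹ := by
        rw [eq_mul_inv_iff_mul_eq, eq_inv_iff_mul_eq_one]
        exact mul_eq_one_comm.mp hd
      rw [inv_zpow, inv_eq_iff_eq_inv] at e
      rw [e]
      exact inv_mem (mul_mem (inv_mem (Subgroup.zpow_mem _ (Subgroup.mem_zpowers _) _))
        (inv_mem (Subgroup.zpow_mem _ (Subgroup.mem_zpowers _) _)))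
    have h3 : (3 : ℤ) ∣ δ := by
      by_contra hnd
      rcases zpow_cases L.cube_i₁ δ with e | e | e
      · have ho : orderOf L.i₁ = 3 := by
          haveI : Fact (Nat.Prime 3) := ⟨Nat.prime_three⟩
          exact orderOf_eq_prime L.cube_i₁ fun h => L.i₁_notMem_z (by rw [h]; exact one_mem _)
        exact hnd (by have := orderOf_dvd_iff_zpow_eq_one.mpr e; rw [ho] at this; exact_mod_cast this)
      · exact L.i₁_notMem_z (e ▸ hz)
      · exact L.i₁_notMem_z (inv_mem_iff.mp (e ▸ hz))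
    obtain ⟨d, rfl⟩ := h3
    have hc : ∀ g : G, g ^ 3 = 1 → g ^ (3 * d) = 1 := fun g hg => by
      rw [zpow_mul, show (3 : ℤ) = ((3 : ℕ) : ℤ) from rfl, zpow_natCast, hg, one_zpow]
    exact ⟨hc _ L.cube_y, by rw [hc _ (by rw [inv_pow, L.cube_i₁, inv_one]), hc _ L.cube_z, one_mul]⟩
  have hβ : L.i₁ ^ β = 1 := by
    rw [hδ.2, mul_one] at hd
    have ho : orderOf L.z = 3 := by
      haveI : Fact (Nat.Prime 3) := ⟨Nat.prime_three⟩
      exact orderOf_eq_prime L.cube_z L.z_ne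
    obtain ⟨d, rfl⟩ : (3 : ℤ) ∣ β := by
      have := orderOf_dvd_iff_zpow_eq_one.mpr hd
      rw [ho] at this
      exact_mod_cast this
    rw [zpow_mul, show (3 : ℤ) = ((3 : ℕ) : ℤ) from rfl, zpow_natCast, L.cube_i₁, one_zpow]
  have ha := hfix L.a⁻¹ (inv_mem L.a_mem_S)
  rw [hβ, hδ.1, mul_one, mul_one] at ha ⊢
  simp only [← MulAut.conj_apply, map_mul, map_zpow] at ha
  simp only [MulAut.conj_apply, inv_inv, L.conj_a_i₂] at ha
  rw [show L.a⁻¹ * L.z * L.a = L.z by rw [mul_assoc, L.comm_za.eq, inv_mul_cancel_left],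
    L.comm_zi₂.mul_zpow] at ha
  have hγ : L.i₂ ^ γ = 1 := by
    have hzγ : L.z ^ γ = 1 := mul_eq_right.mp (mul_left_cancel ha)
    have ho : orderOf L.z = 3 := by
      haveI : Fact (Nat.Prime 3) := ⟨Nat.prime_three⟩
      exact orderOf_eq_prime L.cube_z L.z_ne
    obtain ⟨d, rfl⟩ : (3 : ℤ) ∣ γ := by
      have := orderOf_dvd_iff_zpow_eq_one.mpr hzγ
      rw [ho] at this
      exact_mod_cast this
    rw [zpow_mul, show (3 : ℤ) = ((3 : ℕ) : ℤ) from rfl, zpow_natCast, L.cube_i₂, one_zpow]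
  rw [hγ, mul_one]
  exact Subgroup.zpow_mem _ (Subgroup.mem_zpowers _) _

section Finite

variable [Finite G]

theorem mem_normalizer_of_conj {H : Subgroup G} {g : G} {s : Set G} (hH : H = Subgroup.closure s)
    (h : ∀ x ∈ s, g * x * g⁻¹ ∈ H) : g ∈ Subgroup.normalizer (H : Set G) := by
  rw [Subgroup.mem_normalizer_iff_map_conj_eq]
  refine Subgroup.eq_of_le_of_card_ge ?_ (le_of_eq (Nat.card_congr
    (Subgroup.equivMapOfInjective _ _ (MulAut.conj g).injective).toEquiv))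
  conv_lhs => rw [hH]
  rw [MonoidHom.map_closure, Subgroup.closure_le]
  rintro _ ⟨x, hx, rfl⟩
  exact h x hx

theorem normalizer_X : Subgroup.closure ({L.z, L.i₁, L.i₂, L.y, L.p, L.a, L.t, L.ν} : Set G) ≤
    Subgroup.normalizer (L.X : Set G) := by
  have hz := L.z_mem_X
  have h1 := L.i₁_mem_X
  have h2 := L.i₂_mem_X
  have hy := L.y_mem_X
  have hp := L.p_mem_X
  have ha : L.a⁻¹ ∈ Subgroup.normalizer (L.X : Set G) := by
    refine mem_normalizer_of_conj rfl ?_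
    simp only [Set.mem_insert_iff, Set.mem_singleton_iff, inv_inv]
    rintro x (rfl | rfl | rfl | rfl | rfl)
    · rw [mul_assoc, L.comm_za.eq, inv_mul_cancel_left]; exact hz
    · rw [mul_assoc, ← L.comm_ai₁.eq, inv_mul_cancel_left]; exact h1
    · rw [L.conj_a_i₂]; exact mul_mem hz h2
    · rw [L.conj_a_y]; exact mul_mem (mul_mem h2 (inv_mem hz)) hy
    · rw [mul_assoc, L.comm_pa.eq, inv_mul_cancel_left]; exact hp
  have ht : L.t ∈ Subgroup.normalizer (L.X : Set G) := by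
    refine mem_normalizer_of_conj rfl ?_
    simp only [Set.mem_insert_iff, Set.mem_singleton_iff]
    rintro x (rfl | rfl | rfl | rfl | rfl)
    · rw [(L.O_comm _ L.t_mem).1.eq, mul_inv_cancel_right]; exact hz
    · rw [L.t_i₁]; exact inv_mem h1
    · rw [(L.O_comm _ L.t_mem).2.2.eq, mul_inv_cancel_right]; exact h2
    · rw [L.comm_ty.eq, mul_inv_cancel_right]; exact hy
    · rw [L.t_p]; exact inv_mem hp
  have hν : L.ν ∈ Subgroup.normalizer (L.X : Set G) := by
    refine mem_normalizer_of_conj rfl ?_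
    simp only [Set.mem_insert_iff, Set.mem_singleton_iff]
    rintro x (rfl | rfl | rfl | rfl | rfl)
    · rw [L.ν_z]; exact inv_mem hz
    · rw [L.ν_i₁]; exact inv_mem h1
    · rw [L.ν_i₂]; exact inv_mem h2
    · rw [L.ν_y]; exact inv_mem hy
    · rw [L.comm_νp.eq, mul_inv_cancel_right]; exact hp
  rw [Subgroup.closure_le]
  simp only [Set.insert_subset_iff, Set.singleton_subset_iff, SetLike.mem_coe]
  exact ⟨Subgroup.le_normalizer hz, Subgroup.le_normalizer h1, Subgroup.le_normalizer h2,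
    Subgroup.le_normalizer hy, Subgroup.le_normalizer hp, by simpa using inv_mem ha, ht, hν⟩

theorem card_X : Nat.card L.X = 243 := by
  haveI : Fact (Nat.Prime 3) := ⟨Nat.prime_three⟩
  have hp3 : orderOf L.p = 3 :=
    orderOf_eq_prime L.cube_p fun h => L.p_notMem_J (by rw [h]; exact one_mem _)
  have hJ : Nat.card L.J = 81 := L.card_J
  have hle : Nat.card L.X ≤ 243 := by
    have hpN : Subgroup.zpowers L.p ≤ Subgroup.normalizer (L.J : Set G) := by
      rw [Subgroup.zpowers_le]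
      refine mem_normalizer_of_conj rfl ?_
      have m : ∀ x ∈ ({L.z, L.i₁, L.i₂, L.y} : Set G), x ∈ L.J := fun x hx => Subgroup.subset_closure hx
      simp only [Set.mem_insert_iff, Set.mem_singleton_iff]
      rintro x (rfl | rfl | rfl | rfl)
      · rw [← L.comm_zp.eq, mul_inv_cancel_right]; exact m _ (by simp)
      · rw [L.conj_p_i₁]; exact mul_mem (m _ (by simp)) (m _ (by simp))
      · rw [L.comm_pi₂.eq, mul_inv_cancel_right]; exact m _ (by simp)
      · rw [L.conj_p_y]; exact mul_mem (mul_mem (inv_mem (m _ (by simp))) (m _ (by simp))) (m _ (by simp))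
    have hX : L.X ≤ Subgroup.zpowers L.p ⊔ L.J := by
      refine (Subgroup.closure_le _).mpr ?_
      have m : ∀ x ∈ ({L.z, L.i₁, L.i₂, L.y} : Set G), x ∈ Subgroup.zpowers L.p ⊔ L.J :=
        fun x hx => Subgroup.mem_sup_right (Subgroup.subset_closure hx)
      simp only [Set.insert_subset_iff, Set.singleton_subset_iff, SetLike.mem_coe]
      exact ⟨m _ (by simp), m _ (by simp), m _ (by simp), m _ (by simp),
        Subgroup.mem_sup_left (Subgroup.mem_zpowers _)⟩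
    refine (Subgroup.card_le_of_le hX).trans ?_
    show Nat.card ((Subgroup.zpowers L.p ⊔ L.J : Subgroup G) : Set G) ≤ 243
    rw [Subgroup.coe_mul_of_left_le_normalizer_right _ _ hpN]
    refine Set.natCard_mul_le.trans ?_
    show Nat.card (Subgroup.zpowers L.p) * Nat.card L.J ≤ 243
    rw [Nat.card_zpowers, hp3, hJ]
  have hd : Nat.card L.X ∣ 3 ^ 6 := by
    have h := Subgroup.card_dvd_of_le L.X_le_S
    rwa [show Nat.card L.S = 729 from L.card_S] at h
  have h81 : 81 < Nat.card L.X := by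
    have h := Subgroup.card_le_of_le L.J_le_X
    rw [hJ] at h
    rcases h.lt_or_eq with h | h
    · exact h
    · exfalso
      have e := Subgroup.eq_of_le_of_card_ge L.J_le_X (by rw [hJ, ← h])
      exact L.p_notMem_J (e ▸ L.p_mem_X)
  obtain ⟨k, hk, e⟩ := (Nat.dvd_prime_pow Nat.prime_three).mp hd
  rw [e] at hle h81 ⊢
  interval_cases k <;> simp_all

theorem a_notMem_X : L.a ∉ L.X := fun ha => by
  have hle : L.S ≤ L.X := (Subgroup.closure_le _).mpr (by
    simp only [Set.insert_subset_iff, Set.singleton_subset_iff, SetLike.mem_coe]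
    exact ⟨L.z_mem_X, L.i₁_mem_X, L.i₂_mem_X, L.y_mem_X, L.p_mem_X, ha⟩)
  have h := Subgroup.card_le_of_le hle
  rw [show Nat.card L.S = 729 from L.card_S, L.card_X] at h
  norm_num at h

end Finite

end Loc

/-- A three-cycle. -/
def wu : Equiv.Perm (Fin (3 ^ 2)) := Equiv.swap 0 1 * Equiv.swap 1 2

/-- Its permuting element. -/
def wv : Equiv.Perm (Fin (3 ^ 2)) :=
  (Equiv.swap 0 3 * Equiv.swap 3 6) * ((Equiv.swap 1 4 * Equiv.swap 4 7) * (Equiv.swap 2 5 * Equiv.swap 5 8))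

/-- Its first conjugate. -/
def wu₁ : Equiv.Perm (Fin (3 ^ 2)) := wv * wu * wv⁻¹

/-- Its second conjugate. -/
def wu₂ : Equiv.Perm (Fin (3 ^ 2)) := wv * wu₁ * wv⁻¹

theorem wu_facts : wu ^ 3 = 1 ∧ wu₁ ^ 3 = 1 ∧ wu₂ ^ 3 = 1 ∧ wv ^ 3 = 1 ∧ wv ≠ 1 ∧
    wu * wu₁ = wu₁ * wu ∧ wu * wu₂ = wu₂ * wu ∧ wu₁ * wu₂ = wu₂ * wu₁ ∧ wv * wu₂ * wv⁻¹ = wu := by
  decide +kernel

theorem wu_comm : wu * wv * wu⁻¹ * wv⁻¹ * wv * (wu * wv * wu⁻¹ * wv⁻¹)⁻¹ * wv⁻¹ ≠ 1 := by
  decide +kernel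

theorem wu_conj : wv * wu * wv⁻¹ = wu₁ ∧ wv * wu₁ * wv⁻¹ = wu₂ := ⟨rfl, rfl⟩

attribute [local irreducible] wu wv wu₁ wu₂

/-- The Sylow subgroups of degree nine are not of class two. -/
theorem wreath_not_class_two (W : Sylow 3 (Equiv.Perm (Fin (3 ^ 2)))) :
    ∃ u v w : ↥(W : Subgroup (Equiv.Perm (Fin (3 ^ 2)))), ⁅⁅u, v⁆, w⁆ ≠ 1 := by
  haveI : Fact (Nat.Prime 3) := ⟨Nat.prime_three⟩
  obtain ⟨f1, f2, f3, f4, f5, c1, c2, c3, f6⟩ := wu_facts
  set A := Subgroup.closure ({wu, wu₁, wu₂} : Set (Equiv.Perm (Fin (3 ^ 2)))) with hAdef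
  have hu : wu ∈ A := Subgroup.subset_closure (by simp)
  have h1 : wu₁ ∈ A := Subgroup.subset_closure (by simp)
  have h2 : wu₂ ∈ A := Subgroup.subset_closure (by simp)
  have hc : IsMulCommutative A := Subgroup.isMulCommutative_closure (by
    simp only [Set.mem_insert_iff, Set.mem_singleton_iff]
    rintro a (rfl | rfl | rfl) b (rfl | rfl | rfl) <;>
      first | exact c1 | exact c1.symm | exact c2 | exact c2.symm | exact c3 | exact c3.symm | rfl)
  have hA : IsPGroup 3 A := by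
    intro a
    refine ⟨1, Subtype.ext ?_⟩
    obtain ⟨a, ha⟩ := a
    simp only [pow_one, Subgroup.coe_pow, Subgroup.coe_one]
    induction ha using Subgroup.closure_induction with
    | mem x hx =>
      simp only [Set.mem_insert_iff, Set.mem_singleton_iff] at hx
      rcases hx with rfl | rfl | rfl <;> assumption
    | one => simp
    | mul x y hx hy hx3 hy3 =>
      have : Commute x y := congrArg Subtype.val (hc.is_comm.comm ⟨x, hx⟩ ⟨y, hy⟩)
      rw [this.mul_pow, hx3, hy3, one_mul]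
    | inv x _ hx3 => rw [inv_pow, hx3, inv_one]
  have hv : IsPGroup 3 (Subgroup.zpowers wv) := by
    refine IsPGroup.of_card (n := 1) ?_
    rw [Nat.card_zpowers, pow_one]
    exact orderOf_eq_prime f4 f5
  have hvA : wv ∈ Subgroup.normalizer (A : Set (Equiv.Perm (Fin (3 ^ 2)))) := by
    refine Loc.mem_normalizer_of_conj hAdef ?_
    simp only [Set.mem_insert_iff, Set.mem_singleton_iff]
    rintro x (rfl | rfl | rfl)
    · rw [wu_conj.1]; exact h1
    · rw [wu_conj.2]; exact h2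
    · rw [f6]; exact hu
  obtain ⟨W₀, hW₀⟩ := (hv.to_sup_of_normal_right' hA (Subgroup.zpowers_le.mpr hvA)).exists_le_sylow
  have hu' : wu ∈ (W₀ : Subgroup (Equiv.Perm (Fin (3 ^ 2)))) := hW₀ (Subgroup.mem_sup_right hu)
  have hv' : wv ∈ (W₀ : Subgroup (Equiv.Perm (Fin (3 ^ 2)))) :=
    hW₀ (Subgroup.mem_sup_left (Subgroup.mem_zpowers wv))
  let e := Sylow.equiv W₀ W
  refine ⟨e ⟨wu, hu'⟩, e ⟨wv, hv'⟩, e ⟨wv, hv'⟩, ?_⟩
  rw [← map_commutatorElement, ← map_commutatorElement, ne_eq, EmbeddingLike.map_eq_one_iff]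
  intro h
  refine wu_comm ?_
  have h' := congrArg Subtype.val h
  simpa [commutatorElement_def, mul_assoc] using h'

namespace Loc

variable [Finite G] (L : Loc G)

theorem not_surjective (W : Sylow 3 (Equiv.Perm (Fin (3 ^ 2))))
    (f : ↥L.S →* ↥(W : Subgroup (Equiv.Perm (Fin (3 ^ 2))))) : ¬ Function.Surjective f := by
  intro hf
  haveI : Fact (Nat.Prime 3) := ⟨Nat.prime_three⟩
  have hS : IsPGroup 3 L.S := IsPGroup.of_card (n := 6) L.card_S
  have hW : Nat.card (W : Subgroup (Equiv.Perm (Fin (3 ^ 2)))) = 81 := by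
    rw [W.card_eq_multiplicity, Nat.card_perm, Nat.card_fin, Nat.factorization_def _ Nat.prime_three]
    have h1 := padicValNat_factorial_mul (p := 3) 1
    rw [mul_one, Nat.factorial_one, padicValNat.one] at h1
    have h2 := padicValNat_factorial_mul (p := 3) 3
    rw [h1] at h2
    rw [show (3 : ℕ) ^ 2 = 3 * 3 from rfl, h2]
    rfl
  have hK : f.ker ≠ ⊥ := by
    intro h
    have h' := Nat.card_congr (Equiv.ofBijective f ⟨(MonoidHom.ker_eq_bot_iff f).mp h, hf⟩)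
    rw [hW, show Nat.card L.S = 729 from L.card_S] at h'
    norm_num at h'
  haveI := hS.isNilpotent
  have hne := CfsgLib.IsolatedMin.inf_center_ne_bot hS f.ker hK
  obtain ⟨c, hc, hc1⟩ := (Subgroup.bot_or_exists_ne_one _).resolve_left hne
  have hcz : (c : G) ∈ Subgroup.zpowers L.z := L.mem_zpowers_of_central fun g hg =>
    congrArg Subtype.val (Subgroup.mem_center_iff.mp (Subgroup.mem_inf.mp hc).2 ⟨g, hg⟩)
  have hc' : f c = 1 := (Subgroup.mem_inf.mp hc).1
  let zS : L.S := ⟨L.z, L.X_le_S L.z_mem_X⟩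
  have hfz : f zS = 1 := by
    obtain ⟨k, hk0⟩ := hcz
    have hk : L.z ^ k = (c : G) := hk0
    have hk' : zS ^ k = c := Subtype.ext (by simpa [zS] using hk)
    rcases zpow_cases L.cube_z k with e | e | e
    · exact absurd (Subtype.ext (hk.symm.trans e) : c = 1) hc1
    · rw [show zS = c from Subtype.ext (e.symm.trans hk)]; exact hc'
    · rw [show zS = c⁻¹ from Subtype.ext (by rw [Subgroup.coe_inv, ← hk, e, inv_inv]),
        map_inv, hc', inv_one]
  obtain ⟨u, v, w, huvw⟩ := wreath_not_class_two W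
  let q := QuotientGroup.mk' (Subgroup.center ↥(W : Subgroup (Equiv.Perm (Fin (3 ^ 2)))))
  let π := q.comp f
  let i1S : L.S := ⟨L.i₁, L.X_le_S L.i₁_mem_X⟩
  let i2S : L.S := ⟨L.i₂, L.X_le_S L.i₂_mem_X⟩
  let yS : L.S := ⟨L.y, L.X_le_S L.y_mem_X⟩
  let pS : L.S := ⟨L.p, L.X_le_S L.p_mem_X⟩
  let aS : L.S := ⟨L.a, L.a_mem_S⟩
  let T : Set L.S := Subtype.val ⁻¹' {L.z, L.i₁, L.i₂, L.y, L.p, L.a}
  have hT : Subgroup.closure T = ⊤ := Subgroup.closure_closure_coe_preimage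
  have hTc : ∀ x ∈ T, x = zS ∨ x = i1S ∨ x = i2S ∨ x = yS ∨ x = pS ∨ x = aS := by
    intro x hx
    simp only [T, Set.mem_preimage, Set.mem_insert_iff, Set.mem_singleton_iff] at hx
    rcases hx with e | e | e | e | e | e
    · exact Or.inl (Subtype.ext e)
    · exact Or.inr (Or.inl (Subtype.ext e))
    · exact Or.inr (Or.inr (Or.inl (Subtype.ext e)))
    · exact Or.inr (Or.inr (Or.inr (Or.inl (Subtype.ext e))))
    · exact Or.inr (Or.inr (Or.inr (Or.inr (Or.inl (Subtype.ext e)))))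
    · exact Or.inr (Or.inr (Or.inr (Or.inr (Or.inr (Subtype.ext e)))))
  have hz' : ∀ g : L.S, Commute (f zS) (f g) := fun g => by rw [hfz]; exact Commute.one_left _
  have hcen : ∀ x : L.S, (∀ g ∈ T, Commute (f x) (f g)) →
      f x ∈ Subgroup.center ↥(W : Subgroup (Equiv.Perm (Fin (3 ^ 2)))) := by
    intro x hx
    rw [Subgroup.mem_center_iff]
    intro b
    obtain ⟨g, rfl⟩ := hf b
    have hg : g ∈ Subgroup.closure T := hT ▸ Subgroup.mem_top g
    induction hg using Subgroup.closure_induction with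
    | mem g hg => exact (hx g hg).eq.symm
    | one => simp
    | mul g h _ _ ihg ihh =>
      rw [map_mul]
      exact ((show Commute (f g) (f x) from ihg).mul_left ihh).eq
    | inv g _ ih =>
      rw [map_inv]
      exact (show Commute (f g) (f x) from ih).inv_left.eq
  have cS : ∀ {r s : L.S}, Commute (r : G) (s : G) → Commute (f r) (f s) := fun {r s} h =>
    (show Commute r s from Subtype.ext h.eq).map f
  have hi1 : f i1S ∈ Subgroup.center ↥(W : Subgroup (Equiv.Perm (Fin (3 ^ 2)))) := by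
    refine hcen _ fun g hg => ?_
    rcases hTc g hg with rfl | rfl | rfl | rfl | rfl | rfl
    · exact (hz' _).symm
    · exact Commute.refl _
    · exact cS L.comm_i₁i₂
    · exact cS L.comm_yi₁.symm
    · have e : pS * i1S = zS * (i1S * pS) := Subtype.ext (by
        show L.p * L.i₁ = L.z * (L.i₁ * L.p)
        rw [← L.rel_p]; group)
      have e' := congrArg f e
      rw [map_mul, map_mul, map_mul, hfz, one_mul] at e'
      exact e'.symm
    · exact cS L.comm_ai₁.symm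
  have hi2 : f i2S ∈ Subgroup.center ↥(W : Subgroup (Equiv.Perm (Fin (3 ^ 2)))) := by
    refine hcen _ fun g hg => ?_
    rcases hTc g hg with rfl | rfl | rfl | rfl | rfl | rfl
    · exact (hz' _).symm
    · exact cS L.comm_i₁i₂.symm
    · exact Commute.refl _
    · exact cS L.comm_yi₂.symm
    · exact cS L.comm_pi₂.symm
    · have e : i2S * aS = zS * (aS * i2S) := Subtype.ext (by
        show L.i₂ * L.a = L.z * (L.a * L.i₂)
        rw [← L.rel_a]; group)
      have e' := congrArg f e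
      rw [map_mul, map_mul, map_mul, hfz, one_mul] at e'
      exact e'
  have k0 : ∀ {x : L.S}, f x ∈ Subgroup.center _ → π x = 1 := fun {x} h =>
    (QuotientGroup.eq_one_iff _).mpr h
  have kz : π zS = 1 := k0 (by rw [hfz]; exact one_mem _)
  have ki1 : π i1S = 1 := k0 hi1
  have ki2 : π i2S = 1 := k0 hi2
  have cyp : Commute (π yS) (π pS) := by
    have e : yS * pS = pS * i1S * zS * yS := Subtype.ext (by
      show L.y * L.p = L.p * L.i₁ * L.z * L.y
      rw [← L.rel_yp, inv_mul_cancel_right])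
    have e' := congrArg π e
    rw [map_mul, map_mul, map_mul, map_mul, ki1, kz, mul_one, mul_one] at e'
    exact e'
  have cya : Commute (π yS) (π aS) := by
    have e : yS * aS = aS * i2S * zS⁻¹ * yS := Subtype.ext (by
      show L.y * L.a = L.a * L.i₂ * L.z⁻¹ * L.y
      rw [← L.rel_ya, inv_mul_cancel_right])
    have e' := congrArg π e
    rw [map_mul, map_mul, map_mul, map_mul, map_inv, ki2, kz, inv_one, mul_one, mul_one] at e'
    exact e'
  have cpa : Commute (π pS) (π aS) :=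
    (show Commute pS aS from Subtype.ext L.comm_pa.eq).map π
  have hcomm : IsMulCommutative (Subgroup.closure (π '' T)) := Subgroup.isMulCommutative_closure (by
    rintro a ⟨x, hx, rfl⟩ b ⟨y, hy, rfl⟩
    rcases hTc x hx with rfl | rfl | rfl | rfl | rfl | rfl <;>
      rcases hTc y hy with rfl | rfl | rfl | rfl | rfl | rfl <;>
      first | rfl | (simp only [kz, ki1, ki2, one_mul, mul_one]) | exact cyp.eq | exact cyp.eq.symm | exact cya.eq | exact cya.eq.symm | exact cpa.eq | exact cpa.eq.symm)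
  rw [← MonoidHom.map_closure, hT, Subgroup.map_top_of_surjective π
    ((QuotientGroup.mk'_surjective _).comp hf)] at hcomm
  have hq : q ⁅u, v⁆ = 1 := by
    rw [map_commutatorElement, commutatorElement_eq_one_iff_commute]
    exact congrArg Subtype.val (hcomm.is_comm.comm ⟨q u, Subgroup.mem_top _⟩ ⟨q v, Subgroup.mem_top _⟩)
  exact huvw (commutatorElement_eq_one_iff_commute.mpr
    (Subgroup.mem_center_iff.mp ((QuotientGroup.eq_one_iff _).mp hq) w).symm)

theorem focal_le (hNS : Subgroup.normalizer (L.S : Set G) ≤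
    Subgroup.closure {L.z, L.i₁, L.i₂, L.y, L.p, L.a, L.t, L.ν}) {g : G} (hg : g ∈ L.S)
    (hg' : g ∈ commutator G) : g ∈ L.X := by
  haveI : Fact (Nat.Prime 3) := ⟨Nat.prime_three⟩
  obtain ⟨S, hS⟩ := L.sylow
  have hS' : (S : Subgroup G) = L.S := hS
  by_contra hgX
  have hne : (S : Subgroup G) ⊓ commutator G ≠ (S : Subgroup G) ⊓
      ⁅Subgroup.normalizer ((S : Subgroup G) : Set G), Subgroup.normalizer ((S : Subgroup G) : Set G)⁆ := by
    intro he
    have hgN : g ∈ ⁅Subgroup.normalizer ((S : Subgroup G) : Set G), Subgroup.normalizer ((S : Subgroup G) : Set G)⁆ :=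
      (Subgroup.mem_inf.mp (he ▸ Subgroup.mem_inf.mpr ⟨hS'.symm ▸ hg, hg'⟩)).2
    rw [hS'] at hgN
    refine hgX ?_
    set M := Subgroup.normalizer (L.X : Set G)
    let qX := QuotientGroup.mk' (L.X.subgroupOf M)
    let T : Set M := Subtype.val ⁻¹' {L.z, L.i₁, L.i₂, L.y, L.p, L.a, L.t, L.ν}
    have cta : Commute L.t L.a := (L.O_comm _ L.t_mem).2.1
    have hker : ∀ x : M, (x : G) ∈ L.X → qX x = 1 := fun x hx =>
      (QuotientGroup.eq_one_iff _).mpr (Subgroup.mem_subgroupOf.mpr hx)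
    have cq : ∀ {r s : M}, Commute (r : G) (s : G) → Commute (qX r) (qX s) := fun {r s} h =>
      (show Commute r s from Subtype.ext h.eq).map qX
    have hcomm : IsMulCommutative (Subgroup.closure (qX '' T)) := Subgroup.isMulCommutative_closure (by
      rintro a ⟨⟨x, hxM⟩, hx, rfl⟩ b ⟨⟨y, hyM⟩, hy, rfl⟩
      simp only [T, Set.mem_preimage, Set.mem_insert_iff, Set.mem_singleton_iff] at hx hy
      have one : ∀ x : G, (x = L.z ∨ x = L.i₁ ∨ x = L.i₂ ∨ x = L.y ∨ x = L.p) → x ∈ L.X := by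
        rintro x (rfl | rfl | rfl | rfl | rfl)
        exacts [L.z_mem_X, L.i₁_mem_X, L.i₂_mem_X, L.y_mem_X, L.p_mem_X]
      rcases hx with e | e | e | e | e | hx
      iterate 5 rw [hker ⟨x, hxM⟩ (one x (by tauto)), one_mul, mul_one]
      rcases hy with e | e | e | e | e | hy
      iterate 5 rw [hker ⟨y, hyM⟩ (one y (by tauto)), one_mul, mul_one]
      rcases hx with rfl | rfl | rfl <;> rcases hy with rfl | rfl | rfl <;>
        first
          | rfl
          | exact (cq (r := ⟨_, hxM⟩) (s := ⟨_, hyM⟩) cta).eq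
          | exact (cq (r := ⟨_, hxM⟩) (s := ⟨_, hyM⟩) cta.symm).eq
          | exact (cq (r := ⟨_, hxM⟩) (s := ⟨_, hyM⟩) L.comm_νa).eq
          | exact (cq (r := ⟨_, hxM⟩) (s := ⟨_, hyM⟩) L.comm_νa.symm).eq
          | exact (cq (r := ⟨_, hxM⟩) (s := ⟨_, hyM⟩) L.comm_νt).eq
          | exact (cq (r := ⟨_, hxM⟩) (s := ⟨_, hyM⟩) L.comm_νt.symm).eq)
    have hmem : ∀ h, h ∈ Subgroup.closure ({L.z, L.i₁, L.i₂, L.y, L.p, L.a, L.t, L.ν} : Set G) →
        ∃ hh : h ∈ M, qX ⟨h, hh⟩ ∈ Subgroup.closure (qX '' T) := by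
      intro h hh
      induction hh using Subgroup.closure_induction with
      | mem x hx => exact ⟨L.normalizer_X (Subgroup.subset_closure hx), Subgroup.subset_closure ⟨_, hx, rfl⟩⟩
      | one => exact ⟨one_mem _, by show qX (1 : M) ∈ _; rw [map_one]; exact one_mem _⟩
      | mul a b _ _ ha hb =>
        obtain ⟨ha, ha'⟩ := ha
        obtain ⟨hb, hb'⟩ := hb
        exact ⟨mul_mem ha hb, by simpa [← map_mul] using mul_mem ha' hb'⟩
      | inv a _ ha =>
        obtain ⟨ha, ha'⟩ := ha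
        exact ⟨inv_mem ha, by show qX ((⟨a, ha⟩ : M)⁻¹) ∈ _; rw [map_inv]; exact inv_mem ha'⟩
    refine (Subgroup.commutator_le.mpr fun a ha b hb => ?_ :
      ⁅Subgroup.normalizer (L.S : Set G), Subgroup.normalizer (L.S : Set G)⁆ ≤ L.X) hgN
    obtain ⟨haM, ha'⟩ := hmem a (hNS ha)
    obtain ⟨hbM, hb'⟩ := hmem b (hNS hb)
    have e : qX ⁅(⟨a, haM⟩ : M), ⟨b, hbM⟩⁆ = 1 := by
      rw [map_commutatorElement, commutatorElement_eq_one_iff_commute]
      exact congrArg Subtype.val (hcomm.is_comm.comm ⟨_, ha'⟩ ⟨_, hb'⟩)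
    exact Subgroup.mem_subgroupOf.mp ((QuotientGroup.eq_one_iff _).mp e)
  obtain ⟨W, f, hf⟩ := Cfsg.Agent.S2807.result S hne
  exact L.not_surjective W (f.comp (MulEquiv.subgroupCongr hS'.symm).toMonoidHom)
    (hf.comp (MulEquiv.subgroupCongr hS'.symm).surjective)

/-- The normal subgroup of index three. -/
theorem exists_index_three (hNS : Subgroup.normalizer (L.S : Set G) ≤
    Subgroup.closure {L.z, L.i₁, L.i₂, L.y, L.p, L.a, L.t, L.ν}) :
    ∃ N : Subgroup G, N.Normal ∧ N.index = 3 ∧ L.X ≤ N ∧ L.O ≤ N ∧ L.ν ∈ N ∧ L.a ∉ N := by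
  classical
  haveI : Fact (Nat.Prime 3) := ⟨Nat.prime_three⟩
  obtain ⟨S, hS⟩ := L.sylow
  have hS' : (S : Subgroup G) = L.S := hS
  have hSn : L.S ≤ Subgroup.normalizer (L.X : Set G) :=
    le_trans (Subgroup.closure_mono (by
      intro g hg
      simp only [Set.mem_insert_iff, Set.mem_singleton_iff] at hg ⊢
      tauto)) L.normalizer_X
  haveI hXn : (L.X.subgroupOf L.S).Normal := Subgroup.normal_subgroupOf_of_le_normalizer hSn
  have hcard : Nat.card (↥L.S ⧸ L.X.subgroupOf L.S) = 3 := by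
    have h := Subgroup.card_eq_card_quotient_mul_card_subgroup (L.X.subgroupOf L.S)
    rw [Nat.card_congr (Subgroup.subgroupOfEquivOfLe L.X_le_S).toEquiv, L.card_X,
      show Nat.card L.S = 729 from L.card_S] at h
    omega
  haveI : IsCyclic (↥L.S ⧸ L.X.subgroupOf L.S) := isCyclic_of_prime_card hcard
  letI : CommGroup (↥L.S ⧸ L.X.subgroupOf L.S) := IsCyclic.commGroup
  let φ : ↥L.S →* ↥L.S ⧸ L.X.subgroupOf L.S := QuotientGroup.mk' _
  let V : G →* ↥L.S ⧸ L.X.subgroupOf L.S := MonoidHom.transfer φ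
  have key : ∀ (x : G) (hx : x ∈ L.S), V x = φ ⟨x, hx⟩ ^ L.S.index := by
    intro x hx
    haveI : Fintype (G ⧸ L.S) := Fintype.ofFinite _
    show MonoidHom.transfer φ x = _
    rw [MonoidHom.transfer_eq_prod_quotient_orbitRel_zpowers_quot]
    have k : ∀ q : Quotient (MulAction.orbitRel (Subgroup.zpowers x) (G ⧸ L.S)),
        φ ⟨q.out.out⁻¹ * x ^ Function.minimalPeriod (x • ·) q.out * q.out.out,
          QuotientGroup.out_conj_pow_minimalPeriod_mem L.S x q.out⟩ =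
        φ ⟨x, hx⟩ ^ Function.minimalPeriod (x • ·) q.out := by
      intro q
      set k := Function.minimalPeriod (x • ·) q.out
      set g := q.out.out
      have hm := QuotientGroup.out_conj_pow_minimalPeriod_mem L.S x q.out
      rw [← map_pow]
      show QuotientGroup.mk' _ _ = QuotientGroup.mk' _ _
      rw [QuotientGroup.mk'_eq_mk']
      refine ⟨(⟨g⁻¹ * x ^ k * g, hm⟩ : L.S)⁻¹ * ⟨x, hx⟩ ^ k, Subgroup.mem_subgroupOf.mpr ?_,
        mul_inv_cancel_left _ _⟩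
      refine L.focal_le hNS (SetLike.coe_mem _) ?_
      have e : (((⟨g⁻¹ * x ^ k * g, hm⟩ : L.S)⁻¹ * ⟨x, hx⟩ ^ k : L.S) : G) = ⁅g⁻¹, (x ^ k)⁻¹⁆ := by
        simp [commutatorElement_def, mul_assoc]
      rw [e]
      exact Subgroup.commutator_mem_commutator (Subgroup.mem_top _) (Subgroup.mem_top _)
    rw [Finset.prod_congr rfl fun q _ => k q, Finset.prod_pow_eq_pow_sum,
      ← Subgroup.index_eq_sum_minimalPeriod L.S x]
  have h3 : ¬ 3 ∣ L.S.index := hS' ▸ S.not_dvd_index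
  have hcube : ∀ q : ↥L.S ⧸ L.X.subgroupOf L.S, q ^ 3 = 1 := fun q => by
    rw [← hcard]; exact pow_card_eq_one'
  have hVa : V L.a ≠ 1 := by
    rw [key L.a L.a_mem_S]
    intro h
    have ho : orderOf (φ ⟨L.a, L.a_mem_S⟩) = 3 :=
      orderOf_eq_prime (hcube _) fun h' => L.a_notMem_X
        (Subgroup.mem_subgroupOf.mp ((QuotientGroup.eq_one_iff _).mp h'))
    exact h3 (ho ▸ orderOf_dvd_of_pow_eq_one h)
  have hrange : V.range = ⊤ := by
    haveI : Fact (Nat.card (↥L.S ⧸ L.X.subgroupOf L.S)).Prime := ⟨by rw [hcard]; exact Nat.prime_three⟩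
    refine V.range.eq_bot_or_eq_top_of_prime_card.resolve_left fun h => hVa ?_
    have : V L.a ∈ V.range := ⟨_, rfl⟩
    rwa [h, Subgroup.mem_bot] at this
  refine ⟨V.ker, MonoidHom.normal_ker V, ?_, ?_, ?_, ?_, fun h => hVa h⟩
  · rw [Subgroup.index_ker, hrange, Subgroup.card_top, hcard]
  · intro x hx
    rw [MonoidHom.mem_ker, key x (L.X_le_S hx),
      show φ ⟨x, L.X_le_S hx⟩ = 1 from (QuotientGroup.eq_one_iff _).mpr (Subgroup.mem_subgroupOf.mpr hx),
      one_pow]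
  · intro w hw
    rw [MonoidHom.mem_ker]
    have h8 : w ^ 8 = 1 := by
      have h := pow_card_eq_one' (x := (⟨w, hw⟩ : L.O))
      rw [L.card_O] at h
      exact congrArg Subtype.val h
    have e1 : V w ^ 8 = 1 := by rw [← map_pow, h8, map_one]
    calc V w = (V w ^ 3) ^ 3 * (V w ^ 8)⁻¹ := by group
      _ = 1 := by simp [hcube, e1]
  · rw [MonoidHom.mem_ker]
    have e1 : V L.ν ^ 2 = 1 := by rw [← map_pow, pow_two, L.ν_sq, map_one]
    calc V L.ν = V L.ν ^ 3 * (V L.ν ^ 2)⁻¹ := by group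
      _ = 1 := by rw [hcube, e1, inv_one, mul_one]

end Loc

end CfsgLib.OEightLocal
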