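import Cfsg.Agent.Lib.OEightLocal.Basic
import Cfsg.Agent.Lib.LFourThree.Symp

/-!
The centraliser of the central element as an extension of the extraspecial radical by
`SL(2,3)` or `SL(2,3) × 2`, with the information from the chief series.
-/

set_option autoImplicit false
set_option linter.unusedSectionVars false

namespace CfsgLib.OEightLocal

open CfsgLib.LFourThree (S2 pE sE)

variable {G : Type*} [Group G]

/-- Data read from the hypotheses of the recognition. -/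
structure Pre (z : G) (Q : Subgroup G) (m : ℕ) (π : Subgroup.centralizer ({z} : Set G) →* S2)
    (ε : Subgroup.centralizer ({z} : Set G) →* ℤˣ) : Prop where
  ord : orderOf z = 3
  hm : m = 1 ∨ m = 2
  surj : ∀ g : S2, ∀ e : ℤˣ, (m = 2 ∨ e = 1) → ∃ c, π c = g ∧ ε c = e
  eps_one : m = 1 → ∀ c, ε c = 1
  ker : ∀ c : Subgroup.centralizer ({z} : Set G), (π c = 1 ∧ ε c = 1) ↔ (c : G) ∈ Q
  le : Q ≤ Subgroup.centralizer ({z} : Set G)
  zmem : z ∈ Q
  card : Nat.card Q = 243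
  exp : ∀ a ∈ Q, a ^ 3 = 1
  comm : ∀ a ∈ Q, ∀ b ∈ Q, a * b * a⁻¹ * b⁻¹ ∈ Subgroup.zpowers z
  center : ∀ a ∈ Q, (∀ b ∈ Q, a * b = b * a) → a ∈ Subgroup.zpowers z
  cent : Subgroup.centralizer (Q : Set G) ≤ Q
  conj_Q : ∃ x : G, x * z * x⁻¹ ∈ Q ∧ x * z * x⁻¹ ∉ Subgroup.zpowers z
  sylow : ∃ S : Sylow 3 G, (S : Subgroup G) ≤ Subgroup.centralizer ({z} : Set G)
  chief : ∃ A B : Subgroup G, Subgroup.zpowers z ≤ A ∧ A < B ∧ B ≤ Q ∧
    (∀ k : Subgroup.centralizer ({z} : Set G), ε k = 1 →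
      (∀ a ∈ A, (k : G) * a * (k : G)⁻¹ ∈ A) ∧ (∀ b ∈ B, (k : G) * b * (k : G)⁻¹ ∈ B)) ∧
    (∀ B' : Subgroup G, A < B' → B' < B → ∃ k : Subgroup.centralizer ({z} : Set G),
      ε k = 1 ∧ ∃ b ∈ B', (k : G) * b * (k : G)⁻¹ ∉ B') ∧
    (∀ k : Subgroup.centralizer ({z} : Set G), ε k = 1 → ¬ 3 ∣ orderOf k →
      (∀ a ∈ A, (k : G) * a = a * (k : G)) ∧
      ∀ q ∈ Q, ∃ b ∈ B, ∃ f ∈ Q, (k : G) * f = f * (k : G) ∧ q = b * f)

namespace Pre

variable {z : G} {Q : Subgroup G} {m : ℕ} {π : Subgroup.centralizer ({z} : Set G) →* S2}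
  {ε : Subgroup.centralizer ({z} : Set G) →* ℤˣ} (L : Pre z Q m π ε)
include L

theorem mem_cz {g : G} : g ∈ Subgroup.centralizer ({z} : Set G) ↔ g * z = z * g :=
  Subgroup.mem_centralizer_singleton_iff

theorem z_cube : z ^ 3 = 1 := L.ord ▸ pow_orderOf_eq_one z

theorem z_ne : z ≠ 1 := fun h => by
  have := L.ord
  rw [h, orderOf_one] at this
  norm_num at this

theorem zpowers_le : Subgroup.zpowers z ≤ Q := Subgroup.zpowers_le.2 L.zmem

theorem card_zpowers : Nat.card (Subgroup.zpowers z) = 3 := by rw [Nat.card_zpowers, L.ord]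

theorem z_comm {a x : G} (ha : a ∈ Subgroup.centralizer ({z} : Set G)) (hx : x ∈ Subgroup.zpowers z) :
    a * x = x * a := by
  obtain ⟨n, rfl⟩ := Subgroup.mem_zpowers_iff.1 hx
  exact ((show Commute a z from L.mem_cz.1 ha).zpow_right n).eq

theorem conj_mem {c q : G} (hc : c ∈ Subgroup.centralizer ({z} : Set G)) (hq : q ∈ Q) :
    c * q * c⁻¹ ∈ Q := by
  have h1 := (L.ker ⟨q, L.le hq⟩).2 hq
  refine (L.ker (⟨c, hc⟩ * ⟨q, L.le hq⟩ * ⟨c, hc⟩⁻¹)).1 ⟨?_, ?_⟩
  · rw [map_mul, map_mul, map_inv, h1.1, mul_one, mul_inv_cancel]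
  · rw [map_mul, map_mul, map_inv, h1.2, mul_one, mul_inv_cancel]

theorem eps_sq (c : Subgroup.centralizer ({z} : Set G)) : ε c * ε c = 1 := Int.units_mul_self _

/-- An element generating the centre, seen from a non-trivial element of it. -/
theorem zpow_gen {c : G} (hc : c ∈ Subgroup.zpowers z) (hc1 : c ≠ 1) : z ∈ Subgroup.zpowers c := by
  have h : Subgroup.zpowers c = Subgroup.zpowers z := by
    have : Finite (Subgroup.zpowers z) := Nat.finite_of_card_ne_zero (by rw [L.card_zpowers]; norm_num)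
    refine Subgroup.eq_of_le_of_card_ge (Subgroup.zpowers_le.2 hc) ?_
    have hd := Subgroup.card_dvd_of_le (Subgroup.zpowers_le.2 hc)
    rw [L.card_zpowers] at hd ⊢
    rcases (Nat.dvd_prime Nat.prime_three).1 hd with h | h
    · rw [Nat.card_zpowers, orderOf_eq_one_iff] at h
      exact absurd h hc1
    · rw [h]
  rw [h]
  exact Subgroup.mem_zpowers z

end Pre

end CfsgLib.OEightLocal
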