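import Cfsg.Agent.Lib.OEightLocal.Halves
import Cfsg.Agent.Lib.OEightLocal.FrameOp
import Mathlib.GroupTheory.Perm.Cycle.Type

/-!
The quaternion group is regular on the inverted half of the radical; the outer involution and the
element of order three.
-/

set_option autoImplicit false
set_option linter.unusedSectionVars false
set_option linter.style.haveILetI false

namespace CfsgLib.OEightLocal

open CfsgLib.LFourThree (S2 pE sE closure_ps)

theorem s2_eight : Nat.card {g : S2 // g ^ 8 = 1} = 8 := by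
  rw [Nat.card_eq_fintype_card]
  decide +kernel

theorem s2_commutant : ∀ g : S2, (∀ h : S2, h ^ 8 = 1 → g * h = h * g) → g = 1 ∨ g = -1 := by
  decide +kernel

theorem s2_pE : pE ≠ 1 ∧ pE ≠ -1 ∧ pE * pE ≠ 1 ∧ pE * pE ≠ -1 := by decide +kernel

namespace Pre

variable {G : Type*} [Group G]

/-- An involution of the centraliser and a quaternion group through it. -/
structure Quat {z : G} (π : Subgroup.centralizer ({z} : Set G) →* S2)
    (ε : Subgroup.centralizer ({z} : Set G) →* ℤˣ) (t : Subgroup.centralizer ({z} : Set G))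
    (O : Subgroup (Subgroup.centralizer ({z} : Set G))) : Prop where
  ht : π t = -1
  ht' : ε t = 1
  ht2 : t * t = 1
  mem : t ∈ O
  card : Nat.card O = 8
  eps : ∀ w ∈ O, ε w = 1
  inj : ∀ w ∈ O, ∀ w' ∈ O, π w = π w' → w = w'
  sq : ∀ w ∈ O, w = 1 ∨ w = t ∨ w * w = t

variable [Finite G] {z : G} {Q : Subgroup G} {m : ℕ}
  {π : Subgroup.centralizer ({z} : Set G) →* S2} {ε : Subgroup.centralizer ({z} : Set G) →* ℤˣ}
  (L : Pre z Q m π ε) {t : Subgroup.centralizer ({z} : Set G)}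
  {O : Subgroup (Subgroup.centralizer ({z} : Set G))} (H : Quat π ε t O)
include L

theorem exists_quat : ∃ t O, Quat π ε t O := by
  obtain ⟨t, h1, h2, h3⟩ := L.exists_t
  obtain ⟨O, a, b, c, d, e⟩ := L.exists_O h1 h2 h3
  exact ⟨t, O, h1, h2, h3, a, b, c, d, e⟩

include H

/-- The inverted half. -/
def Inv (_L : Pre z Q m π ε) (_H : Quat π ε t O) (v : G) : Prop :=
  v ∈ Q ∧ (t : G) * v * (t : G)⁻¹ = v⁻¹

theorem t_inv : (t : G)⁻¹ = t := inv_eq_of_mul_eq_one_right (congrArg Subtype.val H.ht2)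

theorem inv_one : Inv L H 1 := ⟨one_mem _, by simp⟩

theorem inv_inv' {v : G} (hv : Inv L H v) : Inv L H v⁻¹ :=
  ⟨inv_mem hv.1, by rw [← conj_inv, hv.2]⟩

theorem inv_unique {f f' v v' : G} (hf : f ∈ Q) (htf : (t : G) * f = f * t) (hf' : f' ∈ Q)
    (htf' : (t : G) * f' = f' * t) (hv : Inv L H v) (hv' : Inv L H v') (h : f * v = f' * v') :
    f = f' ∧ v = v' := by
  have hw : f'⁻¹ * f = v' * v⁻¹ := by
    rw [eq_mul_inv_iff_mul_eq, mul_assoc, h, inv_mul_cancel_left]
  have h1 : (t : G) * (f'⁻¹ * f) * (t : G)⁻¹ = f'⁻¹ * f := by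
    rw [(((show Commute (t : G) f' from htf').inv_right).mul_right htf).eq, mul_inv_cancel_right]
  rw [hw, show (t : G) * (v' * v⁻¹) * (t : G)⁻¹ =
    ((t : G) * v' * (t : G)⁻¹) * ((t : G) * v * (t : G)⁻¹)⁻¹ by group, hv.2, hv'.2, inv_inv] at h1
  have h2 : v * v = v' * v' := by
    calc v * v = v' * (v'⁻¹ * v) * v := by group
      _ = _ := by rw [h1]; group
  have h3 : v = v' := by
    have a := L.exp v hv.1
    have b := L.exp v' hv'.1
    calc v = (v * v) * (v * v) := by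
          rw [show v * v * (v * v) = v ^ 3 * v by rw [pow_succ, pow_two, mul_assoc (v * v)], a, one_mul]
      _ = (v' * v') * (v' * v') := by rw [h2]
      _ = v' := by rw [show v' * v' * (v' * v') = v' ^ 3 * v' by rw [pow_succ, pow_two, mul_assoc (v' * v')], b, one_mul]
  subst h3
  exact ⟨mul_right_cancel h, rfl⟩

/-- The representative in a coset of the centre is unique. -/
theorem inv_coset {v v' c : G} (hv : Inv L H v) (hv' : Inv L H v') (hc : c ∈ Subgroup.zpowers z)
    (h : v' = c * v) : v' = v ∧ c = 1 := by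
  obtain ⟨a, b⟩ := L.inv_unique H (L.zpowers_le hc) (L.z_comm t.2 hc) (one_mem Q) (by simp) hv hv'
    (by rw [one_mul, h])
  exact ⟨b.symm, a⟩

theorem inv_fixed {v : G} (hv : Inv L H v) (h : (t : G) * v = v * t) : v = 1 :=
  (L.inv_unique H hv.1 h (one_mem Q) (by simp) (L.inv_one H) hv (by rw [mul_one, one_mul])).1

theorem card_inv : Nat.card {v : G // Inv L H v} = 9 := by
  let Q2 := Q ⊓ Subgroup.centralizer ({(t : G)} : Set G)
  have hm : ∀ f : Q2, (f : G) ∈ Q ∧ (t : G) * f = f * t := fun f =>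
    ⟨(Subgroup.mem_inf.1 f.2).1, (Subgroup.mem_centralizer_singleton_iff.1 (Subgroup.mem_inf.1 f.2).2).symm⟩
  have hb : Function.Bijective fun x : Q2 × {v : G // Inv L H v} =>
      (⟨(x.1 : G) * x.2.1, mul_mem (hm x.1).1 x.2.2.1⟩ : Q) := by
    constructor
    · rintro ⟨f, v⟩ ⟨f', v'⟩ h
      obtain ⟨a, b⟩ := L.inv_unique H (hm f).1 (hm f).2 (hm f').1 (hm f').2 v.2 v'.2
        (congrArg Subtype.val h)
      exact Prod.ext (Subtype.ext a) (Subtype.ext b)
    · rintro ⟨q, hq⟩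
      obtain ⟨f, hf, v, hv, htf, htv, rfl⟩ := L.split t.2 (congrArg Subtype.val H.ht2) hq
      exact ⟨(⟨f, Subgroup.mem_inf.2 ⟨hf, Subgroup.mem_centralizer_singleton_iff.2 htf.symm⟩⟩,
        ⟨v, hv, htv⟩), rfl⟩
  have h := Nat.card_congr (Equiv.ofBijective _ hb)
  rw [Nat.card_prod, L.card, L.card_fixed H.ht H.ht' H.ht2] at h
  omega

theorem O_comm_t {w : Subgroup.centralizer ({z} : Set G)} (hw : w ∈ O) : Commute (t : G) (w : G) := by
  rcases H.sq w hw with rfl | rfl | h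
  · exact Commute.one_right _
  · exact Commute.refl _
  · rw [← h, Subgroup.coe_mul]; exact (Commute.refl _).mul_left (Commute.refl _)

theorem O_fixed {w : Subgroup.centralizer ({z} : Set G)} (hw : w ∈ O) {q : G} (hq : q ∈ Q)
    (hqt : (t : G) * q = q * t) : Commute (w : G) q := by
  rcases H.sq w hw with rfl | rfl | h
  · exact Commute.one_left _
  · exact hqt
  · exact L.O_fix H.ht H.ht' H.ht2 (H.eps w hw) h hq hqt

/-- Conjugation by elements commuting with `t`. -/
theorem inv_conj {c v : G} (hc : c ∈ Subgroup.centralizer ({z} : Set G)) (hct : Commute (t : G) c)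
    (hv : Inv L H v) : Inv L H (c * v * c⁻¹) := by
  refine ⟨L.conj_mem hc hv.1, ?_⟩
  calc (t : G) * (c * v * c⁻¹) * (t : G)⁻¹ = ((t : G) * c) * v * ((t : G) * c)⁻¹ := by group
    _ = (c * t) * v * (c * t)⁻¹ := by rw [hct.eq]
    _ = c * ((t : G) * v * (t : G)⁻¹) * c⁻¹ := by group
    _ = _ := by rw [hv.2, conj_inv]

theorem O_free {w : Subgroup.centralizer ({z} : Set G)} (hw : w ∈ O) {v : G} (hv : Inv L H v) (hv1 : v ≠ 1)
    (h : Commute (w : G) v) : w = 1 := by
  rcases H.sq w hw with h1 | rfl | h1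
  · exact h1
  · exact absurd (L.inv_fixed H hv h) hv1
  · refine absurd (L.inv_fixed H hv ?_) hv1
    rw [← h1, Subgroup.coe_mul]
    exact (h.mul_left h).eq

theorem O_trans {v v' : G} (hv : Inv L H v) (hv1 : v ≠ 1) (hv' : Inv L H v') (hv1' : v' ≠ 1) :
    ∃ w ∈ O, (w : G) * v * (w : G)⁻¹ = v' := by
  classical
  let f : O → {x : {v : G // Inv L H v} // x ≠ ⟨1, L.inv_one H⟩} := fun w =>
    ⟨⟨(w.1 : G) * v * (w.1 : G)⁻¹, L.inv_conj H w.1.2 (L.O_comm_t H w.2) hv⟩, fun h => hv1 (by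
      have h' : (w.1 : G) * v * (w.1 : G)⁻¹ = 1 := congrArg Subtype.val h
      calc v = (w.1 : G)⁻¹ * ((w.1 : G) * v * (w.1 : G)⁻¹) * (w.1 : G) := by group
        _ = 1 := by rw [h']; group)⟩
  have hinj : Function.Injective f := by
    intro a b h
    have h' : (a.1 : G) * v * (a.1 : G)⁻¹ = (b.1 : G) * v * (b.1 : G)⁻¹ :=
      congrArg (fun x => (x.1.1 : G)) h
    refine Subtype.ext (inv_mul_eq_one.1 (L.O_free H (mul_mem (inv_mem a.2) b.2) hv hv1 ?_))
    show ((a.1⁻¹ * b.1 : Subgroup.centralizer ({z} : Set G)) : G) * v = v * _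
    rw [Subgroup.coe_mul, Subgroup.coe_inv]
    calc (a.1 : G)⁻¹ * b.1 * v = (a.1 : G)⁻¹ * ((b.1 : G) * v * (b.1 : G)⁻¹) * b.1 := by group
      _ = _ := by rw [← h']; group
  have hc : Nat.card {x : {v : G // Inv L H v} // x ≠ ⟨1, L.inv_one H⟩} = 8 := by
    have := Fintype.ofFinite {v : G // Inv L H v}
    rw [Nat.card_eq_fintype_card, Fintype.card_subtype_compl, Fintype.card_subtype_eq,
      ← Nat.card_eq_fintype_card, L.card_inv H]
  have hb := (Nat.bijective_iff_injective_and_card f).2 ⟨hinj, by rw [hc]; exact H.card⟩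
  obtain ⟨w, hw⟩ := hb.2 ⟨⟨v', hv'⟩, fun h => hv1' (congrArg Subtype.val h)⟩
  exact ⟨w.1, w.2, congrArg (fun x => (x.1.1 : G)) hw⟩

/-- The image of the quaternion group. -/
theorem O_image {g : S2} (hg : g ^ 8 = 1) : ∃ w ∈ O, π w = g := by
  let f : O → {g : S2 // g ^ 8 = 1} := fun w => ⟨π w.1, by
    have h : w ^ 8 = 1 := H.card ▸ pow_card_eq_one'
    rw [← map_pow, ← SubmonoidClass.coe_pow, h, OneMemClass.coe_one, map_one]⟩
  have hb := (Nat.bijective_iff_injective_and_card f).2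
    ⟨fun a b h => Subtype.ext (H.inj _ a.2 _ b.2 (congrArg Subtype.val h)), by rw [s2_eight]; exact H.card⟩
  obtain ⟨w, hw⟩ := hb.2 ⟨g, hg⟩
  exact ⟨w.1, w.2, congrArg Subtype.val hw⟩

theorem eq_of_images {c d : Subgroup.centralizer ({z} : Set G)} (h : π c = π d) (h' : ε c = ε d) :
    ∃ q ∈ Q, (d : G) = c * q :=
  ⟨_, (L.ker (c⁻¹ * d)).1 ⟨by rw [map_mul, map_inv, h, inv_mul_cancel],
    by rw [map_mul, map_inv, h', inv_mul_cancel]⟩, by simp⟩

theorem O_norm {c : Subgroup.centralizer ({z} : Set G)} (hct : Commute (t : G) (c : G))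
    {w : Subgroup.centralizer ({z} : Set G)} (hw : w ∈ O) : c * w * c⁻¹ ∈ O := by
  have h8 : π w ^ 8 = 1 := by
    have h : (⟨w, hw⟩ : O) ^ 8 = 1 := H.card ▸ pow_card_eq_one'
    rw [← map_pow, show w ^ 8 = 1 from congrArg Subtype.val h, map_one]
  obtain ⟨w', hw', he⟩ := L.O_image H (g := π (c * w * c⁻¹)) (by
    rw [map_mul, map_mul, map_inv, conj_pow, h8, mul_one, mul_inv_cancel])
  have hε : ε w' = ε (c * w * c⁻¹) := by
    rw [H.eps w' hw', map_mul, map_mul, map_inv, H.eps w hw, mul_one, mul_inv_cancel]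
  obtain ⟨q, hq, hd⟩ := L.eq_of_images H he hε
  simp only [Subgroup.coe_mul, Subgroup.coe_inv] at hd
  have hqt : Commute (t : G) q := by
    have h1 : Commute (t : G) ((w' : G)⁻¹ * ((c : G) * w * (c : G)⁻¹)) :=
      (L.O_comm_t H hw').inv_right.mul_right ((hct.mul_right (L.O_comm_t H hw)).mul_right hct.inv_right)
    rwa [hd, inv_mul_cancel_left] at h1
  have hqz : q ∈ Subgroup.zpowers z := by
    refine L.center q hq fun b hb => ?_
    obtain ⟨f, hf, v, hv, htf, htv, rfl⟩ := L.split t.2 (congrArg Subtype.val H.ht2) hb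
    refine (Commute.mul_right ?_ (L.fix_inv_comm t.2 hq hv hqt htv)).eq
    have hcf : Commute (t : G) ((c : G)⁻¹ * f * c) :=
      (hct.inv_right.mul_right htf).mul_right hct
    have h1 : Commute ((c : G) * w * (c : G)⁻¹) f := by
      have h2 := L.O_fixed H hw (by simpa using L.conj_mem (inv_mem c.2) hf) hcf
      have h3 := (Commute.conj_iff (c : G)).2 h2
      simpa [mul_assoc] using h3
    have h4 : Commute ((w' : G)⁻¹ * ((c : G) * w * (c : G)⁻¹)) f :=
      (L.O_fixed H hw' hf htf).inv_left.mul_left h1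
    rwa [hd, inv_mul_cancel_left] at h4
  have hq1 : q = 1 := by
    have h4 : ((c * w * c⁻¹ : Subgroup.centralizer ({z} : Set G)) : G) ^ 8 = 1 := by
      have h : (⟨w, hw⟩ : O) ^ 8 = 1 := H.card ▸ pow_card_eq_one'
      rw [← SubmonoidClass.coe_pow, conj_pow, show w ^ 8 = 1 from congrArg Subtype.val h, mul_one,
        mul_inv_cancel]; rfl
    have h5 : (w' : G) ^ 8 = 1 := by
      have h : (⟨w', hw'⟩ : O) ^ 8 = 1 := H.card ▸ pow_card_eq_one'
      exact congrArg Subtype.val (congrArg Subtype.val h)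
    simp only [Subgroup.coe_mul, Subgroup.coe_inv] at h4
    rw [hd, ((show Commute (w' : G) q from L.z_comm w'.2 hqz)).mul_pow, h5, one_mul] at h4
    have h3 := L.exp q hq
    have := pow_gcd_eq_one.2 ⟨h4, h3⟩
    norm_num at this
    exact this
  rw [hq1, mul_one] at hd
  have : c * w * c⁻¹ = w' := Subtype.ext (by simp [hd])
  rw [this]
  exact hw'

/-- Change of an element within its coset of the radical to one commuting with `t`. -/
theorem exists_comm_t (c : Subgroup.centralizer ({z} : Set G)) :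
    ∃ c', π c' = π c ∧ ε c' = ε c ∧ Commute (t : G) (c' : G) := by
  have hneg : ∀ g : S2, g * -1 * g⁻¹ = -1 := by decide +kernel
  have hr : ((t⁻¹ * (c * t * c⁻¹) : Subgroup.centralizer ({z} : Set G)) : G) ∈ Q := (L.ker _).1
    ⟨by rw [map_mul, map_mul, map_mul, map_inv, map_inv, H.ht, hneg, inv_mul_cancel],
      by simp [map_mul, map_inv, H.ht']⟩
  set r := t⁻¹ * (c * t * c⁻¹) with hrdef
  have hr1 := (L.ker r).2 hr
  refine ⟨r⁻¹ * c, by rw [map_mul, map_inv, hr1.1, _root_.inv_one, one_mul],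
    by rw [map_mul, map_inv, hr1.2, _root_.inv_one, one_mul], ?_⟩
  have hsq : (t * r) * (t * r) = 1 := by
    rw [hrdef, mul_inv_cancel_left]
    calc c * t * c⁻¹ * (c * t * c⁻¹) = c * (t * t) * c⁻¹ := by group
      _ = 1 := by rw [H.ht2, mul_one, mul_inv_cancel]
  have hti : t⁻¹ = t := inv_eq_of_mul_eq_one_right H.ht2
  have htr : t * r * t = r⁻¹ := mul_eq_one_iff_eq_inv.1 (by rw [← hsq]; simp [mul_assoc])
  have hct : c * t * c⁻¹ = t * r := by rw [hrdef, mul_inv_cancel_left]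
  have h3 : r * r * r = 1 := Subtype.ext (by
    show (r : G) * r * r = 1
    rw [← pow_two, ← pow_succ]; exact L.exp _ hr)
  have h : t * (r⁻¹ * c) = r⁻¹ * c * t := by
    calc t * (r⁻¹ * c) = (t * r⁻¹ * t) * (t * c) := by
          rw [mul_assoc (t * r⁻¹) t, ← mul_assoc t t, H.ht2, one_mul, mul_assoc]
      _ = r * (t * c) := by
          rw [← htr]
          simp only [mul_assoc, ← mul_assoc t t, H.ht2, one_mul]
      _ = r⁻¹ * (t * r) * c := by
          rw [show r * (t * c) = r⁻¹ * ((r * r) * t * c) by group, show r * r = r⁻¹ from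
            mul_eq_one_iff_eq_inv.1 h3, ← htr]
          simp only [mul_assoc, ← mul_assoc t t, H.ht2, one_mul]
      _ = r⁻¹ * c * t := by rw [← hct]; group
  exact congrArg Subtype.val h

theorem exists_invol {c : Subgroup.centralizer ({z} : Set G)} (hπ : π c * π c = 1)
    (hct : Commute (t : G) (c : G)) :
    ∃ c', π c' = π c ∧ ε c' = ε c ∧ c' * c' = 1 ∧ Commute (t : G) (c' : G) := by
  have hq : ((c * c : Subgroup.centralizer ({z} : Set G)) : G) ∈ Q :=
    (L.ker _).1 ⟨by rw [map_mul, hπ], by rw [map_mul, L.eps_sq]⟩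
  refine ⟨c * c * c, by rw [map_mul, map_mul, hπ, one_mul],
    by rw [map_mul, map_mul, L.eps_sq, one_mul], ?_, (hct.mul_right hct).mul_right hct⟩
  calc c * c * c * (c * c * c) = (c * c) ^ 3 := by simp [pow_succ, mul_assoc]
    _ = 1 := Subtype.ext (by rw [SubmonoidClass.coe_pow, L.exp _ hq]; rfl)

/-- The outer involution (trivial if there is none). -/
theorem exists_u : ∃ u : Subgroup.centralizer ({z} : Set G),
    (m = 1 → u = 1) ∧ (m = 2 → ε u = -1) ∧ u * u = 1 ∧ (π u = 1 ∨ π u = -1) ∧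
    Commute (t : G) (u : G) ∧ (∀ w ∈ O, Commute (u : G) (w : G)) ∧
    ∀ v, Inv L H v → Commute (u : G) v := by
  rcases L.hm with hm | hm
  · exact ⟨1, fun _ => rfl, fun h => by omega, one_mul 1, Or.inl (map_one π), Commute.one_right _,
      fun w _ => Commute.one_left _, fun v _ => Commute.one_left _⟩
  obtain ⟨c, hc, hc'⟩ := L.surj 1 (-1) (Or.inl hm)
  obtain ⟨c1, h1, h1', h1t⟩ := L.exists_comm_t H c
  obtain ⟨u0, h2, h2', hu2, hut⟩ := L.exists_invol H (c := c1) (by rw [h1, hc, one_mul]) h1t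
  have hπ : π u0 = 1 := h2.trans (h1.trans hc)
  have hε : ε u0 = -1 := h2'.trans (h1'.trans hc')
  have hO : ∀ w ∈ O, Commute (u0 : G) (w : G) := fun w hw => by
    have h := H.inj _ (L.O_norm H hut hw) w hw (by simp [map_mul, map_inv, hπ])
    exact congrArg Subtype.val (mul_inv_eq_iff_eq_mul.1 h : u0 * w = w * u0)
  obtain ⟨v0, hv0, hv01⟩ : ∃ v, Inv L H v ∧ v ≠ 1 := by
    by_contra hno
    push Not at hno
    haveI : Nonempty {v : G // Inv L H v} := ⟨⟨1, L.inv_one H⟩⟩
    haveI : Subsingleton {v : G // Inv L H v} := ⟨fun a b => Subtype.ext ((hno _ a.2).trans (hno _ b.2).symm)⟩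
    have h := L.card_inv H
    rw [Nat.card_unique] at h
    omega
  have hv0' := L.inv_conj H u0.2 hut hv0
  obtain ⟨w, hw, hwv⟩ := L.O_trans H hv0 hv01 hv0' (fun h => hv01 (by
    calc v0 = (u0 : G)⁻¹ * ((u0 : G) * v0 * (u0 : G)⁻¹) * u0 := by group
      _ = 1 := by rw [h]; group))
  have hu0w : Commute (u0 : G) (w : G) := hO w hw
  -- `w * w` fixes `v0`
  have hww : w * w = 1 := by
    refine L.O_free H (mul_mem hw hw) hv0 hv01 ?_
    have e : (w : G) * ((w : G) * v0 * (w : G)⁻¹) * (w : G)⁻¹ = v0 := by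
      rw [hwv]
      calc (w : G) * ((u0 : G) * v0 * (u0 : G)⁻¹) * (w : G)⁻¹ =
            ((w : G) * u0) * v0 * ((w : G) * u0)⁻¹ := by group
        _ = ((u0 : G) * w) * v0 * ((u0 : G) * w)⁻¹ := by rw [hu0w.eq]
        _ = (u0 : G) * ((w : G) * v0 * (w : G)⁻¹) * (u0 : G)⁻¹ := by group
        _ = (u0 * u0 : Subgroup.centralizer ({z} : Set G)).1 * v0 *
            ((u0 * u0 : Subgroup.centralizer ({z} : Set G)) : G)⁻¹ := by
          rw [hwv, Subgroup.coe_mul]; group
        _ = v0 := by simp [hu2]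
    show ((w * w : Subgroup.centralizer ({z} : Set G)) : G) * v0 = v0 * _
    rw [Subgroup.coe_mul, ← mul_inv_eq_iff_eq_mul]
    rw [show (w : G) * w * v0 * ((w : G) * w)⁻¹ = (w : G) * ((w : G) * v0 * (w : G)⁻¹) * (w : G)⁻¹ by
      group, e]
  have hsel : ∀ u : Subgroup.centralizer ({z} : Set G), (∀ w ∈ O, Commute (u : G) (w : G)) →
      Commute (u : G) v0 → ∀ v, Inv L H v → Commute (u : G) v := by
    intro u hu hu0 v hv
    by_cases hv1 : v = 1
    · rw [hv1]; exact Commute.one_right _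
    obtain ⟨x, hx, rfl⟩ := L.O_trans H hv0 hv01 hv hv1
    exact ((hu x hx).mul_right hu0).mul_right (hu x hx).inv_right
  rcases H.sq w hw with rfl | rfl | h
  · refine ⟨u0, fun h => by omega, fun _ => hε, hu2, Or.inl hπ, hut, hO, hsel u0 hO ?_⟩
    rw [OneMemClass.coe_one, one_mul, _root_.inv_one, mul_one] at hwv
    exact mul_inv_eq_iff_eq_mul.1 hwv.symm
  · have hO' : ∀ x ∈ O, Commute ((w * u0 : Subgroup.centralizer ({z} : Set G)) : G) (x : G) := fun x hx => by
      rw [Subgroup.coe_mul]; exact Commute.mul_left (L.O_comm_t H hx) (hO x hx)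
    refine ⟨w * u0, fun h => by omega, fun _ => by rw [map_mul, H.ht', hε, one_mul], ?_,
      Or.inr (by rw [map_mul, H.ht, hπ, mul_one]), (Commute.refl _).mul_right hut, hO', hsel _ hO' ?_⟩
    · have hc : Commute u0 w := Subtype.ext hut.symm.eq
      rw [hc.mul_mul_mul_comm, hu2, mul_one, hww]
    · refine mul_inv_eq_iff_eq_mul.1 ?_
      rw [Subgroup.coe_mul, show (w : G) * (u0 : G) * v0 * ((w : G) * u0)⁻¹ =
        (w : G) * ((u0 : G) * v0 * (u0 : G)⁻¹) * (w : G)⁻¹ by group, ← hwv]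
      have hw2 : (w : G) * w = 1 := congrArg Subtype.val hww
      rw [show (w : G) * ((w : G) * v0 * (w : G)⁻¹) * (w : G)⁻¹ =
        ((w : G) * w) * v0 * ((w : G) * w)⁻¹ by group, hw2]
      simp
  · exfalso
    rw [hww] at h
    exact s2_facts.1 (by rw [← H.ht, ← h, map_one])

/-- An element of order three modulo the radical, commuting with `t` and `u`. -/
theorem exists_s {u : Subgroup.centralizer ({z} : Set G)} (hu2 : u * u = 1) (hut : Commute (t : G) (u : G))
    (hπu : π u = 1 ∨ π u = -1) :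
    ∃ s : Subgroup.centralizer ({z} : Set G), π s = pE ∧ ε s = 1 ∧ Commute (t : G) (s : G) ∧
      Commute (u : G) (s : G) := by
  obtain ⟨c, hc, hc'⟩ := L.surj pE 1 (Or.inr rfl)
  obtain ⟨s, h1, h1', hst⟩ := L.exists_comm_t H c
  have hneg : ∀ g : S2, (-1 : S2) * g * (-1)⁻¹ = g := by decide +kernel
  obtain ⟨q, hq, hd⟩ := L.eq_of_images H (c := s) (d := u * s * u⁻¹)
    (by rcases hπu with h | h <;> simp [map_mul, map_inv, h, hneg])
    (by simp only [map_mul, map_inv]; rw [mul_comm (ε u) (ε s), mul_assoc, mul_inv_cancel, mul_one])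
  simp only [Subgroup.coe_mul, Subgroup.coe_inv] at hd
  have hui : (u : G)⁻¹ = u := inv_eq_of_mul_eq_one_right (congrArg Subtype.val hu2)
  have hu2' : (u : G) * u = 1 := congrArg Subtype.val hu2
  have hqt : Commute (t : G) q := by
    have h1 : Commute (t : G) ((s : G)⁻¹ * ((u : G) * s * (u : G)⁻¹)) :=
      hst.inv_right.mul_right ((hut.mul_right hst).mul_right hut.inv_right)
    rwa [hd, inv_mul_cancel_left] at h1
  have huq : q * ((u : G) * q * (u : G)⁻¹) = 1 := by
    have h : (u : G) * ((u : G) * s * (u : G)⁻¹) * (u : G)⁻¹ = s := by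
      rw [hui, show (u : G) * ((u : G) * s * u) * u = ((u : G) * u) * s * ((u : G) * u) by group, hu2',
        one_mul, mul_one]
    rw [hd, show (u : G) * ((s : G) * q) * (u : G)⁻¹ = ((u : G) * s * (u : G)⁻¹) * ((u : G) * q * (u : G)⁻¹) by
      group, hd, mul_assoc] at h
    exact mul_eq_left.1 h
  let qc : Subgroup.centralizer ({z} : Set G) := ⟨q, L.le hq⟩
  have hk := (L.ker qc).2 hq
  refine ⟨s * qc * qc, by simp [map_mul, hk.1, h1, hc], by simp [map_mul, hk.2, h1', hc'],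
    (hst.mul_right hqt).mul_right hqt, ?_⟩
  show (u : G) * ((s : G) * q * q) = (s : G) * q * q * u
  have hq' : (u : G) * q * (u : G)⁻¹ = q⁻¹ := eq_inv_of_mul_eq_one_right huq
  have h3 : q * q * q = 1 := by rw [← pow_two, ← pow_succ]; exact L.exp q hq
  rw [← mul_inv_eq_iff_eq_mul]
  calc (u : G) * ((s : G) * q * q) * (u : G)⁻¹ =
        ((u : G) * s * (u : G)⁻¹) * ((u : G) * q * (u : G)⁻¹) * ((u : G) * q * (u : G)⁻¹) := by group
    _ = (s : G) * q * q⁻¹ * q⁻¹ := by rw [hd, hq']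
    _ = (s : G) * (q * q * q) * q⁻¹ := by rw [h3]; group
    _ = _ := by group

/-- A fixed point of an element of order three on the inverted half. -/
theorem exists_fixed {s : Subgroup.centralizer ({z} : Set G)} (hst : Commute (t : G) (s : G))
    (h3 : π s ^ 3 = 1) (hε : ε s = 1) : ∃ v, Inv L H v ∧ v ≠ 1 ∧ Commute (s : G) v := by
  classical
  haveI : Fact (Nat.Prime 3) := ⟨Nat.prime_three⟩
  let X := {x : {v : G // Inv L H v} // x ≠ ⟨1, L.inv_one H⟩}
  let f : X → X := fun x =>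
    ⟨⟨(s : G) * x.1.1 * (s : G)⁻¹, L.inv_conj H s.2 hst x.1.2⟩, fun h => x.2 (Subtype.ext (by
      have h' : (s : G) * x.1.1 * (s : G)⁻¹ = 1 := congrArg Subtype.val h
      calc x.1.1 = (s : G)⁻¹ * ((s : G) * x.1.1 * (s : G)⁻¹) * (s : G) := by group
        _ = 1 := by rw [h']; group))⟩
  have hs3 : ((s ^ 3 : Subgroup.centralizer ({z} : Set G)) : G) ∈ Q :=
    (L.ker _).1 ⟨by rw [map_pow, h3], by rw [map_pow, hε, one_pow]⟩
  have hfix : ∀ x : X, f (f (f x)) = x := by
    intro x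
    refine Subtype.ext (Subtype.ext ?_)
    have hc : Commute ((s : G) ^ 3) x.1.1 := by
      rw [SubmonoidClass.coe_pow] at hs3
      exact L.fix_inv_comm t.2 hs3 x.1.2.1 (hst.pow_right 3).eq x.1.2.2
    show (s : G) * ((s : G) * ((s : G) * x.1.1 * (s : G)⁻¹) * (s : G)⁻¹) * (s : G)⁻¹ = x.1.1
    calc _ = (s : G) ^ 3 * x.1.1 * ((s : G) ^ 3)⁻¹ := by simp [pow_succ, mul_assoc]
      _ = _ := by rw [hc.eq, mul_inv_cancel_right]
  let e : Equiv.Perm X := ⟨f, fun x => f (f x), hfix, hfix⟩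
  have := Fintype.ofFinite X
  have hX : ¬ 3 ∣ Fintype.card X := by
    have := Fintype.ofFinite {v : G // Inv L H v}
    rw [← Nat.card_eq_fintype_card]
    show ¬ 3 ∣ Nat.card {x : {v : G // Inv L H v} // x ≠ ⟨1, L.inv_one H⟩}
    rw [Nat.card_eq_fintype_card, Fintype.card_subtype_compl, Fintype.card_subtype_eq,
      ← Nat.card_eq_fintype_card, L.card_inv H]
    norm_num
  obtain ⟨x, hx⟩ := Equiv.Perm.exists_fixed_point_of_prime (p := 3) (n := 1) (σ := e) hX (by
    refine Equiv.ext fun x => ?_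
    show e (e (e x)) = x
    exact hfix x)
  refine ⟨x.1.1, x.1.2, fun h => x.2 (Subtype.ext h), ?_⟩
  exact mul_inv_eq_iff_eq_mul.1 (congrArg (fun y : X => (y.1.1 : G)) hx)

/-- An element of order three does not centralise the inverted half. -/
theorem s_moves {s : Subgroup.centralizer ({z} : Set G)} (hst : Commute (t : G) (s : G))
    (hπ : π s ≠ 1 ∧ π s ≠ -1) (hall : ∀ v, Inv L H v → Commute (s : G) v) : False := by
  obtain ⟨v0, hv0, hv01⟩ : ∃ v, Inv L H v ∧ v ≠ 1 := by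
    by_contra hno
    push Not at hno
    haveI : Nonempty {v : G // Inv L H v} := ⟨⟨1, L.inv_one H⟩⟩
    haveI : Subsingleton {v : G // Inv L H v} := ⟨fun a b => Subtype.ext ((hno _ a.2).trans (hno _ b.2).symm)⟩
    have h := L.card_inv H
    rw [Nat.card_unique] at h
    omega
  rcases s2_commutant (π s) fun g hg => by
    obtain ⟨w, hw, rfl⟩ := L.O_image H hg
    have h1 : (s * w * s⁻¹) * w⁻¹ = 1 := by
      refine L.O_free H (mul_mem (L.O_norm H hst hw) (inv_mem hw)) hv0 hv01 ?_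
      have hwv : Inv L H ((w : G)⁻¹ * v0 * w) := by
        simpa using L.inv_conj H (inv_mem w.2) (L.O_comm_t H hw).inv_right hv0
      have hs1 := (hall _ hwv)
      show ((s * w * s⁻¹ * w⁻¹ : Subgroup.centralizer ({z} : Set G)) : G) * v0 = v0 * _
      rw [← mul_inv_eq_iff_eq_mul]
      simp only [Subgroup.coe_mul, Subgroup.coe_inv]
      calc (s : G) * w * (s : G)⁻¹ * (w : G)⁻¹ * v0 * ((s : G) * w * (s : G)⁻¹ * (w : G)⁻¹)⁻¹
          = (s : G) * w * ((s : G)⁻¹ * ((w : G)⁻¹ * v0 * w) * s) * (w : G)⁻¹ * (s : G)⁻¹ := by group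
        _ = (s : G) * v0 * (s : G)⁻¹ := by
            rw [show (s : G)⁻¹ * ((w : G)⁻¹ * v0 * w) * s = (w : G)⁻¹ * v0 * w by
              rw [hs1.inv_left.eq, inv_mul_cancel_right]]
            group
        _ = v0 := by rw [(hall v0 hv0).eq, mul_inv_cancel_right]
    have h2 : s * w = w * s := mul_inv_eq_iff_eq_mul.1 (mul_inv_eq_one.1 h1)
    rw [← map_mul, ← map_mul, h2] with h | h
  · exact hπ.1 h
  · exact hπ.2 h

end Pre

end CfsgLib.OEightLocal
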