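import Cfsg.Agent.Lib.OEightLocal.FusionC

/-!
A conjugate of `z` in `J` outside the radical, and the normalisation of the element of order three.
-/

set_option autoImplicit false
set_option linter.unusedSectionVars false

namespace CfsgLib.OEightLocal

open CfsgLib.LFourThree (S2 pE sE closure_ps)

namespace Pre

variable {G : Type*} [Group G] [Finite G] {z : G} {Q : Subgroup G} {m : ℕ}
  {π : Subgroup.centralizer ({z} : Set G) →* S2} {ε : Subgroup.centralizer ({z} : Set G) →* ℤˣ}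
  {L : Pre z Q m π ε} {t : Subgroup.centralizer ({z} : Set G)}
  {O : Subgroup (Subgroup.centralizer ({z} : Set G))} {H : Quat π ε t O}
  {u s : Subgroup.centralizer ({z} : Set G)} {i₁ i₂ p a : G}
  (S : Std L H u s i₁ i₂ p a 1 (-1)) (hs : (s : G) ^ 3 = 1)
include S hs

theorem Std.conj_off : ∃ v : V, v 3 ≠ 0 ∧
    IsConj z (el z i₁ i₂ p a ![v 0, v 1, v 2, 0, 0] * (s : G) ^ (v 3).val) := by
  by_contra hno
  push Not at hno
  obtain ⟨u0, u1, u2, u3, u4⟩ := (Frame.el_units : el z i₁ i₂ p a ![1, 0, 0, 0, 0] = z ∧ _)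
  have hR : ∀ x ∈ Subgroup.closure {z, i₁, i₂, (s : G)}, IsConj z x →
      ∃ e : E, x = el z i₁ i₂ p a e ∧ e 3 = 0 ∧ e 4 = 0 := by
    intro x hx hc
    obtain ⟨v, rfl⟩ := (S.mem_J hs).1 hx
    by_cases h3 : v 3 = 0
    · exact ⟨_, by rw [h3, ZMod.val_zero, pow_zero, mul_one], by simp, by simp⟩
    · exact absurd hc (hno v h3)
  have hzc : ∀ e : E, el z i₁ i₂ p a e ∈ Subgroup.zpowers z → e 1 = 0 ∧ e 2 = 0 := by
    intro e he
    obtain ⟨n, hn⟩ := Subgroup.mem_zpowers_iff.1 he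
    have hc : ∀ g : E, pair e g = 0 := fun g => S.F.el_commute.1 (by
      rw [← hn]
      exact ((show Commute (el z i₁ i₂ p a g) z from L.mem_cz.1 (L.le (S.mem g))).zpow_right _).symm)
    have b1 := hc ![0, 0, 0, 1, 0]
    have b2 := hc ![0, 0, 0, 0, 1]
    simp [pair] at b1 b2
    exact ⟨b1, b2⟩
  have hsh : ∀ e : E, IsConj z (el z i₁ i₂ p a e) → el z i₁ i₂ p a e ∉ Subgroup.zpowers z →
      e 2 ≠ 0 ∧ ¬ (e 1 = 0 ∧ e 3 = 0) := by
    intro e hc he
    obtain ⟨g, hg⟩ := isConj_iff.1 hc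
    obtain ⟨f, hf, -, h2, h13⟩ := S.shape hs (g := g) (hg ▸ S.mem e) (hg ▸ he)
    rw [hg] at hf
    rw [S.F.el_injective hf]
    exact ⟨h2, h13⟩
  obtain ⟨α, β, hα, hβ, hconj⟩ := S.seed hs
  obtain ⟨g, hg⟩ := isConj_iff.1 (hconj 0)
  set Y := el z i₁ i₂ p a ![0, α, β, 0, 0] with hY
  set Y' := el z i₁ i₂ p a ![0, -α, β, 0, 0] with hY'
  have hYJ : Y ∈ Subgroup.closure {z, i₁, i₂, (s : G)} := (S.mem_J hs).2 ⟨![0, α, β, 0], by simp [hY]⟩
  have hY'J : Y' ∈ Subgroup.closure {z, i₁, i₂, (s : G)} :=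
    (S.mem_J hs).2 ⟨![0, -α, β, 0], by simp [hY']⟩
  obtain ⟨n, hn, hne⟩ := S.burnside hs (g := g) (hg ▸ hYJ)
  rw [hg] at hne
  have hYc' : IsConj z Y' := by
    refine (hconj 0).trans (isConj_iff.2 ⟨(t : G), ?_⟩)
    rw [L.conj_t H S.F S.v1 S.vp S.t2 S.ta, hY']
    exact congrArg _ (by apply ext5 <;> simp [ft])
  set v := n⁻¹ * Y' * n with hv
  have hvJ : v ∈ Subgroup.closure {z, i₁, i₂, (s : G)} := by
    have h := (Subgroup.mem_normalizer_iff.1 (inv_mem hn) Y').1 hY'J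
    rwa [inv_inv] at h
  have hvc : IsConj z v := hYc'.trans (isConj_iff.2 ⟨n⁻¹, by rw [inv_inv]⟩)
  have hvz : v ∉ Subgroup.zpowers z := by
    intro h
    obtain ⟨k, hk⟩ := Subgroup.mem_zpowers_iff.1 h
    have hYY : Y' = Y ^ k := by rw [← hne, conj_zpow, hk, hv]; group
    rcases L.zpow_cases h with h0 | h0 | h0
    · have : Y' = 1 := by
        calc Y' = n * v * n⁻¹ := by rw [hv]; group
          _ = 1 := by rw [h0]; group
      exact hα (neg_eq_zero.1 (by simpa using congrFun (S.F.el_eq_zero this) 1))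
    · have : Y' = Y := by
        calc Y' = n * v * n⁻¹ := by rw [hv]; group
          _ = Y := by rw [h0, hne]
      have := congrFun (S.F.el_injective this) 1
      simp at this
      exact hα ((by decide : ∀ x : ZMod 3, -x = x → x = 0) α this)
    · have : Y' = Y⁻¹ := by
        calc Y' = n * v * n⁻¹ := by rw [hv]; group
          _ = Y⁻¹ := by rw [h0, ← conj_inv, hne]
      rw [hY, S.F.el_inv] at this
      have := congrFun (S.F.el_injective this) 2
      simp [einv] at this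
      exact hβ ((by decide : ∀ x : ZMod 3, x = -x → x = 0) β this)
  obtain ⟨e, hev, he3, he4⟩ := hR v hvJ hvc
  obtain ⟨he2, he13⟩ := hsh e (hev ▸ hvc) (hev ▸ hvz)
  have he1 : e 1 ≠ 0 := fun h => he13 ⟨h, he3⟩
  -- `v * z` is conjugate to `v`, hence `Y' * Y` would be a conjugate of `z`
  have hvzc : IsConj z (v * z) := by
    refine hvc.trans (isConj_iff.2 ⟨el z i₁ i₂ p a ![0, 0, 0, e 1, 0], ?_⟩)
    rw [hev, S.F.el_conj, show el z i₁ i₂ p a e * z = el z i₁ i₂ p a (emul e ![1, 0, 0, 0, 0]) by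
      rw [← S.F.el_mul, u0]]
    refine congrArg _ ?_
    apply ext5 <;> simp [econj, emul, he3, he4]
    rw [(by decide : ∀ x : ZMod 3, x ≠ 0 → x * x = 1) _ he1]
  have hprod : IsConj z (el z i₁ i₂ p a (emul ![0, -α, β, 0, 0] ![0, α, β, 0, 0])) := by
    refine hvzc.trans (isConj_iff.2 ⟨n, ?_⟩)
    rw [← S.F.el_mul, ← hY, ← hY', hv, ← hne]
    group
  refine (hsh _ hprod fun h => ?_).2 ⟨by simp [emul], by simp [emul]⟩
  have := (hzc _ h).2
  simp [emul] at this
  exact hβ ((by decide : ∀ x : ZMod 3, x + x = 0 → x = 0) β this)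

omit S hs in
/-- Adapted generators with the element of order three conjugate to `z`. -/
theorem exists_std'' (L : Pre z Q m π ε) (H : Quat π ε t O) :
    ∃ u s i₁ i₂ p a, Std L H u s i₁ i₂ p a 1 (-1) ∧ (s : G) ^ 3 = 1 ∧ IsConj z (s : G) := by
  obtain ⟨u, s, i₁, i₂, p, a, S, hs⟩ := L.exists_std' H
  obtain ⟨v0, h30, hc0⟩ := S.conj_off hs
  obtain ⟨v, hv3, hc⟩ : ∃ v : V, v 3 = 1 ∧
      IsConj z (el z i₁ i₂ p a ![v 0, v 1, v 2, 0, 0] * (s : G) ^ (v 3).val) := by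
    rcases (show ∀ x : ZMod 3, x ≠ 0 → x = 1 ∨ x = -1 by decide) (v0 3) h30 with h | h
    · exact ⟨v0, h, hc0⟩
    refine ⟨-v0, by simp [h], ?_⟩
    have hinv : el z i₁ i₂ p a ![(-v0) 0, (-v0) 1, (-v0) 2, 0, 0] * (s : G) ^ ((-v0) 3).val =
        (el z i₁ i₂ p a ![v0 0, v0 1, v0 2, 0, 0] * (s : G) ^ (v0 3).val)⁻¹ := by
      refine eq_inv_of_mul_eq_one_left ?_
      rw [S.je_add hs, neg_add_cancel]
      simp [el]
    rw [hinv]
    obtain ⟨n, -, hn⟩ := S.exists_inv hs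
    obtain ⟨g, hg⟩ := isConj_iff.1 hc0
    refine isConj_iff.2 ⟨g * n, ?_⟩
    rw [show g * n * z * (g * n)⁻¹ = g * (n * z * n⁻¹) * g⁻¹ by group, hn, ← conj_inv, hg]
  obtain ⟨hap, haa⟩ := S.act_pa hs
  have hmove : ∀ (g : G) (f : V → V), (∀ w : V,
      g * (el z i₁ i₂ p a ![w 0, w 1, w 2, 0, 0] * (s : G) ^ (w 3).val) * g⁻¹ =
        el z i₁ i₂ p a ![(f w) 0, (f w) 1, (f w) 2, 0, 0] * (s : G) ^ ((f w) 3).val) →
      ∀ w : V, IsConj z (el z i₁ i₂ p a ![w 0, w 1, w 2, 0, 0] * (s : G) ^ (w 3).val) →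
        IsConj z (el z i₁ i₂ p a ![(f w) 0, (f w) 1, (f w) 2, 0, 0] * (s : G) ^ ((f w) 3).val) :=
    fun g f hf w hw => hw.trans (isConj_iff.2 ⟨g, hf w⟩)
  have hiter : ∀ (i j : ℕ), IsConj z (el z i₁ i₂ p a ![(fp^[i] (fa^[j] v)) 0, (fp^[i] (fa^[j] v)) 1,
      (fp^[i] (fa^[j] v)) 2, 0, 0] * (s : G) ^ ((fp^[i] (fa^[j] v)) 3).val) := by
    intro i j
    induction i with
    | zero =>
      induction j with
      | zero => exact hc
      | succ j ih => rw [Function.iterate_succ_apply']; exact hmove a fa haa _ ih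
    | succ i ih => rw [Function.iterate_succ_apply']; exact hmove p fp hap _ ih
  obtain ⟨i, j, h1, h2, h3⟩ : ∃ i j : Fin 3, (fp^[i.val] (fa^[j.val] v)) 1 = 0 ∧
      (fp^[i.val] (fa^[j.val] v)) 2 = 0 ∧ (fp^[i.val] (fa^[j.val] v)) 3 = 1 :=
    (by decide +kernel : ∀ v : V, v 3 = 1 → ∃ i j : Fin 3, (fp^[i.val] (fa^[j.val] v)) 1 = 0 ∧
      (fp^[i.val] (fa^[j.val] v)) 2 = 0 ∧ (fp^[i.val] (fa^[j.val] v)) 3 = 1) v hv3
  have hfin := hiter i.val j.val
  rw [h1, h2, h3, ZMod.val_one, pow_one, Frame.el_z] at hfin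
  set k := ((fp^[i.val] (fa^[j.val] v)) 0).val
  let zc : Subgroup.centralizer ({z} : Set G) := ⟨z, L.le L.zmem⟩
  have hzc := (L.ker zc).2 L.zmem
  have hzs : Commute (z ^ k) (s : G) :=
    ((show Commute (s : G) z from L.mem_cz.1 s.2).symm).pow_left k
  refine ⟨u, zc ^ k * s, i₁, i₂, p, a, ?_, ?_, ?_⟩
  · have hfix : ∀ x : G, Commute z x → (z ^ k * (s : G)) * x * (z ^ k * (s : G))⁻¹ = (s : G) * x * (s : G)⁻¹ := by
      intro x hx
      rw [hzs.eq, show (s : G) * z ^ k * x * ((s : G) * z ^ k)⁻¹ =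
        (s : G) * (z ^ k * x * (z ^ k)⁻¹) * (s : G)⁻¹ by group, (hx.pow_left k).eq, mul_inv_cancel_right]
    exact
      { S with
        us := by
          simp only [Subgroup.coe_mul, SubmonoidClass.coe_pow]
          exact ((show Commute (u : G) z from L.mem_cz.1 u.2).pow_right k).mul_right S.us
        st := by
          simp only [Subgroup.coe_mul, SubmonoidClass.coe_pow]
          exact ((show Commute (t : G) z from L.mem_cz.1 t.2).pow_right k).mul_right S.st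
        s_pi := by rw [map_mul, map_pow, hzc.1, one_pow, one_mul]; exact S.s_pi
        s_eps := by rw [map_mul, map_pow, hzc.2, one_pow, one_mul]; exact S.s_eps
        s1 := by
          simp only [Subgroup.coe_mul, SubmonoidClass.coe_pow]
          exact (S.F.hz1.pow_left k).mul_left S.s1
        s2 := by
          simp only [Subgroup.coe_mul, SubmonoidClass.coe_pow]
          exact (S.F.hz2.pow_left k).mul_left S.s2
        sp := by
          simp only [Subgroup.coe_mul, SubmonoidClass.coe_pow]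
          rw [hfix p S.F.hzp]; exact S.sp
        sa := by
          simp only [Subgroup.coe_mul, SubmonoidClass.coe_pow]
          rw [hfix a S.F.hza]; exact S.sa }
  · simp only [Subgroup.coe_mul, SubmonoidClass.coe_pow]
    rw [hzs.mul_pow, hs, ← pow_mul, mul_comm k, pow_mul, L.z_cube, one_pow, one_mul]
  · simpa [Subgroup.coe_mul, SubmonoidClass.coe_pow, zc] using hfin

end Pre

end CfsgLib.OEightLocal
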