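import Cfsg.Agent.Lib.OEightLocal.Regular

/-!
Adapted generators of the radical, the outer involution and the element of order three.
-/

set_option autoImplicit false
set_option linter.unusedSectionVars false

namespace CfsgLib.OEightLocal

open CfsgLib.LFourThree (S2 pE sE closure_ps)

theorem mat_invol : ∀ x2 x4 y2 y4 : ZMod 3, x2 * y4 - x4 * y2 = 1 → x2 * x2 + x4 * y2 = 1 →
    x2 * x4 + x4 * y4 = 0 → y2 * x2 + y4 * y2 = 0 → y2 * x4 + y4 * y4 = 1 →
    x4 = 0 ∧ y2 = 0 ∧ ((x2 = 1 ∧ y4 = 1) ∨ (x2 = -1 ∧ y4 = -1)) := by decide +kernel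

/-- The action on the fixed half. -/
def mT (x2 x4 y2 y4 : ZMod 3) (v : ZMod 3 × ZMod 3) : ZMod 3 × ZMod 3 :=
  (v.1 * x2 + v.2 * y2, v.1 * x4 + v.2 * y4)

theorem mat_order : ∀ x2 x4 y2 y4 : ZMod 3, x2 * y4 - x4 * y2 = 1 →
    mT x2 x4 y2 y4 (mT x2 x4 y2 y4 (mT x2 x4 y2 y4 (1, 0))) = (1, 0) →
    mT x2 x4 y2 y4 (mT x2 x4 y2 y4 (mT x2 x4 y2 y4 (0, 1))) = (0, 1) →
    ∃ v w r q : ZMod 3, mT x2 x4 y2 y4 (v, w) = (v, w) ∧ v * q - w * r = 1 := by
  unfold mT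
  decide +kernel

namespace Pre

variable {G : Type*} [Group G]

theorem pow_val_neg {x : G} (hx : x ^ 3 = 1) (a : ZMod 3) : x ^ (-a).val = x⁻¹ ^ a.val := by
  rw [inv_pow]
  exact eq_inv_of_mul_eq_one_left (by rw [← pow_val_add' hx, neg_add_cancel, ZMod.val_zero, pow_zero])

/-- The coordinates of an element of the fixed half. -/
def v2 (k v w : ZMod 3) : E := ![k, 0, v, 0, w]

theorem el2 {z i₁ i₂ p a : G} (k v w : ZMod 3) :
    el z i₁ i₂ p a (v2 k v w) = z ^ k.val * i₂ ^ v.val * a ^ w.val := by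
  simp [el, v2]

theorem conj2 {z i₁ i₂ p a g : G} (F : Frame z i₁ i₂ p a) (hg : Commute g z) {x0 x2 x4 y0 y2 y4 : ZMod 3}
    (hx : g * i₂ * g⁻¹ = el z i₁ i₂ p a (v2 x0 x2 x4)) (hy : g * a * g⁻¹ = el z i₁ i₂ p a (v2 y0 y2 y4))
    (k v w : ZMod 3) : ∃ k', g * el z i₁ i₂ p a (v2 k v w) * g⁻¹ =
      el z i₁ i₂ p a (v2 k' (v * x2 + w * y2) (v * x4 + w * y4)) := by
  refine ⟨emul (emul (v2 k 0 0) (epow v (v2 x0 x2 x4))) (epow w (v2 y0 y2 y4)) 0, ?_⟩
  calc g * el z i₁ i₂ p a (v2 k v w) * g⁻¹ =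
        (g * z * g⁻¹) ^ k.val * (g * i₂ * g⁻¹) ^ v.val * (g * a * g⁻¹) ^ w.val := by
        simp only [el2, conj_pow]; group
    _ = el z i₁ i₂ p a (v2 k 0 0) * el z i₁ i₂ p a (epow v (v2 x0 x2 x4)) *
          el z i₁ i₂ p a (epow w (v2 y0 y2 y4)) := by
        rw [hx, hy, F.el_pow, F.el_pow, hg.eq, mul_inv_cancel_right, el2]
        simp
    _ = _ := by
        rw [F.el_mul, F.el_mul]
        congr 1
        apply ext5 <;> simp [emul, epow, v2]

variable [Finite G] {z : G} {Q : Subgroup G} {m : ℕ}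
  {π : Subgroup.centralizer ({z} : Set G) →* S2} {ε : Subgroup.centralizer ({z} : Set G) →* ℤˣ}
  (L : Pre z Q m π ε) {t : Subgroup.centralizer ({z} : Set G)}
  {O : Subgroup (Subgroup.centralizer ({z} : Set G))} (H : Quat π ε t O)

/-- The generators adapted to `t`, `u` and `s`. -/
structure Std (L : Pre z Q m π ε) (H : Quat π ε t O) (u s : Subgroup.centralizer ({z} : Set G))
    (i₁ i₂ p a : G) (c l : ZMod 3) : Prop where
  F : Frame z i₁ i₂ p a
  v1 : Inv L H i₁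
  vp : Inv L H p
  q2 : i₂ ∈ Q
  t2 : Commute (t : G) i₂
  qa : a ∈ Q
  ta : Commute (t : G) a
  u_one : m = 1 → u = 1
  u_eps : m = 2 → ε u = -1
  u_sq : u * u = 1
  u_pi : π u = 1 ∨ π u = -1
  ut : Commute (t : G) (u : G)
  uO : ∀ w ∈ O, Commute (u : G) (w : G)
  uV : ∀ v, Inv L H v → Commute (u : G) v
  u_a : m = 2 → (u : G) * a * (u : G)⁻¹ = a⁻¹
  u_2 : m = 2 → (u : G) * i₂ * (u : G)⁻¹ = i₂⁻¹
  us : Commute (u : G) (s : G)
  st : Commute (t : G) (s : G)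
  s_pi : π s = pE ∨ π s = pE * pE
  s_eps : ε s = 1
  s1 : Commute (s : G) i₁
  s2 : Commute (s : G) i₂
  sp : (s : G) * p * (s : G)⁻¹ = p * i₁ * z
  sa : (s : G) * a * (s : G)⁻¹ = a * i₂ ^ c.val * z ^ l.val

include L

theorem zpow_cases {c : G} (hc : c ∈ Subgroup.zpowers z) : c = 1 ∨ c = z ∨ c = z⁻¹ := by
  obtain ⟨n, rfl⟩ := Subgroup.mem_zpowers_iff.1 hc
  rw [← zpow_mod_orderOf, L.ord]
  have h1 : n % (3 : ℕ) < 3 := Int.emod_lt_of_pos n (by norm_num)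
  have h2 : 0 ≤ n % (3 : ℕ) := Int.emod_nonneg n (by norm_num)
  rcases (show n % (3 : ℕ) = 0 ∨ n % (3 : ℕ) = 1 ∨ n % (3 : ℕ) = 2 by omega) with h | h | h <;> rw [h]
  · exact Or.inl (zpow_zero z)
  · exact Or.inr (Or.inl (zpow_one z))
  · exact Or.inr (Or.inr (eq_inv_of_mul_eq_one_left (by
      rw [← zpow_add_one, show (2 : ℤ) + 1 = ((3 : ℕ) : ℤ) from rfl, zpow_natCast, L.z_cube])))

theorem pair_z {x y : G} (hx : x ∈ Q) (hy : y ∈ Q) (hne : ¬ Commute x y) :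
    x * y = z * y * x ∨ x⁻¹ * y = z * y * x⁻¹ := by
  have hc := L.comm x hx y hy
  rcases L.zpow_cases hc with h | h | h
  · rw [mul_inv_eq_one, mul_inv_eq_iff_eq_mul] at h
    exact absurd h hne
  · left
    rw [mul_inv_eq_iff_eq_mul, mul_inv_eq_iff_eq_mul] at h
    exact h
  · right
    rw [mul_inv_eq_iff_eq_mul, mul_inv_eq_iff_eq_mul] at h
    have hxz : Commute x z := L.mem_cz.1 (L.le hx)
    calc x⁻¹ * y = (x⁻¹ * z) * (z⁻¹ * y * x) * x⁻¹ := by group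
      _ = (z * x⁻¹) * (x * y) * x⁻¹ := by rw [hxz.inv_left.eq, h]
      _ = _ := by group

include H

theorem exists_noncomm {v : G} (hv : Inv L H v) (hv1 : v ≠ 1) : ∃ w, Inv L H w ∧ ¬ Commute w v := by
  by_contra hno
  push Not at hno
  have hcz := L.center v hv.1 fun b hb => by
    obtain ⟨f, hf, w, hw, htf, htw, rfl⟩ := L.split t.2 (congrArg Subtype.val H.ht2) hb
    exact ((show Commute v f from (L.fix_inv_comm t.2 hf hv.1 htf hv.2).symm).mul_right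
      (hno w ⟨hw, htw⟩).symm).eq
  exact hv1 (L.inv_fixed H hv (L.z_comm t.2 hcz))

theorem exists_fix_pair : ∃ x y, x ∈ Q ∧ Commute (t : G) x ∧ y ∈ Q ∧ Commute (t : G) y ∧
    x * y = z * y * x := by
  have hmem : ∀ f, f ∈ Q ⊓ Subgroup.centralizer ({(t : G)} : Set G) ↔ f ∈ Q ∧ Commute (t : G) f :=
    fun f => by
      rw [Subgroup.mem_inf, Subgroup.mem_centralizer_singleton_iff]
      exact and_congr_right' eq_comm
  obtain ⟨x, y, hx, hy, hne⟩ : ∃ x y, (x ∈ Q ∧ Commute (t : G) x) ∧ (y ∈ Q ∧ Commute (t : G) y) ∧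
      ¬ Commute x y := by
    by_contra hno
    push Not at hno
    have hle : Q ⊓ Subgroup.centralizer ({(t : G)} : Set G) ≤ Subgroup.zpowers z := fun f hf =>
      L.center f ((hmem f).1 hf).1 fun b hb => by
        obtain ⟨g, hg, w, hw, htg, htw, rfl⟩ := L.split t.2 (congrArg Subtype.val H.ht2) hb
        exact ((hno f g ((hmem f).1 hf) ⟨hg, htg⟩).mul_right
          (L.fix_inv_comm t.2 ((hmem f).1 hf).1 hw ((hmem f).1 hf).2.eq htw)).eq
    have h := Subgroup.card_le_of_le hle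
    rw [L.card_fixed H.ht H.ht' H.ht2, L.card_zpowers] at h
    norm_num at h
  rcases L.pair_z hx.1 hy.1 hne with h | h
  · exact ⟨x, y, hx.1, hx.2, hy.1, hy.2, h⟩
  · exact ⟨x⁻¹, y, inv_mem hx.1, hx.2.inv_right, hy.1, hy.2, h⟩

theorem frame_of {i₁ p i₂ a : G} (h1 : Inv L H i₁) (hp : Inv L H p) (hx : i₂ ∈ Q) (htx : Commute (t : G) i₂)
    (ha : a ∈ Q) (hta : Commute (t : G) a) (rp : p * i₁ = z * i₁ * p) (ra : i₂ * a = z * a * i₂) :
    Frame z i₁ i₂ p a where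
  z_ne := L.z_ne
  cz := L.z_cube
  c1 := L.exp _ h1.1
  c2 := L.exp _ hx
  cp := L.exp _ hp.1
  ca := L.exp _ ha
  hz1 := (show Commute i₁ z from L.mem_cz.1 (L.le h1.1)).symm
  hz2 := (show Commute i₂ z from L.mem_cz.1 (L.le hx)).symm
  hzp := (show Commute p z from L.mem_cz.1 (L.le hp.1)).symm
  hza := (show Commute a z from L.mem_cz.1 (L.le ha)).symm
  h12 := (L.fix_inv_comm t.2 hx h1.1 htx.eq h1.2 : Commute i₂ i₁).symm
  hpa := (L.fix_inv_comm t.2 ha hp.1 hta.eq hp.2 : Commute a p).symm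
  hp2 := (L.fix_inv_comm t.2 hx hp.1 htx.eq hp.2 : Commute i₂ p).symm
  ha1 := L.fix_inv_comm t.2 ha h1.1 hta.eq h1.2
  rp := rp
  ra := ra

theorem el_surj {i₁ p i₂ a : G} (F : Frame z i₁ i₂ p a) (h1 : i₁ ∈ Q) (hp : p ∈ Q) (hx : i₂ ∈ Q)
    (ha : a ∈ Q) {q : G} (hq : q ∈ Q) : ∃ e, el z i₁ i₂ p a e = q :=
  F.exists_el L.card L.zmem h1 hx hp ha hq

theorem el_mem {i₁ p i₂ a : G} (h1 : i₁ ∈ Q) (hp : p ∈ Q) (hx : i₂ ∈ Q) (ha : a ∈ Q) (e : E) :
    el z i₁ i₂ p a e ∈ Q :=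
  mul_mem (mul_mem (mul_mem (mul_mem (pow_mem L.zmem _) (pow_mem h1 _)) (pow_mem hx _)) (pow_mem hp _))
    (pow_mem ha _)

theorem conj_t {i₁ p i₂ a : G} (F : Frame z i₁ i₂ p a) (h1 : Inv L H i₁) (hp : Inv L H p)
    (htx : Commute (t : G) i₂) (hta : Commute (t : G) a) (e : E) :
    (t : G) * el z i₁ i₂ p a e * (t : G)⁻¹ = el z i₁ i₂ p a (ft e) := by
  have hfix : ∀ x, Commute (t : G) x → (t : G) * x * (t : G)⁻¹ = x := fun x hx => by
    rw [hx.eq, mul_inv_cancel_right]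
  calc (t : G) * el z i₁ i₂ p a e * (t : G)⁻¹ = ((t : G) * z * (t : G)⁻¹) ^ (e 0).val *
        ((t : G) * i₁ * (t : G)⁻¹) ^ (e 1).val * ((t : G) * i₂ * (t : G)⁻¹) ^ (e 2).val *
        ((t : G) * p * (t : G)⁻¹) ^ (e 3).val * ((t : G) * a * (t : G)⁻¹) ^ (e 4).val := by
        simp only [el, conj_pow]; group
    _ = _ := by
        rw [h1.2, hp.2, hfix _ htx, hfix _ hta, hfix _ (L.mem_cz.1 t.2), ← pow_val_neg F.c1,
          ← pow_val_neg F.cp]
        simp [el, ft]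

theorem inv_coord {i₁ p i₂ a : G} (F : Frame z i₁ i₂ p a) (h1 : Inv L H i₁) (hp : Inv L H p)
    (htx : Commute (t : G) i₂) (hta : Commute (t : G) a) {e : E} (h : Inv L H (el z i₁ i₂ p a e)) :
    e 0 = -(e 1 * e 3) ∧ e 2 = 0 ∧ e 4 = 0 := by
  have h2 := h.2
  rw [L.conj_t H F h1 hp htx hta, F.el_inv, F.el_injective.eq_iff] at h2
  have a0 := congrFun h2 0
  have a2 := congrFun h2 2
  have a4 := congrFun h2 4
  simp [ft, einv] at a0 a2 a4
  have hz : ∀ x : ZMod 3, x = -x → x = 0 := by decide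
  have b2 := hz _ a2
  have b4 := hz _ a4
  rw [b2, b4, mul_zero, sub_zero] at a0
  exact ⟨(by decide : ∀ x y w : ZMod 3, x = -x + y * w → x = -(w * y)) _ _ _ a0, b2, b4⟩

theorem fix_coord {i₁ p i₂ a : G} (F : Frame z i₁ i₂ p a) (h1 : Inv L H i₁) (hp : Inv L H p)
    (hx : i₂ ∈ Q) (htx : Commute (t : G) i₂) (ha : a ∈ Q) (hta : Commute (t : G) a) {q : G} (hq : q ∈ Q)
    (hqt : Commute (t : G) q) : ∃ k v w, q = el z i₁ i₂ p a (v2 k v w) := by
  obtain ⟨e, rfl⟩ := L.el_surj H F h1.1 hp.1 hx ha hq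
  have h2 := L.conj_t H F h1 hp htx hta e
  rw [hqt.eq, mul_inv_cancel_right, F.el_injective.eq_iff] at h2
  have a1 := congrFun h2 1
  have a3 := congrFun h2 3
  simp [ft] at a1 a3
  have hz : ∀ x : ZMod 3, x = -x → x = 0 := by decide
  refine ⟨e 0, e 2, e 4, congrArg _ ?_⟩
  apply ext5 <;> simp [v2, hz _ a1, hz _ a3]

theorem exists_std : ∃ u s i₁ i₂ p a c l, Std L H u s i₁ i₂ p a c l := by
  obtain ⟨u, hu1, hueps, hu2, huπ, hut, huO, huV⟩ := L.exists_u H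
  obtain ⟨s0, hs0, hs0', hs0t, hs0u⟩ := L.exists_s H hu2 hut huπ
  obtain ⟨i₁, h1, h11, hsi⟩ := L.exists_fixed H hs0t (by
    rw [hs0, pow_succ, pow_two]; exact s2_facts.2.2.1) hs0'
  obtain ⟨p₀, hp₀, hpne⟩ := L.exists_noncomm H h1 h11
  obtain ⟨p, hp, rp⟩ : ∃ p, Inv L H p ∧ p * i₁ = z * i₁ * p := by
    rcases L.pair_z hp₀.1 h1.1 hpne with h | h
    · exact ⟨p₀, hp₀, h⟩
    · exact ⟨p₀⁻¹, L.inv_inv' H hp₀, h⟩
  obtain ⟨x, y, hx, htx, hy, hty, ra⟩ := L.exists_fix_pair H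
  have F := L.frame_of H h1 hp hx htx hy hty rp ra
  obtain ⟨u0, u1, u2, u3, u4⟩ := (Frame.el_units : el z i₁ x p y ![1, 0, 0, 0, 0] = z ∧ _)
  -- normalise `s` on the inverted half
  obtain ⟨e, he⟩ := L.el_surj H F h1.1 hp.1 hx hy (L.conj_mem s0.2 hp.1)
  obtain ⟨he0, he2, he4⟩ := L.inv_coord H F h1 hp htx hty (he ▸ L.inv_conj H s0.2 hs0t hp)
  have hs0z : Commute (s0 : G) z := L.mem_cz.1 s0.2
  have he3 : e 3 = 1 := by
    have h : (s0 : G) * (p * i₁) * (s0 : G)⁻¹ = (s0 : G) * (z * i₁ * p) * (s0 : G)⁻¹ := by rw [rp]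
    rw [show (s0 : G) * (p * i₁) * (s0 : G)⁻¹ = ((s0 : G) * p * (s0 : G)⁻¹) * ((s0 : G) * i₁ * (s0 : G)⁻¹) by
      group, show (s0 : G) * (z * i₁ * p) * (s0 : G)⁻¹ = ((s0 : G) * z * (s0 : G)⁻¹) *
      ((s0 : G) * i₁ * (s0 : G)⁻¹) * ((s0 : G) * p * (s0 : G)⁻¹) by group,
      hs0z.eq, hsi.eq, mul_inv_cancel_right, mul_inv_cancel_right, ← he] at h
    rw [show el z i₁ x p y e * i₁ = el z i₁ x p y (emul e ![0, 1, 0, 0, 0]) by rw [← F.el_mul, u1],
      show z * i₁ * el z i₁ x p y e = el z i₁ x p y (emul (emul ![1, 0, 0, 0, 0] ![0, 1, 0, 0, 0]) e) by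
        rw [← F.el_mul, ← F.el_mul, u0, u1], F.el_injective.eq_iff] at h
    have := congrFun h 0
    simp [emul] at this
    linear_combination this
  obtain ⟨s, hsπ, hsε, hst, hsu, hs1, hsp⟩ : ∃ s : Subgroup.centralizer ({z} : Set G),
      (π s = pE ∨ π s = pE * pE) ∧ ε s = 1 ∧ Commute (t : G) (s : G) ∧ Commute (u : G) (s : G) ∧
      Commute (s : G) i₁ ∧ (s : G) * p * (s : G)⁻¹ = p * i₁ * z := by
    have hgoal : p * i₁ * z = el z i₁ x p y ![-1, 1, 0, 1, 0] := by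
      rw [show p * i₁ * z = el z i₁ x p y ![0, 0, 0, 1, 0] * el z i₁ x p y ![0, 1, 0, 0, 0] *
        el z i₁ x p y ![1, 0, 0, 0, 0] by rw [u3, u1, u0], F.el_mul, F.el_mul]
      exact congrArg _ (by apply ext5 <;> simp [emul] <;> decide)
    rcases (show ∀ k : ZMod 3, k = 0 ∨ k = 1 ∨ k = -1 by decide) (e 1) with h | h | h
    · exfalso
      have hsp0 : Commute (s0 : G) p := by
        refine mul_inv_eq_iff_eq_mul.1 (he.symm.trans (Eq.trans ?_ u3))
        congr 1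
        apply ext5 <;> simp [he0, he2, he4, he3, h]
      refine L.s_moves H hs0t ⟨hs0 ▸ s2_pE.1, hs0 ▸ s2_pE.2.1⟩ fun v hv => ?_
      obtain ⟨f, rfl⟩ := L.el_surj H F h1.1 hp.1 hx hy hv.1
      obtain ⟨-, hf2, hf4⟩ := L.inv_coord H F h1 hp htx hty hv
      simp only [el, hf2, hf4, ZMod.val_zero, pow_zero, mul_one]
      exact ((hs0z.pow_right _).mul_right (hsi.pow_right _)).mul_right (hsp0.pow_right _)
    · refine ⟨s0, Or.inl hs0, hs0', hs0t, hs0u, hsi, ?_⟩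
      rw [← he, hgoal]
      congr 1
      apply ext5 <;> simp [he0, he2, he4, he3, h]
    · refine ⟨s0 * s0, Or.inr (by rw [map_mul, hs0]), by rw [map_mul, hs0', one_mul],
        hs0t.mul_right hs0t, hs0u.mul_right hs0u, hsi.mul_left hsi, ?_⟩
      have hee : e = ![1, -1, 0, 1, 0] := by apply ext5 <;> simp [he0, he2, he4, he3, h]
      have hsp0 : (s0 : G) * p * (s0 : G)⁻¹ = z * i₁ ^ 2 * p := by
        rw [← he, hee]; simp [el, ZMod.val_one, show (-1 : ZMod 3).val = 2 from rfl]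
      rw [Subgroup.coe_mul, hgoal, show (s0 : G) * s0 * p * ((s0 : G) * s0)⁻¹ =
        (s0 : G) * ((s0 : G) * p * (s0 : G)⁻¹) * (s0 : G)⁻¹ by group, hsp0]
      calc (s0 : G) * (z * i₁ ^ 2 * p) * (s0 : G)⁻¹ = ((s0 : G) * z * (s0 : G)⁻¹) *
            ((s0 : G) * i₁ * (s0 : G)⁻¹) ^ 2 * ((s0 : G) * p * (s0 : G)⁻¹) := by
            simp only [conj_pow]; group
        _ = el z i₁ x p y ![1, 2, 0, 0, 0] * el z i₁ x p y ![1, 2, 0, 1, 0] := by
            rw [hs0z.eq, hsi.eq, mul_inv_cancel_right, mul_inv_cancel_right, hsp0]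
            simp [el, ZMod.val_one, show (2 : ZMod 3).val = 2 from rfl]
        _ = _ := by
            rw [F.el_mul]
            exact congrArg _ (by apply ext5 <;> simp [emul] <;> decide)
  -- the fixed half as a module
  have hcoord : ∀ g : Subgroup.centralizer ({z} : Set G), Commute (t : G) (g : G) →
      ∃ x0 x2 x4 y0 y2 y4, x2 * y4 - x4 * y2 = 1 ∧
        (g : G) * x * (g : G)⁻¹ = el z i₁ x p y (v2 x0 x2 x4) ∧
        (g : G) * y * (g : G)⁻¹ = el z i₁ x p y (v2 y0 y2 y4) := by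
    intro g hg
    obtain ⟨x0, x2, x4, hgx⟩ := L.fix_coord H F h1 hp hx htx hy hty (L.conj_mem g.2 hx)
      ((hg.mul_right htx).mul_right hg.inv_right)
    obtain ⟨y0, y2, y4, hgy⟩ := L.fix_coord H F h1 hp hx htx hy hty (L.conj_mem g.2 hy)
      ((hg.mul_right hty).mul_right hg.inv_right)
    refine ⟨x0, x2, x4, y0, y2, y4, ?_, hgx, hgy⟩
    have h : (g : G) * (x * y) * (g : G)⁻¹ = (g : G) * (z * y * x) * (g : G)⁻¹ := by rw [ra]
    rw [show (g : G) * (x * y) * (g : G)⁻¹ = ((g : G) * x * (g : G)⁻¹) * ((g : G) * y * (g : G)⁻¹) by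
      group, show (g : G) * (z * y * x) * (g : G)⁻¹ = ((g : G) * z * (g : G)⁻¹) *
      ((g : G) * y * (g : G)⁻¹) * ((g : G) * x * (g : G)⁻¹) by group,
      (show Commute (g : G) z from L.mem_cz.1 g.2).eq, mul_inv_cancel_right, hgx, hgy] at h
    rw [F.el_mul, show z * el z i₁ x p y (v2 y0 y2 y4) * el z i₁ x p y (v2 x0 x2 x4) =
      el z i₁ x p y (emul (emul ![1, 0, 0, 0, 0] (v2 y0 y2 y4)) (v2 x0 x2 x4)) by
        rw [← F.el_mul, ← F.el_mul, u0], F.el_injective.eq_iff] at h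
    have := congrFun h 0
    simp [emul, v2] at this
    linear_combination this
  have hgen : ∀ q ∈ Q, Commute (t : G) q → ∃ k v w, q = el z i₁ x p y (v2 k v w) := fun q hq hqt =>
    L.fix_coord H F h1 hp hx htx hy hty hq hqt
  have hv2mem : ∀ k v w, el z i₁ x p y (v2 k v w) ∈ Q ∧ Commute (t : G) (el z i₁ x p y (v2 k v w)) :=
    fun k v w => ⟨L.el_mem H h1.1 hp.1 hx hy _, by
      rw [el2]
      exact (((show Commute (t : G) z from L.mem_cz.1 t.2).pow_right _).mul_right (htx.pow_right _)).mul_right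
        (hty.pow_right _)⟩
  -- `u` inverts the fixed half modulo the centre
  have hrep : ∀ k v w : ZMod 3, ∃ k', m = 2 → (u : G) * el z i₁ x p y (v2 k' v w) * (u : G)⁻¹ =
      (el z i₁ x p y (v2 k' v w))⁻¹ := by
    intro k v w
    by_cases hm : m = 2
    swap
    · exact ⟨k, fun h => absurd h hm⟩
    obtain ⟨x0, x2, x4, y0, y2, y4, hdet, hgx, hgy⟩ := hcoord u hut
    have huu : ∀ q : G, (u : G) * ((u : G) * q * (u : G)⁻¹) * (u : G)⁻¹ = q := fun q => by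
      rw [show (u : G) * ((u : G) * q * (u : G)⁻¹) * (u : G)⁻¹ =
        ((u : G) * u) * q * ((u : G) * u)⁻¹ by group, show (u : G) * u = 1 from congrArg Subtype.val hu2]
      simp
    have huz : Commute (u : G) z := L.mem_cz.1 u.2
    obtain ⟨kx, hkx⟩ := conj2 F huz hgx hgy x0 x2 x4
    obtain ⟨ky, hky⟩ := conj2 F huz hgx hgy y0 y2 y4
    rw [← hgx, huu] at hkx
    rw [← hgy, huu] at hky
    have ex : el z i₁ x p y (v2 0 1 0) = x := by simp [el2, ZMod.val_one]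
    have ey : el z i₁ x p y (v2 0 0 1) = y := by simp [el2, ZMod.val_one]
    have a2 := congrFun (F.el_injective (ex.trans hkx)) 2
    have a4 := congrFun (F.el_injective (ex.trans hkx)) 4
    have b2 := congrFun (F.el_injective (ey.trans hky)) 2
    have b4 := congrFun (F.el_injective (ey.trans hky)) 4
    simp [v2] at a2 a4 b2 b4
    obtain ⟨r4, r2, ⟨rx, ry⟩ | ⟨rx, ry⟩⟩ := mat_invol x2 x4 y2 y4 hdet a2.symm a4.symm b2.symm b4.symm
    · -- trivial action: `u` would centralise the radical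
      exfalso
      have hfix : ∀ q : G, ∀ k', (u : G) * q * (u : G)⁻¹ = z ^ k' * q → Commute (u : G) q := by
        intro q k' hk
        have h := huu q
        rw [hk, show (u : G) * (z ^ k' * q) * (u : G)⁻¹ = ((u : G) * z * (u : G)⁻¹) ^ k' *
          ((u : G) * q * (u : G)⁻¹) by simp only [conj_pow]; group, hk, huz.eq, mul_inv_cancel_right,
          ← mul_assoc, mul_eq_right, ← pow_add] at h
        have h3 : (z ^ k') ^ 3 = 1 := by rw [← pow_mul, mul_comm, pow_mul, L.z_cube, one_pow]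
        have hk1 : z ^ k' = 1 := by
          rwa [pow_succ, pow_two, ← pow_add, h, one_mul] at h3
        rw [hk1, one_mul] at hk
        exact mul_inv_eq_iff_eq_mul.1 hk
      have cx : Commute (u : G) x := hfix x x0.val (by rw [hgx, el2, rx, r4]; simp [ZMod.val_one])
      have cy : Commute (u : G) y := hfix y y0.val (by rw [hgy, el2, ry, r2]; simp [ZMod.val_one])
      have hQu : (u : G) ∈ Q := L.cent (Subgroup.mem_centralizer_iff.2 fun q hq => by
        obtain ⟨f, rfl⟩ := L.el_surj H F h1.1 hp.1 hx hy hq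
        simp only [el]
        exact ((((huz.pow_right _).mul_right ((huV i₁ h1).pow_right _)).mul_right
          (cx.pow_right _)).mul_right ((huV p hp).pow_right _) |>.mul_right (cy.pow_right _)).eq.symm)
      have := ((L.ker u).2 hQu).2
      rw [hueps hm] at this
      exact absurd this (by decide)
    · set f := el z i₁ x p y (v2 k v w) with hf
      obtain ⟨k1, hk1⟩ := conj2 F huz hgx hgy k v w
      rw [← hf, r4, r2, rx, ry, mul_zero, mul_zero, add_zero, zero_add, mul_neg, mul_neg, mul_one,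
        mul_one] at hk1
      -- the product with the conjugate is central
      have hc : ∃ j : ZMod 3, (u : G) * f * (u : G)⁻¹ * f = z ^ j.val := by
        refine ⟨emul (v2 k1 (-v) (-w)) (v2 k v w) 0, ?_⟩
        rw [hk1, hf, F.el_mul, ← Frame.el_z]
        congr 1
        apply ext5 <;> simp [emul, v2]
      obtain ⟨j, hj⟩ := hc
      refine ⟨j + k, fun _ => ?_⟩
      have hg : el z i₁ x p y (v2 (j + k) v w) = z ^ j.val * f := by
        rw [hf, el2, el2, pow_val_add' F.cz]; simp only [mul_assoc]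
      have hfz : Commute f (z ^ j.val) :=
        ((show Commute f z from L.mem_cz.1 (L.le (L.el_mem H h1.1 hp.1 hx hy _))).pow_right _)
      rw [hg]
      refine eq_inv_of_mul_eq_one_left ?_
      calc (u : G) * (z ^ j.val * f) * (u : G)⁻¹ * (z ^ j.val * f) =
            ((u : G) * z * (u : G)⁻¹) ^ j.val * ((u : G) * f * (u : G)⁻¹) * (z ^ j.val * f) := by
            simp only [conj_pow]; group
        _ = z ^ j.val * ((u : G) * f * (u : G)⁻¹ * f) * z ^ j.val := by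
            rw [huz.eq, mul_inv_cancel_right, hfz.symm.eq]; simp only [mul_assoc]
        _ = 1 := by
            rw [hj, ← pow_val_add' F.cz, ← pow_val_add' F.cz,
              (by decide : ∀ j : ZMod 3, j + j + j = 0) j]
            simp
  -- the element of order three on the fixed half
  obtain ⟨x0, x2, x4, y0, y2, y4, hdet, hgx, hgy⟩ := hcoord s hst
  have hsz : Commute (s : G) z := L.mem_cz.1 s.2
  have hs3 : ((s ^ 3 : Subgroup.centralizer ({z} : Set G)) : G) ∈ Q := (L.ker _).1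
    ⟨by rw [map_pow]; rcases hsπ with h | h <;> rw [h] <;> decide +kernel,
      by rw [map_pow, hsε, one_pow]⟩
  rw [SubmonoidClass.coe_pow] at hs3
  obtain ⟨g3, hg3⟩ := L.el_surj H F h1.1 hp.1 hx hy hs3
  have hiter : ∀ v w, mT x2 x4 y2 y4 (mT x2 x4 y2 y4 (mT x2 x4 y2 y4 (v, w))) = (v, w) := by
    intro v w
    obtain ⟨k1, e1⟩ := conj2 F hsz hgx hgy 0 v w
    obtain ⟨k2, e2⟩ := conj2 F hsz hgx hgy k1 (v * x2 + w * y2) (v * x4 + w * y4)
    obtain ⟨k3, e3⟩ := conj2 F hsz hgx hgy k2 ((v * x2 + w * y2) * x2 + (v * x4 + w * y4) * y2)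
      ((v * x2 + w * y2) * x4 + (v * x4 + w * y4) * y4)
    rw [← e2, ← e1, show (s : G) * ((s : G) * ((s : G) * el z i₁ x p y (v2 0 v w) * (s : G)⁻¹) *
      (s : G)⁻¹) * (s : G)⁻¹ = (s : G) ^ 3 * el z i₁ x p y (v2 0 v w) * ((s : G) ^ 3)⁻¹ by
        simp [pow_succ, mul_assoc], ← hg3, F.el_conj] at e3
    have a2 := congrFun (F.el_injective e3) 2
    have a4 := congrFun (F.el_injective e3) 4
    simp [econj, v2] at a2 a4
    exact Prod.ext a2.symm a4.symm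
  obtain ⟨v, w, r, q, hfixv, hvq⟩ := mat_order x2 x4 y2 y4 hdet (hiter 1 0) (hiter 0 1)
  obtain ⟨kv, hkv⟩ := hrep 0 v w
  obtain ⟨kr, hkr⟩ := hrep 0 r q
  set i₂ := el z i₁ x p y (v2 kv v w) with hi₂
  set a := el z i₁ x p y (v2 kr r q) with ha
  have ra' : i₂ * a = z * a * i₂ := by
    rw [hi₂, ha, F.el_mul, show z * el z i₁ x p y (v2 kr r q) * el z i₁ x p y (v2 kv v w) =
      el z i₁ x p y (emul (emul ![1, 0, 0, 0, 0] (v2 kr r q)) (v2 kv v w)) by
        rw [← F.el_mul, ← F.el_mul, u0]]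
    congr 1
    apply ext5 <;> simp [emul, v2] <;> first | ring1 | linear_combination hvq | linear_combination -hvq
  have F' := L.frame_of H h1 hp (hv2mem kv v w).1 (hv2mem kv v w).2 (hv2mem kr r q).1 (hv2mem kr r q).2 rp ra'
  obtain ⟨n0, n1, n2, n3, n4⟩ := (Frame.el_units : el z i₁ i₂ p a ![1, 0, 0, 0, 0] = z ∧ _)
  obtain ⟨k', hk'⟩ := conj2 F hsz hgx hgy kv v w
  obtain ⟨hv', hw'⟩ := Prod.mk.inj hfixv
  rw [hv', hw'] at hk'
  set ρ := k' - kv with hρ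
  have hsi2 : (s : G) * i₂ * (s : G)⁻¹ = z ^ ρ.val * i₂ := by
    rw [hk', hi₂, el2, el2, ← mul_assoc, ← mul_assoc, ← pow_val_add' F.cz, hρ, sub_add_cancel]
  have hρ0 : m = 2 → ρ = 0 := by
    intro hm
    have huz : Commute (u : G) z := L.mem_cz.1 u.2
    have h : (u : G) * ((s : G) * i₂ * (s : G)⁻¹) * (u : G)⁻¹ =
        (s : G) * ((u : G) * i₂ * (u : G)⁻¹) * (s : G)⁻¹ := by
      calc _ = ((u : G) * s) * i₂ * ((u : G) * s)⁻¹ := by group
        _ = ((s : G) * u) * i₂ * ((s : G) * u)⁻¹ := by rw [hsu.eq]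
        _ = _ := by group
    rw [hkv hm, ← conj_inv, hsi2, show (u : G) * (z ^ ρ.val * i₂) * (u : G)⁻¹ =
      ((u : G) * z * (u : G)⁻¹) ^ ρ.val * ((u : G) * i₂ * (u : G)⁻¹) by simp only [conj_pow]; group,
      hkv hm, huz.eq, mul_inv_cancel_right, mul_inv_rev] at h
    rw [((F'.hz2.pow_left ρ.val).inv_inv.symm).eq, mul_left_inj, eq_inv_iff_mul_eq_one,
      ← pow_val_add' F.cz, ← Frame.el_z (i₁ := i₁) (i₂ := i₂) (p := p) (a := a)] at h
    have h0 := congrFun (F'.el_eq_zero h) 0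
    simp at h0
    exact (by decide : ∀ x : ZMod 3, x + x = 0 → x = 0) _ h0
  obtain ⟨l0, c, d, hsa⟩ := L.fix_coord H F' h1 hp (hv2mem kv v w).1 (hv2mem kv v w).2 (hv2mem kr r q).1
    (hv2mem kr r q).2 (L.conj_mem s.2 (hv2mem kr r q).1)
    ((hst.mul_right (hv2mem kr r q).2).mul_right hst.inv_right)
  have hd : d = 1 := by
    have h : (s : G) * (i₂ * a) * (s : G)⁻¹ = (s : G) * (z * a * i₂) * (s : G)⁻¹ := by rw [ra']
    rw [show (s : G) * (i₂ * a) * (s : G)⁻¹ = ((s : G) * i₂ * (s : G)⁻¹) * ((s : G) * a * (s : G)⁻¹) by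
      group, show (s : G) * (z * a * i₂) * (s : G)⁻¹ = ((s : G) * z * (s : G)⁻¹) *
      ((s : G) * a * (s : G)⁻¹) * ((s : G) * i₂ * (s : G)⁻¹) by group,
      hsz.eq, mul_inv_cancel_right, hsi2, hsa] at h
    have e1 : z ^ ρ.val * i₂ = el z i₁ i₂ p a (v2 ρ 1 0) := by simp [el2, ZMod.val_one]
    rw [e1] at h
    rw [F'.el_mul, show z * el z i₁ i₂ p a (v2 l0 c d) * el z i₁ i₂ p a (v2 ρ 1 0) =
      el z i₁ i₂ p a (emul (emul ![1, 0, 0, 0, 0] (v2 l0 c d)) (v2 ρ 1 0)) by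
        rw [← F'.el_mul, ← F'.el_mul, n0], F'.el_injective.eq_iff] at h
    have := congrFun h 0
    simp [emul, v2] at this
    linear_combination this
  subst hd
  let ac : Subgroup.centralizer ({z} : Set G) := ⟨a, L.le (hv2mem kr r q).1⟩
  have hac := (L.ker ac).2 (hv2mem kr r q).1
  refine ⟨u, s * ac ^ ρ.val, i₁, i₂, p, a, c, l0 + c,
    { F := F', v1 := h1, vp := hp, q2 := (hv2mem kv v w).1, t2 := (hv2mem kv v w).2
      qa := (hv2mem kr r q).1, ta := (hv2mem kr r q).2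
      u_one := hu1, u_eps := hueps, u_sq := hu2, u_pi := huπ, ut := hut, uO := huO, uV := huV
      u_a := hkr, u_2 := hkv, us := ?_, st := ?_, s_pi := ?_, s_eps := ?_, s1 := ?_, s2 := ?_, sp := ?_
      sa := ?_ }⟩
  · rcases L.hm with hm | hm
    · rw [hu1 hm]; exact Commute.one_left _
    · simp only [hρ0 hm, ZMod.val_zero, pow_zero, mul_one]; exact hsu
  · simp only [Subgroup.coe_mul, SubmonoidClass.coe_pow]
    exact hst.mul_right ((hv2mem kr r q).2.pow_right _)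
  · rw [map_mul, map_pow, hac.1, one_pow, mul_one]; exact hsπ
  · rw [map_mul, map_pow, hac.2, one_pow, mul_one]; exact hsε
  · simp only [Subgroup.coe_mul, SubmonoidClass.coe_pow]
    exact hs1.mul_left (F'.ha1.pow_left _)
  · refine mul_inv_eq_iff_eq_mul.1 ?_
    simp only [Subgroup.coe_mul, SubmonoidClass.coe_pow]
    have hconj : a ^ ρ.val * i₂ * (a ^ ρ.val)⁻¹ = z ^ (-ρ).val * i₂ := by
      rw [show a ^ ρ.val * i₂ * (a ^ ρ.val)⁻¹ = el z i₁ i₂ p a ![0, 0, 0, 0, 1] ^ ρ.val *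
        el z i₁ i₂ p a ![0, 0, 1, 0, 0] * (el z i₁ i₂ p a ![0, 0, 0, 0, 1] ^ ρ.val)⁻¹ by rw [n2, n4],
        F'.el_pow, F'.el_conj, show z ^ (-ρ).val * i₂ = el z i₁ i₂ p a ![-ρ, 0, 0, 0, 0] *
        el z i₁ i₂ p a ![0, 0, 1, 0, 0] by rw [n2, Frame.el_z], F'.el_mul]
      exact congrArg _ (by apply ext5 <;> simp [econj, epow, emul])
    rw [show (s : G) * a ^ ρ.val * i₂ * ((s : G) * a ^ ρ.val)⁻¹ =
      (s : G) * (a ^ ρ.val * i₂ * (a ^ ρ.val)⁻¹) * (s : G)⁻¹ by group, hconj,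
      show (s : G) * (z ^ (-ρ).val * i₂) * (s : G)⁻¹ = ((s : G) * z * (s : G)⁻¹) ^ (-ρ).val *
        ((s : G) * i₂ * (s : G)⁻¹) by simp only [conj_pow]; group, hsi2, hsz.eq, mul_inv_cancel_right,
      ← mul_assoc, ← pow_val_add' F.cz, neg_add_cancel]
    simp
  · simp only [Subgroup.coe_mul, SubmonoidClass.coe_pow]
    rw [show (s : G) * a ^ ρ.val * p * ((s : G) * a ^ ρ.val)⁻¹ =
      (s : G) * (a ^ ρ.val * p * (a ^ ρ.val)⁻¹) * (s : G)⁻¹ by group,
      (F'.hpa.symm.pow_left ρ.val).eq, mul_inv_cancel_right]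
    exact hsp
  · simp only [Subgroup.coe_mul, SubmonoidClass.coe_pow]
    rw [show (s : G) * a ^ ρ.val * a * ((s : G) * a ^ ρ.val)⁻¹ =
      (s : G) * (a ^ ρ.val * a * (a ^ ρ.val)⁻¹) * (s : G)⁻¹ by group,
      (Commute.pow_self a ρ.val).eq, mul_inv_cancel_right, hsa]
    rw [show a * i₂ ^ c.val * z ^ (l0 + c).val = el z i₁ i₂ p a ![0, 0, 0, 0, 1] *
      el z i₁ i₂ p a ![0, 0, 1, 0, 0] ^ c.val * el z i₁ i₂ p a ![l0 + c, 0, 0, 0, 0] by
        rw [n2, n4, Frame.el_z], F'.el_pow, F'.el_mul, F'.el_mul]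
    congr 1
    apply ext5 <;> simp [emul, epow, v2]

end Pre

end CfsgLib.OEightLocal
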