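import Cfsg.Agent.Lib.OEightLocal.One
import Cfsg.Agent.Lib.OEightLocal.OrbitCor

/-!
The conclusion from a configuration, given the centraliser of the involution in the subgroup of
index three and the subgroup of index two when `m = 2`.
-/

set_option autoImplicit false
set_option linter.style.haveILetI false

namespace CfsgLib.OEightLocal

universe v

theorem Loc.normalizer_S_one {G : Type*} [Group G] [Finite G] (L : Loc G) (hm : L.m = 1) :
    Subgroup.normalizer (L.S : Set G) ≤
      Subgroup.closure {L.z, L.i₁, L.i₂, L.y, L.p, L.a, L.t, L.ν} := by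
  rw [normS L, Subgroup.closure_le]
  intro g hg
  simp only [Set.mem_insert_iff, Set.mem_singleton_iff] at hg
  rcases hg with h | h | h | h | h | h | h | h | h <;> subst h
  exacts [Subgroup.subset_closure (by simp), Subgroup.subset_closure (by simp),
    Subgroup.subset_closure (by simp), Subgroup.subset_closure (by simp), Subgroup.subset_closure (by simp),
    Subgroup.subset_closure (by simp), Subgroup.subset_closure (by simp),
    (L.u_one hm).symm ▸ one_mem _, Subgroup.subset_closure (by simp)]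

/-- The normal `Ω⁺(8,2)` of index three or six. -/
theorem Loc.conclusion {G : Type v} [Group G] [Finite G] (L : Loc G)
    (hcent : ∀ {H : Type v} [Group H] [Finite H] (L : Loc H), L.m = 1 → ∀ N : Subgroup H, N.Normal →
      N.index = 3 → L.X ≤ N → ∀ hO : L.O ≤ N, L.ν ∈ N → L.a ∉ N → L.CentHyp N (hO L.t_mem))
    (htwo : L.m = 2 → ∃ (G₂ : Subgroup G) (L₂ : Loc G₂), G₂.Normal ∧ G₂.index = 2 ∧ L₂.m = 1) :
    ∃ N : Subgroup G, N.Normal ∧ Nonempty (N ≃* O8) ∧
      Subgroup.centralizer (N : Set G) = ⊥ ∧ (N.index = 3 ∨ N.index = 6) := by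
  rcases L.hm with hm | hm
  · obtain ⟨N, hN, e, hC, hi, -⟩ := L.index_three (L.normalizer_S_one hm) (hcent L hm)
    exact ⟨N, hN, e, hC, Or.inl hi⟩
  · obtain ⟨G₂, L₂, hn, h2, hm₂⟩ := htwo hm
    obtain ⟨N, hN, ⟨e⟩, hC, hi, hX⟩ := L₂.index_three (L₂.normalizer_S_one hm₂) (hcent L₂ hm₂)
    haveI := hn
    haveI := hN
    obtain ⟨M, hM, e', hCM, hiM⟩ := L.index_six h2 L₂ N e hC hi hX
    exact ⟨M, hM, e', hCM, Or.inr hiM⟩

end CfsgLib.OEightLocal
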