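import Cfsg.Agent.Lib.OEightLocal.Form

/-!
Transitivity of the normaliser of `J` on the values of the form, reflections, and orders.
-/

set_option autoImplicit false
set_option linter.style.haveILetI false

namespace CfsgLib.OEightLocal

theorem bJ_e1 : ∀ v : V, ft v = v + bJ v ![0, 1, 0, 0] • ![0, 1, 0, 0] := by decide +kernel

theorem ft_fixed : ∀ c : V, c + ft c = 0 → c = c 1 • ![0, 1, 0, 0] := by decide +kernel

theorem bJ_polar (v w : V) : bJ v w = qJ (v + w) - qJ v - qJ w := by rw [qJ_add]; ring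

variable {G : Type*} [Group G] (L : Loc G)

theorem exists_act [Finite G] {g : G} (hg : g ∈ L.NJ) :
    ∃ f : V →+ V, Function.Bijective f ∧ L.Act g f ∧ ∀ v, qJ (f v) = qJ v := by
  obtain ⟨f, hf⟩ := exists_act_map L hg
  exact ⟨AddMonoidHom.mk' f hf.add, hf.bijective, hf, qJ_act L hf⟩

theorem bJ_act [Finite G] {g : G} {f : V → V} (hf : L.Act g f) (v w : V) : bJ (f v) (f w) = bJ v w := by
  rw [bJ_polar, bJ_polar, ← hf.add, qJ_act L hf, qJ_act L hf, qJ_act L hf]

theorem Loc.Act.map_zero {g : G} {f : V → V} (h : L.Act g f) : f 0 = 0 := by simpa using h.add 0 0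

theorem Loc.Act.map_smul {g : G} {f : V → V} (h : L.Act g f) (c : ZMod 3) (v : V) : f (c • v) = c • f v :=
  ((AddMonoidHom.mk' f h.add).toZModLinearMap 3).map_smul c v

/-- `w` is the image of `v` under the normaliser. -/
def Loc.Reach (L : Loc G) (v w : V) : Prop := ∃ n f, L.Act n f ∧ f v = w

variable {L}

theorem Loc.Reach.trans {u v w : V} (h : L.Reach u v) (h' : L.Reach v w) : L.Reach u w := by
  obtain ⟨n, f, hf, rfl⟩ := h
  obtain ⟨n', f', hf', rfl⟩ := h'
  exact ⟨_, _, hf'.mul hf, rfl⟩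

theorem Loc.Reach.symm {v w : V} (h : L.Reach v w) : L.Reach w v := by
  obtain ⟨n, f, hf, rfl⟩ := h
  obtain ⟨fi, hfi, hii⟩ := hf.inv
  exact ⟨_, _, hfi, hf.injective (hii _)⟩

variable (L)

theorem reach_sgn (b : Bool) (i j : ℕ) (v : V) : L.Reach v (sgn b (fp^[i] (fa^[j] v))) :=
  ⟨_, _, ((act_sgn L b).mul (Act_iterate L (act_p L) i)).mul (Act_iterate L (act_a L) j), rfl⟩

theorem reach_z [Finite G] {v : V} (hv : v ≠ 0) (hq : qJ v = 0) : L.Reach ![1, 0, 0, 0] v :=
  exists_moved L (by rw [jel_z]; exact isConj_sing L hv hq)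

/-- A representative for each value of the form. -/
def rep (c : ZMod 3) : V :=
  if c = 0 then ![1, 0, 0, 0] else if c = 1 then ![0, 0, 1, 0] else ![0, 1, 0, 0]

theorem reach_off [Finite G] {c : ZMod 3} (hc : c ≠ 0) : L.Reach (rep c) ![c, 0, 0, 1] := by
  suffices h : ∃ w, L.Reach (rep c) w ∧ w 3 ≠ 0 by
    obtain ⟨w, hw, h3⟩ := h
    obtain ⟨i, j, b, e⟩ := reps_off w h3
    have hq : qJ w = c := by
      obtain ⟨n, f, hf, rfl⟩ := hw
      rw [qJ_act L hf]
      exact (show ∀ c : ZMod 3, qJ (rep c) = c by decide +kernel) c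
    rw [hq] at e
    exact hw.trans (e ▸ (reach_sgn L b i j _)).symm
  by_contra h
  push Not at h
  obtain ⟨n, fy, hfy, ey⟩ := reach_z L (v := ![0, 0, 0, 1]) (by decide) (by decide +kernel)
  have key : ∀ c : ZMod 3, c ≠ 0 → ∃ k : Bool,
      (bif k then fp else fa) (rep c) = (bif k then (1 : ZMod 3) else 2) • ![1, 0, 0, 0] + rep c := by
    decide +kernel
  obtain ⟨k, hk⟩ := key c hc
  have hk' : ∀ x, L.Act x (bif k then fp else fa) → (fy ((bif k then fp else fa) (rep c))) 3 = 0 :=
    fun x hx => h _ ⟨_, _, hfy.mul hx, rfl⟩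
  have h1 : fy ((bif k then fp else fa) (rep c)) 3 = 0 := by
    cases k
    · exact hk' _ (act_a L)
    · exact hk' _ (act_p L)
  have h2 : fy (rep c) 3 = 0 := h _ ⟨_, _, hfy, rfl⟩
  rw [hk, hfy.add, hfy.map_smul, ey, Pi.add_apply, h2, add_zero, Pi.smul_apply] at h1
  cases k <;> exact absurd h1 (by decide +kernel)

theorem reach_rep [Finite G] {v : V} (hv : v ≠ 0) : L.Reach (rep (qJ v)) v := by
  by_cases hq : qJ v = 0
  · rw [hq]; exact reach_z L hv hq
  by_cases h3 : v 3 = 0
  · obtain ⟨i, j, b, e⟩ := reps_ns v h3 hq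
    have hr : (if qJ v = 1 then (![0, 0, 1, 0] : V) else ![0, 1, 0, 0]) = rep (qJ v) := by
      unfold rep; rw [if_neg hq]
    rw [hr] at e
    conv_rhs => rw [e]
    exact reach_sgn L b i j _
  · obtain ⟨i, j, b, e⟩ := reps_off v h3
    conv_rhs => rw [e]
    exact (reach_off L hq).trans (reach_sgn L b i j _)

/-- The normaliser of `J` is transitive on each value of the form. -/
theorem exists_conj [Finite G] {v w : V} (hv : v ≠ 0) (hw : w ≠ 0) (h : qJ v = qJ w) :
    ∃ n f, L.Act n f ∧ f v = w := (reach_rep L hv).symm.trans (h ▸ reach_rep L hw)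

/-- Conjugacy in `J`. -/
theorem isConj_jel_iff [Finite G] {v w : V} (hv : v ≠ 0) (hw : w ≠ 0) :
    IsConj (L.jel v) (L.jel w) ↔ qJ v = qJ w := by
  refine ⟨fun h => ?_, fun h => ?_⟩
  · obtain ⟨n, f, hf, rfl⟩ := exists_moved L h
    exact (qJ_act L hf v).symm
  · obtain ⟨n, f, hf, rfl⟩ := exists_conj L hv hw h
    exact isConj_of_act L hf v

/-- Reflections. -/
theorem exists_refl [Finite G] {d : V} (hd : qJ d = -1) :
    ∃ r, r * r = 1 ∧ IsConj L.t r ∧ L.Act r (fun v => v + bJ v d • d) ∧ (d 1 = 0 → Commute r L.t) := by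
  obtain ⟨n, f, hf, hfd⟩ := exists_conj L (v := ![0, 1, 0, 0]) (w := d) (by decide)
    (fun h0 => by rw [h0] at hd; exact absurd hd (by decide +kernel)) (by rw [hd]; decide +kernel)
  obtain ⟨fi, hfi, hii⟩ := hf.inv
  have ht2 : L.t * L.t = 1 := by
    rw [← pow_two, ← (L.O_t _ L.t_mem).2 rfl, pow_orderOf_eq_one]
  obtain ⟨r, hr⟩ : ∃ r, r = n * L.t * n⁻¹ := ⟨_, rfl⟩
  have hrr : r * r = 1 := by rw [hr, show n * L.t * n⁻¹ * (n * L.t * n⁻¹) = n * (L.t * L.t) * n⁻¹ by group, ht2]; group
  have hact : L.Act r (fun v => v + bJ v d • d) := by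
    rw [hr]
    refine ((hf.mul (act_t L)).mul hfi).congr fun v => ?_
    simp only [Function.comp_apply]
    rw [bJ_e1, hf.add, hii, hf.map_smul, hfd, ← bJ_act L hf (fi v), hii, hfd]
  refine ⟨r, hrr, isConj_iff.2 ⟨n, hr.symm⟩, hact, fun hd1 => ?_⟩
  set R : V → V := fun v => v + bJ v d • d with hR
  have hcomm : ∀ v, R (ft v) = ft (R v) := by
    intro v
    have h1 : bJ (ft v) d = bJ v d := by simp [bJ, ft, hd1]
    funext i
    simp only [hR, h1, Pi.add_apply, Pi.smul_apply, smul_eq_mul]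
    fin_cases i <;> simp [ft, hd1]
  have htt : ∀ v, ft (ft v) = v := by decide +kernel
  have h2 : L.Act (r * r) id := by rw [hrr]; exact Loc.Act.one
  have hRR : ∀ v, R (R v) = v := fun v => congrFun ((hact.mul hact).unique h2) v
  have rinv : r⁻¹ = r := inv_eq_of_mul_eq_one_right hrr
  have tinv : L.t⁻¹ = L.t := inv_eq_of_mul_eq_one_right ht2
  have hmem : r * L.t * r * L.t ∈ L.J := mem_J_of_act L
    ((((hact.mul (act_t L)).mul hact).mul (act_t L)).congr fun v => by
      simp only [Function.comp_apply, id]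
      show R (ft (R (ft v))) = v
      rw [← hcomm (ft v), htt, hRR])
  obtain ⟨c, hc⟩ := (mem_J L).1 hmem
  have e1 : L.t * L.jel c * L.t⁻¹ = (L.jel c)⁻¹ := by
    rw [hc, _root_.mul_inv_rev, _root_.mul_inv_rev, _root_.mul_inv_rev, rinv, tinv]
    simp only [mul_assoc, ht2, mul_one]
  have e2 : r * L.jel c * r⁻¹ = (L.jel c)⁻¹ := by
    rw [hc, _root_.mul_inv_rev, _root_.mul_inv_rev, _root_.mul_inv_rev, rinv, tinv]
    simp only [← mul_assoc, hrr, one_mul]
  rw [act_t L, ← jel_neg, jel_inj] at e1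
  rw [hact, ← jel_neg, jel_inj] at e2
  have hc1 := ft_fixed c (by rw [e1, add_neg_cancel])
  have hb : bJ c d = 0 := by
    rw [hc1]; simp [bJ, hd1]
  have e3 : c + bJ c d • d = -c := e2
  rw [hb, zero_smul, add_zero] at e3
  have hc0 : c = 0 := (show ∀ c : V, c = -c → c = 0 by decide +kernel) c e3
  rw [hc0, jel_zero] at hc
  show r * L.t = L.t * r
  calc r * L.t = r * L.t * r * L.t * (L.t⁻¹ * r⁻¹) := by group
    _ = L.t * r := by rw [← hc, one_mul, rinv, tinv]

/-- An element fixing the line of `i₁` can be moved into the centraliser of `t`. -/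
theorem conj_t [Finite G] {g : G} {f : V → V} (hf : L.Act g f)
    (h : f ![0, 1, 0, 0] = ![0, 1, 0, 0] ∨ f ![0, 1, 0, 0] = -![0, 1, 0, 0]) :
    ∃ j ∈ L.J, Commute (j * g) L.t := by
  obtain ⟨fi, hfi, hii⟩ := hf.inv
  have ht2 : L.t * L.t = 1 := by
    rw [← pow_two, ← (L.O_t _ L.t_mem).2 rfl, pow_orderOf_eq_one]
  have tinv : L.t⁻¹ = L.t := inv_eq_of_mul_eq_one_right ht2
  obtain ⟨c, hc⟩ := (mem_J L).1 (mem_J_of_act L (x := g * L.t * g⁻¹ * L.t)
    ((((hf.mul (act_t L)).mul hfi).mul (act_t L)).congr fun v => by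
      simp only [Function.comp_apply, id]
      have hb := bJ_act L hf (fi (ft v)) ![0, 1, 0, 0]
      rw [hii] at hb
      rw [bJ_e1 (fi (ft v)), hf.add, hii, hf.map_smul]
      have hr : bJ (ft v) ![0, 1, 0, 0] • (![0, 1, 0, 0] : V) + ft v = v :=
        (show ∀ w : V, bJ (ft w) ![0, 1, 0, 0] • (![0, 1, 0, 0] : V) + ft w = w by decide +kernel) v
      rcases h with h | h <;> rw [h] at hb ⊢ <;> rw [← hb]
      · rw [add_comm]; exact hr
      · rw [show bJ (ft v) (-![0, 1, 0, 0]) = -bJ (ft v) ![0, 1, 0, 0] by simp [bJ], neg_smul, smul_neg,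
          neg_neg, add_comm]
        exact hr))
  have e1 : L.t * L.jel c * L.t⁻¹ = (L.jel c)⁻¹ := by
    rw [hc, _root_.mul_inv_rev, _root_.mul_inv_rev, _root_.mul_inv_rev, inv_inv, tinv]
    simp only [mul_assoc, ht2, mul_one]
  rw [act_t L, ← jel_neg, jel_inj] at e1
  refine ⟨L.jel c, jel_mem L c, ?_⟩
  have e2 : g * L.t * g⁻¹ = L.jel c * L.t := by
    rw [hc, mul_assoc (g * L.t * g⁻¹), ht2, mul_one]
  refine mul_inv_eq_iff_eq_mul.1 ?_
  rw [show L.jel c * g * L.t * (L.jel c * g)⁻¹ = L.jel c * (g * L.t * g⁻¹) * (L.jel c)⁻¹ by group, e2,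
    show L.jel c * (L.jel c * L.t) * (L.jel c)⁻¹ =
      L.jel c * L.jel c * (L.t * (L.jel c)⁻¹ * L.t⁻¹) * L.t by group,
    ← jel_neg, act_t L, ← jel_add, ← jel_add, show c + c + ft (-c) = 0 from ?_, jel_zero, one_mul]
  revert e1
  revert c
  intro c; intros
  rename_i e
  exact (show ∀ c : V, ft c = -c → c + c + ft (-c) = 0 by decide +kernel) c e

theorem card_orbit_stab [Finite G] (v : V) (S : Subgroup G) (hS : S ≤ L.NJ)
    (hiff : ∀ g f, L.Act g f → (g ∈ S ↔ f v = v)) (O : Finset V) (hO : ∀ w, w ∈ O ↔ L.Reach v w) :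
    Nat.card L.NJ = O.card * Nat.card S := by
  letI : MulAction L.NJ V := MulAction.compHom V (actHom L)
  have hstab : MulAction.stabilizer L.NJ v = S.subgroupOf L.NJ := by
    ext g
    rw [Subgroup.mem_subgroupOf, hiff g _ (actEquiv_spec L g)]
    exact MulAction.mem_stabilizer_iff
  have horb : MulAction.orbit L.NJ v = (O : Set V) := by
    ext w
    rw [Finset.mem_coe, hO]
    constructor
    · rintro ⟨g, rfl⟩; exact ⟨g, _, actEquiv_spec L g, rfl⟩
    · rintro ⟨n, f, hf, rfl⟩
      exact ⟨⟨n, hf.mem_normalizer⟩, congrFun ((actEquiv_spec L _).unique hf) v⟩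
  rw [Subgroup.card_eq_card_quotient_mul_card_subgroup (MulAction.stabilizer L.NJ v),
    ← Nat.card_congr (MulAction.orbitEquivQuotientStabilizer L.NJ v), horb, Nat.card_coe_set_eq,
    Set.ncard_coe_finset, hstab, Nat.card_congr (Subgroup.subgroupOfEquivOfLe hS).toEquiv]

theorem reach_iff [Finite G] {v : V} (hv : v ≠ 0) (w : V) : L.Reach v w ↔ w ≠ 0 ∧ qJ w = qJ v := by
  constructor
  · rintro ⟨n, f, hf, rfl⟩
    exact ⟨fun h0 => hv (hf.injective (h0.trans hf.map_zero.symm)), qJ_act L hf v⟩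
  · rintro ⟨hw, hq⟩; exact exists_conj L hv hw hq.symm

/-- The order of the normaliser of `J`. -/
theorem card_normJ [Finite G] : Nat.card L.NJ = 46656 * L.m := by
  classical
  rw [card_orbit_stab L ![1, 0, 0, 0] L.M (M_le_NJ L) (fun g f hf => ?_)
    (Finset.univ.filter fun v : V => v ≠ 0 ∧ qJ v = 0) fun w => ?_, count_sing, card_M]
  · ring
  · refine ⟨fun hg => ?_, fun h => normJ_cz L ▸ ⟨hf.mem_normalizer, mem_C_of_fix L hf h⟩⟩
    refine jel_injective L ?_
    rw [← hf, jel_z]
    exact fix_eq (Subgroup.mem_centralizer_singleton_iff.1 (M_le_C L hg))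
  · rw [reach_iff L (by decide), Finset.mem_filter]
    simp [qJ]

/-- The order of the centraliser of `t` in the normaliser of `J`. -/
theorem card_normJ_t [Finite G] :
    Nat.card (L.NJ ⊓ Subgroup.centralizer {L.t} : Subgroup G) = 1296 * L.m := by
  classical
  set T : Subgroup G := L.NJ ⊓ Subgroup.centralizer {L.t} with hT
  set e : V := ![0, 1, 0, 0] with he
  set S : Subgroup G := L.NJ ⊓ Subgroup.centralizer {L.i₁} with hSdef
  have hS : Nat.card S = 1944 * L.m := by
    have h := card_orbit_stab L e S inf_le_left (fun g f hf => ?_)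
      (Finset.univ.filter fun v : V => qJ v = 2) fun w => ?_
    · rw [count_ns 2 (by decide), card_normJ] at h; omega
    · constructor
      · intro hg
        refine jel_injective L ?_
        rw [← hf, he, jel_i1]
        exact fix_eq (Subgroup.mem_centralizer_singleton_iff.1 hg.2)
      · intro h
        refine ⟨hf.mem_normalizer, Subgroup.mem_centralizer_singleton_iff.2 (mul_inv_eq_iff_eq_mul.1 ?_)⟩
        rw [← jel_i1 L, hf, ← he, h]
    · rw [reach_iff L (by decide), Finset.mem_filter, show qJ e = 2 by decide +kernel]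
      refine ⟨fun h => ⟨fun h0 => ?_, h.2⟩, fun h => ⟨Finset.mem_univ _, h.2⟩⟩
      rw [h0] at h; exact absurd h.2 (by decide +kernel)
  -- `J ⊓ T` and the map to the two signs
  have hline : ∀ g ∈ T, ∀ f, L.Act g f → f e = e ∨ f e = -e := by
    intro g hg f hf
    have hc : Commute g L.t := Subgroup.mem_centralizer_singleton_iff.1 hg.2
    have h1 : ft (f e) = -(f e) := by
      have := congrFun ((((act_t L).mul hf)).unique (hc.eq ▸ hf.mul (act_t L))) e
      rw [Function.comp_apply, Function.comp_apply] at this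
      rw [this, show ft e = (2 : ZMod 3) • e by decide +kernel, hf.map_smul]
      exact (show ∀ w : V, (2 : ZMod 3) • w = -w by decide +kernel) _
    have hq : qJ (f e) = 2 := (qJ_act L hf e).trans (by decide +kernel)
    exact (show ∀ w : V, ft w = -w → qJ w = 2 → w = e ∨ w = -e by decide +kernel) _ h1 hq
  -- every element fixing `i₁` is uniquely an element of `T` fixing `i₁` times an element of the line
  let T1 : Subgroup G := T ⊓ Subgroup.centralizer {L.i₁}
  have hT1 : Nat.card T1 * 3 = Nat.card S := by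
    let F : T1 × ZMod 3 → S := fun p => ⟨L.jel (p.2 • e) * p.1.1, mul_mem
      (Subgroup.mem_inf.2 ⟨S_le_NJ L (J_le_S L (jel_mem L _)), Subgroup.mem_centralizer_singleton_iff.2
        (J_comm L (jel_mem L _) (jel_i1 L ▸ jel_mem L _)).eq⟩)
      (Subgroup.mem_inf.2 ⟨p.1.2.1.1, p.1.2.2⟩)⟩
    have hF : Function.Bijective F := by
      constructor
      · rintro ⟨⟨x, hx⟩, k⟩ ⟨⟨x', hx'⟩, k'⟩ h
        have h' : L.jel (k • e) * x = L.jel (k' • e) * x' := congrArg Subtype.val h
        have hd : L.jel ((k - k') • e) = x' * x⁻¹ := by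
          rw [sub_smul, sub_eq_neg_add, jel_add, jel_neg, eq_mul_inv_iff_mul_eq, mul_assoc, h',
            inv_mul_cancel_left]
        have c1 : Commute L.t x' := (Subgroup.mem_centralizer_singleton_iff.1 hx'.1.2).symm
        have c2 : Commute L.t x := (Subgroup.mem_centralizer_singleton_iff.1 hx.1.2).symm
        have hfix := fix_eq (c1.mul_right c2.inv_right)
        rw [← hd, act_t L, jel_inj] at hfix
        obtain rfl : k = k' :=
          (show ∀ k k' : ZMod 3, ft ((k - k') • e) = (k - k') • e → k = k' by decide +kernel) k k' hfix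
        simp only [mul_right_inj] at h'
        subst h'; rfl
      · rintro ⟨g, hg⟩
        obtain ⟨f, hf⟩ := exists_act_map L hg.1
        have hfe : f e = e := jel_injective L (by
          rw [← hf, he, jel_i1]; exact fix_eq (Subgroup.mem_centralizer_singleton_iff.1 hg.2))
        obtain ⟨j, hj, hcm⟩ := conj_t L hf (Or.inl hfe)
        obtain ⟨v, rfl⟩ := (mem_J L).1 hj
        have hsplit : v = v 1 • e + ![v 0, 0, v 2, v 3] := by
          funext i; fin_cases i <;> simp [he]
        have hu : Commute (L.jel ![v 0, 0, v 2, v 3]) L.t := by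
          refine (mul_inv_eq_iff_eq_mul.1 ?_ : L.t * L.jel ![v 0, 0, v 2, v 3] = _).symm
          rw [act_t L]; simp [ft]
        have hk : Commute (L.jel (v 1 • e) * g) L.t := by
          have hj' : L.jel v = L.jel ![v 0, 0, v 2, v 3] * L.jel (v 1 • e) := by
            conv_lhs => rw [hsplit]
            rw [add_comm, jel_add]
          rw [hj'] at hcm
          have h2 := hu.inv_left.mul_left hcm
          rwa [← mul_assoc, ← mul_assoc, inv_mul_cancel, one_mul] at h2
        refine ⟨(⟨L.jel (v 1 • e) * g, Subgroup.mem_inf.2 ⟨Subgroup.mem_inf.2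
          ⟨mul_mem (S_le_NJ L (J_le_S L (jel_mem L _))) hg.1, Subgroup.mem_centralizer_singleton_iff.2 hk.eq⟩,
          mul_mem (Subgroup.mem_centralizer_singleton_iff.2
            (J_comm L (jel_mem L _) (jel_i1 L ▸ jel_mem L _)).eq) hg.2⟩⟩, -v 1), Subtype.ext ?_⟩
        show L.jel (-v 1 • e) * (L.jel (v 1 • e) * g) = g
        rw [neg_smul, jel_neg, inv_mul_cancel_left]
    have := Nat.card_eq_of_bijective F hF
    rwa [Nat.card_prod, Nat.card_zmod] at this
  have ht : L.t ∈ T := Subgroup.mem_inf.2 ⟨(act_t L).mem_normalizer, Subgroup.mem_centralizer_singleton_iff.2 rfl⟩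
  let F : T1 × Bool → T := fun p => ⟨(bif p.2 then L.t else 1) * p.1.1, mul_mem
    (by cases p.2; exacts [one_mem _, ht]) p.1.2.1⟩
  have hnot : L.t ∉ T1 := by
    rintro ⟨-, h⟩
    have := fix_eq (Subgroup.mem_centralizer_singleton_iff.1 h : Commute L.t L.i₁)
    rw [← jel_i1 L, act_t L, jel_inj] at this
    exact absurd this (by decide +kernel)
  have hF : Function.Bijective F := by
    constructor
    · rintro ⟨⟨x, hx⟩, b⟩ ⟨⟨x', hx'⟩, b'⟩ h
      have h' : (bif b then L.t else 1) * x = (bif b' then L.t else 1) * x' := congrArg Subtype.val h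
      cases b <;> cases b'
      · simp only [cond_false, one_mul] at h'; subst h'; rfl
      · simp only [cond_false, one_mul, cond_true] at h'
        exact absurd (by rw [show L.t = x * x'⁻¹ from eq_mul_inv_of_mul_eq h'.symm]; exact mul_mem hx (inv_mem hx')) hnot
      · simp only [cond_false, one_mul, cond_true] at h'
        exact absurd (by rw [show L.t = x' * x⁻¹ from eq_mul_inv_of_mul_eq h']; exact mul_mem hx' (inv_mem hx)) hnot
      · simp only [cond_true, mul_right_inj] at h'; subst h'; rfl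
    · rintro ⟨g, hg⟩
      obtain ⟨f, hf⟩ := exists_act_map L hg.1
      rcases hline g hg f hf with h | h
      · exact ⟨(⟨g, hg, Subgroup.mem_centralizer_singleton_iff.2 (mul_inv_eq_iff_eq_mul.1
          (by rw [← jel_i1 L, hf, ← he, h]))⟩, false), Subtype.ext (one_mul g)⟩
      · have ht2 : L.t * L.t = 1 := by rw [← pow_two, ← (L.O_t _ L.t_mem).2 rfl, pow_orderOf_eq_one]
        refine ⟨(⟨L.t * g, mul_mem ht hg, Subgroup.mem_centralizer_singleton_iff.2
          (mul_inv_eq_iff_eq_mul.1 ?_)⟩, true), Subtype.ext ?_⟩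
        · rw [← jel_i1 L, (act_t L).mul hf, Function.comp_apply, ← he, h,
            show ft (-e) = e by decide +kernel]
        · show L.t * (L.t * g) = g
          rw [← mul_assoc, ht2, one_mul]
  have h := Nat.card_eq_of_bijective F hF
  rw [Nat.card_prod] at h
  simp only [Nat.card_eq_fintype_card (α := Bool), Fintype.card_bool] at h
  omega

end CfsgLib.OEightLocal
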