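import Cfsg.Agent.Lib.OEightLocal.OrbitCor

/-!
For `m = 2`, the local data of a normal subgroup of index two avoiding `u` is that of the case `m = 1`.
-/

set_option autoImplicit false
set_option linter.unusedSectionVars false
set_option linter.style.haveILetI false

namespace CfsgLib.OEightLocal.Loc

variable {G : Type*} [Group G] [Finite G] (L : Loc G) (G2 : Subgroup G) [hn : G2.Normal]

theorem cube_mem_two (h2 : G2.index = 2) {x : G} (hx : x ^ 3 = 1) : x ∈ G2 := by
  have e : x = x * x * (x * x) := by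
    calc x = x ^ 3 * x := by rw [hx, one_mul]
      _ = _ := by simp only [pow_succ, pow_zero, one_mul, mul_assoc]
  rw [e]
  exact mul_mem (Subgroup.mul_self_mem_of_index_two h2 x) (Subgroup.mul_self_mem_of_index_two h2 x)

theorem eq_one_or_t_of_comm_y {w : G} (hw : w ∈ L.O) (hc : Commute L.y w) : w = 1 ∨ w = L.t := by
  have hc1 := L.O_comm w hw
  have hwE : w ∈ Subgroup.centralizer ({L.z, L.i₂, L.y} : Set G) := by
    rw [Subgroup.mem_centralizer_iff]
    intro c hcm
    simp only [Set.mem_insert_iff, Set.mem_singleton_iff] at hcm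
    rcases hcm with rfl | rfl | rfl
    exacts [hc1.1.eq.symm, hc1.2.2.eq.symm, hc.eq]
  rw [cent_E L] at hwE
  refine O_inf_NJ L hw (M_le_NJ L ((Subgroup.closure_le _).mpr ?_ hwE))
  intro x hx
  simp only [Set.mem_insert_iff, Set.mem_singleton_iff] at hx
  exact gen_M L (by simp only [Set.mem_insert_iff, Set.mem_singleton_iff]; tauto)

/-- `y w y⁻¹ = w t` is impossible. -/
theorem y_conj_ne_mul_t {w : G} : L.y * w * L.y⁻¹ ≠ w * L.t := by
  intro h
  have ht : orderOf L.t = 2 := (L.O_t L.t L.t_mem).2 rfl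
  have hty : L.y * L.t * L.y⁻¹ = L.t := fix_eq L.comm_ty.symm
  have e2 : L.y * (L.y * w * L.y⁻¹) * L.y⁻¹ = w * L.t * L.t := by
    calc L.y * (L.y * w * L.y⁻¹) * L.y⁻¹ = L.y * (w * L.t) * L.y⁻¹ := by rw [h]
      _ = L.y * w * L.y⁻¹ * (L.y * L.t * L.y⁻¹) := by group
      _ = _ := by rw [h, hty]
  have ht2 : L.t * L.t = 1 := by rw [← pow_two, ← ht, pow_orderOf_eq_one]
  rw [mul_assoc w, ht2, mul_one] at e2
  have e3 : L.y * (L.y * (L.y * w * L.y⁻¹) * L.y⁻¹) * L.y⁻¹ = w * L.t := by rw [e2, h]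
  have hy3 : L.y * L.y * L.y = 1 := by rw [← L.cube_y, pow_succ, pow_two]
  have e4 : L.y * (L.y * (L.y * w * L.y⁻¹) * L.y⁻¹) * L.y⁻¹ = w := by
    calc _ = (L.y * L.y * L.y) * w * (L.y * L.y * L.y)⁻¹ := by group
      _ = w := by rw [hy3]; group
  have hwt : w * L.t = w := e3.symm.trans e4
  rw [mul_eq_left] at hwt
  rw [hwt, orderOf_one] at ht
  exact absurd ht (by norm_num)

theorem exists_sq_eq_t : ∃ w ∈ L.O, w * w = L.t := by
  have ht : orderOf L.t = 2 := (L.O_t L.t L.t_mem).2 rfl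
  by_contra! h
  have key : ∀ w ∈ L.O, w * w = 1 := by
    intro w hw
    have h8 : w ^ 8 = 1 := by
      have := pow_card_eq_one' (x := (⟨w, hw⟩ : L.O))
      rw [L.card_O] at this
      exact congrArg Subtype.val this
    have h4 : w ^ 4 = 1 := by
      by_contra h4
      have : w ^ 4 = L.t := (L.O_t _ (pow_mem hw 4)).1
        (orderOf_eq_prime (by rw [← pow_mul]; exact h8) h4)
      exact h _ (pow_mem hw 2) (by rw [← this, ← pow_add])
    by_contra h1
    have : w * w = L.t := (L.O_t _ (mul_mem hw hw)).1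
      (orderOf_eq_prime (by rw [← pow_two, ← pow_mul]; exact h4) h1)
    exact h _ hw this
  have hle : L.O ≤ Subgroup.zpowers L.t := fun w hw => by
    by_cases h1 : w = 1
    · rw [h1]; exact one_mem _
    · rw [(L.O_t w hw).1 (orderOf_eq_prime (by rw [pow_two]; exact key w hw) h1)]
      exact Subgroup.mem_zpowers _
  have hd := Subgroup.card_dvd_of_le hle
  rw [L.card_O, Nat.card_zpowers, ht] at hd
  exact absurd hd (by norm_num)

theorem t_mem_two (h2 : G2.index = 2) : L.t ∈ G2 := by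
  obtain ⟨w, -, e⟩ := L.exists_sq_eq_t
  exact e ▸ Subgroup.mul_self_mem_of_index_two h2 w

theorem O_le_two (h2 : G2.index = 2) : L.O ≤ G2 := by
  intro w0 hw0
  by_contra hn0
  have hyG : L.y ∈ G2 := cube_mem_two G2 h2 L.cube_y
  have ht : orderOf L.t = 2 := (L.O_t L.t L.t_mem).2 rfl
  have ht2 : L.t * L.t = 1 := by rw [← pow_two, ← ht, pow_orderOf_eq_one]
  have hti : L.t⁻¹ = L.t := inv_eq_of_mul_eq_one_right ht2
  set a := L.y * w0 * L.y⁻¹ * w0⁻¹ with ha
  have haO : a ∈ L.O := mul_mem (L.O_y _ hw0) (inv_mem hw0)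
  have haG : a ∈ G2 := by
    rw [ha, show L.y * w0 * L.y⁻¹ * w0⁻¹ = L.y * (w0 * L.y⁻¹ * w0⁻¹) by group]
    exact mul_mem hyG (hn.conj_mem _ (inv_mem hyG) _)
  have hne : a ≠ 1 := by
    intro e
    have e' : L.y * w0 * L.y⁻¹ = w0 := mul_inv_eq_one.mp e
    rcases L.eq_one_or_t_of_comm_y hw0 (mul_inv_eq_iff_eq_mul.mp e') with h | h
    · exact hn0 (h ▸ one_mem _)
    · exact hn0 (h ▸ L.t_mem_two G2 h2)
  -- `O ∩ G2` has order four
  set K : Subgroup L.O := G2.subgroupOf L.O with hK
  have hKi : K.index = 2 := by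
    rw [Subgroup.index_eq_two_iff]
    refine ⟨⟨w0, hw0⟩, fun b => ?_⟩
    simp only [hK, Subgroup.mem_subgroupOf, Subgroup.coe_mul, Subgroup.mul_mem_iff_of_index_two h2]
    by_cases hb : (b : G) ∈ G2 <;> simp [hb, hn0, Xor']
  have hKc : Nat.card K = 4 := by
    have := K.card_mul_index
    rw [hKi, L.card_O] at this
    omega
  have pow4 : ∀ v ∈ L.O, v ∈ G2 → v ^ 4 = 1 := fun v hv hvG => by
    have := pow_card_eq_one' (x := (⟨⟨v, hv⟩, Subgroup.mem_subgroupOf.mpr hvG⟩ : K))
    rw [hKc] at this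
    exact congrArg (fun x : K => ((x : L.O) : G)) this
  -- `a` has order four, so generates it
  have hat : a ≠ L.t := by
    intro e
    refine L.y_conj_ne_mul_t (w := w0⁻¹) ?_
    have e' : L.y * w0 * L.y⁻¹ = L.t * w0 := by rw [← e, ha]; group
    calc L.y * w0⁻¹ * L.y⁻¹ = (L.y * w0 * L.y⁻¹)⁻¹ := by group
      _ = w0⁻¹ * L.t := by rw [e', mul_inv_rev, hti]
  have ha2 : a ^ 2 ≠ 1 := fun e => hat ((L.O_t a haO).1 (orderOf_eq_prime e hne))
  have hsq : a ^ 2 = L.t := (L.O_t _ (pow_mem haO 2)).1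
    (orderOf_eq_prime (by rw [← pow_mul]; exact pow4 a haO haG) ha2)
  have hord : orderOf a = 4 := orderOf_eq_prime_pow (p := 2) (n := 1) ha2 (pow4 a haO haG)
  set b := L.y * a * L.y⁻¹ with hb
  have hbO : b ∈ L.O := L.O_y _ haO
  have hbG : b ∈ G2 := hn.conj_mem _ haG _
  let a' : K := ⟨⟨a, haO⟩, Subgroup.mem_subgroupOf.mpr haG⟩
  let b' : K := ⟨⟨b, hbO⟩, Subgroup.mem_subgroupOf.mpr hbG⟩
  have htop : Subgroup.zpowers a' = ⊤ := by
    refine Subgroup.eq_top_of_le_card _ ?_
    rw [Nat.card_zpowers, hKc, ← Subgroup.orderOf_coe a', ← Subgroup.orderOf_coe (a' : L.O)]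
    exact hord.ge
  obtain ⟨k, hk⟩ := (Submonoid.mem_powers_iff _ _).mp
    (mem_powers_iff_mem_zpowers.mpr (htop ▸ Subgroup.mem_top b'))
  have hk' : a ^ (k % 4) = b := by
    have e : a ^ k = b := by
      have := congrArg (fun x : K => ((x : L.O) : G)) hk
      simpa [a', b'] using this
    rw [← e, ← hord, pow_mod_orderOf]
  have hlt : k % 4 < 4 := Nat.mod_lt _ (by norm_num)
  rcases (by omega : k % 4 = 0 ∨ k % 4 = 1 ∨ k % 4 = 2 ∨ k % 4 = 3) with e | e | e | e <;> rw [e] at hk'
  · rw [pow_zero, hb] at hk'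
    exact hne (conj_eq_one_iff.mp hk'.symm)
  · rw [pow_one, hb] at hk'
    rcases L.eq_one_or_t_of_comm_y haO (mul_inv_eq_iff_eq_mul.mp hk'.symm) with h | h
    · exact hne h
    · exact hat h
  · rw [hb, hsq] at hk'
    refine ha2 ?_
    have e' : (L.y * a * L.y⁻¹) ^ 2 = 1 := by rw [← hk', pow_two, ht2]
    rw [conj_pow] at e'
    exact conj_eq_one_iff.mp e'
  · refine L.y_conj_ne_mul_t (w := a) ?_
    rw [← hb, ← hk', ← hsq, pow_succ' a 2]

theorem centralizer_inf_two (h2 : G2.index = 2) (hm : L.m = 2) (hu : L.u ∉ G2) :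
    Subgroup.centralizer ({L.z} : Set G) ⊓ G2 =
        Subgroup.closure {L.z, L.i₁, L.i₂, L.y, L.p, L.a} ⊔ L.O ∧
      Nat.card ↥(Subgroup.centralizer ({L.z} : Set G) ⊓ G2) = 5832 := by
  set D : Subgroup G := Subgroup.closure {L.z, L.i₁, L.i₂, L.y, L.p, L.a} ⊔ L.O with hD
  have hu2 : L.u * L.u = 1 := by rw [← pow_two, ← L.u_ord hm, pow_orderOf_eq_one]
  have hui : L.u⁻¹ = L.u := inv_eq_of_mul_eq_one_right hu2
  have hOG := L.O_le_two G2 h2
  have gen : ∀ x ∈ ({L.z, L.i₁, L.i₂, L.y, L.p, L.a} : Set G), x ∈ D := fun x hx =>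
    le_sup_left (a := Subgroup.closure _) (b := L.O) (Subgroup.subset_closure hx)
  have hD2 : D ≤ G2 := by
    refine sup_le ((Subgroup.closure_le _).mpr ?_) hOG
    intro x hx
    simp only [Set.mem_insert_iff, Set.mem_singleton_iff] at hx
    rcases hx with rfl | rfl | rfl | rfl | rfl | rfl
    exacts [cube_mem_two G2 h2 L.cube_z, cube_mem_two G2 h2 L.cube_i₁, cube_mem_two G2 h2 L.cube_i₂,
      cube_mem_two G2 h2 L.cube_y, cube_mem_two G2 h2 L.cube_p, cube_mem_two G2 h2 L.cube_a]
  have hconj : ∀ x ∈ D, L.u * x * L.u⁻¹ ∈ D := by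
    have hle : D ≤ D.comap (MulAut.conj L.u).toMonoidHom := by
      refine sup_le ((Subgroup.closure_le _).mpr ?_) fun w hw => ?_
      · intro x hx
        show L.u * x * L.u⁻¹ ∈ D
        simp only [Set.mem_insert_iff, Set.mem_singleton_iff] at hx
        rcases hx with rfl | rfl | rfl | rfl | rfl | rfl
        · rw [fix_eq L.comm_uz]; exact gen _ (by simp)
        · rw [fix_eq L.comm_ui₁]; exact gen _ (by simp)
        · rw [L.u_i₂ hm]; exact inv_mem (gen _ (by simp))
        · rw [fix_eq L.comm_uy]; exact gen _ (by simp)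
        · rw [fix_eq L.comm_up]; exact gen _ (by simp)
        · rw [L.u_a hm]; exact inv_mem (gen _ (by simp))
      · show L.u * w * L.u⁻¹ ∈ D
        rw [fix_eq (L.u_O w hw)]
        exact le_sup_right (a := Subgroup.closure _) hw
    exact fun x hx => hle hx
  have hDC : D ≤ Subgroup.centralizer ({L.z} : Set G) := by
    rw [L.C_eq]
    exact sup_le_sup_right (Subgroup.closure_mono fun x hx => by
      simp only [Set.mem_insert_iff, Set.mem_singleton_iff] at hx ⊢; tauto) _
  have huC : L.u ∈ Subgroup.centralizer ({L.z} : Set G) :=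
    Subgroup.mem_centralizer_singleton_iff.mpr L.comm_uz.eq
  have hsplit : ∀ c ∈ Subgroup.centralizer ({L.z} : Set G), c ∈ D ∨ c * L.u ∈ D := by
    let E : Subgroup G :=
      { carrier := {c | c ∈ D ∨ c * L.u ∈ D}
        one_mem' := Or.inl (one_mem _)
        mul_mem' := by
          rintro x y (hx | hx) (hy | hy)
          · exact Or.inl (mul_mem hx hy)
          · exact Or.inr (by rw [mul_assoc]; exact mul_mem hx hy)
          · refine Or.inr ?_
            rw [show x * y * L.u = x * L.u * (L.u * y * L.u⁻¹) by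
              rw [hui]; calc x * y * L.u = x * (L.u * L.u) * y * L.u := by rw [hu2, mul_one]
                _ = _ := by group]
            exact mul_mem hx (hconj _ hy)
          · refine Or.inl ?_
            rw [show x * y = x * L.u * (L.u * (y * L.u) * L.u⁻¹) by
              rw [hui]; calc x * y = x * (L.u * L.u) * y * (L.u * L.u) := by rw [hu2, mul_one, mul_one]
                _ = _ := by group]
            exact mul_mem hx (hconj _ hy)
        inv_mem' := by
          rintro x (hx | hx)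
          · exact Or.inl (inv_mem hx)
          · refine Or.inr ?_
            have := hconj _ (inv_mem hx)
            rwa [show L.u * (x * L.u)⁻¹ * L.u⁻¹ = x⁻¹ * L.u by
              rw [mul_inv_rev, hui, ← mul_assoc L.u, hu2, one_mul]] at this }
    have hle : Subgroup.centralizer ({L.z} : Set G) ≤ E := by
      rw [L.C_eq]
      refine sup_le ((Subgroup.closure_le _).mpr ?_) fun w hw => Or.inl (le_sup_right (a := Subgroup.closure _) hw)
      intro x hx
      simp only [Set.mem_insert_iff, Set.mem_singleton_iff] at hx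
      rcases hx with rfl | rfl | rfl | rfl | rfl | rfl | rfl
      iterate 6 exact Or.inl (gen _ (by simp))
      exact Or.inr (by rw [hu2]; exact one_mem _)
    exact fun c hc => hle hc
  refine ⟨le_antisymm (fun c hc => (hsplit c hc.1).resolve_right fun h => hu ?_) (le_inf hDC hD2), ?_⟩
  · have := mul_mem (inv_mem (show c ∈ G2 from hc.2)) (hD2 h)
    rwa [inv_mul_cancel_left] at this
  · have hi : (G2.subgroupOf (Subgroup.centralizer ({L.z} : Set G))).index = 2 := by
      rw [Subgroup.index_eq_two_iff]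
      refine ⟨⟨L.u, huC⟩, fun b => ?_⟩
      simp only [Subgroup.mem_subgroupOf, Subgroup.coe_mul, Subgroup.mul_mem_iff_of_index_two h2]
      by_cases hb : (b : G) ∈ G2 <;> simp [hb, hu, Xor']
    have hc := (G2.subgroupOf (Subgroup.centralizer ({L.z} : Set G))).card_mul_index
    rw [hi, L.card_C, hm] at hc
    have e : Nat.card ↥(Subgroup.centralizer ({L.z} : Set G) ⊓ G2) =
        Nat.card ↥(G2.subgroupOf (Subgroup.centralizer ({L.z} : Set G))) := by
      rw [← Subgroup.inf_subgroupOf_left]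
      exact (Nat.card_congr (Subgroup.subgroupOfEquivOfLe inf_le_left).toEquiv).symm
    omega

theorem exists_loc_index_two (hm : L.m = 2) (h2 : G2.index = 2) (hu : L.u ∉ G2) :
    ∃ L2 : Loc G2, L2.m = 1 ∧ (L2.z : G) = L.z ∧ (L2.y : G) = L.y := by
  have hu2 : L.u * L.u = 1 := by rw [← pow_two, ← L.u_ord hm, pow_orderOf_eq_one]
  have hOG := L.O_le_two G2 h2
  have hmz := cube_mem_two G2 h2 L.cube_z
  have hmi1 := cube_mem_two G2 h2 L.cube_i₁
  have hmi2 := cube_mem_two G2 h2 L.cube_i₂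
  have hmy := cube_mem_two G2 h2 L.cube_y
  have hmp := cube_mem_two G2 h2 L.cube_p
  have hma := cube_mem_two G2 h2 L.cube_a
  have hJG : L.J ≤ G2 := (Subgroup.closure_le _).mpr fun x hx => by
    simp only [Set.mem_insert_iff, Set.mem_singleton_iff] at hx
    rcases hx with rfl | rfl | rfl | rfl <;> assumption
  have hν : L.ν ∈ G2 := by
    refine (Subgroup.closure_le _).mpr ?_ (nu_mem L)
    rintro x (hx | ⟨n, -, rfl⟩)
    · exact hJG hx
    · exact hn.conj_mem _ hmp n
  let Z : G2 := ⟨L.z, hmz⟩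
  let I₁ : G2 := ⟨L.i₁, hmi1⟩
  let I₂ : G2 := ⟨L.i₂, hmi2⟩
  let Y : G2 := ⟨L.y, hmy⟩
  let P : G2 := ⟨L.p, hmp⟩
  let A : G2 := ⟨L.a, hma⟩
  let T : G2 := ⟨L.t, hOG L.t_mem⟩
  have com : ∀ {x y : G2}, Commute (x : G) y → Commute x y := fun h => Subtype.ext h.eq
  have mapcl : ∀ s : Set G2, (Subgroup.closure s).map G2.subtype = Subgroup.closure (Subtype.val '' s) :=
    fun s => MonoidHom.map_closure _ _
  have cardcl : ∀ s : Set G2, Nat.card (Subgroup.closure s) =
      Nat.card (Subgroup.closure (Subtype.val '' s)) := fun s => by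
    rw [← mapcl, Subgroup.card_map_of_injective G2.subtype_injective]
  have memcl : ∀ {s : Set G2} {x : G2}, x ∈ Subgroup.closure s ↔
      (x : G) ∈ Subgroup.closure (Subtype.val '' s) := fun {s x} => by
    rw [← mapcl]
    exact (Subgroup.mem_map_iff_mem G2.subtype_injective).symm
  have eS : Subtype.val '' ({Z, I₁, I₂, Y, P, A} : Set G2) = {L.z, L.i₁, L.i₂, L.y, L.p, L.a} := by
    simp [Set.image_insert_eq, Z, I₁, I₂, Y, P, A]
  have eQ : Subtype.val '' ({Z, I₁, I₂, P, A} : Set G2) = {L.z, L.i₁, L.i₂, L.p, L.a} := by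
    simp [Set.image_insert_eq, Z, I₁, I₂, P, A]
  have eJ : Subtype.val '' ({Z, I₁, I₂, Y} : Set G2) = {L.z, L.i₁, L.i₂, L.y} := by
    simp [Set.image_insert_eq, Z, I₁, I₂, Y]
  have eQ1 : Subtype.val '' ({Z, I₁, P} : Set G2) = {L.z, L.i₁, L.p} := by
    simp [Set.image_insert_eq, Z, I₁, P]
  have isc : ∀ (x : G2), IsConj L.z (x : G) → IsConj Z x := fun x hx => by
    obtain ⟨g, hg⟩ := isConj_iff.mp hx
    by_cases hgG : g ∈ G2
    · exact isConj_iff.mpr ⟨⟨g, hgG⟩, Subtype.ext hg⟩
    · refine isConj_iff.mpr ⟨⟨g * L.u, (Subgroup.mul_mem_iff_of_index_two h2).mpr (by simp [hgG, hu])⟩,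
        Subtype.ext ?_⟩
      show g * L.u * L.z * (g * L.u)⁻¹ = x
      rw [← hg]
      calc g * L.u * L.z * (g * L.u)⁻¹ = g * (L.u * L.z * L.u⁻¹) * g⁻¹ := by group
        _ = _ := by rw [fix_eq L.comm_uz]
  have hCC := L.centralizer_inf_two G2 h2 hm hu
  have mapC : (Subgroup.centralizer ({Z} : Set G2)).map G2.subtype =
      Subgroup.centralizer ({L.z} : Set G) ⊓ G2 := by
    ext x
    constructor
    · rintro ⟨c, hc, rfl⟩
      exact ⟨Subgroup.mem_centralizer_singleton_iff.mpr
        (congrArg Subtype.val (Subgroup.mem_centralizer_singleton_iff.mp hc)), c.2⟩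
    · rintro ⟨h1, h3⟩
      exact ⟨⟨x, h3⟩, Subgroup.mem_centralizer_singleton_iff.mpr
        (Subtype.ext (Subgroup.mem_centralizer_singleton_iff.mp h1)), rfl⟩
  refine ⟨{
    z := Z, i₁ := I₁, i₂ := I₂, y := Y, p := P, a := A, t := T, u := 1, ν := ⟨L.ν, hν⟩
    O := L.O.subgroupOf G2
    m := 1
    hm := Or.inl rfl
    cube_z := Subtype.ext L.cube_z
    cube_i₁ := Subtype.ext L.cube_i₁
    cube_i₂ := Subtype.ext L.cube_i₂
    cube_y := Subtype.ext L.cube_y
    cube_p := Subtype.ext L.cube_p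
    cube_a := Subtype.ext L.cube_a
    z_ne := fun e => L.z_ne (congrArg Subtype.val e)
    comm_zp := com L.comm_zp
    comm_za := com L.comm_za
    comm_zi₁ := com L.comm_zi₁
    comm_zi₂ := com L.comm_zi₂
    comm_zy := com L.comm_zy
    comm_pa := com L.comm_pa
    comm_pi₂ := com L.comm_pi₂
    comm_ai₁ := com L.comm_ai₁
    comm_i₁i₂ := com L.comm_i₁i₂
    comm_yi₁ := com L.comm_yi₁
    comm_yi₂ := com L.comm_yi₂
    rel_p := Subtype.ext L.rel_p
    rel_a := Subtype.ext L.rel_a
    rel_yp := Subtype.ext L.rel_yp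
    rel_ya := Subtype.ext L.rel_ya
    card_O := by rw [Nat.card_congr (Subgroup.subgroupOfEquivOfLe hOG).toEquiv, L.card_O]
    O_t := fun w hw => by
      rw [← Subgroup.orderOf_coe w]
      exact (L.O_t _ hw).trans (Subtype.ext_iff (a1 := w) (a2 := T)).symm
    O_comm := fun w hw => ⟨com (L.O_comm _ hw).1, com (L.O_comm _ hw).2.1, com (L.O_comm _ hw).2.2⟩
    O_y := fun w hw => L.O_y _ hw
    O_Q := fun w hw => by
      refine ⟨memcl.mpr ?_, memcl.mpr ?_⟩ <;> rw [eQ1]
      exacts [(L.O_Q _ hw).1, (L.O_Q _ hw).2]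
    t_mem := L.t_mem
    t_p := Subtype.ext L.t_p
    t_i₁ := Subtype.ext L.t_i₁
    comm_ty := com L.comm_ty
    u_one := fun _ => rfl
    u_ord := fun h => absurd h (by norm_num)
    comm_uz := Commute.one_left _
    comm_ut := Commute.one_left _
    comm_uy := Commute.one_left _
    comm_up := Commute.one_left _
    comm_ui₁ := Commute.one_left _
    u_O := fun _ _ => Commute.one_left _
    u_a := fun h => absurd h (by norm_num)
    u_i₂ := fun h => absurd h (by norm_num)
    ν_sq := Subtype.ext L.ν_sq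
    ν_z := Subtype.ext L.ν_z
    ν_i₁ := Subtype.ext L.ν_i₁
    ν_i₂ := Subtype.ext L.ν_i₂
    ν_y := Subtype.ext L.ν_y
    comm_νt := com L.comm_νt
    comm_νu := Commute.one_right _
    comm_νp := com L.comm_νp
    comm_νa := com L.comm_νa
    card_C := by
      rw [← Subgroup.card_map_of_injective G2.subtype_injective, mapC, hCC.2]
    C_eq := ?_
    sylow := ?_
    card_S := by rw [cardcl, eS]; exact L.card_S
    card_Q := by rw [cardcl, eQ]; exact L.card_Q
    card_J := by rw [cardcl, eJ]; exact L.card_J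
    conj_y := isc _ L.conj_y
    conj_diag := ⟨isc _ L.conj_diag.1, isc _ L.conj_diag.2⟩
    conj_mem_Q := ?_
    abelian_eq_J := ?_
    cent_J := ?_
    signalizer := ?_ }, rfl, rfl, rfl⟩
  · apply Subgroup.map_injective G2.subtype_injective
    rw [mapC, hCC.1, Subgroup.map_sup, Subgroup.map_subgroupOf_eq_of_le hOG, mapcl]
    congr 1
    refine le_antisymm (Subgroup.closure_mono ?_) ((Subgroup.closure_le _).mpr ?_)
    · intro x hx
      simp only [Set.mem_insert_iff, Set.mem_singleton_iff] at hx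
      simp only [Set.image_insert_eq, Set.image_singleton, Set.mem_insert_iff, Set.mem_singleton_iff]
      tauto
    · intro x hx
      simp only [Set.image_insert_eq, Set.image_singleton, Set.mem_insert_iff, Set.mem_singleton_iff] at hx
      rcases hx with rfl | rfl | rfl | rfl | rfl | rfl | rfl
      iterate 6 exact Subgroup.subset_closure (by simp [Z, I₁, I₂, Y, P, A])
      exact one_mem _
  · obtain ⟨S, hS⟩ := L.sylow
    have hSG : (S : Subgroup G) ≤ G2 := by
      rw [hS, Subgroup.closure_le]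
      intro x hx
      simp only [Set.mem_insert_iff, Set.mem_singleton_iff] at hx
      rcases hx with rfl | rfl | rfl | rfl | rfl | rfl <;> assumption
    refine ⟨S.subtype hSG, ?_⟩
    apply Subgroup.map_injective G2.subtype_injective
    rw [mapcl, eS, ← hS]
    exact Subgroup.map_subgroupOf_eq_of_le hSG
  · intro g hg
    rw [memcl, eQ] at hg
    rcases L.conj_mem_Q (g : G) hg with h | ⟨k, l, hl, q, hq, hqz, he⟩
    · obtain ⟨k, hk⟩ := h
      exact Or.inl ⟨k, Subtype.ext hk⟩
    · have hqG : q ∈ G2 := (Subgroup.closure_le _).mpr (fun x hx => by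
        simp only [Set.mem_insert_iff, Set.mem_singleton_iff] at hx
        rcases hx with rfl | rfl | rfl <;> assumption) hq
      refine Or.inr ⟨k, l, hl, ⟨q, hqG⟩, ?_, ?_, Subtype.ext he⟩
      · rw [memcl, eQ1]; exact hq
      · rintro ⟨j, hj⟩
        exact hqz ⟨j, congrArg Subtype.val hj⟩
  · intro B hB hc hcard
    apply Subgroup.map_injective G2.subtype_injective
    rw [mapcl, eJ]
    refine L.abelian_eq_J _ ?_ ?_ ?_
    · rw [← eS, ← mapcl]
      exact Subgroup.map_mono hB
    · exact Subgroup.map_isMulCommutative B G2.subtype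
    · rw [Subgroup.card_map_of_injective G2.subtype_injective, hcard]
  · ext x
    rw [memcl, eJ, ← L.cent_J, Subgroup.mem_centralizer_iff, Subgroup.mem_centralizer_iff]
    constructor
    · intro h j hj
      exact congrArg Subtype.val (h ⟨j, hJG hj⟩ (memcl.mpr (by rw [eJ]; exact hj)))
    · intro h j hj
      refine Subtype.ext (h j ?_)
      have := memcl.mp hj
      rwa [eJ] at this
  · intro K h3 hinv
    apply Subgroup.map_injective G2.subtype_injective
    rw [Subgroup.map_bot]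
    refine L.signalizer _ (by rwa [Subgroup.card_map_of_injective G2.subtype_injective]) ?_
    rintro j hj _ ⟨k, hk, rfl⟩
    exact ⟨_, hinv ⟨j, hJG hj⟩ (memcl.mpr (by rw [eJ]; exact hj)) k hk, rfl⟩

end CfsgLib.OEightLocal.Loc
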