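import Cfsg.Agent.Lib.OEightLocal.TwoU
import Cfsg.Agent.Lib.OEightLocal.Trans
import Cfsg.Agent.Lib.OEightLocal.CentOne

/-!
No conjugate of the outer involution `u` centralises a conjugate of `a`; no involution of the normaliser
of `J` acting as a reflection, its negative, or with two fixed dimensions, is conjugate to `u`.
-/

set_option autoImplicit false
set_option linter.unusedSectionVars false
set_option linter.style.haveILetI false

namespace CfsgLib.OEightLocal

/-- Exchange of `z` and `y` with the inversion of `i₁`. -/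
def fA (v : V) : V := ![v 3, -v 1, v 2, v 0]

/-- The negative of `fA`. -/
def fB (v : V) : V := -fA v

theorem span_axes : ∀ w : V, ∃ c₀ c₁ c₂ c₃ : ZMod 3, w = c₀ • ![1, 0, 1, 1] + c₁ • ![1, 0, -1, 1] +
    c₂ • ![1, 0, 0, -1] + c₃ • ![0, 1, 0, 0] := by decide +kernel

theorem fA_plus : ∀ w : V, fA w = w → bJ ![1, 0, 1, 1] w = 0 → qJ w = -1 →
    w = ![1, 0, -1, 1] ∨ w = -![1, 0, -1, 1] := by decide +kernel

theorem fA_minus : ∀ w : V, fA w = -w → qJ w = -1 →
    w = ![1, 0, 0, -1] ∨ w = -![1, 0, 0, -1] ∨ w = ![0, 1, 0, 0] ∨ w = -![0, 1, 0, 0] := by decide +kernel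

theorem fB_plus : ∀ w : V, fB w = w → bJ ![1, 0, 0, -1] w = 0 → qJ w = -1 →
    w = ![0, 1, 0, 0] ∨ w = -![0, 1, 0, 0] := by decide +kernel

theorem fB_minus : ∀ w : V, fB w = -w → qJ w = -1 →
    w = ![1, 0, 1, 1] ∨ w = -![1, 0, 1, 1] ∨ w = ![1, 0, -1, 1] ∨ w = -![1, 0, -1, 1] := by decide +kernel

theorem card_fixed_fA : (Finset.univ.filter fun w : V => fA w = w).card = 9 := by decide +kernel

theorem card_fixed_fB : (Finset.univ.filter fun w : V => fB w = w).card = 9 := by decide +kernel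

theorem axes_facts : qJ ![1, 0, 1, 1] = -1 ∧ qJ ![1, 0, -1, 1] = -1 ∧ qJ ![1, 0, 0, -1] = -1 ∧
    qJ ![0, 1, 0, 0] = -1 := by decide +kernel

/-- An isometry of order three fixing one vector of an anisotropic decomposition is trivial. -/
theorem rigid_three {g f : V → V} (hadd : ∀ v w, g (v + w) = g v + g w) (hsmul : ∀ (c : ZMod 3) v, g (c • v) = c • g v)
    (h3 : ∀ v, g (g (g v)) = v) (hq : ∀ v, qJ (g v) = qJ v) (hb : ∀ v w, bJ (g v) (g w) = bJ v w)
    (hgf : ∀ v, g (f v) = f (g v)) {e e' b b' : V} (ge : g e = e)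
    (fe' : f e' = e') (ee' : bJ e e' = 0) (qe' : qJ e' = -1) (he : ∀ w, f w = w → bJ e w = 0 → qJ w = -1 → w = e' ∨ w = -e')
    (fb : f b = -b) (fb' : f b' = -b') (qb : qJ b = -1) (qb' : qJ b' = -1)
    (hm : ∀ w, f w = -w → qJ w = -1 → w = b ∨ w = -b ∨ w = b' ∨ w = -b')
    (hne : e' ≠ -e' ∧ b ≠ -b ∧ b' ≠ -b' ∧ b ≠ b' ∧ b ≠ -b')
    (hspan : ∀ w, ∃ c₀ c₁ c₂ c₃ : ZMod 3, w = c₀ • e + c₁ • e' + c₂ • b + c₃ • b') :
    ∀ v, g v = v := by
  have hneg : ∀ v, g (-v) = -g v := fun v => by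
    rw [← neg_one_smul (ZMod 3) v, hsmul, neg_one_smul]
  obtain ⟨n1, n2, n3, n4, n5⟩ := hne
  have ge' : g e' = e' := by
    rcases he (g e') (by rw [← hgf, fe']) (by rw [← ge, hb, ee']) (by rw [hq, qe']) with h | h
    · exact h
    · have := h3 e'
      rw [h, hneg, h, neg_neg, h] at this
      exact absurd this.symm n1
  have hgb := hm (g b) (by rw [← hgf, fb, hneg]) (by rw [hq, qb])
  have hgb' := hm (g b') (by rw [← hgf, fb', hneg]) (by rw [hq, qb'])
  have inj : Function.Injective g := fun v w h => by rw [← h3 v, h, h3]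
  have key : g b = b ∧ g b' = b' := by
    have c1 := h3 b
    have c2 := h3 b'
    rcases hgb with h | h | h | h <;> rcases hgb' with h' | h' | h' | h'
    all_goals simp only [h, h', hneg, neg_neg] at c1 c2
    all_goals first
      | exact ⟨h, h'⟩
      | exact absurd c1 n2
      | exact absurd c1.symm n2
      | exact absurd c2 n3
      | exact absurd c2.symm n3
      | exact absurd c1.symm n4
      | exact absurd c1.symm n5
      | exact absurd c1 (fun hh => n5 (by rw [← neg_neg b, ← hh]))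
      | exact absurd (inj (h.trans h'.symm)) n4
      | exact absurd (inj (show g b = g (-b') by rw [h, hneg, h', neg_neg])) n5
      | exact absurd (inj (show g b = g (-b') by rw [h, hneg, h'])) n5
  intro v
  obtain ⟨c₀, c₁, c₂, c₃, rfl⟩ := hspan v
  rw [hadd, hadd, hadd, hsmul, hsmul, hsmul, hsmul, ge, ge', key.1, key.2]

variable {G : Type*} [Group G] [Finite G] (L : Loc G)

namespace Loc

/-- No conjugate of `u` centralises `a`. -/
theorem not_comm_a (hm : L.m = 2) {v g : G} (hv : g * L.u * g⁻¹ = v) : ¬ Commute L.a v := by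
  intro hc
  have h2 : Commute L.u (g⁻¹ * L.a * g) := by
    have := hc.symm.map (MulAut.conj g⁻¹).toMonoidHom
    simp only [MulEquiv.coe_toMonoidHom, MulAut.conj_apply, inv_inv] at this
    rwa [← hv, show g⁻¹ * (g * L.u * g⁻¹) * g = L.u by group] at this
  obtain ⟨h, -, hJ⟩ := L.exists_conj_J' hm (x := g⁻¹ * L.a * g)
    (by rw [show g⁻¹ * L.a * g = g⁻¹ * L.a * g⁻¹⁻¹ by group, conj_pow, L.cube_a]; group) h2
  refine L.a_conj_not_J hm (h * g⁻¹) (L.J'_le_J ?_)
  rwa [show h * g⁻¹ * L.a * (h * g⁻¹)⁻¹ = h * (g⁻¹ * L.a * g) * h⁻¹ by group]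

/-- An element of order three of the centraliser of a conjugate of `u` lies in an abelian group of order 27
there. -/
theorem exists_abelian_27 (hm : L.m = 2) {v g x : G} (hv : g * L.u * g⁻¹ = v) (hx : x ^ 3 = 1)
    (hc : Commute x v) : ∃ A : Subgroup G, x ∈ A ∧ 27 ≤ Nat.card A ∧
      ∀ a ∈ A, Commute a v ∧ a ^ 3 = 1 ∧ ∀ b ∈ A, Commute a b := by
  have h2 : Commute L.u (g⁻¹ * x * g) := by
    have := hc.symm.map (MulAut.conj g⁻¹).toMonoidHom
    simp only [MulEquiv.coe_toMonoidHom, MulAut.conj_apply, inv_inv] at this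
    rwa [← hv, show g⁻¹ * (g * L.u * g⁻¹) * g = L.u by group] at this
  obtain ⟨h, hh, hJ⟩ := L.exists_conj_J' hm (x := g⁻¹ * x * g)
    (by rw [show g⁻¹ * x * g = g⁻¹ * x * g⁻¹⁻¹ by group, conj_pow, hx]; group) h2
  set k := g * h⁻¹ with hk
  have hkv : k * L.u * k⁻¹ = v := by
    rw [hk, show g * h⁻¹ * L.u * (g * h⁻¹)⁻¹ = g * (h⁻¹ * L.u * h) * g⁻¹ by group,
      hh.symm.inv_left.eq, inv_mul_cancel_right, hv]
  refine ⟨L.J'.map (MulAut.conj k).toMonoidHom, ⟨_, hJ, ?_⟩, ?_, ?_⟩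
  · show k * (h * (g⁻¹ * x * g) * h⁻¹) * k⁻¹ = x
    rw [hk]; group
  · rw [Subgroup.card_map_of_injective (MulAut.conj k).injective]; exact L.card_J'
  · rintro _ ⟨a, ha, rfl⟩
    refine ⟨?_, ?_, ?_⟩
    · rw [← hkv]; exact ((L.J'_comm_u ha).symm.map (MulAut.conj k).toMonoidHom)
    · show (k * a * k⁻¹) ^ 3 = 1
      obtain ⟨w, rfl⟩ := (mem_J L).1 (L.J'_le_J ha)
      rw [conj_pow, cube_jel, mul_one, mul_inv_cancel]
    · rintro _ ⟨b, hb, rfl⟩
      exact (CfsgLib.OEightLocal.J_comm L (L.J'_le_J ha) (L.J'_le_J hb)).map (MulAut.conj k).toMonoidHom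

/-- Two involutions inducing the same map on `J` are conjugate. -/
theorem conj_of_same_act {v w : G} (hv : v * v = 1) (hw : w * w = 1) {f : V → V} (hfv : L.Act v f)
    (hfw : L.Act w f) : IsConj w v := by
  have hff : ∀ x, f (f x) = x := fun x =>
    congrFun ((hfw.mul hfw).unique (show L.Act (w * w) id by rw [hw]; exact Loc.Act.one)) x
  obtain ⟨c, hc⟩ := (mem_J L).1 (mem_J_of_act L (x := v * w) ((hfv.mul hfw).congr hff))
  have hv' : v = L.jel c * w := by rw [hc, mul_assoc, hw, mul_one]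
  have winv : w⁻¹ = w := inv_eq_of_mul_eq_one_right hw
  have h0 : c + f c = 0 := by
    apply jel_injective L
    rw [jel_add, ← hfw c, jel_zero, winv]
    calc L.jel c * (w * L.jel c * w) = L.jel c * w * (L.jel c * w) := by group
      _ = 1 := by rw [← hv', hv]
  refine isConj_iff.2 ⟨L.jel (-c), ?_⟩
  rw [hv']
  calc L.jel (-c) * w * (L.jel (-c))⁻¹ = L.jel (-c) * (w * L.jel c * w⁻¹) * w := by
        rw [jel_neg, inv_inv, winv]
        calc (L.jel c)⁻¹ * w * L.jel c = (L.jel c)⁻¹ * (w * L.jel c * 1) := by group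
          _ = _ := by rw [← hw]; group
    _ = L.jel c * w := by
        rw [hfw c, ← jel_add, eq_neg_of_add_eq_zero_right h0]
        congr 2
        exact (show ∀ c : V, -c + -c = c by decide +kernel) c

/-- An element of order three centralising a vector of type `i₁` normalises `J`. -/
theorem cent_D_le (hm : L.m = 2) {e : V} (he : qJ e = -1) {x : G} (hx : Commute x (L.jel e)) : x ∈ L.NJ := by
  obtain ⟨n, f, hf, hfe⟩ := exists_conj L (v := ![0, 1, 0, 0]) (w := e) (by decide)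
    (fun h0 => by rw [h0] at he; exact absurd he (by decide +kernel)) (by rw [he]; decide +kernel)
  have hn : L.jel e = n * L.i₁ * n⁻¹ := by rw [← hfe, ← hf, jel_i1]
  have h1 : n⁻¹ * x * n ∈ L.NJ := L.cent_i₁_le hm (Subgroup.mem_centralizer_singleton_iff.2 (by
    have := hx.map (MulAut.conj n⁻¹).toMonoidHom
    simp only [MulEquiv.coe_toMonoidHom, MulAut.conj_apply, inv_inv, hn] at this
    rw [show n⁻¹ * (n * L.i₁ * n⁻¹) * n = L.i₁ by group] at this
    exact this.eq))
  have := mul_mem (mul_mem hf.mem_normalizer h1) (inv_mem hf.mem_normalizer)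
  rwa [show n * (n⁻¹ * x * n) * n⁻¹ = x by group] at this

theorem plane_excluded (hm : L.m = 2) {v g : G} (hv : g * L.u * g⁻¹ = v) {f : V → V} (hf : L.Act v f)
    {e e' b b' : V} (qe : qJ e = -1) (fe : f e = e)
    (fe' : f e' = e') (ee' : bJ e e' = 0) (qe' : qJ e' = -1)
    (he : ∀ w, f w = w → bJ e w = 0 → qJ w = -1 → w = e' ∨ w = -e')
    (fb : f b = -b) (fb' : f b' = -b') (qb : qJ b = -1) (qb' : qJ b' = -1)
    (hmn : ∀ w, f w = -w → qJ w = -1 → w = b ∨ w = -b ∨ w = b' ∨ w = -b')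
    (hne : e' ≠ -e' ∧ b ≠ -b ∧ b' ≠ -b' ∧ b ≠ b' ∧ b ≠ -b')
    (hspan : ∀ w, ∃ c₀ c₁ c₂ c₃ : ZMod 3, w = c₀ • e + c₁ • e' + c₂ • b + c₃ • b')
    (hcard : (Finset.univ.filter fun w : V => f w = w).card = 9) : False := by
  classical
  have hev : Commute (L.jel e) v := by
    have := hf e; rw [fe] at this; exact (mul_inv_eq_iff_eq_mul.1 this).symm
  obtain ⟨A, heA, h27, hA⟩ := L.exists_abelian_27 hm hv (cube_jel L e) hev
  have hAJ : ∀ x ∈ A, ∃ w, f w = w ∧ L.jel w = x := by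
    intro x hx
    obtain ⟨xv, x3, xA⟩ := hA x hx
    have hxe := xA _ heA
    obtain ⟨fx, hfx⟩ := exists_act_map L (L.cent_D_le hm qe hxe)
    have hid : ∀ w, fx w = w := by
      refine rigid_three hfx.add hfx.map_smul (fun w => ?_) (qJ_act L hfx) (bJ_act L hfx) (fun w => ?_)
        ?_ fe' ee' qe' he fb fb' qb qb' hmn hne hspan
      · exact congrFun (((hfx.mul hfx).mul hfx).unique
          (show L.Act (x * x * x) id by rw [← pow_three', x3]; exact Loc.Act.one)) w
      · exact congrFun ((hfx.mul hf).unique (xv.eq.symm ▸ hf.mul hfx)) w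
      · exact jel_injective L (by rw [← hfx, fix_eq hxe])
    obtain ⟨w, hw⟩ := (mem_J L).1 (mem_J_of_act L (hfx.congr hid))
    refine ⟨w, jel_injective L ?_, hw⟩
    rw [← hf, hw, fix_eq xv.symm]
  have hle : Nat.card A ≤ 9 := by
    choose w hw hwx using hAJ
    rw [← hcard, ← Fintype.card_coe, ← Nat.card_eq_fintype_card]
    refine Nat.card_le_card_of_injective (fun x : A => ⟨w x x.2, by simpa using hw x x.2⟩) fun x x' h => ?_
    exact Subtype.ext ((hwx x x.2).symm.trans ((congrArg L.jel (congrArg Subtype.val h)).trans (hwx x' x'.2)))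
  omega

/-- An involution acting as `fA` or `fB` is not conjugate to `u`. -/
theorem not_conj_plane (hm : L.m = 2) {v g : G} (hv : g * L.u * g⁻¹ = v)
    (hf : L.Act v fA ∨ L.Act v fB) : False := by
  obtain ⟨q1, q2, q3, q4⟩ := axes_facts
  rcases hf with hf | hf
  · exact L.plane_excluded hm hv hf q1 (by decide +kernel) (e' := ![1, 0, -1, 1]) (by decide +kernel)
      (by decide +kernel) q2 fA_plus (b := ![1, 0, 0, -1]) (b' := ![0, 1, 0, 0]) (by decide +kernel)
      (by decide +kernel) q3 q4 fA_minus (by decide +kernel) span_axes card_fixed_fA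
  · refine L.plane_excluded hm hv hf q3 (by decide +kernel) (e' := ![0, 1, 0, 0]) (by decide +kernel)
      (by decide +kernel) q4 fB_plus (b := ![1, 0, 1, 1]) (b' := ![1, 0, -1, 1]) (by decide +kernel)
      (by decide +kernel) q1 q2 fB_minus (by decide +kernel) (fun w => ?_) card_fixed_fB
    obtain ⟨c0, c1, c2, c3, rfl⟩ := span_axes w
    exact ⟨c2, c3, c0, c1, by abel⟩

/-- An involution acting as a reflection is not conjugate to `u`. -/
theorem not_conj_refl (hm : L.m = 2) {v g : G} (hv : g * L.u * g⁻¹ = v) (hv2 : v * v = 1) {d : V}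
    (hd : qJ d = -1) (hf : L.Act v (fun x => x + bJ x d • d)) : False := by
  obtain ⟨r, hr, hrt, hra, -⟩ := exists_refl L hd
  obtain ⟨k, hk⟩ := isConj_iff.1 (hrt.trans (L.conj_of_same_act hv2 hr hf hra))
  refine L.t_not_conj_u hm (g⁻¹ * k) ?_
  rw [show g⁻¹ * k * L.t * (g⁻¹ * k)⁻¹ = g⁻¹ * (k * L.t * k⁻¹) * g by group, hk, ← hv]; group

/-- An involution acting as minus the identity or minus a reflection is not conjugate to `u`. -/
theorem not_conj_neg (hm : L.m = 2) {v g : G} (hv : g * L.u * g⁻¹ = v) (hv2 : v * v = 1)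
    (hf : L.Act v (fun x => -x) ∨ ∃ d, qJ d = -1 ∧ L.Act v (fun x => -(x + bJ x d • d))) : False := by
  have key : ∀ w k : G, k * w * k⁻¹ = v → ¬ Commute L.a w := fun w k hk =>
    L.not_comm_a hm (v := w) (g := k⁻¹ * g) (by
      rw [show k⁻¹ * g * L.u * (k⁻¹ * g)⁻¹ = k⁻¹ * (g * L.u * g⁻¹) * k by group, hv, ← hk]; group)
  rcases hf with hf | ⟨d, hd, hf⟩
  · obtain ⟨k, hk⟩ := isConj_iff.1 (L.conj_of_same_act hv2 L.ν_sq hf (act_nu L))
    exact key _ k hk L.comm_νa.symm
  · obtain ⟨n, f, hn, hfd⟩ := exists_conj L (v := ![0, 1, 0, 0]) (w := d) (by decide)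
      (fun h0 => by rw [h0] at hd; exact absurd hd (by decide +kernel)) (by rw [hd]; decide +kernel)
    obtain ⟨fi, hfi, hii⟩ := hn.inv
    have hνt : L.ν * L.t * (L.ν * L.t) = 1 := by
      rw [mul_assoc, ← mul_assoc L.t, L.comm_νt.symm.eq, mul_assoc L.ν L.t L.t, L.t_sq, mul_one, L.ν_sq]
    have hw : (n * (L.ν * L.t) * n⁻¹) * (n * (L.ν * L.t) * n⁻¹) = 1 := by
      rw [conj_mul, hνt, mul_one, mul_inv_cancel]
    have ha : L.Act (n * (L.ν * L.t) * n⁻¹) (fun x => -(x + bJ x d • d)) :=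
      ((hn.mul ((act_nu L).mul (act_t L))).mul hfi).congr fun x => by
        simp only [Function.comp_apply]
        have hneg : ∀ y, f (-y) = -f y := fun y => by
          rw [← neg_one_smul (ZMod 3) y, hn.map_smul, neg_one_smul]
        rw [hneg, bJ_e1, hn.add, hii, hn.map_smul, hfd, ← bJ_act L hn (fi x), hii, hfd]
    obtain ⟨k, hk⟩ := isConj_iff.1 (L.conj_of_same_act hv2 hw hf ha)
    exact key (L.ν * L.t) (k * n) (by rw [← hk]; group) (L.comm_νa.symm.mul_right (L.O_comm L.t L.t_mem).2.1.symm)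

end Loc

end CfsgLib.OEightLocal
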