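import Cfsg.Agent.Lib.OEightLocal.TwoNormBar
import Cfsg.Agent.Lib.OEightLocal.TwoV
import Cfsg.Agent.Lib.Coprime.Generation
import Cfsg.Agent.Lib.Signalizer.Tools

/-!
In the case `m = 2`: an element of `N(W) ∩ C(t)` commuting with `u` modulo `W` lies in `W (N(J) ∩ C(t))`.
-/

set_option autoImplicit false
set_option linter.unusedSectionVars false
set_option linter.style.haveILetI false

open scoped Pointwise

namespace CfsgLib.OEightLocal

theorem pt_perp_zero : ∀ v : V, v 1 = 0 → (∀ k, bJ v (pt k) = 0) → v = 0 := by decide +kernel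

theorem rot_facts : ∀ v : V, v 1 = 0 → bJ v (pt 0) = v 3 ∧ bJ v (pt 1) = v 0 ∧
    (v 2 = 0 → bJ v (pt 2) = 0 → v 0 = v 3) := by decide +kernel

theorem e_facts : bJ ![1, 0, 0, 1] (pt 0) = 1 ∧ bJ ![1, 0, 0, 1] (pt 1) = 1 ∧
    bJ ![1, 0, 0, 1] (pt 2) = 0 ∧ bJ ![1, 0, 0, 1] (pt 3) = 0 ∧ qJ ![1, 0, 0, 1] = 1 := by decide +kernel

theorem neg_eq_self_z3 : ∀ c : ZMod 3, -c = c → c = 0 := by decide

theorem one_ne_neg_one_z3 : (1 : ZMod 3) ≠ -1 := by decide

theorem e_ne : (![1, 0, 0, 1] : V) ≠ 0 := by decide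

theorem iso_z : ∀ v : V, v 1 = 0 → v 0 = 1 → v 3 = 0 → qJ v = 0 → v = ![1, 0, 0, 0] := by decide +kernel

theorem iso_y : ∀ v : V, v 1 = 0 → v 0 = 0 → v 3 = 1 → qJ v = 0 → v = ![0, 0, 0, 1] := by decide +kernel

theorem iso_i₂ : ∀ v : V, v 1 = 0 → bJ v ![1, 0, 0, 0] = 0 → bJ v ![0, 0, 0, 1] = 0 → qJ v = 1 →
    v = ![0, 0, 1, 0] ∨ v = -![0, 0, 1, 0] := by decide +kernel

/-- Two anisotropic planes: a map of order three preserving them is the same on both. -/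
theorem split_planes {A : Type*} [Group A] [Finite A] (h2 : ∀ a : A, a * a = 1) (ρ : A × A →* A × A)
    (hinj : Function.Injective ρ) (hq : ∀ p : A × A, ((ρ p).1 = 1 ↔ (ρ p).2 = 1) ↔ (p.1 = 1 ↔ p.2 = 1))
    (h3 : ∀ p, ρ (ρ (ρ p)) = p) (a : A) : (ρ (a, 1)).2 = 1 := by
  have one : ∀ a : A, a ≠ 1 → ((ρ (a, 1)).1 = 1 ↔ (ρ (a, 1)).2 ≠ 1) := by
    intro a ha
    have := hq (a, 1)
    simp only [ha, false_iff] at this
    tauto
  by_contra hb
  have ha : a ≠ 1 := by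
    rintro rfl
    exact hb (by rw [show ((1 : A), (1 : A)) = 1 from rfl, map_one]; rfl)
  have ha1 : (ρ (a, 1)).1 = 1 := (one a ha).2 hb
  have hall : ∀ c : A, (ρ (c, 1)).1 = 1 := by
    intro c
    by_cases hc : c = 1
    · subst hc; rw [show ((1 : A), (1 : A)) = 1 from rfl, map_one]; rfl
    by_contra hc1
    have hc2 : (ρ (c, 1)).2 = 1 := by
      by_contra h; exact hc1 ((one c hc).2 h)
    have hne : a * c ≠ 1 := fun h => hc1 (by
      have : c = a := by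
        calc c = a * a * c := by rw [h2, one_mul]
          _ = a := by rw [mul_assoc, h, mul_one]
      rw [this]; exact ha1)
    have hp : ρ (a * c, 1) = ρ (a, 1) * ρ (c, 1) := by
      rw [← map_mul]; exact congrArg ρ (Prod.ext rfl (one_mul 1).symm)
    have h := one (a * c) hne
    rw [hp, Prod.fst_mul, Prod.snd_mul, ha1, hc2, one_mul, mul_one] at h
    exact hc1 (h.2 hb)
  have hsurj : Function.Surjective fun c : A => (ρ (c, 1)).2 := by
    refine Finite.injective_iff_surjective.1 fun x y h => ?_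
    exact congrArg Prod.fst (hinj (Prod.ext ((hall x).trans (hall y).symm) h))
  have hB : ∀ b : A, b ≠ 1 → (ρ (1, b)).1 ≠ 1 := by
    intro b hb0 hb1
    obtain ⟨c, hc⟩ := hsurj (ρ (1, b)).2
    exact hb0 (congrArg Prod.snd (hinj (Prod.ext ((hb1.trans (hall c).symm)) hc.symm)))
  set b := (ρ (a, 1)).2 with hbdef
  have hρa : ρ (a, 1) = (1, b) := Prod.ext ha1 rfl
  have hb2 : (ρ (1, b)).2 = 1 := by
    have := hq (1, b)
    simp only [hb, iff_false] at this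
    have h1 := hB b hb
    tauto
  set c := (ρ (1, b)).1 with hcdef
  have hρb : ρ (1, b) = (c, 1) := Prod.ext rfl hb2
  have h := h3 (a, 1)
  rw [hρa, hρb] at h
  exact ha ((congrArg Prod.fst h).symm.trans (hall c))

namespace Loc

variable {G : Type*} [Group G] [Finite G] (L : Loc G) (hm : L.m = 2)

/-- The elements of `N(W) ∩ C(t)` commuting with `u` modulo `W`. -/
def Hu : Subgroup G where
  carrier := {g | g ∈ Subgroup.normalizer (L.W : Set G) ∧ Commute g L.t ∧ g * L.u * g⁻¹ * L.u⁻¹ ∈ L.W}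
  one_mem' := ⟨one_mem _, Commute.one_left _, by simp⟩
  mul_mem' := by
    rintro g h ⟨g1, g2, g3⟩ ⟨h1, h2, h3⟩
    refine ⟨mul_mem g1 h1, g2.mul_left h2, ?_⟩
    convert mul_mem ((Subgroup.mem_normalizer_iff.1 g1 _).1 h3) g3 using 1
    group
  inv_mem' := by
    rintro g ⟨g1, g2, g3⟩
    refine ⟨inv_mem g1, g2.inv_left, ?_⟩
    convert (Subgroup.mem_normalizer_iff.1 (inv_mem g1) _).1 (inv_mem g3) using 1
    group

theorem mem_Hu {g : G} : g ∈ L.Hu ↔
    g ∈ Subgroup.normalizer (L.W : Set G) ∧ Commute g L.t ∧ g * L.u * g⁻¹ * L.u⁻¹ ∈ L.W := Iff.rfl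

theorem Hu_conj {g x : G} (hg : g ∈ L.Hu) (hx : x ∈ L.W) : g * x * g⁻¹ ∈ L.W :=
  (Subgroup.mem_normalizer_iff.1 hg.1 x).1 hx

theorem u_norm {x : G} (hx : x ∈ L.W) : L.u * x * L.u⁻¹ ∈ L.W := L.NT_norm_W L.gens_NT.2.2.2.2.1 hx

theorem W_le_Hu : L.W ≤ L.Hu := fun w hw => by
  refine ⟨Subgroup.le_normalizer hw, Subgroup.mem_centralizer_singleton_iff.1 (L.W_le_ct hw), ?_⟩
  convert mul_mem hw (L.u_norm (inv_mem hw)) using 1
  group

theorem bar_conj_congr {g x x' : G} (hg : g ∈ L.Hu) (hx : x ∈ L.W) (hx' : x' ∈ L.W)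
    (h : L.bar x = L.bar x') : L.bar (g * x * g⁻¹) = L.bar (g * x' * g⁻¹) := by
  rw [L.bar_eq (L.Hu_conj hg hx) (L.Hu_conj hg hx')]
  have h' := (L.bar_eq hx hx').1 h
  obtain ⟨n, hn⟩ := Subgroup.mem_zpowers_iff.1 h'
  rw [show g * x * g⁻¹ * (g * x' * g⁻¹)⁻¹ = g * (x * x'⁻¹) * g⁻¹ by group, ← hn,
    (hg.2.1.zpow_right n).eq, mul_inv_cancel_right]
  exact Subgroup.zpow_mem _ (Subgroup.mem_zpowers _) n

theorem bar_W_conj {w x : G} (hw : w ∈ L.W) (hx : x ∈ L.W) : L.bar (w * x * w⁻¹) = L.bar x := by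
  rw [L.bar_mul (mul_mem hw hx) (inv_mem hw), L.bar_mul hw hx, L.bar_inv hw]
  funext k
  simp only [Pi.mul_apply]
  rw [L.Ob_comm (L.bar w k), mul_assoc, L.Ob_sq, mul_one]

/-- The commutator with `u`. -/
def cu (x : G) : G := x * (L.u * x⁻¹ * L.u⁻¹)

theorem cu_mem {x : G} (hx : x ∈ L.W) : L.cu x ∈ L.W := mul_mem hx (L.u_norm (inv_mem hx))

/-- The fixed subgroup of `u` modulo `⟨t⟩`. -/
def InF (x : G) : Prop := x ∈ L.W ∧ L.bar x 2 = L.bar x 3

/-- The commutator subgroup with `u` modulo `⟨t⟩`. -/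
def InD (x : G) : Prop := L.InF x ∧ L.bar x 0 = 1 ∧ L.bar x 1 = 1

include hm

theorem bar_cu {x : G} (hx : x ∈ L.W) :
    L.bar (L.cu x) = fun k => L.bar x k * L.bar x (Equiv.swap (2 : Fin 4) 3 k) := by
  rw [cu, L.bar_mul hx (L.u_norm (inv_mem hx)), L.bar_u hm (inv_mem hx), L.bar_inv hx]
  rfl

theorem bar_cu_vals {x : G} (hx : x ∈ L.W) : L.bar (L.cu x) 0 = 1 ∧ L.bar (L.cu x) 1 = 1 ∧
    L.bar (L.cu x) 2 = L.bar x 2 * L.bar x 3 ∧ L.bar (L.cu x) 3 = L.bar x 3 * L.bar x 2 := by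
  rw [L.bar_cu hm hx]
  refine ⟨?_, ?_, ?_, ?_⟩ <;> simp [Equiv.swap_apply_def, L.Ob_sq]

theorem conj_cu {g x : G} (hg : g ∈ L.Hu) (hx : x ∈ L.W) :
    L.bar (g * L.cu x * g⁻¹) = L.bar (L.cu (g * x * g⁻¹)) := by
  obtain ⟨hn, -, hu⟩ := hg
  set w' := g * L.u * g⁻¹ * L.u⁻¹ with hw'
  set y := g * x * g⁻¹ with hy
  have hyW : y ∈ L.W := (Subgroup.mem_normalizer_iff.1 hn x).1 hx
  have e : g * L.cu x * g⁻¹ = y * (w' * (L.u * y⁻¹ * L.u⁻¹) * w'⁻¹) := by rw [cu, hy, hw']; group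
  rw [e, L.bar_mul hyW (mul_mem (mul_mem hu (L.u_norm (inv_mem hyW))) (inv_mem hu)),
    L.bar_W_conj hu (L.u_norm (inv_mem hyW)), cu, L.bar_mul hyW (L.u_norm (inv_mem hyW))]

theorem conj_F {g x : G} (hg : g ∈ L.Hu) (hx : L.InF x) : L.InF (g * x * g⁻¹) := by
  obtain ⟨hxW, h23⟩ := hx
  refine ⟨L.Hu_conj hg hxW, ?_⟩
  have h1 : L.bar (L.cu x) = 1 := by
    rw [L.bar_cu hm hxW]
    funext k
    fin_cases k <;> simp [Equiv.swap_apply_def, L.Ob_sq, h23]
  have h2 : L.bar (g * L.cu x * g⁻¹) = 1 := by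
    rw [L.bar_conj_congr hg (L.cu_mem hxW) (one_mem _) (h1.trans ((L.bar_eq_one (one_mem _)).2 (one_mem _)).symm)]
    simp [(L.bar_eq_one (one_mem _)).2 (one_mem _)]
  rw [L.conj_cu hm hg hxW] at h2
  have := congrFun h2 2
  rw [(L.bar_cu_vals hm (L.Hu_conj hg hxW)).2.2.1, Pi.one_apply, ← L.Ob_inv (L.bar (g * x * g⁻¹) 3),
    mul_inv_eq_one] at this
  exact this

theorem conj_D {g x : G} (hg : g ∈ L.Hu) (hx : L.InD x) : L.InD (g * x * g⁻¹) := by
  refine ⟨L.conj_F hm hg hx.1, ?_⟩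
  obtain ⟨⟨hxW, h23⟩, h0, h1⟩ := hx
  obtain ⟨o, ho⟩ := L.cl_surj (L.bar x 2)
  set x' := L.emb L.comm_O (Pi.mulSingle 2 o) with hx'
  have hx'W : x' ∈ L.W := (L.mem_W L.comm_O).2 ⟨_, rfl⟩
  have hb : L.bar x' = fun k => if k = 2 then L.bar x 2 else 1 := by
    rw [hx', bar_emb]; funext k
    by_cases h : k = 2
    · subst h; simp [ho]
    · simp [h]
  have he : L.bar x = L.bar (L.cu x') := by
    rw [L.bar_cu hm hx'W, hb]
    funext k
    fin_cases k <;> simp [Equiv.swap_apply_def, h0, h1, h23]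
  rw [L.bar_conj_congr hg hxW (L.cu_mem hx'W) he, L.conj_cu hm hg hx'W]
  exact ⟨(L.bar_cu_vals hm (L.Hu_conj hg hx'W)).1, (L.bar_cu_vals hm (L.Hu_conj hg hx'W)).2.1⟩

omit hm in
/-- A representative of a pair of classes. -/
noncomputable def sec (p : L.Ob × L.Ob) : G :=
  L.emb L.comm_O ![(L.cl_surj p.1).choose, (L.cl_surj p.2).choose, 1, 1]

omit hm in
theorem bar_sec (p : L.Ob × L.Ob) : L.bar (L.sec p) = ![p.1, p.2, 1, 1] := by
  rw [sec, bar_emb]
  funext k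
  fin_cases k <;> simp [(L.cl_surj p.1).choose_spec, (L.cl_surj p.2).choose_spec]

omit hm in
theorem sec_F (p : L.Ob × L.Ob) : L.InF (L.sec p) :=
  ⟨(L.mem_W L.comm_O).2 ⟨_, rfl⟩, by rw [L.bar_sec]; rfl⟩

omit hm in
/-- The map induced on the first two factors. -/
noncomputable def rho (g : G) (p : L.Ob × L.Ob) : L.Ob × L.Ob :=
  (L.bar (g * L.sec p * g⁻¹) 0, L.bar (g * L.sec p * g⁻¹) 1)

theorem rho_eq {g x : G} (hg : g ∈ L.Hu) (hx : L.InF x) :
    L.rho g (L.bar x 0, L.bar x 1) = (L.bar (g * x * g⁻¹) 0, L.bar (g * x * g⁻¹) 1) := by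
  set s := L.sec (L.bar x 0, L.bar x 1) with hs
  have hsW : s ∈ L.W := (L.sec_F _).1
  have hd : L.InD (s * x⁻¹) := by
    have hb := L.bar_mul hsW (inv_mem hx.1)
    rw [L.bar_inv hx.1, hs, L.bar_sec] at hb
    refine ⟨⟨mul_mem hsW (inv_mem hx.1), ?_⟩, ?_, ?_⟩ <;> rw [hb] <;> simp [L.Ob_sq, hx.2]
  obtain ⟨⟨hW, -⟩, h0, h1⟩ := L.conj_D hm hg hd
  have e : g * s * g⁻¹ = (g * (s * x⁻¹) * g⁻¹) * (g * x * g⁻¹) := by group
  show (L.bar (g * s * g⁻¹) 0, L.bar (g * s * g⁻¹) 1) = _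
  rw [e, L.bar_mul hW (L.Hu_conj hg hx.1)]
  simp [h0, h1]

theorem rho_comp {g h : G} (hg : g ∈ L.Hu) (hh : h ∈ L.Hu) (p : L.Ob × L.Ob) :
    L.rho (g * h) p = L.rho g (L.rho h p) := by
  have e := L.rho_eq hm hg (L.conj_F hm hh (L.sec_F p))
  rw [show g * (h * L.sec p * h⁻¹) * g⁻¹ = g * h * L.sec p * (g * h)⁻¹ by group] at e
  exact e.symm

theorem rho_one (p : L.Ob × L.Ob) : L.rho 1 p = p := by
  simp [rho, L.bar_sec]

theorem rho_mul {g : G} (hg : g ∈ L.Hu) (p q : L.Ob × L.Ob) : L.rho g (p * q) = L.rho g p * L.rho g q := by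
  have hp := L.sec_F p
  have hq := L.sec_F q
  have hF : L.InF (L.sec p * L.sec q) := by
    refine ⟨mul_mem hp.1 hq.1, ?_⟩
    rw [L.bar_mul hp.1 hq.1, Pi.mul_apply, Pi.mul_apply, hp.2, hq.2]
  have e := L.rho_eq hm hg hF
  rw [L.bar_mul hp.1 hq.1, show g * (L.sec p * L.sec q) * g⁻¹ = (g * L.sec p * g⁻¹) * (g * L.sec q * g⁻¹) by
    group, L.bar_mul (L.Hu_conj hg hp.1) (L.Hu_conj hg hq.1)] at e
  simp [L.bar_sec] at e
  exact e

omit hm in
theorem sq_F {x : G} (hx : L.InF x) : x * x = 1 ↔ (L.bar x 0 = 1 ↔ L.bar x 1 = 1) := by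
  obtain ⟨hxW, h23⟩ := hx
  obtain ⟨c, rfl⟩ := L.exists_coord hxW
  rw [bar_emb] at h23 ⊢
  have val : ∀ k, (L.cl (c k) = 1 → (c k : G) * c k = 1) ∧ (L.cl (c k) ≠ 1 → (c k : G) * c k = L.t) := by
    intro k
    refine ⟨fun h => ?_, fun h => ?_⟩
    · rcases L.mem_T.1 (L.cl_eq_one.1 h) with e | e <;> rw [e]
      · exact one_mul 1
      · exact L.t_sq
    · exact L.O_sq (c k).2 (fun e => h (L.cl_eq_one.2 (e ▸ one_mem _)))
        (fun e => h (L.cl_eq_one.2 (e ▸ Subgroup.mem_zpowers _)))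
  rw [← map_mul, L.emb_of_T L.comm_O (fun k => L.sq_T (c k).2)]
  simp only [Pi.mul_apply, Subgroup.coe_mul] at h23 ⊢
  have h23' : ((c 2 : G) * c 2) * ((c 3 : G) * c 3) = 1 := by
    by_cases h : L.cl (c 2) = 1
    · rw [(val 2).1 h, (val 3).1 (h23 ▸ h), one_mul]
    · rw [(val 2).2 h, (val 3).2 (h23 ▸ h), L.t_sq]
  rw [mul_assoc, h23', mul_one]
  by_cases h0 : L.cl (c 0) = 1 <;> by_cases h1 : L.cl (c 1) = 1 <;>
    simp [h0, h1, (val 0).1, (val 0).2, (val 1).1, (val 1).2, L.t_sq, t_ne L]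

theorem rho_sq {g : G} (hg : g ∈ L.Hu) (p : L.Ob × L.Ob) :
    (((L.rho g p).1 = 1) ↔ ((L.rho g p).2 = 1)) ↔ (p.1 = 1 ↔ p.2 = 1) := by
  have hs := L.sec_F p
  have h1 := L.sq_F hs
  have h2 := L.sq_F (L.conj_F hm hg hs)
  rw [L.bar_sec] at h1
  have e : g * L.sec p * g⁻¹ * (g * L.sec p * g⁻¹) = 1 ↔ L.sec p * L.sec p = 1 := by
    rw [conj_mul, mul_inv_eq_one, mul_eq_left]
  rw [e, h1] at h2
  exact h2.symm

theorem rho_inv {g : G} (hg : g ∈ L.Hu) (p : L.Ob × L.Ob) : L.rho g⁻¹ (L.rho g p) = p := by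
  rw [← L.rho_comp hm (inv_mem hg) hg, inv_mul_cancel, L.rho_one hm]

omit hm in
theorem jel_t {v : V} (hv : v 1 = 0) : Commute (L.jel v) L.t := by
  refine (mul_inv_eq_iff_eq_mul.1 (?_ : L.t * L.jel v * L.t⁻¹ = L.jel v)).symm
  rw [act_t L]
  congr 1
  funext i; fin_cases i <;> simp [ft, hv]

omit hm in
theorem jel_mem_NT {v : V} (hv : v 1 = 0) : L.jel v ∈ L.NT :=
  L.mem_NT.2 ⟨Subgroup.le_normalizer (jel_mem L v), L.jel_t hv⟩

theorem jel_Hu {v : V} (h1 : v 1 = 0) (h2 : v 2 = 0) : L.jel v ∈ L.Hu := by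
  refine ⟨L.NT_le_norm_W (L.jel_mem_NT h1), L.jel_t h1, ?_⟩
  have hf : L.u * L.jel v * L.u⁻¹ = L.jel v := by
    rw [act_u_two L hm]
    congr 1
    funext i; fin_cases i <;> simp [fu, h2]
  have hc : Commute L.u (L.jel v) := mul_inv_eq_iff_eq_mul.1 hf
  rw [hc.symm.eq, mul_inv_cancel_right, mul_inv_cancel]
  exact one_mem _

theorem rho_jel {v : V} (h1 : v 1 = 0) (p : L.Ob × L.Ob) :
    L.rho (L.jel v) p = (L.yb (v 3) p.1, L.yb (v 0) p.2) := by
  simp only [rho, L.bar_jel h1 (L.sec_F p).1, L.bar_sec, (rot_facts v h1).1, (rot_facts v h1).2.1]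
  rfl

/-- The elements trivial on the first two factors. -/
noncomputable def K1 : Subgroup G where
  carrier := {g | g ∈ L.Hu ∧ ∀ p, L.rho g p = p}
  one_mem' := ⟨one_mem _, L.rho_one hm⟩
  mul_mem' := fun {g h} hg hh => ⟨mul_mem hg.1 hh.1, fun p => by rw [L.rho_comp hm hg.1 hh.1, hh.2, hg.2]⟩
  inv_mem' := fun {g} hg => ⟨inv_mem hg.1, fun p => by
    conv_lhs => rw [← hg.2 p]
    rw [L.rho_inv hm hg.1]⟩

/-- The elements trivial on all the sections. -/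
noncomputable def Rs : Subgroup G where
  carrier := {g | g ∈ L.K1 hm ∧ ∀ x, L.InD x → L.bar (g * x * g⁻¹) = L.bar x}
  one_mem' := ⟨one_mem _, fun x _ => by simp⟩
  mul_mem' := fun {g h} hg hh => ⟨mul_mem hg.1 hh.1, fun x hx => by
    rw [show g * h * x * (g * h)⁻¹ = g * (h * x * h⁻¹) * g⁻¹ by group,
      hg.2 _ (L.conj_D hm hh.1.1 hx), hh.2 x hx]⟩
  inv_mem' := fun {g} hg => ⟨inv_mem hg.1, fun x hx => by
    have h := hg.2 _ (L.conj_D hm (inv_mem hg.1.1) hx)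
    rw [show g * (g⁻¹ * x * g⁻¹⁻¹) * g⁻¹ = x by group] at h
    exact h.symm⟩

omit hm in
theorem three_CW : ∀ x ∈ Subgroup.centralizer (L.W : Set G), x ^ 3 = 1 → x = 1 := by
  haveI : Fact (Nat.Prime 3) := ⟨Nat.prime_three⟩
  set K := Subgroup.centralizer (L.W : Set G) with hK
  suffices h : ¬ 3 ∣ Nat.card K by
    intro x hx h3
    rcases (Nat.dvd_prime Nat.prime_three).1 (orderOf_dvd_of_pow_eq_one h3) with e | e
    · exact orderOf_eq_one_iff.1 e
    · exact absurd (e ▸ Subgroup.orderOf_dvd_natCard K hx) h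
  intro hdvd
  set E := Subgroup.closure ({L.z, L.i₂, L.y} : Set G) with hE
  have hEJ : E ≤ L.J := Subgroup.closure_mono (by
    intro x; simp only [Set.mem_insert_iff, Set.mem_singleton_iff]; tauto)
  have hEN : E ≤ L.NT := (Subgroup.closure_le _).2 (by
    rintro x (rfl | rfl | rfl)
    exacts [L.gens_NT.1, L.gens_NT.2.1, L.gens_NT.2.2.1])
  have hEK : E ≤ Subgroup.normalizer (K : Set G) := fun g hg => by
    have hgW := L.NT_le_norm_W (hEN hg)
    have key : ∀ g ∈ Subgroup.normalizer (L.W : Set G), ∀ x ∈ K, g * x * g⁻¹ ∈ K := by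
      intro g hg x hx
      refine Subgroup.mem_centralizer_iff.2 fun w hw => ?_
      have h := Subgroup.mem_centralizer_iff.1 hx _ ((Subgroup.mem_normalizer_iff.1 (inv_mem hg) w).1 hw)
      calc w * (g * x * g⁻¹) = g * ((g⁻¹ * w * g⁻¹⁻¹) * x) * g⁻¹ := by group
        _ = g * (x * (g⁻¹ * w * g⁻¹⁻¹)) * g⁻¹ := by rw [h]
        _ = _ := by group
    rw [Subgroup.mem_normalizer_iff]
    intro x
    refine ⟨key g hgW x, fun h => ?_⟩
    have := key g⁻¹ (inv_mem hgW) _ h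
    simpa [mul_assoc] using this
  have hEp : IsPGroup 3 E := (IsPGroup.of_card (n := 4) (by
    rw [show L.J = Subgroup.closure {L.z, L.i₁, L.i₂, L.y} from rfl, L.card_J]; norm_num)).to_le hEJ
  set KE := K ⊔ E with hKE
  obtain ⟨P, hP⟩ := (hEp.comap_subtype (K := KE)).exists_le_sylow
  set P' := (P : Subgroup KE).map KE.subtype with hP'
  have hEP : E ≤ P' := fun g hg => ⟨⟨g, Subgroup.mem_sup_right hg⟩, hP hg, rfl⟩
  have hKN : KE ≤ Subgroup.normalizer (K : Set G) := sup_le Subgroup.le_normalizer hEK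
  have hP'p : IsPGroup 3 P' := P.2.map _
  have hne : K ⊓ P' ≠ ⊥ := by
    intro hbot
    haveI : (K.subgroupOf KE).Normal := Subgroup.normal_subgroupOf_of_le_normalizer hKN
    have hinj : Function.Injective ((QuotientGroup.mk' (K.subgroupOf KE)).comp (P : Subgroup KE).subtype) := by
      rw [injective_iff_map_eq_one]
      intro x hx
      have hxK : ((x : KE) : G) ∈ K := (QuotientGroup.eq_one_iff (N := K.subgroupOf KE) (x : KE)).1 hx
      have hb : ((x : KE) : G) ∈ K ⊓ P' := ⟨hxK, x, x.2, rfl⟩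
      rw [hbot, Subgroup.mem_bot] at hb
      exact Subtype.ext (Subtype.ext hb)
    set S := (P : Subgroup KE)
    set U := (S.map (QuotientGroup.mk' (K.subgroupOf KE)))
    have hcard : Nat.card S ∣ (K.subgroupOf KE).index := by
      have h := Subgroup.card_subgroup_dvd_card ((QuotientGroup.mk' (K.subgroupOf KE)).comp S.subtype).range
      rwa [← Nat.card_congr (MonoidHom.ofInjective hinj).toEquiv] at h
    have htot := (K.subgroupOf KE).card_mul_index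
    have h3K : 3 ∣ Nat.card (K.subgroupOf KE) := by
      rw [Nat.card_congr (Subgroup.subgroupOfEquivOfLe (le_sup_left : K ≤ KE)).toEquiv]; exact hdvd
    have hdiv : Nat.card S * 3 ∣ Nat.card KE := by
      rw [← htot, mul_comm (Nat.card S)]
      exact Nat.mul_dvd_mul h3K hcard
    refine P.not_dvd_index ?_
    have hS := S.card_mul_index
    rw [← hS] at hdiv
    exact Nat.dvd_of_mul_dvd_mul_left Nat.card_pos hdiv
  have hPN : P' ≤ Subgroup.normalizer ((K ⊓ P' : Subgroup G) : Set G) := by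
    intro g hg
    have hgK : g ∈ Subgroup.normalizer (K : Set G) := hKN (Subgroup.map_subtype_le _ hg)
    rw [Subgroup.mem_normalizer_iff]
    intro x
    rw [Subgroup.mem_inf, Subgroup.mem_inf, ← Subgroup.mem_normalizer_iff.1 hgK x,
      ← Subgroup.mem_normalizer_iff.1 (Subgroup.le_normalizer hg) x]
  obtain ⟨x, hx, hx1⟩ := (Subgroup.ne_bot_iff_exists_ne_one.1
    (CfsgLib.Signalizer.inf_centralizer_ne_bot hP'p inf_le_right hPN hne) :
      ∃ x : (K ⊓ P' ⊓ Subgroup.centralizer (P' : Set G) : Subgroup G), x ≠ 1) |> fun ⟨x, hx⟩ =>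
        (⟨(x : G), x.2, fun h => hx (Subtype.ext h)⟩ :
          ∃ x, x ∈ K ⊓ P' ⊓ Subgroup.centralizer (P' : Set G) ∧ x ≠ 1)
  obtain ⟨⟨hxK, hxP⟩, hxC⟩ := hx
  have hcc : ∀ g ∈ E, Commute x g := fun g hg => (Subgroup.mem_centralizer_iff.1 hxC g (hEP hg)).symm
  have hxE : x ∈ Subgroup.closure ({L.z, L.i₁, L.i₂, L.y, L.t} : Set G) := by
    rw [← cent_E L, Subgroup.mem_centralizer_iff]
    rintro g hg
    exact (hcc g (Subgroup.subset_closure hg)).eq.symm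
  have hxT : Commute x L.t := (Subgroup.mem_centralizer_iff.1 hxK L.t L.t_mem_W).symm
  have hJT : Subgroup.closure ({L.z, L.i₁, L.i₂, L.y, L.t} : Set G) ≤ L.J ⊔ Subgroup.zpowers L.t :=
    (Subgroup.closure_le _).2 (by
      rintro g (rfl | rfl | rfl | rfl | rfl)
      exacts [Subgroup.mem_sup_left (Subgroup.subset_closure (by simp)),
        Subgroup.mem_sup_left (Subgroup.subset_closure (by simp)),
        Subgroup.mem_sup_left (Subgroup.subset_closure (by simp)),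
        Subgroup.mem_sup_left (Subgroup.subset_closure (by simp)),
        Subgroup.mem_sup_right (Subgroup.mem_zpowers _)])
  obtain ⟨j, hj, τ, hτ, rfl⟩ := Set.mem_mul.1 (by
    rw [← Subgroup.coe_mul_of_right_le_normalizer_left L.J _
      (Subgroup.zpowers_le.2 (act_t L).mem_normalizer)]
    exact hJT hxE : x ∈ (L.J : Set G) * (Subgroup.zpowers L.t : Set G))
  obtain ⟨v, rfl⟩ := (mem_J L).1 hj
  have hτt : Commute τ L.t := by
    obtain ⟨n, hn⟩ := Subgroup.mem_zpowers_iff.1 hτ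
    rw [← hn]; exact (Commute.refl _).zpow_left n
  have hv1 : v 1 = 0 := by
    have h : Commute (L.jel v) L.t := by simpa using hxT.mul_left hτt.inv_left
    have h' := congrFun (jel_injective L ((act_t L v).symm.trans (fix_eq h.symm))) 1
    simp [ft] at h'
    exact neg_eq_self_z3 _ h'
  have hv : v = 0 := by
    refine pt_perp_zero v hv1 fun k => ?_
    by_contra hk
    obtain ⟨o, ho, o1, ot⟩ := L.exists_noncentral
    have hw : L.ins k ⟨o, ho⟩ ∈ L.W := L.pz_mem_W k ho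
    have hcw : Commute (L.jel v) (L.ins k ⟨o, ho⟩) := by
      have h1 : Commute (L.jel v * τ) (L.ins k ⟨o, ho⟩) := (Subgroup.mem_centralizer_iff.1 hxK _ hw).symm
      have h2 : Commute τ (L.ins k ⟨o, ho⟩) := by
        obtain ⟨n, hn⟩ := Subgroup.mem_zpowers_iff.1 hτ
        rw [← hn]
        exact Commute.zpow_left (Subgroup.mem_centralizer_singleton_iff.1 (L.W_le_ct hw)).symm n
      simpa using h1.mul_left h2.inv_left
    have h := L.bar_jel hv1 hw
    rw [fix_eq hcw, show L.ins k ⟨o, ho⟩ = L.emb L.comm_O (Pi.mulSingle k ⟨o, ho⟩) from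
      (L.emb_single L.comm_O k _).symm, bar_emb] at h
    have hk' := congrFun h k
    simp only [Pi.mulSingle_eq_same] at hk'
    rcases L.mem_T.1 (L.cl_eq_one.1 (L.yb_fpf hk hk'.symm)) with e | e
    exacts [o1 e, ot e]
  rw [hv, jel_zero, one_mul] at hxP hx1
  have hxT' := hP'p ⟨τ, hxP⟩
  obtain ⟨n, hn⟩ := hxT'
  have hn' : τ ^ (3 ^ n) = 1 := congrArg Subtype.val hn
  have h2 : τ ^ 2 = 1 := by
    rcases L.mem_T.1 hτ with e | e <;> rw [e, pow_two]
    · exact one_mul 1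
    · exact L.t_sq
  have := pow_gcd_eq_one.2 ⟨hn', h2⟩
  rw [(Nat.Coprime.pow_left n (by norm_num) : Nat.gcd (3 ^ n) 2 = 1), pow_one] at this
  exact hx1 this

theorem Rs_three {x : G} (hx : x ∈ L.Rs hm) (h3 : x ^ 3 = 1) : x = 1 := by
  obtain ⟨⟨hxH, hρ⟩, hD⟩ := hx
  refine L.three_CW x (Subgroup.mem_centralizer_iff.2 fun w hw => ?_) h3
  set c := x * w * x⁻¹ * w⁻¹ with hc
  have hy : x * w * x⁻¹ ∈ L.W := L.Hu_conj hxH hw
  have hcW : c ∈ L.W := mul_mem hy (inv_mem hw)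
  have hcF : L.InF c := by
    refine ⟨hcW, ?_⟩
    have h := hD (L.cu w) ⟨⟨L.cu_mem hw, by
      rw [(L.bar_cu_vals hm hw).2.2.1, (L.bar_cu_vals hm hw).2.2.2]; exact L.Ob_comm _ _⟩,
      (L.bar_cu_vals hm hw).1, (L.bar_cu_vals hm hw).2.1⟩
    rw [L.conj_cu hm hxH hw] at h
    have h2 := congrFun h 2
    rw [(L.bar_cu_vals hm hy).2.2.1, (L.bar_cu_vals hm hw).2.2.1] at h2
    rw [hc, L.bar_mul hy (inv_mem hw), L.bar_inv hw, Pi.mul_apply, Pi.mul_apply]
    generalize L.bar (x * w * x⁻¹) 2 = a, L.bar (x * w * x⁻¹) 3 = b, L.bar w 2 = a', L.bar w 3 = b' at h2 ⊢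
    calc a * a' = a * (b * b) * a' := by rw [L.Ob_sq, mul_one]
      _ = (a * b) * b * a' := by simp only [mul_assoc]
      _ = (a' * b') * b * a' := by rw [h2]
      _ = a' * (b' * b) * a' := by simp only [mul_assoc]
      _ = (b * b') * (a' * a') := by rw [L.Ob_comm a', L.Ob_comm b' b, mul_assoc]
      _ = b * b' := by rw [L.Ob_sq, mul_one]
  have hprod : (x * (x * c * x⁻¹) * x⁻¹) * ((x * c * x⁻¹) * c) = 1 := by
    calc (x * (x * c * x⁻¹) * x⁻¹) * ((x * c * x⁻¹) * c) = x ^ 3 * w * (x ^ 3)⁻¹ * w⁻¹ := by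
          simp only [hc, pow_succ, pow_zero, one_mul, mul_inv_rev, mul_assoc, inv_mul_cancel_left,
            mul_inv_cancel_left, inv_inv]
      _ = 1 := by rw [h3]; simp
  have h1W : x * c * x⁻¹ ∈ L.W := L.Hu_conj hxH hcW
  have h2W : x * (x * c * x⁻¹) * x⁻¹ ∈ L.W := L.Hu_conj hxH h1W
  have hbar := congrArg L.bar hprod
  rw [L.bar_mul h2W (mul_mem h1W hcW), L.bar_mul h1W hcW, (L.bar_eq_one (one_mem _)).2 (one_mem _)] at hbar
  have e1 := (L.rho_eq hm hxH hcF).symm.trans (hρ _)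
  have e2 := (L.rho_eq hm hxH (L.conj_F hm hxH hcF)).symm.trans (hρ _)
  rw [Prod.mk.injEq] at e1 e2
  have hcD : L.InD c := by
    refine ⟨hcF, ?_, ?_⟩
    · have h := congrFun hbar 0
      rw [Pi.mul_apply, Pi.mul_apply, e2.1, e1.1, L.Ob_sq, mul_one] at h
      exact h
    · have h := congrFun hbar 1
      rw [Pi.mul_apply, Pi.mul_apply, e2.2, e1.2, L.Ob_sq, mul_one] at h
      exact h
  have hb1 := hD c hcD
  have hb2 := (hD _ (L.conj_D hm hxH hcD)).trans hb1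
  have hcT : c ∈ Subgroup.zpowers L.t := by
    rw [← L.bar_eq_one hcW]
    rw [hb2, hb1] at hbar
    funext k
    have h := congrFun hbar k
    rw [Pi.mul_apply, Pi.mul_apply, L.Ob_sq, mul_one] at h
    exact h
  have hxc : x * c * x⁻¹ = c := by
    rcases L.mem_T.1 hcT with e | e <;> rw [e]
    · simp
    · exact fix_eq hxH.2.1
  rw [hxc, hxc] at hprod
  have hc2 : c * c = 1 := by
    rcases L.mem_T.1 hcT with e | e <;> rw [e]
    · exact one_mul 1
    · exact L.t_sq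
  rw [hc2, mul_one] at hprod
  exact (mul_inv_eq_iff_eq_mul.1 (mul_inv_eq_one.1 (hc ▸ hprod : x * w * x⁻¹ * w⁻¹ = 1))).symm

theorem Rs_not_dvd : ¬ 3 ∣ Nat.card (L.Rs hm) := by
  intro h
  haveI : Fact (Nat.Prime 3) := ⟨Nat.prime_three⟩
  obtain ⟨x, hx⟩ := exists_prime_orderOf_dvd_card' 3 h
  have h1 := L.Rs_three hm x.2 (congrArg Subtype.val (hx ▸ pow_orderOf_eq_one x : x ^ 3 = 1))
  rw [orderOf_eq_one_iff.2 (Subtype.ext h1)] at hx
  norm_num at hx

theorem jel_norm_K1 {v : V} (h1 : v 1 = 0) (h2 : v 2 = 0) {g : G} (hg : g ∈ L.K1 hm) :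
    L.jel v * g * (L.jel v)⁻¹ ∈ L.K1 hm := by
  have hj := L.jel_Hu hm h1 h2
  refine ⟨mul_mem (mul_mem hj hg.1) (inv_mem hj), fun p => ?_⟩
  rw [L.rho_comp hm (mul_mem hj hg.1) (inv_mem hj), L.rho_comp hm hj hg.1, hg.2,
    ← L.rho_comp hm hj (inv_mem hj), mul_inv_cancel, L.rho_one hm]

theorem jel_norm_Rs {v : V} (h1 : v 1 = 0) (h2 : v 2 = 0) :
    L.jel v ∈ Subgroup.normalizer (L.Rs hm : Set G) := by
  have key : ∀ v : V, v 1 = 0 → v 2 = 0 → ∀ g ∈ L.Rs hm, L.jel v * g * (L.jel v)⁻¹ ∈ L.Rs hm := by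
    intro v h1 h2 g hg
    have hj := L.jel_Hu hm h1 h2
    refine ⟨L.jel_norm_K1 hm h1 h2 hg.1, fun x hx => ?_⟩
    have hxj := L.conj_D hm (inv_mem hj) hx
    rw [show L.jel v * g * (L.jel v)⁻¹ * x * (L.jel v * g * (L.jel v)⁻¹)⁻¹ =
      L.jel v * (g * ((L.jel v)⁻¹ * x * (L.jel v)⁻¹⁻¹) * g⁻¹) * (L.jel v)⁻¹ by group,
      L.bar_conj_congr hj (L.Hu_conj hg.1.1 hxj.1.1) hxj.1.1 (hg.2 _ hxj)]
    congr 1; group
  rw [Subgroup.mem_normalizer_iff]
  intro g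
  refine ⟨key v h1 h2 g, fun h => ?_⟩
  have h' := key (-v) (by simp [h1]) (by simp [h2]) _ h
  rw [jel_neg] at h'
  simpa [mul_assoc] using h'

theorem Rs_le_M₀ : L.Rs hm ≤ L.M₀ := by
  set E := Subgroup.closure ({L.z, L.y} : Set G) with hE
  have hmem : ∀ g ∈ E, ∃ v : V, v 1 = 0 ∧ v 2 = 0 ∧ L.jel v = g := by
    intro g hg
    induction hg using Subgroup.closure_induction with
    | mem x hx =>
      rcases hx with rfl | rfl
      exacts [⟨_, rfl, rfl, jel_z L⟩, ⟨_, rfl, rfl, jel_y L⟩]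
    | one => exact ⟨0, rfl, rfl, jel_zero L⟩
    | mul a b _ _ ha hb =>
      obtain ⟨v, v1, v2, rfl⟩ := ha; obtain ⟨w, w1, w2, rfl⟩ := hb
      exact ⟨v + w, by simp [v1, w1], by simp [v2, w2], jel_add L v w⟩
    | inv a _ ha =>
      obtain ⟨v, v1, v2, rfl⟩ := ha
      exact ⟨-v, by simp [v1], by simp [v2], jel_neg L v⟩
  have hEJ : E ≤ L.J := fun g hg => by obtain ⟨v, -, -, rfl⟩ := hmem g hg; exact jel_mem L v
  haveI : IsMulCommutative E := ⟨⟨fun x y => Subtype.ext (J_comm L (hEJ x.2) (hEJ y.2))⟩⟩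
  have hexp : ∀ g ∈ E, g ^ 3 = 1 := fun g hg => by
    obtain ⟨v, -, -, rfl⟩ := hmem g hg; exact cube_jel L v
  have hne : ¬ IsCyclic E := by
    refine CfsgLib.Coprime.not_isCyclic_of_exponent hexp (by norm_num) ?_
    have hlt : Subgroup.zpowers L.z < E := lt_of_le_of_ne
      (Subgroup.zpowers_le.2 (Subgroup.subset_closure (by simp))) fun e => by
        have h : L.y ∈ Subgroup.zpowers L.z := e.symm ▸ Subgroup.subset_closure (by simp)
        obtain ⟨n, hn⟩ := Subgroup.mem_zpowers_iff.1 h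
        have hc : Commute L.y L.p := hn ▸ L.comm_zp.zpow_left n
        have h' := act_p L ![0, 0, 0, 1]
        rw [jel_y, fix_eq hc.symm, ← jel_y L] at h'
        exact absurd (jel_injective L h') (by decide)
    have hz : Nat.card (Subgroup.zpowers L.z) = 3 := by
      rw [Nat.card_zpowers]; exact orderOf_eq_prime L.cube_z L.z_ne
    rw [← hz]
    by_contra hc
    exact hlt.ne (Subgroup.eq_of_le_of_card_ge hlt.le (not_lt.1 hc))
  have hcop : (Nat.card E).Coprime (Nat.card (L.Rs hm)) := by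
    refine Nat.Coprime.coprime_dvd_left (Subgroup.card_dvd_of_le hEJ) ?_
    rw [show L.J = Subgroup.closure {L.z, L.i₁, L.i₂, L.y} from rfl, L.card_J, show (81 : ℕ) = 3 ^ 4 by norm_num]
    exact ((Nat.prime_three.coprime_iff_not_dvd).2 (L.Rs_not_dvd hm)).pow_left 4
  refine CfsgLib.Coprime.le_of_centralizer_le hne (fun g hg => ?_) hcop fun g hg hg1 => ?_
  · obtain ⟨v, v1, v2, rfl⟩ := hmem g hg
    exact L.jel_norm_Rs hm v1 v2
  · obtain ⟨v, v1, -, rfl⟩ := hmem g hg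
    rintro x ⟨hxR, hxv⟩
    have hv0 : v ≠ 0 := fun h => hg1 (by rw [h, jel_zero])
    have hxt : Commute x L.t := hxR.1.1.2.1
    by_cases hq : qJ v = -1
    · exact Subgroup.mem_sup_right (L.mem_NT.2
        ⟨L.cent_D_le hm hq (Subgroup.mem_centralizer_singleton_iff.1 hxv), hxt⟩)
    · exact L.cent_good_M₀ hv0 v1 hq ⟨hxv, Subgroup.mem_centralizer_singleton_iff.2 hxt.eq⟩

/-- The Sylow step. -/
theorem step {h : G} (hh : h ∈ L.Hu) (σ : Bool)
    (hr : h * L.jel ![1, 0, 0, 1] * h⁻¹ * (bif σ then L.jel ![1, 0, 0, 1] else (L.jel ![1, 0, 0, 1])⁻¹)⁻¹ ∈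
      L.Rs hm) : h ∈ L.M₀ := by
  haveI : Fact (Nat.Prime 3) := ⟨Nat.prime_three⟩
  set e := L.jel ![1, 0, 0, 1] with he
  have he1 : e ≠ 1 := jel_ne_one L e_ne
  have hoe : orderOf e = 3 := orderOf_eq_prime (cube_jel L _) he1
  set R := L.Rs hm
  set RE := R ⊔ Subgroup.zpowers e with hRE
  have hen : e ∈ Subgroup.normalizer (R : Set G) := L.jel_norm_Rs hm rfl rfl
  have heM : e ∈ L.M₀ := Subgroup.mem_sup_right (L.jel_mem_NT rfl)
  have he' : h * e * h⁻¹ ∈ RE := by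
    have h2 : (bif σ then e else e⁻¹) ∈ RE := by
      cases σ
      · exact inv_mem (Subgroup.mem_sup_right (Subgroup.mem_zpowers e))
      · exact Subgroup.mem_sup_right (Subgroup.mem_zpowers e)
    have := mul_mem (Subgroup.mem_sup_left hr : _ ∈ RE) h2
    rwa [inv_mul_cancel_right] at this
  set e' : RE := ⟨e, Subgroup.mem_sup_right (Subgroup.mem_zpowers e)⟩ with he'def
  set f' : RE := ⟨h * e * h⁻¹, he'⟩ with hf'def
  have hof : ∀ x : RE, (x : G) ^ 3 = 1 → x ≠ 1 → IsPGroup 3 (Subgroup.zpowers x) ∧ Nat.card (Subgroup.zpowers x) = 3 :=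
    fun x h3 h1 => by
      have : Nat.card (Subgroup.zpowers x) = 3 := by
        rw [Nat.card_zpowers]; exact orderOf_eq_prime (Subtype.ext (by simpa using h3)) h1
      exact ⟨IsPGroup.of_card (n := 1) (by rw [this]; rfl), this⟩
  have he'1 : e' ≠ 1 := fun hh => he1 (congrArg Subtype.val hh)
  have hf'1 : f' ≠ 1 := fun hh => he1 (conj_eq_one_iff.1 (congrArg Subtype.val hh))
  obtain ⟨hpe, hce⟩ := hof e' (cube_jel L _) he'1
  obtain ⟨hpf, hcf⟩ := hof f' (by show (h * e * h⁻¹) ^ 3 = 1; rw [conj_pow, cube_jel]; group) hf'1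
  obtain ⟨P1, hP1⟩ := hpe.exists_le_sylow
  obtain ⟨P2, hP2⟩ := hpf.exists_le_sylow
  haveI : (R.subgroupOf RE).Normal :=
    Subgroup.normal_subgroupOf_of_le_normalizer (sup_le Subgroup.le_normalizer (Subgroup.zpowers_le.2 hen))
  have hidx : (R.subgroupOf RE).index ∣ 3 := by
    have h1 : R.relIndex RE = R.relIndex (Subgroup.zpowers e) :=
      CfsgLib.Coprime.relIndex_sup_of_le_normalizer (Subgroup.zpowers_le.2 hen)
    show R.relIndex RE ∣ 3
    rw [h1, ← hoe, ← Nat.card_zpowers]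
    exact Subgroup.relIndex_dvd_card _ _
  have hP3 : ∀ P : Sylow 3 RE, Nat.card (P : Subgroup RE) ≤ 3 := by
    intro P
    have h1 : Nat.card (P : Subgroup RE) ∣ Nat.card RE := Subgroup.card_subgroup_dvd_card _
    rw [← (R.subgroupOf RE).card_mul_index] at h1
    obtain ⟨n, hn⟩ := IsPGroup.iff_card.1 P.2
    have hR : Nat.card (R.subgroupOf RE) = Nat.card R :=
      Nat.card_congr (Subgroup.subgroupOfEquivOfLe (le_sup_left : R ≤ RE)).toEquiv
    have hc : (Nat.card (P : Subgroup RE)).Coprime (Nat.card (R.subgroupOf RE)) := by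
      rw [hn, hR]
      exact ((Nat.prime_three.coprime_iff_not_dvd).2 (L.Rs_not_dvd hm)).pow_left n
    exact Nat.le_of_dvd (by norm_num) ((hc.dvd_of_dvd_mul_left h1).trans hidx)
  have e1 : Subgroup.zpowers e' = (P1 : Subgroup RE) := Subgroup.eq_of_le_of_card_ge hP1 (by rw [hce]; exact hP3 P1)
  have e2 : Subgroup.zpowers f' = (P2 : Subgroup RE) := Subgroup.eq_of_le_of_card_ge hP2 (by rw [hcf]; exact hP3 P2)
  obtain ⟨c, hc⟩ := MulAction.exists_smul_eq RE P1 P2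
  have hmem : c * e' * c⁻¹ ∈ Subgroup.zpowers f' := by
    rw [e2, ← hc]
    exact ⟨e', e1 ▸ Subgroup.mem_zpowers e', rfl⟩
  obtain ⟨n, hn⟩ := Subgroup.mem_zpowers_iff.1 hmem
  have hn' : (c : G) * e * (c : G)⁻¹ = h * e ^ n * h⁻¹ := by
    have := (congrArg Subtype.val hn).symm
    simpa [hf'def, he'def, conj_zpow] using this
  have hcM : (c : G) ∈ L.M₀ := (sup_le (L.Rs_le_M₀ hm) (Subgroup.zpowers_le.2 heM)) c.2
  have hct : Commute (c : G) L.t := Subgroup.mem_centralizer_singleton_iff.1 (L.M₀_le_ct hcM)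
  set k := h⁻¹ * (c : G) with hk
  have hke : k * e * k⁻¹ = e ^ n := by
    calc k * e * k⁻¹ = h⁻¹ * ((c : G) * e * (c : G)⁻¹) * h := by rw [hk]; group
      _ = _ := by rw [hn']; group
  have hkt : Commute k L.t := hh.2.1.inv_left.mul_left hct
  have hcent : ∀ k : G, Commute k L.t → Commute k e → k ∈ L.M₀ := fun k h1 h2 =>
    L.cent_good_M₀ (v := ![1, 0, 0, 1]) e_ne rfl (by rw [e_facts.2.2.2.2]; exact one_ne_neg_one_z3)
      ⟨Subgroup.mem_centralizer_singleton_iff.2 h2.eq, Subgroup.mem_centralizer_singleton_iff.2 h1.eq⟩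
  have hkM : k ∈ L.M₀ := by
    have hn3 : e ^ n = e ^ (n % 3) := by rw [← zpow_mod_orderOf, hoe]; rfl
    have hb : 0 ≤ n % 3 ∧ n % 3 < 3 := ⟨Int.emod_nonneg n (by norm_num), Int.emod_lt_of_pos n (by norm_num)⟩
    rcases (show n % 3 = 0 ∨ n % 3 = 1 ∨ n % 3 = 2 by omega) with hh0 | hh0 | hh0 <;> rw [hn3, hh0] at hke
    · rw [zpow_zero, conj_eq_one_iff] at hke
      exact absurd hke he1
    · rw [zpow_one] at hke
      exact hcent k hkt (mul_inv_eq_iff_eq_mul.1 hke)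
    · have hei : e ^ (2 : ℤ) = e⁻¹ := eq_inv_of_mul_eq_one_left (by
        rw [← zpow_add_one, show (2 : ℤ) + 1 = ((3 : ℕ) : ℤ) from rfl, zpow_natCast]; exact cube_jel L _)
      rw [hei] at hke
      have hν : L.ν ∈ L.M₀ := Subgroup.mem_sup_right
        (L.mem_NT.2 ⟨(act_nu L).mem_normalizer, L.comm_νt⟩)
      have hνe : L.ν * e⁻¹ * L.ν⁻¹ = e := by
        rw [← conj_inv, he, act_nu L, ← jel_neg, neg_neg]
      have h2 : L.ν * k ∈ L.M₀ := hcent _ (L.comm_νt.mul_left hkt) (mul_inv_eq_iff_eq_mul.1 (by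
        rw [show L.ν * k * e * (L.ν * k)⁻¹ = L.ν * (k * e * k⁻¹) * L.ν⁻¹ by group, hke, hνe]))
      have := mul_mem (inv_mem hν) h2
      rwa [inv_mul_cancel_left] at this
  have := mul_mem hcM (inv_mem hkM)
  rwa [hk, mul_inv_rev, inv_inv, mul_inv_cancel_left] at this

theorem K1_le_Rs : L.K1 hm ≤ L.Rs hm := by
  intro h hh
  refine ⟨hh, ?_⟩
  set e := L.jel ![1, 0, 0, 1] with he
  have heH : e ∈ L.Hu := L.jel_Hu hm rfl rfl
  have heD : ∀ x, L.InD x → L.bar (e * x * e⁻¹) = L.bar x := by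
    intro x hx
    rw [he, L.bar_jel (v := ![1, 0, 0, 1]) rfl hx.1.1]
    funext k
    fin_cases k
    · show L.yb (bJ ![1, 0, 0, 1] (pt 0)) (L.bar x 0) = L.bar x 0
      rw [hx.2.1, map_one]
    · show L.yb (bJ ![1, 0, 0, 1] (pt 1)) (L.bar x 1) = L.bar x 1
      rw [hx.2.2, map_one]
    · show L.yb (bJ ![1, 0, 0, 1] (pt 2)) (L.bar x 2) = L.bar x 2
      rw [e_facts.2.2.1, yb_zero]
    · show L.yb (bJ ![1, 0, 0, 1] (pt 3)) (L.bar x 3) = L.bar x 3
      rw [e_facts.2.2.2.1, yb_zero]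
  -- the commutator with `e` is trivial on all the sections
  have hr : h * e * h⁻¹ * (bif true then e else e⁻¹)⁻¹ ∈ L.Rs hm := by
    simp only [cond_true]
    refine ⟨?_, fun x hx => ?_⟩
    · have hK := L.jel_norm_K1 hm (v := ![1, 0, 0, 1]) rfl rfl (inv_mem hh)
      have := mul_mem hh hK
      rwa [← he, show h * (e * h⁻¹ * e⁻¹) = h * e * h⁻¹ * e⁻¹ by group] at this
    · have heD' : ∀ y, L.InD y → L.bar (e⁻¹ * y * e⁻¹⁻¹) = L.bar y := fun y hy => by
        have h1 := heD _ (L.conj_D hm (inv_mem heH) hy)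
        rw [show e * (e⁻¹ * y * e⁻¹⁻¹) * e⁻¹ = y by group] at h1
        exact h1.symm
      have hd1 := L.conj_D hm (inv_mem heH) hx
      have hd2 := L.conj_D hm (inv_mem hh.1) hd1
      have hd3 := L.conj_D hm heH hd2
      rw [show h * e * h⁻¹ * e⁻¹ * x * (h * e * h⁻¹ * e⁻¹)⁻¹ =
        h * (e * (h⁻¹ * (e⁻¹ * x * e⁻¹⁻¹) * h⁻¹⁻¹) * e⁻¹) * h⁻¹ by group,
        L.bar_conj_congr hh.1 hd3.1.1 hd2.1.1 (heD _ hd2)]
      rw [show h * (h⁻¹ * (e⁻¹ * x * e⁻¹⁻¹) * h⁻¹⁻¹) * h⁻¹ = e⁻¹ * x * e⁻¹⁻¹ by group]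
      exact heD' x hx
  have hM := L.step hm hh.1 true hr
  obtain ⟨w, hw, n, hn, rfl⟩ := Set.mem_mul.1 (by
    rw [← Subgroup.coe_mul_of_right_le_normalizer_left L.W _ L.NT_le_norm_W]
    exact hM : h ∈ (L.W : Set G) * (L.NT : Set G))
  have hwρ : ∀ p, L.rho w p = p := fun p => by
    simp only [rho, L.bar_W_conj hw (L.sec_F p).1, L.bar_sec]
    rfl
  have hnH : n ∈ L.Hu := by
    have := mul_mem (inv_mem (L.W_le_Hu hw)) hh.1
    rwa [inv_mul_cancel_left] at this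
  have hnρ : ∀ p, L.rho n p = p := fun p => by
    have := hh.2 p
    rwa [L.rho_comp hm (L.W_le_Hu hw) hnH, hwρ] at this
  suffices hnD : ∀ x, L.InD x → L.bar (n * x * n⁻¹) = L.bar x by
    intro x hx
    rw [show w * n * x * (w * n)⁻¹ = w * (n * x * n⁻¹) * w⁻¹ by group,
      L.bar_W_conj hw (L.Hu_conj hnH hx.1.1), hnD x hx]
  obtain ⟨f, hf⟩ := exists_act_map L (L.mem_NT.1 hn).1
  have hnt := (L.mem_NT.1 hn).2
  obtain ⟨o, hoO, ho1, hot⟩ := L.exists_noncentral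
  have ha : L.cl ⟨o, hoO⟩ ≠ 1 := fun h => by
    rcases L.mem_T.1 (L.cl_eq_one.1 h) with e | e
    exacts [ho1 e, hot e]
  have hfix1 : ∀ v : V, v 1 = 0 → f v 1 = 0 := by
    intro v hv
    have h : L.jel (ft (f v)) = L.jel (f v) := by
      rw [← act_t L, ← hf, show L.t * (n * L.jel v * n⁻¹) * L.t⁻¹ = L.t * n * L.jel v * (L.t * n)⁻¹ by group,
        hnt.symm.eq, show n * L.t * L.jel v * (n * L.t)⁻¹ = n * (L.t * L.jel v * L.t⁻¹) * n⁻¹ by group,
        fix_eq (L.jel_t hv).symm]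
    have h' := congrFun (jel_injective L h) 1
    simp [ft] at h'
    exact neg_eq_self_z3 _ h'
  have hrot : ∀ v : V, v 1 = 0 → v 2 = 0 → f v 0 = v 0 ∧ f v 3 = v 3 := by
    intro v v1 v2
    have hj := L.jel_Hu hm v1 v2
    have hρ : ∀ p, L.rho (L.jel (f v)) p = L.rho (L.jel v) p := by
      intro p
      rw [← hf v, L.rho_comp hm (mul_mem hnH hj) (inv_mem hnH), L.rho_comp hm hnH hj, hnρ]
      congr 1
      conv_lhs => rw [← hnρ p]
      exact L.rho_inv hm hnH p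
    have h := hρ (L.cl ⟨o, hoO⟩, L.cl ⟨o, hoO⟩)
    rw [L.rho_jel hm (hfix1 v v1), L.rho_jel hm v1, Prod.mk.injEq] at h
    have eqk : ∀ k k' : ZMod 3, L.yb k (L.cl ⟨o, hoO⟩) = L.yb k' (L.cl ⟨o, hoO⟩) → k = k' := by
      intro k k' hkk
      by_contra hne
      refine ha (L.yb_fpf (c := k - k') (sub_ne_zero.2 hne) ?_)
      have := congrArg (L.yb (-k')) hkk
      rwa [yb_add, yb_add, neg_add_cancel, yb_zero, neg_add_eq_sub] at this
    exact ⟨eqk _ _ h.2, eqk _ _ h.1⟩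
  have fz : f ![1, 0, 0, 0] = ![1, 0, 0, 0] := iso_z _ (hfix1 _ rfl) (hrot _ rfl rfl).1 (hrot _ rfl rfl).2
    ((qJ_act L hf _).trans (by decide +kernel))
  have fy : f ![0, 0, 0, 1] = ![0, 0, 0, 1] := iso_y _ (hfix1 _ rfl) (hrot _ rfl rfl).1 (hrot _ rfl rfl).2
    ((qJ_act L hf _).trans (by decide +kernel))
  have fi := iso_i₂ (f ![0, 0, 1, 0]) (hfix1 _ rfl)
    (by rw [← fz, bJ_act L hf]; decide +kernel) (by rw [← fy, bJ_act L hf]; decide +kernel)
    ((qJ_act L hf _).trans (by decide +kernel))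
  have hu : L.u ∈ L.Hu := ⟨L.NT_le_norm_W L.gens_NT.2.2.2.2.1, L.comm_ut, by simp⟩
  have hu2 : L.u * L.u = 1 := by rw [← pow_two, ← L.u_ord hm]; exact pow_orderOf_eq_one _
  have huρ : ∀ p, L.rho L.u p = p := fun p => by
    simp only [rho, L.bar_u hm (L.sec_F p).1, L.bar_sec, Equiv.swap_apply_def]
    simp
  have huD : ∀ x, L.InD x → L.bar (L.u * x * L.u⁻¹) = L.bar x := fun x hx => by
    rw [L.bar_u hm hx.1.1]
    funext k
    fin_cases k <;> simp [Equiv.swap_apply_def, hx.1.2]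
  -- an element centralising `z, i₂, y` and trivial on the first factors is central
  have hcentral : ∀ m ∈ L.Hu, m ∈ L.NT → (∀ p, L.rho m p = p) → Commute m L.z → Commute m L.i₂ →
      Commute m L.y → m ∈ Subgroup.zpowers L.t := by
    intro m hmH hmN hmρ cz ci cy
    have hmt := (L.mem_NT.1 hmN).2
    have hmE : m ∈ Subgroup.closure ({L.z, L.i₁, L.i₂, L.y, L.t} : Set G) := by
      rw [← cent_E L, Subgroup.mem_centralizer_iff]
      rintro g (rfl | rfl | rfl)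
      exacts [cz.eq.symm, ci.eq.symm, cy.eq.symm]
    have hJT : Subgroup.closure ({L.z, L.i₁, L.i₂, L.y, L.t} : Set G) ≤ L.J ⊔ Subgroup.zpowers L.t :=
      (Subgroup.closure_le _).2 (by
        rintro g (rfl | rfl | rfl | rfl | rfl)
        exacts [Subgroup.mem_sup_left (Subgroup.subset_closure (by simp)),
          Subgroup.mem_sup_left (Subgroup.subset_closure (by simp)),
          Subgroup.mem_sup_left (Subgroup.subset_closure (by simp)),
          Subgroup.mem_sup_left (Subgroup.subset_closure (by simp)),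
          Subgroup.mem_sup_right (Subgroup.mem_zpowers _)])
    obtain ⟨j, hj, τ, hτ, rfl⟩ := Set.mem_mul.1 (by
      rw [← Subgroup.coe_mul_of_right_le_normalizer_left L.J _
        (Subgroup.zpowers_le.2 (act_t L).mem_normalizer)]
      exact hJT hmE : m ∈ (L.J : Set G) * (Subgroup.zpowers L.t : Set G))
    obtain ⟨v, rfl⟩ := (mem_J L).1 hj
    have hτW : τ ∈ L.W := Subgroup.zpowers_le.2 L.t_mem_W hτ
    have hτt : Commute τ L.t := Subgroup.mem_centralizer_singleton_iff.1 (L.W_le_ct hτW)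
    have hjH : L.jel v ∈ L.Hu := by
      have := mul_mem hmH (inv_mem (L.W_le_Hu hτW))
      rwa [mul_inv_cancel_right] at this
    have v1 : v 1 = 0 := by
      have h' := congrFun (jel_injective L ((act_t L v).symm.trans (fix_eq hjH.2.1.symm))) 1
      simp [ft] at h'
      exact neg_eq_self_z3 _ h'
    have hjρ : ∀ p, L.rho (L.jel v) p = p := fun p => by
      have := hmρ p
      rwa [L.rho_comp hm hjH (L.W_le_Hu hτW), show L.rho τ p = p by
        simp only [rho, L.bar_W_conj hτW (L.sec_F p).1, L.bar_sec]; rfl] at this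
    have h0 := hjρ (L.cl ⟨o, hoO⟩, L.cl ⟨o, hoO⟩)
    rw [L.rho_jel hm v1, Prod.mk.injEq] at h0
    have v3 : v 3 = 0 := by
      by_contra hne; exact ha (L.yb_fpf hne h0.1)
    have v0 : v 0 = 0 := by
      by_contra hne; exact ha (L.yb_fpf hne h0.2)
    have hv : fu v = v := by
      have hJ' : L.jel v * L.u * (L.jel v)⁻¹ * L.u⁻¹ = L.jel (v - fu v) := by
        rw [sub_eq_add_neg, jel_add, jel_neg, ← act_u_two L hm]; group
      have h2 := hjH.2.2
      rw [hJ'] at h2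
      have h3 : L.jel (v - fu v) ∈ Subgroup.zpowers L.t :=
        L.W_inf_NJ L.comm_O ▸ ⟨h2, Subgroup.le_normalizer (jel_mem L _)⟩
      rcases L.mem_T.1 h3 with e | e
      · exact (sub_eq_zero.1 (jel_injective L (e.trans (jel_zero L).symm))).symm
      · exact absurd (e ▸ jel_mem L _) (t_notMem_J L)
    have v2 : v 2 = 0 := by
      have h' := congrFun hv 2
      simp [fu] at h'
      exact neg_eq_self_z3 _ h'
    have : v = 0 := by funext i; fin_cases i <;> simp [v0, v1, v2, v3]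
    rw [this, jel_zero, one_mul]
    exact hτ
  have cz : Commute n L.z := mul_inv_eq_iff_eq_mul.1 (by rw [← jel_z L, hf, fz])
  have cy : Commute n L.y := mul_inv_eq_iff_eq_mul.1 (by rw [← jel_y L, hf, fy])
  rcases fi with fi | fi
  · have ci : Commute n L.i₂ := mul_inv_eq_iff_eq_mul.1 (by rw [← jel_i2 L, hf, fi])
    have hnT := hcentral n hnH hn hnρ cz ci cy
    intro x hx
    exact L.bar_W_conj (Subgroup.zpowers_le.2 L.t_mem_W hnT) hx.1.1
  · have ci : Commute (L.u * n) L.i₂ := mul_inv_eq_iff_eq_mul.1 (by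
      rw [← jel_i2 L, show L.u * n * L.jel ![0, 0, 1, 0] * (L.u * n)⁻¹ =
        L.u * (n * L.jel ![0, 0, 1, 0] * n⁻¹) * L.u⁻¹ by group, hf, fi, act_u_two L hm]
      exact congrArg L.jel (by decide +kernel))
    have hnT := hcentral (L.u * n) (mul_mem hu hnH) (mul_mem L.gens_NT.2.2.2.2.1 hn)
      (fun p => by rw [L.rho_comp hm hu hnH, hnρ, huρ]) (L.comm_uz.mul_left cz) ci (L.comm_uy.mul_left cy)
    intro x hx
    have hw' := Subgroup.zpowers_le.2 L.t_mem_W hnT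
    rw [show n * x * n⁻¹ = L.u * ((L.u * n) * x * (L.u * n)⁻¹) * L.u⁻¹ by
        rw [show L.u * ((L.u * n) * x * (L.u * n)⁻¹) * L.u⁻¹ =
          (L.u * L.u) * (n * x * n⁻¹) * (L.u * L.u)⁻¹ by group, hu2]
        simp,
      L.bar_conj_congr hu (L.Hu_conj (L.W_le_Hu hw') hx.1.1) hx.1.1 (L.bar_W_conj hw' hx.1.1)]
    exact huD x hx

/-- Rotations. -/
theorem exists_rot (f : L.Ob →* L.Ob) (h3 : ∀ a, f (f (f a)) = a) (hfpf : ∀ a, f a = a → a = 1) :
    ∃ k : ZMod 3, k ≠ 0 ∧ ∀ a, f a = L.yb k a := by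
  obtain ⟨o, ho, o1, ot⟩ := L.exists_noncentral
  set a := L.cl ⟨o, ho⟩ with hadef
  have ha : a ≠ 1 := fun h => by
    rcases L.mem_T.1 (L.cl_eq_one.1 h) with e | e
    exacts [o1 e, ot e]
  have hne : ∀ b : L.Ob, b ≠ 1 → f b ≠ 1 := fun b hb h => hb (by rw [← h3 b, h, map_one, map_one])
  obtain ⟨k, hk⟩ := L.Ob_orbit ha (hne a ha)
  have hk0 : k ≠ 0 := by
    rintro rfl
    rw [yb_zero] at hk
    exact ha (hfpf a hk.symm)
  obtain ⟨j, hj⟩ := L.Ob_orbit ha (hne _ (hne a ha))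
  have hjk : j ≠ k := fun h => hne a ha (hfpf (f a) (by rw [← hj, h, hk]))
  have hj0 : j ≠ 0 := by
    rintro rfl
    rw [yb_zero] at hj
    exact ha (hfpf a (by conv_rhs => rw [← h3 a, ← hj]))
  have hj2 : j = k + k := (by decide : ∀ j k : ZMod 3, k ≠ 0 → j ≠ 0 → j ≠ k → j = k + k) j k hk0 hj0 hjk
  refine ⟨k, hk0, fun b => ?_⟩
  by_cases hb : b = 1
  · rw [hb, map_one, map_one]
  obtain ⟨i, rfl⟩ := L.Ob_orbit ha hb
  rcases (show ∀ i k : ZMod 3, k ≠ 0 → i = 0 ∨ i = k ∨ i = k + k by decide) i k hk0 with rfl | rfl | rfl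
  · rw [yb_zero, hk]
  · rw [hk, ← hj, ← hk, yb_add, hj2]
  · have e3 : k + (k + k) = 0 := (by decide : ∀ k : ZMod 3, k + (k + k) = 0) k
    rw [← hj2, hj, h3, ← hj, hj2, yb_add, e3, yb_zero]

/-- An element of `N(W) ∩ C(t)` commuting with `u` modulo `W` lies in `W (N(J) ∩ C(t))`. -/
theorem mem_M₀_of_comm_u {g : G} (hgt : Commute g L.t) (hgW : g ∈ Subgroup.normalizer (L.W : Set G))
    (hgu : g * L.u * g⁻¹ * L.u⁻¹ ∈ L.W) : g ∈ L.M₀ := by
  have hg : g ∈ L.Hu := ⟨hgW, hgt, hgu⟩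
  set e := L.jel ![1, 0, 0, 1] with he
  have heH : e ∈ L.Hu := L.jel_Hu hm rfl rfl
  set h1 := g * e * g⁻¹ with hh1
  have h1H : h1 ∈ L.Hu := mul_mem (mul_mem hg heH) (inv_mem hg)
  have hρ3 : ∀ p, L.rho h1 (L.rho h1 (L.rho h1 p)) = p := fun p => by
    rw [← L.rho_comp hm h1H h1H, ← L.rho_comp hm (mul_mem h1H h1H) h1H,
      show h1 * h1 * h1 = g * (e * e * e) * g⁻¹ by rw [hh1]; group,
      show e * e * e = 1 from (pow_three' e).symm.trans (cube_jel L _), mul_one, mul_inv_cancel,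
      L.rho_one hm]
  have hfpf : ∀ p, L.rho h1 p = p → p = 1 := by
    intro p hp
    have h := congrArg (L.rho g⁻¹) hp
    rw [hh1, L.rho_comp hm (mul_mem hg heH) (inv_mem hg), L.rho_comp hm hg heH, L.rho_inv hm hg] at h
    rw [he, L.rho_jel hm (v := ![1, 0, 0, 1]) rfl] at h
    set q := L.rho g⁻¹ p with hq
    have h0 : L.yb 1 q.1 = q.1 := congrArg Prod.fst h
    have h1' : L.yb 1 q.2 = q.2 := congrArg Prod.snd h
    have hq1 : q = 1 := Prod.ext (L.yb_fpf (by decide) h0) (L.yb_fpf (by decide) h1')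
    have hp' : L.rho g q = p := by
      rw [hq, ← L.rho_comp hm hg (inv_mem hg), mul_inv_cancel, L.rho_one hm]
    rw [← hp', hq1]
    let R : L.Ob × L.Ob →* L.Ob × L.Ob := MonoidHom.mk' (L.rho g) (L.rho_mul hm hg)
    exact map_one R
  let ρ : L.Ob × L.Ob →* L.Ob × L.Ob := MonoidHom.mk' (L.rho h1) (L.rho_mul hm h1H)
  have hinj : Function.Injective ρ := fun a b hab => by
    rw [← hρ3 a, ← hρ3 b]; exact congrArg (fun x => L.rho h1 (L.rho h1 x)) hab
  have s0 : ∀ a, (L.rho h1 (a, 1)).2 = 1 := fun a =>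
    split_planes L.Ob_sq ρ hinj (L.rho_sq hm h1H) hρ3 a
  let ρ' : L.Ob × L.Ob →* L.Ob × L.Ob :=
    (MulEquiv.prodComm : L.Ob × L.Ob ≃* L.Ob × L.Ob).toMonoidHom.comp
      (ρ.comp (MulEquiv.prodComm : L.Ob × L.Ob ≃* L.Ob × L.Ob).toMonoidHom)
  have s1 : ∀ b, (L.rho h1 (1, b)).1 = 1 := fun b =>
    split_planes L.Ob_sq ρ' (fun x y hxy => Prod.swap_injective (hinj (Prod.swap_injective hxy)))
      (fun p => by
        have h := L.rho_sq hm h1H p.swap
        show ((L.rho h1 p.swap).2 = 1 ↔ (L.rho h1 p.swap).1 = 1) ↔ _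
        rw [Iff.comm (a := (L.rho h1 p.swap).2 = 1), h]
        exact Iff.comm)
      (fun p => by
        show (L.rho h1 ((L.rho h1 ((L.rho h1 p.swap).swap).swap).swap).swap).swap = p
        simp only [Prod.swap_swap]
        rw [hρ3]; exact Prod.swap_swap p) b
  let f0 : L.Ob →* L.Ob := (MonoidHom.fst _ _).comp (ρ.comp (MonoidHom.inl _ _))
  let f1 : L.Ob →* L.Ob := (MonoidHom.snd _ _).comp (ρ.comp (MonoidHom.inr _ _))
  have e0 : ∀ a, L.rho h1 (a, 1) = (f0 a, 1) := fun a => Prod.ext rfl (s0 a)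
  have e1 : ∀ b, L.rho h1 (1, b) = (1, f1 b) := fun b => Prod.ext (s1 b) rfl
  obtain ⟨k0, hk0, hf0⟩ := L.exists_rot hm f0 (fun a => by
      have := hρ3 (a, 1)
      rw [e0, e0, e0] at this
      exact congrArg Prod.fst this)
    (fun a ha => congrArg Prod.fst (hfpf (a, 1) (by rw [e0, ha])))
  obtain ⟨k1, hk1, hf1⟩ := L.exists_rot hm f1 (fun b => by
      have := hρ3 (1, b)
      rw [e1, e1, e1] at this
      exact congrArg Prod.snd this)
    (fun b hb => congrArg Prod.snd (hfpf (1, b) (by rw [e1, hb])))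
  have hjH : L.jel ![k1, 0, 0, k0] ∈ L.Hu := L.jel_Hu hm rfl rfl
  have hsame : ∀ p, L.rho h1 p = L.rho (L.jel ![k1, 0, 0, k0]) p := by
    intro p
    rw [L.rho_jel hm (v := ![k1, 0, 0, k0]) rfl,
      show p = (p.1, 1) * (1, p.2) from Prod.ext (mul_one _).symm (one_mul _).symm, L.rho_mul hm h1H, e0, e1]
    refine Prod.ext ?_ ?_
    · simpa using hf0 p.1
    · simpa using hf1 p.2
  set j := L.jel ![k1, 0, 0, k0] with hj
  have hK : h1 * j⁻¹ ∈ L.K1 hm := ⟨mul_mem h1H (inv_mem hjH), fun p => by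
    rw [L.rho_comp hm h1H (inv_mem hjH), hsame, ← L.rho_comp hm hjH (inv_mem hjH), mul_inv_cancel,
      L.rho_one hm]⟩
  have hR := L.K1_le_Rs hm hK
  have heD : ∀ x, L.InD x → L.bar (e * x * e⁻¹) = L.bar x := by
    intro x hx
    rw [he, L.bar_jel (v := ![1, 0, 0, 1]) rfl hx.1.1]
    funext k
    fin_cases k
    · show L.yb (bJ ![1, 0, 0, 1] (pt 0)) (L.bar x 0) = L.bar x 0
      rw [hx.2.1, map_one]
    · show L.yb (bJ ![1, 0, 0, 1] (pt 1)) (L.bar x 1) = L.bar x 1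
      rw [hx.2.2, map_one]
    · show L.yb (bJ ![1, 0, 0, 1] (pt 2)) (L.bar x 2) = L.bar x 2
      rw [e_facts.2.2.1, yb_zero]
    · show L.yb (bJ ![1, 0, 0, 1] (pt 3)) (L.bar x 3) = L.bar x 3
      rw [e_facts.2.2.2.1, yb_zero]
  have h1D : ∀ x, L.InD x → L.bar (h1 * x * h1⁻¹) = L.bar x := by
    intro x hx
    have hy := L.conj_D hm (inv_mem hg) hx
    rw [hh1, show g * e * g⁻¹ * x * (g * e * g⁻¹)⁻¹ = g * (e * (g⁻¹ * x * g⁻¹⁻¹) * e⁻¹) * g⁻¹ by group,
      L.bar_conj_congr hg (L.Hu_conj heH hy.1.1) hy.1.1 (heD _ hy)]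
    congr 1; group
  obtain ⟨o, ho, o1, ot⟩ := L.exists_noncentral
  set x := L.emb L.comm_O ![1, 1, ⟨o, ho⟩, ⟨o, ho⟩] with hx
  have hxW : x ∈ L.W := (L.mem_W L.comm_O).2 ⟨_, rfl⟩
  have hxD : L.InD x := by
    refine ⟨⟨hxW, ?_⟩, ?_, ?_⟩ <;> rw [hx, bar_emb] <;> simp
  have hk : k1 = k0 := by
    have h' := hR.2 _ (L.conj_D hm hjH hxD)
    rw [show h1 * j⁻¹ * (j * x * j⁻¹) * (h1 * j⁻¹)⁻¹ = h1 * x * h1⁻¹ by group, h1D x hxD, hj,
      L.bar_jel (v := ![k1, 0, 0, k0]) rfl hxW, hx, bar_emb] at h'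
    have h2 := congrFun h' 2
    simp only [Matrix.cons_val] at h2
    by_contra hne
    refine absurd (L.yb_fpf (fun hb => hne ((rot_facts _ rfl).2.2 rfl hb)) h2.symm) fun h => ?_
    rcases L.mem_T.1 (L.cl_eq_one.1 h) with e | e
    exacts [o1 e, ot e]
  refine L.step hm hg (decide (k0 = 1)) ?_
  have hje : (bif decide (k0 = 1) then e else e⁻¹) = j := by
    rw [hj, hk]
    rcases key_split k0 hk0 with rfl | rfl
    · simp [he]
    · rw [show decide ((-1 : ZMod 3) = 1) = false by decide, cond_false, he, ← jel_neg]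
      exact congrArg L.jel (by decide)
  rw [hje]
  exact hR

end Loc

end CfsgLib.OEightLocal
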