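import Cfsg.Agent.Lib.OEightLocal.TwoK
import Cfsg.Agent.Lib.OEightLocal.InvWPerm
import Cfsg.Agent.Lib.OEightLocal.CentPair

/-!
The group `W` contains no conjugate of the outer involution `u` other than elements of `⟨t⟩`.
-/

set_option autoImplicit false
set_option linter.unusedSectionVars false
set_option linter.style.haveILetI false

namespace CfsgLib.OEightLocal

theorem exists_rot : ∀ b c : ZMod 3, ∃ e : V, e 1 = 0 ∧ bJ e (pt 1) = 0 ∧ bJ e (pt 2) = b ∧ bJ e (pt 3) = c := by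
  decide +kernel

theorem fin4 : ∀ k : Fin 4, k = 0 ∨ k = 1 ∨ k = 2 ∨ k = 3 := by decide

namespace Loc

variable {G : Type*} [Group G] [Finite G] (L : Loc G)

/-- The case of four components outside `⟨t⟩`. -/
theorem not_conj_W_four (hm : L.m = 2) (hc : L.CommO) {g : G} {w : Fin 4 → L.O}
    (hv : g * L.u * g⁻¹ = L.emb hc w) (hout : ∀ k, (w k : G) ∉ Subgroup.zpowers L.t) : False := by
  have hne : ∀ k, (w k : G) ≠ 1 ∧ (w k : G) ≠ L.t := fun k => by
    have := hout k
    rw [L.mem_T] at this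
    push Not at this
    exact this
  obtain ⟨k2, hk2⟩ := L.O_orbit (w 2).2 (hne 2).1 (hne 2).2 (w 1).2 (hne 1).1 (hne 1).2
  obtain ⟨k3, hk3⟩ := L.O_orbit (w 3).2 (hne 3).1 (hne 3).2 (w 1).2 (hne 1).1 (hne 1).2
  obtain ⟨e, e1, eb1, eb2, eb3⟩ := exists_rot k2 k3
  set w' := L.turn e w with hw'
  have hmod : ∀ x : G, (x = w 1 ∨ x = (w 1 : G) * L.t) → x * (w 1 : G)⁻¹ ∈ Subgroup.zpowers L.t := by
    rintro x (rfl | rfl)
    · rw [mul_inv_cancel]; exact one_mem _
    · rw [(L.O_comm_t (w 1).2).eq, mul_inv_cancel_right]; exact Subgroup.mem_zpowers _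
  have hslot : ∀ k, k ≠ 0 → (w' k : G) * (w 1 : G)⁻¹ ∈ Subgroup.zpowers L.t := by
    intro k hk
    have hval : (w' k : G) = L.y ^ (bJ e (pt k)).val * w k * (L.y ^ (bJ e (pt k)).val)⁻¹ := rfl
    rw [hval]
    obtain rfl | rfl | rfl := (by decide : ∀ k : Fin 4, k ≠ 0 → k = 1 ∨ k = 2 ∨ k = 3) k hk
    · rw [eb1]; exact hmod _ (Or.inl (by simp))
    · rw [eb2]; exact hmod _ hk2
    · rw [eb3]; exact hmod _ hk3
  obtain ⟨τ, hτ, heq⟩ : ∃ τ ∈ Subgroup.zpowers L.t, L.a * L.emb hc w' * L.a⁻¹ = τ * L.emb hc w' := by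
    refine ⟨L.a * L.emb hc w' * L.a⁻¹ * (L.emb hc w')⁻¹, ?_, by group⟩
    rw [L.emb_a hc, ← map_inv, ← map_mul, L.emb_mem_T hc]
    intro k
    simp only [Pi.mul_apply, Pi.inv_apply, Subgroup.coe_mul, Subgroup.coe_inv]
    by_cases hk : k = 0
    · subst hk
      rw [(by decide : aPerm.symm 0 = 0), mul_inv_cancel]; exact one_mem _
    · have := mul_mem (hslot (aPerm.symm k)
        ((by decide : ∀ k : Fin 4, k ≠ 0 → aPerm.symm k ≠ 0) k hk)) (inv_mem (hslot k hk))
      rwa [mul_inv_rev, inv_inv, mul_assoc, inv_mul_cancel_left] at this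
  have hat : Commute L.a τ := by
    rcases L.mem_T.1 hτ with h | h <;> rw [h]
    · exact Commute.one_right _
    · exact (L.O_comm L.t L.t_mem).2.1.symm
  have h3 : τ * (τ * τ) = 1 := by
    refine mul_right_cancel (b := L.emb hc w') ?_
    have step : ∀ x, L.a * (τ * x) * L.a⁻¹ = τ * (L.a * x * L.a⁻¹) := fun x => by
      rw [← mul_assoc, hat.eq]; group
    calc τ * (τ * τ) * L.emb hc w' = L.a * (L.a * (L.a * L.emb hc w' * L.a⁻¹) * L.a⁻¹) * L.a⁻¹ := by
          rw [heq, step, heq, step, step, heq]; group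
      _ = L.a ^ 3 * L.emb hc w' * (L.a ^ 3)⁻¹ := by
          simp only [pow_succ, pow_zero, one_mul, mul_inv_rev, mul_assoc]
      _ = _ := by rw [L.cube_a]; simp
  have hτ1 : τ = 1 := by
    rcases L.mem_T.1 hτ with h | h
    · exact h
    · rw [h, L.t_sq, mul_one] at h3
      exact absurd h3 (t_ne L)
  refine L.not_comm_a hm (v := L.emb hc w') (g := L.jel e * g) ?_ ?_
  · rw [hw', ← L.emb_turn hc e1, ← hv]; group
  · rw [hτ1, one_mul] at heq
    exact mul_inv_eq_iff_eq_mul.1 heq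

/-- The case of two components outside `⟨t⟩`. -/
theorem not_conj_W_two (hm : L.m = 2) (hc : L.CommO) {g : G} {w : Fin 4 → L.O}
    (hv : g * L.u * g⁻¹ = L.emb hc w) {i j : Fin 4} (hij : i ≠ j)
    (hj : (w j : G) ∉ Subgroup.zpowers L.t)
    (hrest : ∀ k, k ≠ i → k ≠ j → (w k : G) ∈ Subgroup.zpowers L.t) : False := by
  classical
  set d : Fin 4 → L.O := fun k => if k = i ∨ k = j then 1 else w k with hd
  have hdT : L.emb hc d ∈ Subgroup.zpowers L.t := (L.emb_mem_T hc).2 fun k => by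
    simp only [hd]
    split
    · exact one_mem _
    · next h => exact hrest k (fun h' => h (Or.inl h')) (fun h' => h (Or.inr h'))
  have hsplit : w = d * Pi.mulSingle i (w i) * Pi.mulSingle j (w j) := by
    funext k
    rcases eq_or_ne k i with rfl | hki
    · simp [hd, hij]
    rcases eq_or_ne k j with rfl | hkj
    · simp [hd, hki]
    simp [hd, hki, hkj]
  set c := L.emb hc d
  set p := (L.pz i)⁻¹
  have hp : p ∈ L.NT := inv_mem (L.pz_NT i)
  obtain ⟨σ, φ, -, hσ⟩ := L.exists_perm hp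
  -- the image of the component at `j` is not in `O`
  have hm0 : σ j ≠ 0 := by
    intro h0
    have h := hσ j (w j)
    rw [h0, ins_apply L 0, pz_zero, one_mul, inv_one, mul_one] at h
    have h1 : L.emb hc (Pi.mulSingle j (w j) * (Pi.mulSingle i (φ j (w j)))⁻¹) = 1 := by
      rw [map_mul, map_inv, emb_single, emb_single, ins_apply L i, ← h]
      simp only [p]; group
    have h2 := ((L.emb_eq_one hc).1 h1).1 j
    rw [Pi.mul_apply, Pi.inv_apply, Pi.mulSingle_eq_same, Pi.mulSingle_eq_of_ne hij.symm, inv_one, mul_one] at h2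
    exact hj h2
  set x : G := c * w i
  have hcO : c ∈ L.O := Subgroup.zpowers_le.2 L.t_mem hdT
  have hx : x ∈ L.O := mul_mem hcO (w i).2
  set x' : L.O := φ j (w j)
  have h1 : p * g * L.u * (p * g)⁻¹ = x * L.ins (σ j) x' := by
    have hct : Commute p c := by
      rcases L.mem_T.1 hdT with h | h <;> rw [h]
      · exact Commute.one_right _
      · exact L.NT_t hp
    have hi : p * L.ins i (w i) * p⁻¹ = (w i : G) := by rw [ins_apply]; simp only [p]; group
    calc p * g * L.u * (p * g)⁻¹ = p * (g * L.u * g⁻¹) * p⁻¹ := by group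
      _ = p * L.emb hc w * p⁻¹ := by rw [hv]
      _ = (p * c * p⁻¹) * (p * L.ins i (w i) * p⁻¹) * (p * L.ins j (w j) * p⁻¹) := by
          conv_lhs => rw [hsplit, map_mul, map_mul, emb_single, emb_single, show L.emb hc d = c from rfl]
          group
      _ = _ := by rw [fix_eq hct, hi, hσ]
  -- rotate the other component to the place of `rf`
  obtain ⟨b, hbz, hb1⟩ : ∃ b : G, b * x * b⁻¹ = x ∧ b * L.ins (σ j) x' * b⁻¹ = L.rf * x' * L.rf⁻¹ := by
    have ha : ∀ k, L.a * L.ins k x' * L.a⁻¹ = L.ins (aPerm k) x' := fun k => L.pz_a k x'.2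
    have hax : L.a * x * L.a⁻¹ = x := (L.rf_flip.sl_a x hx).1
    have h1' : L.ins 1 x' = L.rf * x' * L.rf⁻¹ := rfl
    obtain h | h | h := (by decide : ∀ k : Fin 4, k ≠ 0 → k = 1 ∨ k = 2 ∨ k = 3) (σ j) hm0
    · exact ⟨1, by simp, by rw [h, one_mul, inv_one, mul_one, h1']⟩
    · refine ⟨L.a * L.a, ?_, ?_⟩
      · calc _ = L.a * (L.a * x * L.a⁻¹) * L.a⁻¹ := by group
          _ = x := by rw [hax, hax]
      · calc _ = L.a * (L.a * L.ins (σ j) x' * L.a⁻¹) * L.a⁻¹ := by group
          _ = _ := by rw [ha, ha, h, (by decide : aPerm (aPerm 2) = 1), h1']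
    · exact ⟨L.a, hax, by rw [ha, h, (by decide : aPerm 3 = 1), h1']⟩
  obtain ⟨K, hK⟩ := L.exists_inner hm
  refine L.not_conj_inner hm hK (v := x * (L.rf * x' * L.rf⁻¹)) (g := b * p * g) ?_ ?_ ?_
  · calc b * p * g * L.u * (b * p * g)⁻¹ = b * (p * g * L.u * (p * g)⁻¹) * b⁻¹ := by group
      _ = (b * x * b⁻¹) * (b * L.ins (σ j) x' * b⁻¹) := by rw [h1]; group
      _ = _ := by rw [hbz, hb1]
  · exact (L.O_comm x hx).2.2.mul_left ((L.rf_flip.comm_i₂.mul_left (L.O_comm _ x'.2).2.2).mul_left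
      L.rf_flip.comm_i₂.inv_left)
  · exact mul_mem (hK.2.2.1 hx) (hK.1 _ L.rf_flip.comm_i₂ _ (hK.2.2.1 x'.2))

/-- A conjugate of `u` in `W` lies in `⟨t⟩`. -/
theorem not_conj_W (hm : L.m = 2) {v g : G} (hv : g * L.u * g⁻¹ = v) (hW : v ∈ L.W)
    (ht : v ∉ Subgroup.zpowers L.t) : False := by
  classical
  have hc := L.comm_O
  obtain ⟨w, rfl⟩ := (L.mem_W hc).1 hW
  have hv2 : L.emb hc (w * w) = 1 := by
    rw [map_mul, ← hv, conj_mul, ← pow_two L.u, ← L.u_ord hm, pow_orderOf_eq_one]; group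
  have hprod := ((L.emb_eq_one hc).1 hv2).2
  have sq : ∀ k, ((w k : G) ∈ Subgroup.zpowers L.t ∧ (w k : G) * w k = 1) ∨
      ((w k : G) ∉ Subgroup.zpowers L.t ∧ (w k : G) * w k = L.t) := fun k => by
    by_cases h : (w k : G) ∈ Subgroup.zpowers L.t
    · refine Or.inl ⟨h, ?_⟩
      rcases L.mem_T.1 h with e | e <;> rw [e]
      exacts [one_mul 1, L.t_sq]
    · refine Or.inr ⟨h, L.O_sq (w k).2 (fun e => h ?_) (fun e => h ?_)⟩ <;> rw [e]
      exacts [one_mem _, Subgroup.mem_zpowers _]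
  simp only [Pi.mul_apply, Subgroup.coe_mul] at hprod
  have htne : L.t ≠ 1 := t_ne L
  rcases sq 0 with ⟨h0, e0⟩ | ⟨h0, e0⟩ <;> rcases sq 1 with ⟨h1, e1⟩ | ⟨h1, e1⟩ <;>
    rcases sq 2 with ⟨h2, e2⟩ | ⟨h2, e2⟩ <;> rcases sq 3 with ⟨h3, e3⟩ | ⟨h3, e3⟩ <;>
    simp only [e0, e1, e2, e3, one_mul, mul_one, L.t_sq] at hprod
  all_goals first
    | exact htne hprod
    | (refine ht ((L.emb_mem_T hc).2 fun k => ?_); obtain rfl | rfl | rfl | rfl := fin4 k <;> assumption)
    | (refine L.not_conj_W_four hm hc hv fun k => ?_; obtain rfl | rfl | rfl | rfl := fin4 k <;> assumption)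
    | (refine L.not_conj_W_two hm hc hv (i := 0) (j := 1) (by decide) (by assumption) fun k hk hk' => ?_
       obtain rfl | rfl | rfl | rfl := fin4 k <;> first | assumption | contradiction)
    | (refine L.not_conj_W_two hm hc hv (i := 0) (j := 2) (by decide) (by assumption) fun k hk hk' => ?_
       obtain rfl | rfl | rfl | rfl := fin4 k <;> first | assumption | contradiction)
    | (refine L.not_conj_W_two hm hc hv (i := 0) (j := 3) (by decide) (by assumption) fun k hk hk' => ?_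
       obtain rfl | rfl | rfl | rfl := fin4 k <;> first | assumption | contradiction)
    | (refine L.not_conj_W_two hm hc hv (i := 1) (j := 2) (by decide) (by assumption) fun k hk hk' => ?_
       obtain rfl | rfl | rfl | rfl := fin4 k <;> first | assumption | contradiction)
    | (refine L.not_conj_W_two hm hc hv (i := 1) (j := 3) (by decide) (by assumption) fun k hk hk' => ?_
       obtain rfl | rfl | rfl | rfl := fin4 k <;> first | assumption | contradiction)
    | (refine L.not_conj_W_two hm hc hv (i := 2) (j := 3) (by decide) (by assumption) fun k hk hk' => ?_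
       obtain rfl | rfl | rfl | rfl := fin4 k <;> first | assumption | contradiction)

end Loc

end CfsgLib.OEightLocal
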