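import Cfsg.Agent.Lib.OEightLocal.TwoCases
import Cfsg.Agent.Lib.OEightLocal.TwoNorm
import Cfsg.Agent.Lib.OEightLocal.TwoW
import Cfsg.Agent.Lib.OEightLocal.TwoLoc
import Cfsg.Agent.Lib.Transfer.Thompson

/-!
For `m = 2`, a group with the local data has a subgroup of index two with the data of the case `m = 1`.
-/

set_option autoImplicit false
set_option linter.unusedSectionVars false
set_option linter.style.haveILetI false

namespace CfsgLib.OEightLocal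

variable {G : Type*} [Group G] [Finite G] (L : Loc G)

namespace Loc

/-- A sign change of the type of `u` is conjugate in `FS` to a member of `⟨t⟩ u`. -/
theorem sgn_conj_u (hm : L.m = 2) {f : G} {s : Fin 4 → Bool} (hf : L.IsSgn f s true) (h0 : s 0 = false)
    (h12 : s 1 = s 2) : ∃ c ∈ L.FS, ∃ τ ∈ Subgroup.zpowers L.t, c * f * c⁻¹ = τ * L.u := by
  obtain ⟨c, hc⟩ := L.exists_sgn hm ![false, s 1, false, false] false
  have hcc : c * c = 1 := L.sgn_unique (by simpa [sswap] using hc.mul L hc) L.isSgn_one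
  have hci : c⁻¹ = c := inv_eq_of_mul_eq_one_right hcc
  have he : L.IsSgn (c * f * c) ![false, false, false, s 3] true := by
    have h := (hc.mul L hf).mul L hc
    convert h using 1
    · funext k
      fin_cases k <;> simp [sswap, h0, h12]
    · rfl
  refine ⟨c, ⟨_, _, hc⟩, ?_⟩
  rw [hci]
  cases h3 : s 3 <;> rw [h3] at he
  · refine ⟨1, one_mem _, ?_⟩
    rw [one_mul]
    rw [show (![false, false, false, false] : Fin 4 → Bool) = fun _ => false by decide] at he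
    exact L.sgn_unique he (L.isSgn_u hm)
  · refine ⟨L.t, Subgroup.mem_zpowers _, L.sgn_unique he ?_⟩
    simpa [sswap] using L.isSgn_t.mul L (L.isSgn_u hm)

/-- A `2`-element normalising `T₀` lies in `M₀`. -/
theorem mem_M₀_of_normalizes (hm : L.m = 2) {g : G} (hg : ∀ x ∈ L.T₀, g * x * g⁻¹ ∈ L.T₀)
    (hg' : ∀ x ∈ L.T₀, g⁻¹ * x * g ∈ L.T₀) : g ∈ L.M₀ := by
  obtain ⟨w, hw, f, s, e, hf, h0, h12⟩ := L.u_image hm hg hg'
  obtain ⟨c, hc, τ, hτ, hcf⟩ := L.sgn_conj_u hm hf h0 h12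
  have hcM : c ∈ L.M₀ := L.T₀_le_M₀ (Subgroup.mem_sup_right hc)
  have hcW : c ∈ Subgroup.normalizer (L.W : Set G) := L.T₀_norm_W (Subgroup.mem_sup_right hc)
  have h := L.mem_M₀_of_comm_u hm (g := c * g)
    ((L.T₀_ct (Subgroup.mem_sup_right hc)).mul_left (L.conj_t_of_normalizes hg hg'))
    (mul_mem hcW (L.W_char hm hg hg')) (by
      rw [show c * g * L.u * (c * g)⁻¹ * L.u⁻¹ = c * (g * L.u * g⁻¹) * c⁻¹ * L.u⁻¹ by group, e,
        show c * (w * f) * c⁻¹ * L.u⁻¹ = c * w * c⁻¹ * (c * f * c⁻¹ * L.u⁻¹) by group, hcf,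
        mul_inv_cancel_right]
      exact mul_mem ((Subgroup.mem_normalizer_iff.1 hcW w).1 hw) ((Subgroup.zpowers_le.2 L.t_mem_W) hτ))
  exact (Subgroup.mul_mem_cancel_left L.M₀ hcM).1 h

/-- `T₀` is a Sylow `2`-subgroup. -/
theorem T₀_sylow (hm : L.m = 2) : ∃ P : Sylow 2 G, (P : Subgroup G) = L.T₀ := by
  haveI := Fact.mk Nat.prime_two
  have hT : IsPGroup 2 L.T₀ := IsPGroup.iff_card.2 ⟨13, by rw [L.card_T₀ hm]; norm_num⟩
  obtain ⟨P, hP⟩ := hT.exists_le_sylow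
  refine ⟨P, ?_⟩
  by_contra hne
  have hlt : L.T₀.subgroupOf (P : Subgroup G) < ⊤ := lt_top_iff_ne_top.2 fun e =>
    hne (le_antisymm (Subgroup.subgroupOf_eq_top.1 e) hP)
  haveI := P.2.isNilpotent
  have hgrow := Group.normalizerCondition_of_isNilpotent (G := (P : Subgroup G))
    (L.T₀.subgroupOf (P : Subgroup G)) hlt
  obtain ⟨g, hgN, hgT⟩ := SetLike.exists_of_lt hgrow
  have hconj : ∀ x ∈ L.T₀, (g : G) * x * (g : G)⁻¹ ∈ L.T₀ := fun x hx =>
    (Subgroup.mem_normalizer_iff.1 hgN ⟨x, hP hx⟩).1 hx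
  have hconj' : ∀ x ∈ L.T₀, (g : G)⁻¹ * x * (g : G) ∈ L.T₀ := fun x hx => by
    have := (Subgroup.mem_normalizer_iff.1 (inv_mem hgN) ⟨x, hP hx⟩).1 hx
    simpa [Subgroup.mem_subgroupOf] using this
  have hgM := L.mem_M₀_of_normalizes hm hconj hconj'
  have hd : Nat.card ↥((P : Subgroup G) ⊓ L.M₀) ∣ 663552 :=
    L.card_M₀_eq hm ▸ Subgroup.card_dvd_of_le inf_le_right
  obtain ⟨k, hk⟩ := IsPGroup.iff_card.1 (P.2.to_le (inf_le_left : (P : Subgroup G) ⊓ L.M₀ ≤ P))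
  rw [hk] at hd
  have hk13 : k ≤ 13 := by
    by_contra hc
    exact absurd ((pow_dvd_pow 2 (show 14 ≤ k by omega)).trans hd) (by norm_num)
  have hle : Nat.card ↥((P : Subgroup G) ⊓ L.M₀) ≤ Nat.card L.T₀ := by
    rw [hk, L.card_T₀ hm]
    exact (Nat.pow_le_pow_right (by norm_num) hk13).trans (by norm_num)
  have := Subgroup.eq_of_le_of_card_ge (le_inf hP L.T₀_le_M₀) hle
  exact hgT (show (g : G) ∈ L.T₀ from this.symm ▸ ⟨g.2, hgM⟩)

theorem u_not_mem_T₁ (hm : L.m = 2) : L.u ∉ L.T₁ := fun h => by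
  obtain ⟨w, hw, f, ⟨s, hf⟩, e⟩ := L.mem_T₁.1 h
  have hwF : w ∈ L.FS := by
    rw [show w = L.u * f⁻¹ by rw [e, mul_inv_cancel_right]]
    exact mul_mem ⟨_, _, L.isSgn_u hm⟩ (inv_mem ⟨_, _, hf⟩)
  have hwT := (L.W_inf_of_le L.FS_le_NT (L.FS₁_le L.t_mem_FS₁)).le ⟨hw, hwF⟩
  have hu : L.u ∈ L.FS₁ := e ▸ mul_mem ((Subgroup.zpowers_le.2 L.t_mem_FS₁) hwT) ⟨s, hf⟩
  obtain ⟨s', hs'⟩ := hu
  exact Bool.false_ne_true (L.sgn_inj hs' (L.isSgn_u hm)).2

/-- A normal subgroup of index two avoiding `u`. -/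
theorem exists_normal_index_two (hm : L.m = 2) :
    ∃ M : Subgroup G, M.Normal ∧ M.index = 2 ∧ L.u ∉ M := by
  obtain ⟨P, hP⟩ := L.T₀_sylow hm
  have hu2 : L.u * L.u = 1 := by rw [← pow_two, ← L.u_ord hm, pow_orderOf_eq_one]
  have hrel : L.T₁.relIndex (P : Subgroup G) = 2 := by
    rw [hP, Subgroup.relIndex]
    have h := (L.T₁.subgroupOf L.T₀).card_mul_index
    rw [Nat.card_congr (Subgroup.subgroupOfEquivOfLe L.T₁_le).toEquiv, L.card_T₁ hm, L.card_T₀ hm] at h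
    omega
  rcases CfsgLib.Transfer.thompson_transfer P hrel hu2 (hP ▸ Subgroup.mem_sup_right ⟨_, _, L.isSgn_u hm⟩)
      (L.u_not_mem_T₁ hm) with h | ⟨g, -, hgT⟩
  · exact h
  exfalso
  by_cases hW : g * L.u * g⁻¹ ∈ L.W
  · by_cases ht : g * L.u * g⁻¹ ∈ Subgroup.zpowers L.t
    · rcases L.mem_T.1 ht with h | h
      · have : L.u = 1 := conj_eq_one_iff.1 h
        have hu := L.u_ord hm
        rw [this, orderOf_one] at hu
        exact absurd hu (by norm_num)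
      · refine L.t_not_conj_u hm g⁻¹ ?_
        rw [← h]; group
    · exact L.not_conj_W hm rfl hW ht
  · exact L.not_conj_T₁ hm rfl hgT hW

/-- For `m = 2` some normal subgroup of index two has the data of the case `m = 1`. -/
theorem exists_index_two (hm : L.m = 2) : ∃ (G2 : Subgroup G) (L2 : Loc G2),
    G2.Normal ∧ G2.index = 2 ∧ L2.m = 1 ∧ (L2.z : G) = L.z ∧ (L2.y : G) = L.y := by
  obtain ⟨M, hM, h2, hu⟩ := L.exists_normal_index_two hm
  haveI := hM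
  obtain ⟨L2, h1, hz, hy⟩ := L.exists_loc_index_two M hm h2 hu
  exact ⟨M, L2, hM, h2, h1, hz, hy⟩

end Loc

end CfsgLib.OEightLocal
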