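import Cfsg.Agent.Lib.OEightLocal.TwoT
import Cfsg.Agent.Lib.OEightLocal.TwoV

/-!
The involutions of `T₁` outside `W` are not conjugate to `u`.
-/

set_option autoImplicit false
set_option linter.unusedSectionVars false
set_option linter.style.haveILetI false

namespace CfsgLib.OEightLocal

set_option synthInstance.maxSize 100000 in
set_option maxRecDepth 100000 in
/-- The types of the non-trivial sign changes up to the rotation `a`. -/
theorem sign_types : ∀ s : Fin 4 → Bool, ¬ (s 0 = false ∧ s 1 = false ∧ s 2 = false) → ∃ i : Fin 3,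
    (∀ v : V, fa^[i] (fgm s false (fa^[3 - (i : ℕ)] v)) = -v) ∨
    (∃ k : Fin 4, ∀ v : V, fa^[i] (fgm s false (fa^[3 - (i : ℕ)] v)) = v + bJ v (ax k) • ax k) ∨
    (∃ k : Fin 4, ∀ v : V, fa^[i] (fgm s false (fa^[3 - (i : ℕ)] v)) = -(v + bJ v (ax k) • ax k)) ∨
    (∀ v : V, fa^[i] (fgm s false (fa^[3 - (i : ℕ)] v)) = fA v) ∨
    (∀ v : V, fa^[i] (fgm s false (fa^[3 - (i : ℕ)] v)) = fB v) := by decide +kernel

theorem qJ_ax : ∀ k : Fin 4, qJ (ax k) = -1 := by decide +kernel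

variable {G : Type*} [Group G] [Finite G] (L : Loc G)

namespace Loc

set_option maxHeartbeats 800000 in
/-- An involution in a coset of a sign change is conjugate to a sign change. -/
theorem conj_into_FS (hm : L.m = 2) {f w : G} {s : Fin 4 → Bool} (hf : L.IsSgn f s false)
    (hs : ¬ (s 0 = false ∧ s 1 = false ∧ s 2 = false)) (hw : w ∈ L.W) (hv : (w * f) * (w * f) = 1) :
    ∃ f' s', L.IsSgn f' s' false ∧ ¬ (s' 0 = false ∧ s' 1 = false ∧ s' 2 = false) ∧ IsConj f' (w * f) := by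
  classical
  set P := (Subgroup.zpowers L.t).subgroupOf L.W with hP
  have hPW : ∀ τ ∈ Subgroup.zpowers L.t, ∀ x : G, Commute x L.t → x * τ * x⁻¹ = τ := fun τ hτ x hx => by
    obtain ⟨n, rfl⟩ := Subgroup.mem_zpowers_iff.1 hτ
    exact fix_eq (hx.zpow_right n)
  haveI : P.Normal := ⟨fun n hn x => by
    show (x : G) * n * (x : G)⁻¹ ∈ Subgroup.zpowers L.t
    rw [hPW _ (show (n : G) ∈ Subgroup.zpowers L.t from hn) _
      (Subgroup.mem_centralizer_singleton_iff.1 (L.W_le_ct x.2))]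
    exact hn⟩
  set q := QuotientGroup.mk' P
  have hqc : ∀ a b : L.W, q a * q b = q b * q a := fun a b => by
    rw [← map_mul, ← map_mul, ← mul_inv_eq_one, ← map_inv, ← map_mul]
    refine (QuotientGroup.eq_one_iff (a * b * (b * a)⁻¹)).2 ?_
    show (a : G) * b * ((b : G) * a)⁻¹ ∈ Subgroup.zpowers L.t
    rw [mul_inv_rev, ← mul_assoc]
    exact L.W_comm a.2 b.2
  have hfN : f ∈ L.NT := L.FS_le_NT ⟨_, _, hf⟩
  let cf : L.W → L.W := fun x => ⟨f * x * f⁻¹, L.NT_norm_W hfN x.2⟩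
  have cf_mul : ∀ a b, cf (a * b) = cf a * cf b := fun a b => Subtype.ext (by simp [cf, mul_assoc])
  let ψ : L.W →* L.W ⧸ P := MonoidHom.mk' (fun x => q x * (q (cf x))⁻¹) fun a b => by
    rw [cf_mul, map_mul, map_mul, mul_inv_rev, ← map_inv, ← map_inv, mul_assoc (q a) (q b), ← mul_assoc (q b),
      hqc b, mul_assoc (q (cf b)⁻¹), hqc b, ← mul_assoc, ← mul_assoc, mul_assoc (q a) (q (cf b)⁻¹),
      hqc (cf b)⁻¹ (cf a)⁻¹, ← mul_assoc, mul_assoc (q a * q (cf a)⁻¹), hqc (cf b)⁻¹ b]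
  have hne : ¬ (false = false ∧ s 0 = false ∧ s 1 = false ∧ s 2 = false) := fun h => hs h.2
  have h32 := (L.CW_bound hf hne).2 fun hB => Bool.false_ne_true hB.1
  have hker : ψ.ker ≤ (L.CW f).subgroupOf L.W := fun x hx => by
    have h : q x * (q (cf x))⁻¹ = 1 := hx
    rw [mul_inv_eq_one, eq_comm, ← mul_inv_eq_one, ← map_inv, ← map_mul] at h
    exact ⟨x.2, (QuotientGroup.eq_one_iff (cf x * x⁻¹)).1 h⟩
  have hf2 : f * f = 1 := L.sgn_unique (by simpa [sswap] using hf.mul L hf) L.isSgn_one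
  have finv : f⁻¹ = f := inv_eq_of_mul_eq_one_right hf2
  have hran : ψ.range ≤ ((L.CW f).subgroupOf L.W).map q := by
    rintro _ ⟨x, rfl⟩
    refine ⟨x * (cf x)⁻¹, ⟨(x * (cf x)⁻¹).2, ?_⟩, by rw [map_mul, map_inv]; rfl⟩
    show f * ((x : G) * (f * x * f⁻¹)⁻¹) * f⁻¹ * ((x : G) * (f * x * f⁻¹)⁻¹)⁻¹ ∈ _
    have e : f * ((x : G) * (f * x * f⁻¹)⁻¹) * f⁻¹ * ((x : G) * (f * x * f⁻¹)⁻¹)⁻¹ =
        f * x * f⁻¹ * ((x : G)⁻¹ * (f * x * f⁻¹) * (x : G)⁻¹) := by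
      calc _ = f * x * f * (x : G)⁻¹ * (f⁻¹ * f⁻¹) * (f * x * f⁻¹) * (x : G)⁻¹ := by group
        _ = f * x * f⁻¹ * (x : G)⁻¹ * (f⁻¹ * f⁻¹) * (f * x * f⁻¹) * (x : G)⁻¹ := by rw [finv]
        _ = _ := by rw [finv, hf2, mul_one]; group
    rw [e, show f * x * f⁻¹ * ((x : G)⁻¹ * (f * x * f⁻¹) * (x : G)⁻¹) =
      (f * x * f⁻¹ * (x : G)⁻¹ * (f * x * f⁻¹)⁻¹ * (x : G)) * ((x : G)⁻¹ * ((f * x * f⁻¹) * (f * x * f⁻¹)) * (x : G)⁻¹) by group]
    refine mul_mem ?_ ?_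
    · have := L.W_comm (cf x).2 (inv_mem x.2)
      simpa [cf, mul_assoc] using this
    · have hxt : Commute (x : G)⁻¹ L.t :=
        (show Commute (x : G) L.t from Subgroup.mem_centralizer_singleton_iff.1 (L.W_le_ct x.2)).inv_left
      obtain ⟨n, hn⟩ := Subgroup.mem_zpowers_iff.1 (L.W_sq (cf x).2)
      rw [show (f * (x : G) * f⁻¹) * (f * x * f⁻¹) = L.t ^ n from hn.symm, (hxt.zpow_right n).eq,
        mul_assoc]
      exact mul_mem (Subgroup.zpow_mem _ (Subgroup.mem_zpowers _) n) (by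
        rw [← mul_inv_rev]; exact inv_mem (L.W_sq x.2))
  have hPle : P ≤ (L.CW f).subgroupOf L.W := fun x hx => ⟨x.2, by
    show f * (x : G) * f⁻¹ * (x : G)⁻¹ ∈ _
    rw [hPW _ (show (x : G) ∈ Subgroup.zpowers L.t from hx) f hf.2.1, mul_inv_cancel]; exact one_mem _⟩
  have hcard := Nat.card_congr (Subgroup.subgroupOfEquivOfLe (L.CW_le f)).toEquiv
  have hPcard : Nat.card P = 2 := by
    rw [hP, Nat.card_congr (Subgroup.subgroupOfEquivOfLe (Subgroup.zpowers_le.2 L.t_mem_W)).toEquiv,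
      L.t_ord_zpowers]
  have hmap : Nat.card (((L.CW f).subgroupOf L.W).map q) * 2 ≤ Nat.card (L.CW f) := by
    have h := card_sup_mul ((L.CW f).subgroupOf L.W) P (Subgroup.le_normalizer.trans' hPle)
    have h1 := (P.subgroupOf ((L.CW f).subgroupOf L.W)).card_mul_index
    rw [Nat.card_congr (Subgroup.subgroupOfEquivOfLe hPle).toEquiv, hPcard, hcard] at h1
    have h2 : (P.subgroupOf ((L.CW f).subgroupOf L.W)).index = Nat.card (((L.CW f).subgroupOf L.W).map q) := by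
      have := Subgroup.relIndex_ker ((L.CW f).subgroupOf L.W) q
      rw [QuotientGroup.ker_mk'] at this
      exact this
    omega
  have hbig : 16 ≤ Nat.card ψ.range := by
    have h := ψ.ker.card_mul_index
    rw [Subgroup.index_ker, L.card_W_eq] at h
    have hk := Subgroup.card_le_of_le hker
    rw [hcard] at hk
    have : Nat.card ψ.ker ≤ 32 := hk.trans h32
    nlinarith
  have heq : ψ.range = ((L.CW f).subgroupOf L.W).map q := Subgroup.eq_of_le_of_card_ge hran (by omega)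
  have hwC : (⟨w, hw⟩ : L.W) ∈ (L.CW f).subgroupOf L.W := ⟨hw, by
    have e : f * w * f⁻¹ = w⁻¹ := by
      rw [finv]; exact eq_inv_of_mul_eq_one_right (by rw [← hv]; group)
    show f * w * f⁻¹ * w⁻¹ ∈ _
    rw [e, ← mul_inv_rev]
    exact inv_mem (L.W_sq hw)⟩
  obtain ⟨x, hx⟩ := heq.ge ⟨_, hwC, rfl⟩
  have hx' : q (x * (cf x)⁻¹) = q ⟨w, hw⟩ := by rw [map_mul, map_inv]; exact hx
  rw [eq_comm, ← mul_inv_eq_one, ← map_inv, ← map_mul] at hx'
  have hτ : w * ((x : G) * (f * x * f⁻¹)⁻¹)⁻¹ ∈ Subgroup.zpowers L.t :=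
    (QuotientGroup.eq_one_iff (N := P) ((⟨w, hw⟩ : L.W) * (x * (cf x)⁻¹)⁻¹)).1 hx'
  obtain ⟨τ, hτ', hwf⟩ : ∃ τ ∈ Subgroup.zpowers L.t, w * f = (x : G) * (τ * f) * (x : G)⁻¹ := by
    refine ⟨_, hτ, ?_⟩
    set τ := w * ((x : G) * (f * x * f⁻¹)⁻¹)⁻¹ with hτdef
    have hxt : (x : G) * τ * (x : G)⁻¹ = τ :=
      hPW τ hτ _ (Subgroup.mem_centralizer_singleton_iff.1 (L.W_le_ct x.2))
    calc w * f = τ * ((x : G) * f * (x : G)⁻¹) := by rw [hτdef]; group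
      _ = (x : G) * τ * (x : G)⁻¹ * ((x : G) * f * (x : G)⁻¹) := by rw [hxt]
      _ = _ := by group
  rcases L.mem_T.1 hτ' with h | h
  · exact ⟨f, s, hf, hs, isConj_iff.2 ⟨x, by rw [hwf, h, one_mul]⟩⟩
  · have ht := L.isSgn_t.mul L hf
    simp only [bne_self_eq_false, Bool.xor_self] at ht
    refine ⟨_, _, ht, ?_, isConj_iff.2 ⟨x, by rw [hwf, h]⟩⟩
    simpa [sswap] using hs

/-- An involution of `T₁` outside `W` is not conjugate to `u`. -/
theorem not_conj_T₁ (hm : L.m = 2) {v g : G} (hv : g * L.u * g⁻¹ = v) (hT : v ∈ L.T₁) (hW : v ∉ L.W) :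
    False := by
  obtain ⟨w, hw, f, ⟨s, hf⟩, rfl⟩ := L.mem_T₁.1 hT
  have hv2 : (w * f) * (w * f) = 1 := by
    rw [← hv, conj_mul, ← pow_two, ← L.u_ord hm, pow_orderOf_eq_one]; group
  have hs : ¬ (s 0 = false ∧ s 1 = false ∧ s 2 = false) := fun h =>
    hW (mul_mem hw ((Subgroup.zpowers_le.2 L.t_mem_W) (L.sgn_mem_T hf ⟨rfl, h⟩)))
  obtain ⟨f', s', hf', hs', hconj⟩ := L.conj_into_FS hm hf hs hw hv2
  obtain ⟨c, hc⟩ := isConj_iff.1 hconj
  have hf'2 : f' * f' = 1 := L.sgn_unique (by simpa [sswap] using hf'.mul L hf') L.isSgn_one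
  obtain ⟨i, hi⟩ := sign_types s' hs'
  have hai : (L.a ^ (i : ℕ))⁻¹ = L.a ^ (3 - (i : ℕ)) := inv_eq_of_mul_eq_one_right (by
    rw [← pow_add, show (i : ℕ) + (3 - i) = 3 by omega, L.cube_a])
  set v' := L.a ^ (i : ℕ) * f' * (L.a ^ (i : ℕ))⁻¹ with hv'
  have hv'2 : v' * v' = 1 := by rw [hv', conj_mul, hf'2]; group
  have hact : L.Act v' (fun x => fa^[i] (fgm s' false (fa^[3 - (i : ℕ)] x))) := by
    rw [hv', hai]
    exact ((Act_iterate L (act_a L) i).mul hf'.1).mul (Act_iterate L (act_a L) _)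
  have hu' : (L.a ^ (i : ℕ) * c⁻¹ * g) * L.u * (L.a ^ (i : ℕ) * c⁻¹ * g)⁻¹ = v' := by
    rw [hv', show (L.a ^ (i : ℕ) * c⁻¹ * g) * L.u * (L.a ^ (i : ℕ) * c⁻¹ * g)⁻¹ =
      L.a ^ (i : ℕ) * (c⁻¹ * (g * L.u * g⁻¹) * c) * (L.a ^ (i : ℕ))⁻¹ by group, hv, ← hc]
    group
  rcases hi with h | ⟨k, h⟩ | ⟨k, h⟩ | h | h
  · exact L.not_conj_neg hm hu' hv'2 (Or.inl (hact.congr h))
  · exact L.not_conj_refl hm hu' hv'2 (qJ_ax k) (hact.congr h)
  · exact L.not_conj_neg hm hu' hv'2 (Or.inr ⟨_, qJ_ax k, hact.congr h⟩)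
  · exact L.not_conj_plane hm hu' (Or.inl (hact.congr h))
  · exact L.not_conj_plane hm hu' (Or.inr (hact.congr h))

end Loc

end CfsgLib.OEightLocal
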