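import Cfsg.Agent.Lib.OEightLocal.Pre
import Mathlib.GroupTheory.QuotientGroup.Basic

/-!
A four-group of quaternions and an element of order three on an elementary abelian 3-group have a
common invariant subgroup of order at most nine; hence an irreducible radical is impossible.
-/

set_option autoImplicit false

namespace CfsgLib.OEightLocal

open CfsgLib.LFourThree (S2 pE sE)

theorem two_dim {V : Type*} [AddCommGroup V] (h3 : ∀ v : V, v + v + v = 0) (P S : V →+ V)
    (hP : ∀ v, P (P (P v)) = v) (hS : ∀ v, S (S v) = -v)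
    (hrel : ∀ v, S (P (S (P (P v)))) = -(P (P (S (P v))))) {v₀ : V} (hv₀ : v₀ ≠ 0) :
    ∃ f : V, f ≠ 0 ∧ P f = f ∧ (P (S f) = S f + f ∨ P (S f) = S f - f) := by
  -- a fixed vector
  obtain ⟨v, hv, hPv⟩ : ∃ v : V, v ≠ 0 ∧ P v = v := by
    by_contra hno
    push Not at hno
    let N : V → V := fun x => P x - x
    have hN3 : ∀ x, N (N (N x)) = 0 := by
      intro x
      simp only [N, map_sub, hP]
      calc x - P (P x) - (P (P x) - P x) - (P (P x) - P x - (P x - x))
          = (P x + P x + P x) - (P (P x) + P (P x) + P (P x)) := by abel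
        _ = 0 := by rw [h3, h3, sub_zero]
    have hN : ∀ x, N x = 0 → x = 0 := fun x hx => by
      by_contra hx0
      exact hno x hx0 (sub_eq_zero.1 hx)
    exact hv₀ (hN _ (hN _ (hN _ (hN3 v₀))))
  have hi : ∀ x, P x = x → S (P (S x)) = -(P (P (S x))) := fun x hx => by
    have h := hrel x
    rwa [hx, hx] at h
  have hSk : S (P (P (S v))) = P (S v) := by
    have h := congrArg S (hi v hPv)
    rw [hS, map_neg] at h
    exact (neg_injective h).symm
  by_cases hs : S v + P (S v) + P (P (S v)) = 0
  · refine ⟨v, hv, hPv, Or.inr ?_⟩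
    have hk : P (P (S v)) = -(S v) - P (S v) := by
      rw [eq_sub_iff_add_eq, eq_neg_iff_add_eq_zero]
      rw [← hs]; abel
    have h := hSk
    rw [hk, map_sub, map_neg, hS, hi v hPv, hk, neg_neg] at h
    have h2 : P (S v) + P (S v) = v - S v := by
      nth_rewrite 2 [← h]
      abel
    calc P (S v) = (P (S v) + P (S v) + P (S v)) - (P (S v) + P (S v)) := by abel
      _ = S v - v := by rw [h3, h2]; abel
  · refine ⟨S v + P (S v) + P (P (S v)), hs, ?_, Or.inr ?_⟩
    · rw [map_add, map_add, hP]; abel
    · rw [show S (S v + P (S v) + P (P (S v))) = -v + -(P (P (S v))) + P (S v) by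
        rw [map_add, map_add, hS, hi v hPv, hSk]]
      rw [map_add, map_add, map_neg, map_neg, hP, hPv]
      calc -v + -(S v) + P (P (S v))
          = (-v + -(S v) + P (P (S v))) -
              (P (P (S v)) + P (P (S v)) + P (P (S v))) := by rw [h3, sub_zero]
        _ = _ := by abel

end CfsgLib.OEightLocal
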