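import Cfsg.Agent.Lib.OEightLocal.InvW

/-!
Sign changes of the four axes as maps of `F₃⁴`.
-/

set_option autoImplicit false

namespace CfsgLib.OEightLocal

/-- The four axes. -/
def ax : Fin 4 → V := ![![1, 0, 0, -1], ![1, 0, 1, 1], ![1, 0, -1, 1], ![0, 1, 0, 0]]

/-- The sign of a Boolean. -/
def bsign (b : Bool) : ZMod 3 := bif b then -1 else 1

/-- The sign change of the selected axes. -/
def fsg (s : Fin 4 → Bool) (v : V) : V :=
  (bsign (s 0) * bJ v (ax 0)) • ax 0 + (bsign (s 1) * bJ v (ax 1)) • ax 1 +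
    (bsign (s 2) * bJ v (ax 2)) • ax 2 + (bsign (s 3) * bJ v (ax 3)) • ax 3

/-- The optional exchange of the second and third axis. -/
def fub (b : Bool) (v : V) : V := bif b then fu v else v

/-- The exchange on the signs. -/
def sswap (b : Bool) (s : Fin 4 → Bool) : Fin 4 → Bool := bif b then ![s 0, s 2, s 1, s 3] else s

/-- An element of the extended sign group as a map. -/
def fgm (s : Fin 4 → Bool) (b : Bool) (v : V) : V := fsg s (fub b v)

theorem bJ_comb : ∀ a b c d : ZMod 3,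
    bJ (a • ax 0 + b • ax 1 + c • ax 2 + d • ax 3) (ax 0) = a ∧
    bJ (a • ax 0 + b • ax 1 + c • ax 2 + d • ax 3) (ax 1) = b ∧
    bJ (a • ax 0 + b • ax 1 + c • ax 2 + d • ax 3) (ax 2) = c ∧
    bJ (a • ax 0 + b • ax 1 + c • ax 2 + d • ax 3) (ax 3) = d := by
  decide +kernel

theorem bsign_xor : ∀ (b b' : Bool), bsign (b ^^ b') = bsign b * bsign b' := by decide +kernel

theorem fsg_mul (s s' : Fin 4 → Bool) (v : V) : fsg s (fsg s' v) = fsg (fun k => s k ^^ s' k) v := by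
  simp only [fsg, (bJ_comb _ _ _ _).1, (bJ_comb _ _ _ _).2.1, (bJ_comb _ _ _ _).2.2.1, (bJ_comb _ _ _ _).2.2.2,
    bsign_xor, mul_assoc]

theorem fu_comb : ∀ a b c d : ZMod 3, fu (a • ax 0 + b • ax 1 + c • ax 2 + d • ax 3) =
    a • ax 0 + c • ax 1 + b • ax 2 + d • ax 3 := by
  decide +kernel

theorem bJ_fu : ∀ v : V, bJ (fu v) (ax 0) = bJ v (ax 0) ∧ bJ (fu v) (ax 1) = bJ v (ax 2) ∧
    bJ (fu v) (ax 2) = bJ v (ax 1) ∧ bJ (fu v) (ax 3) = bJ v (ax 3) := by
  decide +kernel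

theorem fub_fsg (b : Bool) (s : Fin 4 → Bool) (v : V) : fub b (fsg s v) = fsg (sswap b s) (fub b v) := by
  cases b
  · rfl
  · simp only [fub, sswap, cond_true, fsg, fu_comb, (bJ_fu v).1, (bJ_fu v).2.1, (bJ_fu v).2.2.1, (bJ_fu v).2.2.2,
      Matrix.cons_val]

theorem fub_mul : ∀ (b b' : Bool) (v : V), fub b (fub b' v) = fub (b ^^ b') v := by decide +kernel

theorem fgm_mul (s s' : Fin 4 → Bool) (b b' : Bool) (v : V) :
    fgm s b (fgm s' b' v) = fgm (fun k => s k ^^ sswap b s' k) (b ^^ b') v := by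
  simp only [fgm, fub_fsg, fsg_mul, fub_mul]

set_option synthInstance.maxSize 4000 in
theorem fgm_inj : ∀ (s s' : Fin 4 → Bool) (b b' : Bool), fgm s b ![1, 0, 0, 0] = fgm s' b' ![1, 0, 0, 0] →
    fgm s b ![0, 1, 0, 0] = fgm s' b' ![0, 1, 0, 0] → fgm s b ![0, 0, 1, 0] = fgm s' b' ![0, 0, 1, 0] →
    s = s' ∧ b = b' := by decide +kernel

theorem fgm_one : ∀ v : V, fgm (fun _ => false) false v = v := by decide +kernel

theorem fgm_maps : (∀ v : V, fgm ![true, false, false, false] false v = fr v) ∧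
    (∀ v : V, fgm ![false, true, false, false] false v = fa (fa (fr (fa v)))) ∧
    (∀ v : V, fgm ![false, false, true, false] false v = fa (fr (fa (fa v)))) ∧
    (∀ v : V, fgm ![false, false, false, true] false v = ft v) ∧
    (∀ v : V, fgm (fun _ => false) true v = fu v) := by decide +kernel

theorem fub_ft : ∀ (b : Bool) (v : V), fub b (ft v) = ft (fub b v) := by decide +kernel

theorem ft_fsg : ∀ v : V, ft v = fsg ![false, false, false, true] v := by decide +kernel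

theorem fgm_t (s : Fin 4 → Bool) (b : Bool) (v : V) : fgm s b (ft v) = ft (fgm s b v) := by
  rw [fgm, fgm, fub_ft, ft_fsg, ft_fsg, fsg_mul, fsg_mul]
  simp only [Bool.xor_comm]

/-- The maps with a large centraliser on `W`. -/
def Big (s : Fin 4 → Bool) (b : Bool) : Prop :=
  b = true ∧ s 0 = false ∧ s 1 = s 2

set_option synthInstance.maxSize 100000 in
set_option maxRecDepth 100000 in
/-- The three shapes of the action on the four points. -/
theorem shapes : ∀ (s : Fin 4 → Bool) (b : Bool),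
    (b = false ∧ s 0 = false ∧ s 1 = false ∧ s 2 = false) ∨
    (∃ a c a' c' : Fin 4, (∀ k : Fin 4, k = a ∨ k = c ∨ k = a' ∨ k = c') ∧
      (fgm s b (pt a) = pt a' ∨ fgm s b (pt a) = -pt a') ∧ (fgm s b (pt c) = pt c' ∨ fgm s b (pt c) = -pt c')) ∨
    (∀ k, fgm s b (pt k) = -pt k) ∨
    (∃ a c d e : Fin 4, (∀ k : Fin 4, k = a ∨ k = c ∨ k = d ∨ k = e) ∧ (fgm s b (pt a) = pt a ∨ fgm s b (pt a) = -pt a) ∧
      (fgm s b (pt c) = pt c ∨ fgm s b (pt c) = -pt c) ∧ (fgm s b (pt d) = pt e ∨ fgm s b (pt d) = -pt e) ∧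
      ((fgm s b (pt a) = -pt a ∧ fgm s b (pt c) = -pt c) ∨ Big s b)) := by
  unfold Big
  decide +kernel

theorem pt_ne : ∀ k : Fin 4, pt k ≠ 0 := by decide +kernel

theorem pt_dual : ∀ k : Fin 4, ∃ v : V, v 1 = 0 ∧ bJ v (pt k) = 1 := by decide +kernel

end CfsgLib.OEightLocal
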