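import Cfsg.Agent.Lib.OEightLocal.InvWPerm
import Cfsg.Agent.Lib.OEightLocal.TwoSign
import Cfsg.Agent.Lib.OEightLocal.InvWInst

/-!
The group of sign changes of the four axes, extended by `u`, and the size of the centralisers of its
elements on `W` modulo `⟨t⟩`.
-/

set_option autoImplicit false
set_option linter.unusedSectionVars false
set_option linter.style.haveILetI false

namespace CfsgLib.OEightLocal

variable {G : Type*} [Group G] [Finite G] (L : Loc G)

namespace Loc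

/-- Lifts into `C(ν)` are unique. -/
theorem lift_unique {g g' : G} {f : V → V} (h : L.Act g f) (h' : L.Act g' f) (hg : Commute g L.ν)
    (hg' : Commute g' L.ν) : g = g' := by
  obtain ⟨fi, hfi, hii⟩ := h.inv
  obtain ⟨x, hx⟩ := (mem_J L).1 (mem_J_of_act L (x := g' * g⁻¹) ((h'.mul hfi).congr fun v => hii v))
  have hc : L.jel (-x) = L.jel x := by
    rw [← act_nu L x]
    exact fix_eq ((hx.symm ▸ hg'.mul_left hg.inv_left : Commute (L.jel x) L.ν).symm)
  have : x = 0 := (show ∀ x : V, -x = x → x = 0 by decide +kernel) x (jel_injective L hc)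
  rw [this, jel_zero] at hx
  exact (mul_inv_eq_one.1 hx.symm).symm

/-- Every element of `N(J) ∩ C(t)` has a lift in `C(ν)`. -/
theorem exists_lift {g : G} {f : V → V} (h : L.Act g f) (ht : Commute g L.t) :
    ∃ g', L.Act g' f ∧ Commute g' L.t ∧ Commute g' L.ν := by
  obtain ⟨fi, hfi, hii⟩ := h.inv
  obtain ⟨f', hf', hii'⟩ := (act_nu L).inv
  have hneg : ∀ v, f (-v) = -f v := fun v => by
    rw [← neg_one_smul (ZMod 3) v, h.map_smul, neg_one_smul]
  obtain ⟨c, hc⟩ := (mem_J L).1 (mem_J_of_act L (x := g * L.ν * g⁻¹ * L.ν⁻¹)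
    ((((h.mul (act_nu L)).mul hfi).mul hf').congr fun v => by
      simp only [Function.comp_apply, id]
      rw [hneg, hii]; exact hii' v))
  have hct : Commute (L.jel c) L.t :=
    hc.symm ▸ ((ht.mul_left L.comm_νt).mul_left ht.inv_left).mul_left L.comm_νt.inv_left
  refine ⟨L.jel c * g, ((act_mem_J L (jel_mem L c)).mul h).congr fun _ => rfl, hct.mul_left ht,
    mul_inv_eq_iff_eq_mul.1 ?_⟩
  have e1 : g * L.ν * g⁻¹ = L.jel c * L.ν := by rw [hc]; group
  calc L.jel c * g * L.ν * (L.jel c * g)⁻¹ = L.jel c * (g * L.ν * g⁻¹) * (L.jel c)⁻¹ := by group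
    _ = L.jel c * L.jel c * (L.ν * (L.jel c)⁻¹ * L.ν⁻¹) * L.ν := by rw [e1]; group
    _ = L.ν := by
      rw [← jel_neg, act_nu L]
      simp only [neg_neg]
      rw [← jel_add, ← jel_add,
        show c + c + c = 0 from (show ∀ c : V, c + c + c = 0 by decide +kernel) c, jel_zero, one_mul]

/-- An element of the extended sign group with the given signs. -/
def IsSgn (g : G) (s : Fin 4 → Bool) (b : Bool) : Prop :=
  L.Act g (fgm s b) ∧ Commute g L.t ∧ Commute g L.ν

theorem IsSgn.mul {g g' : G} {s s' : Fin 4 → Bool} {b b' : Bool} (h : L.IsSgn g s b) (h' : L.IsSgn g' s' b') :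
    L.IsSgn (g * g') (fun k => s k ^^ sswap b s' k) (b ^^ b') :=
  ⟨(h.1.mul h'.1).congr (fgm_mul s s' b b'), h.2.1.mul_left h'.2.1, h.2.2.mul_left h'.2.2⟩

theorem isSgn_one : L.IsSgn 1 (fun _ => false) false :=
  ⟨Loc.Act.one.congr fun v => (fgm_one v).symm, Commute.one_left _, Commute.one_left _⟩

theorem isSgn_t : L.IsSgn L.t ![false, false, false, true] false :=
  ⟨(act_t L).congr fun v => (fgm_maps.2.2.2.1 v).symm, Commute.refl _, L.comm_νt.symm⟩

theorem isSgn_u (hm : L.m = 2) : L.IsSgn L.u (fun _ => false) true :=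
  ⟨(act_u_two L hm).congr fun v => (fgm_maps.2.2.2.2 v).symm, L.comm_ut, L.comm_νu.symm⟩

set_option maxHeartbeats 1000000 in
theorem exists_sgn (hm : L.m = 2) (s : Fin 4 → Bool) (b : Bool) : ∃ g, L.IsSgn g s b := by
  have h0 : ∀ (k : Fin 4), ∃ g, L.IsSgn g (fun j => decide (j = k)) false := by
    have hat : Commute L.a L.t := (L.O_comm _ L.t_mem).2.1.symm
    have hr := L.rf_flip
    have e : ∀ k : Fin 4, (fun j => decide (j = k)) = ![![true, false, false, false],
        ![false, true, false, false], ![false, false, true, false], ![false, false, false, true]] k := by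
      decide
    intro k
    rw [e]
    fin_cases k
    · obtain ⟨g, h1, h2, h3⟩ := L.exists_lift hr.act hr.comm_t
      exact ⟨g, h1.congr fun v => (fgm_maps.1 v).symm, h2, h3⟩
    · obtain ⟨g, h1, h2, h3⟩ := L.exists_lift ((((act_a L).mul (act_a L)).mul hr.act).mul (act_a L))
        (((hat.mul_left hat).mul_left hr.comm_t).mul_left hat)
      exact ⟨g, h1.congr fun v => (fgm_maps.2.1 v).symm, h2, h3⟩
    · obtain ⟨g, h1, h2, h3⟩ := L.exists_lift ((((act_a L).mul hr.act).mul (act_a L)).mul (act_a L))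
        (((hat.mul_left hr.comm_t).mul_left hat).mul_left hat)
      exact ⟨g, h1.congr fun v => (fgm_maps.2.2.1 v).symm, h2, h3⟩
    · exact ⟨_, L.isSgn_t⟩
  choose g hg using h0
  have hb : ∀ b : Bool, ∃ x, L.IsSgn x (fun _ => false) b := fun b => by
    cases b
    · exact ⟨_, L.isSgn_one⟩
    · exact ⟨_, L.isSgn_u hm⟩
  have hk : ∀ k : Fin 4, ∃ x, L.IsSgn x (fun j => decide (j = k) && s k) false := fun k => by
    cases s k
    · exact ⟨1, by simpa using L.isSgn_one⟩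
    · exact ⟨g k, by simpa using hg k⟩
  obtain ⟨x0, h0⟩ := hk 0
  obtain ⟨x1, h1⟩ := hk 1
  obtain ⟨x2, h2⟩ := hk 2
  obtain ⟨x3, h3⟩ := hk 3
  obtain ⟨xb, hb'⟩ := hb b
  refine ⟨x0 * x1 * x2 * x3 * xb, ?_⟩
  have h := (((h0.mul L h1).mul L h2).mul L h3).mul L hb'
  convert h using 1
  · funext k
    fin_cases k <;> simp [sswap]
  · simp

/-- The extended sign group. -/
def FS : Subgroup G where
  carrier := {g | ∃ s b, L.IsSgn g s b}
  one_mem' := ⟨_, _, L.isSgn_one⟩
  mul_mem' := fun ⟨_, _, h⟩ ⟨_, _, h'⟩ => ⟨_, _, h.mul L h'⟩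
  inv_mem' := by
    rintro g ⟨s, b, h1, h2, h3⟩
    obtain ⟨fi, hfi, hii⟩ := h1.inv
    refine ⟨sswap b s, b, hfi.congr fun v => h1.injective ?_, h2.inv_left, h3.inv_left⟩
    rw [hii, fgm_mul,
      show (fun k => s k ^^ sswap b (sswap b s) k) = fun _ => false by
        funext k; cases b <;> fin_cases k <;> simp [sswap],
      Bool.xor_self, fgm_one]

theorem FS_le_NT : L.FS ≤ L.NT := fun _ ⟨_, _, h⟩ => L.mem_NT_of_act h.1 h.2.1

theorem sgn_unique {g g' : G} {s : Fin 4 → Bool} {b : Bool} (h : L.IsSgn g s b) (h' : L.IsSgn g' s b) : g = g' :=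
  L.lift_unique h.1 h'.1 h.2.2 h'.2.2

theorem sgn_inj {g : G} {s s' : Fin 4 → Bool} {b b' : Bool} (h : L.IsSgn g s b) (h' : L.IsSgn g s' b') :
    s = s' ∧ b = b' := by
  have e := h.1.unique h'.1
  exact fgm_inj s s' b b' (congrFun e _) (congrFun e _) (congrFun e _)

/-- The part without `u`. -/
def FS₁ : Subgroup G where
  carrier := {g | ∃ s, L.IsSgn g s false}
  one_mem' := ⟨_, L.isSgn_one⟩
  mul_mem' := by
    rintro x y ⟨s, h⟩ ⟨s', h'⟩
    refine ⟨fun k => s k ^^ sswap false s' k, ?_⟩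
    have h2 := h.mul L h'
    rw [Bool.xor_false] at h2
    exact h2
  inv_mem' := by
    rintro g ⟨s, h⟩
    refine ⟨s, ?_⟩
    have h2 : L.IsSgn (g * g) (fun _ => false) false := by
      have := h.mul L h
      simpa [sswap] using this
    rwa [inv_eq_of_mul_eq_one_right (L.sgn_unique h2 L.isSgn_one)]

/-- `⟨t⟩` is normal in `O`. -/
theorem TO_normal : ((Subgroup.zpowers L.t).subgroupOf L.O).Normal :=
  ⟨fun n hn w => by
    show (w : G) * n * (w : G)⁻¹ ∈ Subgroup.zpowers L.t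
    obtain ⟨m, hm⟩ := Subgroup.mem_zpowers_iff.1 (show (n : G) ∈ Subgroup.zpowers L.t from hn)
    rw [← hm, ((L.O_comm_t w.2).zpow_right m).eq, mul_inv_cancel_right]
    exact Subgroup.zpow_mem _ (Subgroup.mem_zpowers _) m⟩

theorem card_FS (hm : L.m = 2) : Nat.card L.FS = 32 := by
  classical
  choose g hg using fun p : (Fin 4 → Bool) × Bool => L.exists_sgn hm p.1 p.2
  rw [← Nat.card_eq_of_bijective (fun p => (⟨g p, _, _, hg p⟩ : L.FS)) ⟨fun p q h => ?_, fun ⟨x, s, b, hx⟩ =>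
    ⟨(s, b), Subtype.ext (L.sgn_unique (hg (s, b)) hx)⟩⟩, Nat.card_eq_fintype_card]
  · rfl
  · have e : g p = g q := congrArg Subtype.val h
    obtain ⟨h1, h2⟩ := L.sgn_inj (hg p) (e ▸ hg q)
    exact Prod.ext h1 h2

theorem card_FS₁ (hm : L.m = 2) : Nat.card L.FS₁ = 16 := by
  classical
  choose g hg using fun s : Fin 4 → Bool => L.exists_sgn hm s false
  rw [← Nat.card_eq_of_bijective (fun s => (⟨g s, _, hg s⟩ : L.FS₁)) ⟨fun p q h => ?_, fun ⟨x, s, hx⟩ =>
    ⟨s, Subtype.ext (L.sgn_unique (hg s) hx)⟩⟩, Nat.card_eq_fintype_card]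
  · rfl
  · have e : g p = g q := congrArg Subtype.val h
    exact (L.sgn_inj (hg p) (e ▸ hg q)).1

/-! ### Centralisers on `W` modulo `⟨t⟩` -/

/-- The elements of `W` moved by `g` only within `⟨t⟩`. -/
def CW (g : G) : Subgroup G where
  carrier := {w | w ∈ L.W ∧ g * w * g⁻¹ * w⁻¹ ∈ Subgroup.zpowers L.t}
  one_mem' := ⟨one_mem _, by simp⟩
  mul_mem' := fun {a b} ha hb => by
    refine ⟨mul_mem ha.1 hb.1, ?_⟩
    have hat : Commute a L.t := Subgroup.mem_centralizer_singleton_iff.1 (L.W_le_ct ha.1)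
    obtain ⟨n, hn⟩ := Subgroup.mem_zpowers_iff.1 hb.2
    rw [show g * (a * b) * g⁻¹ * (a * b)⁻¹ = g * a * g⁻¹ * (g * b * g⁻¹ * b⁻¹) * a⁻¹ by group, ← hn,
      mul_assoc (g * a * g⁻¹), ((hat.inv_left).zpow_right n).symm.eq, ← mul_assoc]
    exact mul_mem ha.2 (Subgroup.zpow_mem _ (Subgroup.mem_zpowers _) n)
  inv_mem' := fun {a} ha => by
    refine ⟨inv_mem ha.1, ?_⟩
    have hat : Commute a L.t := Subgroup.mem_centralizer_singleton_iff.1 (L.W_le_ct ha.1)
    obtain ⟨n, hn⟩ := Subgroup.mem_zpowers_iff.1 (inv_mem ha.2)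
    have e : g * a⁻¹ * g⁻¹ * a⁻¹⁻¹ = a⁻¹ * (g * a * g⁻¹ * a⁻¹)⁻¹ * a := by group
    rw [e, ← hn, (hat.inv_left.zpow_right n).eq, inv_mul_cancel_right]
    exact Subgroup.zpow_mem _ (Subgroup.mem_zpowers _) n

theorem CW_le (g : G) : L.CW g ≤ L.W := fun _ h => h.1

/-- The points fix the permutation. -/
theorem slot_eq {g : G} {f : V → V} (hf : L.Act g f) (hct : Commute g L.t) {σ : Equiv.Perm (Fin 4)} {φ : Fin 4 → L.O →* L.O}
    (hφ : ∀ k, Function.Injective (φ k))
    (he : ∀ w, g * L.emb L.comm_O w * g⁻¹ = L.emb L.comm_O fun j => φ (σ.symm j) (w (σ.symm j)))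
    {k j : Fin 4} (hk : f (pt k) = pt j ∨ f (pt k) = -pt j) : σ k = j := by
  classical
  by_contra hne
  obtain ⟨x, hx, x1, xt⟩ := L.exists_noncentral
  have hinsx : ∀ w, g * L.ins k w * g⁻¹ = L.ins (σ k) (φ k w) := fun w => by
    rw [← L.emb_single L.comm_O k, he, ← L.emb_single L.comm_O (σ k)]
    congr 1
    funext i
    rcases eq_or_ne i (σ k) with rfl | hi
    · simp
    · rw [Pi.mulSingle_eq_of_ne hi, Pi.mulSingle_eq_of_ne fun h => hi (by rw [← h, Equiv.apply_symm_apply]),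
        map_one]
  have hins := hinsx ⟨x, hx⟩
  have h1 := pt_facts k k
  have hc : Commute (L.jel (pt k)) (L.ins k ⟨x, hx⟩) := by
    refine mul_inv_eq_iff_eq_mul.1 ?_
    rw [L.conj_ins h1.1, h1.2.2.2 rfl, yc_zero]
  have hc2 := hc.map (MulAut.conj g).toMonoidHom
  simp only [MulEquiv.coe_toMonoidHom, MulAut.conj_apply, hins] at hc2
  rw [hf] at hc2
  have hc3 : Commute (L.jel (pt j)) (L.ins (σ k) (φ k ⟨x, hx⟩)) := by
    rcases hk with e | e <;> rw [e] at hc2
    · exact hc2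
    · rw [jel_neg] at hc2; exact Commute.inv_left_iff.1 hc2
  have h2 := L.conj_ins (pt_facts j j).1 (σ k) (φ k ⟨x, hx⟩)
  rw [fix_eq hc3] at h2
  have h3 : (L.yc (bJ (pt j) (pt (σ k))) (φ k ⟨x, hx⟩) : G) * (φ k ⟨x, hx⟩ : G)⁻¹ ∈ Subgroup.zpowers L.t := by
    rw [← L.ins_injective _ h2, mul_inv_cancel]; exact one_mem _
  have h4 := L.yc_fpf (fun h => hne ((pt_facts j (σ k)).2.2.1 h).symm) h3
  rcases L.mem_T.1 h4 with h5 | h5
  · exact x1 (congrArg Subtype.val (hφ k (a₁ := ⟨x, hx⟩) (a₂ := 1) (by rw [map_one]; exact Subtype.ext h5)))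
  · -- `t` is fixed
    have ht : φ k ⟨L.t, L.t_mem⟩ = ⟨L.t, L.t_mem⟩ := by
      refine L.ins_injective (σ k) ?_
      have hgt : ∀ i : Fin 4, L.ins i ⟨L.t, L.t_mem⟩ = L.t := fun i => fix_eq (L.NT_t (L.pz_NT i))
      rw [← hinsx, hgt, hgt, fix_eq hct]
    exact xt (congrArg Subtype.val (hφ k (a₁ := ⟨x, hx⟩) (a₂ := ⟨L.t, L.t_mem⟩) (ht.symm ▸ Subtype.ext h5)))

/-- At a point reversed by `g` at most one class is fixed. -/
theorem fixed_le_four {g : G} {f : V → V} (hf : L.Act g f) (hgt : Commute g L.t) {k : Fin 4} {φ : L.O →* L.O}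
    (he : ∀ x, g * L.ins k x * g⁻¹ = L.ins k (φ x)) (hk : f (pt k) = -pt k) :
    Nat.card {x : L.O // (φ x : G) * (x : G)⁻¹ ∈ Subgroup.zpowers L.t} ≤ 4 := by
  classical
  obtain ⟨v, hv, hv1⟩ := pt_dual k
  have hfv : (f v) 1 = 0 := by
    have hft : ft v = v := by funext i; fin_cases i <;> simp [ft, hv]
    have h' : ft (f v) = f v := jel_injective L (by
      rw [← act_t L, ← hf]
      calc L.t * (g * L.jel v * g⁻¹) * L.t⁻¹ = L.t * g * L.jel v * (L.t * g)⁻¹ := by group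
        _ = g * L.t * L.jel v * (g * L.t)⁻¹ := by rw [hgt.eq]
        _ = g * (L.t * L.jel v * L.t⁻¹) * g⁻¹ := by group
        _ = _ := by rw [act_t L, hft])
    have h7 : -f v 1 = f v 1 := congrFun h' 1
    revert h7; generalize f v 1 = c; revert c; decide
  have hb : bJ (f v) (pt k) = -1 := by
    have := bJ_act L hf v (pt k)
    rw [hk, hv1, show bJ (f v) (-pt k) = -bJ (f v) (pt k) by simp [bJ]; ring] at this
    exact neg_eq_iff_eq_neg.1 this
  have anti : ∀ x, φ (L.yc 1 x) = L.yc (-1) (φ x) := fun x => L.ins_injective k (by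
    rw [← he, ← hb, ← L.conj_ins hfv, ← he, ← hf, ← hv1, ← L.conj_ins hv]
    group)
  by_contra hgt4
  push Not at hgt4
  haveI : Fintype L.O := Fintype.ofFinite _
  set S := Finset.univ.filter fun x : L.O => (φ x : G) * (x : G)⁻¹ ∈ Subgroup.zpowers L.t
  have hS : 4 < S.card := by
    rwa [Nat.card_eq_fintype_card, Fintype.card_subtype] at hgt4
  obtain ⟨x, hxS, hx1, hxt⟩ : ∃ x ∈ S, (x : G) ≠ 1 ∧ (x : G) ≠ L.t := by
    by_contra h
    push Not at h
    have := Finset.card_le_card (show S ⊆ {1, ⟨L.t, L.t_mem⟩} from fun x hx => by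
      by_cases h1 : (x : G) = 1
      · simp [show x = 1 from Subtype.ext h1]
      · simp [show x = ⟨L.t, L.t_mem⟩ from Subtype.ext (h x hx h1)])
    have := Finset.card_le_two (a := (1 : L.O)) (b := ⟨L.t, L.t_mem⟩)
    omega
  suffices hsub : S ⊆ {1, ⟨L.t, L.t_mem⟩, x, x * ⟨L.t, L.t_mem⟩} by
    have := (Finset.card_le_card hsub).trans Finset.card_le_four
    omega
  intro v hv'
  simp only [Finset.mem_insert, Finset.mem_singleton]
  by_cases v1 : (v : G) = 1
  · exact Or.inl (Subtype.ext v1)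
  by_cases vt : (v : G) = L.t
  · exact Or.inr (Or.inl (Subtype.ext vt))
  obtain ⟨c, hc⟩ := L.O_orbit x.2 hx1 hxt v.2 v1 vt
  obtain ⟨τ, hτ, hvτ⟩ : ∃ τ : L.O, (τ : G) ∈ Subgroup.zpowers L.t ∧ v = L.yc c x * τ := by
    rcases hc with hc | hc
    · exact ⟨1, one_mem _, by rw [mul_one]; exact Subtype.ext hc.symm⟩
    · refine ⟨⟨L.t, L.t_mem⟩, Subgroup.mem_zpowers _, Subtype.ext ?_⟩
      show (v : G) = L.y ^ c.val * (x : G) * (L.y ^ c.val)⁻¹ * L.t
      rw [hc, mul_assoc, L.t_sq, mul_one]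
  rcases (show ∀ c : ZMod 3, c = 0 ∨ c = 1 ∨ c = 2 by decide) c with rfl | hc12
  · rw [yc_zero] at hvτ
    rcases L.mem_T.1 hτ with h | h
    · exact Or.inr (Or.inr (Or.inl (by rw [hvτ, show τ = 1 from Subtype.ext h, mul_one])))
    · exact Or.inr (Or.inr (Or.inr (by rw [hvτ, show τ = ⟨L.t, L.t_mem⟩ from Subtype.ext h])))
  exfalso
  haveI := L.TO_normal
  set q := QuotientGroup.mk' ((Subgroup.zpowers L.t).subgroupOf L.O) with hqdef
  have hq : ∀ {a b : L.O}, (a : G) * (b : G)⁻¹ ∈ Subgroup.zpowers L.t → q a = q b := fun {a b} h =>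
    mul_inv_eq_one.1 (by rw [← map_inv, ← map_mul]; exact (QuotientGroup.eq_one_iff (a * b⁻¹)).2 h)
  have qb : ∀ {a b : L.O}, q a = q b → (a : G) * (b : G)⁻¹ ∈ Subgroup.zpowers L.t := fun {a b} h =>
    (QuotientGroup.eq_one_iff (a * b⁻¹)).1 (show q (a * b⁻¹) = 1 by rw [map_mul, map_inv, h, mul_inv_cancel])
  have qφ : ∀ {a b : L.O}, q a = q b → q (φ a) = q (φ b) := fun {a b} h => by
    rcases L.mem_T.1 (qb h) with e | e
    · rw [mul_inv_eq_one.1 (show a * b⁻¹ = 1 from Subtype.ext e)]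
    · have e' : a = ⟨L.t, L.t_mem⟩ * b := Subtype.ext (by
        show (a : G) = L.t * b
        rw [← e, inv_mul_cancel_right])
      have hφt : (φ ⟨L.t, L.t_mem⟩ : G) = L.t := by
        have := he ⟨L.t, L.t_mem⟩
        have hins : ∀ i : Fin 4, L.ins i ⟨L.t, L.t_mem⟩ = L.t := fun i => fix_eq (L.NT_t (L.pz_NT i))
        rw [hins, fix_eq hgt] at this
        exact congrArg Subtype.val (L.ins_injective k (this.symm.trans (hins k).symm))
      rw [e', map_mul, map_mul, show q (φ ⟨L.t, L.t_mem⟩) = 1 from (hq (b := 1) (by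
        rw [hφt]; simp)).trans (map_one q), one_mul]
  have qy : ∀ {a b : L.O} (d : ZMod 3), q a = q b → q (L.yc d a) = q (L.yc d b) := fun {a b} d h => hq (by
    show L.y ^ d.val * (a : G) * (L.y ^ d.val)⁻¹ * (L.y ^ d.val * (b : G) * (L.y ^ d.val)⁻¹)⁻¹ ∈ _
    rw [show L.y ^ d.val * (a : G) * (L.y ^ d.val)⁻¹ * (L.y ^ d.val * (b : G) * (L.y ^ d.val)⁻¹)⁻¹ =
      L.y ^ d.val * ((a : G) * (b : G)⁻¹) * (L.y ^ d.val)⁻¹ by group]
    obtain ⟨m, hm⟩ := Subgroup.mem_zpowers_iff.1 (qb h)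
    rw [← hm, ((L.comm_ty.symm.pow_left _).zpow_right m).eq, mul_inv_cancel_right]
    exact Subgroup.zpow_mem _ (Subgroup.mem_zpowers _) m)
  have y11 : ∀ x : L.O, L.yc 1 (L.yc 1 x) = L.yc 2 x ∧ L.yc (-1) (L.yc (-1) x) = L.yc 1 x := fun x => by
    constructor <;> apply Subtype.ext <;>
      simp only [yc, show (-1 : ZMod 3) = 2 from rfl, MonoidHom.coe_mk, OneHom.coe_mk, ZMod.val_one,
        show ((2 : ZMod 3).val) = 2 from rfl]
    · group
    · rw [show L.y ^ 2 * (L.y ^ 2 * (x : G) * (L.y ^ 2)⁻¹) * (L.y ^ 2)⁻¹ =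
        L.y ^ 3 * (L.y * (x : G) * L.y⁻¹) * (L.y ^ 3)⁻¹ by simp only [pow_succ, pow_zero, one_mul, mul_inv_rev, mul_assoc],
        L.cube_y]
      simp
  have hφx : q (φ x) = q x := hq (Finset.mem_filter.1 hxS).2
  have hφv : q (φ v) = q v := hq (Finset.mem_filter.1 hv').2
  have hv2 : q v = q (L.yc c x) := hq (by
    rw [hvτ]
    show (L.yc c x : G) * τ * (L.yc c x : G)⁻¹ ∈ _
    obtain ⟨m, hm⟩ := Subgroup.mem_zpowers_iff.1 hτ
    rw [← hm, ((L.O_comm_t (L.yc c x).2).zpow_right m).eq, mul_inv_cancel_right]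
    exact Subgroup.zpow_mem _ (Subgroup.mem_zpowers _) m)
  have hfix : q (L.yc (-c) x) = q (L.yc c x) := by
    rw [← hv2, ← hφv, qφ hv2]
    rcases hc12 with rfl | rfl
    · rw [anti]; exact (qy _ hφx).symm
    · rw [← (y11 x).1, anti, anti, qy (-1) (qy (-1) hφx), (y11 x).2,
        show (-2 : ZMod 3) = 1 by decide]
  have hcc : c + c ≠ 0 := (show ∀ c : ZMod 3, c = 1 ∨ c = 2 → c + c ≠ 0 by decide) c hc12
  rcases L.mem_T.1 (L.yc_fpf (w := L.yc (-c) x) hcc (by
    rw [show L.yc (c + c) (L.yc (-c) x) = L.yc c x from Subtype.ext (by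
      simp only [yc, MonoidHom.coe_mk, OneHom.coe_mk]
      rw [show L.y ^ (c + c).val * (L.y ^ (-c).val * (x : G) * (L.y ^ (-c).val)⁻¹) * (L.y ^ (c + c).val)⁻¹ =
        (L.y ^ (c + c).val * L.y ^ (-c).val) * (x : G) * (L.y ^ (c + c).val * L.y ^ (-c).val)⁻¹ by group,
        ← Cent.pow_val_add L.cube_y, show c + c + -c = c by abel])]
    exact qb hfix.symm)) with h | h
  · refine hx1 ?_
    have h' : L.y ^ (-c).val * (x : G) * (L.y ^ (-c).val)⁻¹ = 1 := h
    exact conj_eq_one_iff.1 h'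
  · refine hxt ?_
    have h' : L.y ^ (-c).val * (x : G) * (L.y ^ (-c).val)⁻¹ = L.t := h
    exact mul_left_cancel (mul_right_cancel (h'.trans (fix_eq (L.comm_ty.symm.pow_left _)).symm))

/-- Bounds on the centraliser on `W` modulo `⟨t⟩`. -/
theorem CW_bound {g : G} {s : Fin 4 → Bool} {b : Bool} (hg : L.IsSgn g s b)
    (hne : ¬ (b = false ∧ s 0 = false ∧ s 1 = false ∧ s 2 = false)) :
    Nat.card (L.CW g) ≤ 128 ∧ (¬ Big s b → Nat.card (L.CW g) ≤ 32) := by
  classical
  set hc := L.comm_O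
  obtain ⟨σ, φ, hφ, he⟩ := L.emb_NT hc (L.mem_NT_of_act hg.1 hg.2.1)
  haveI : Fintype L.O := Fintype.ofFinite _
  set E := (L.CW g).comap (L.emb hc)
  have hE : Nat.card E = 8 * Nat.card (L.CW g) := by
    have h := E.card_mul_index
    rw [Nat.card_fun, Nat.card_fin, L.card_O, Subgroup.index_comap, L.emb_range hc] at h
    have h2 := Subgroup.relIndex_mul_relIndex ⊥ (L.CW g) L.W bot_le (L.CW_le g)
    rw [Subgroup.relIndex_bot_left, Subgroup.relIndex_bot_left, L.card_W hc] at h2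
    have hne0 : (L.CW g).relIndex L.W ≠ 0 := fun h0 => by rw [h0, mul_zero] at h2; norm_num at h2
    have : Nat.card E * (L.CW g).relIndex L.W = 8 * Nat.card (L.CW g) * (L.CW g).relIndex L.W := by
      rw [h, mul_assoc, h2]; norm_num
    exact Nat.eq_of_mul_eq_mul_right (Nat.pos_of_ne_zero hne0) this
  have hrel : ∀ w ∈ E, ∀ k, (φ k (w k) : G) * (w (σ k) : G)⁻¹ ∈ Subgroup.zpowers L.t := by
    intro w hw k
    have h2 := hw.2
    rw [he, ← map_inv, ← map_mul] at h2
    have h3 := (L.emb_mem_T hc).1 h2 (σ k)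
    simpa using h3
  have hins : ∀ k x, g * L.ins k x * g⁻¹ = L.ins (σ k) (φ k x) := by
    intro k x
    rw [← L.emb_single hc k, he, ← L.emb_single hc (σ k)]
    congr 1
    funext i
    rcases eq_or_ne i (σ k) with rfl | hi
    · simp
    · rw [Pi.mulSingle_eq_of_ne hi, Pi.mulSingle_eq_of_ne fun h => hi (by rw [← h, Equiv.apply_symm_apply]),
        map_one]
  -- the component at `σ k` is fixed up to `t` by the one at `k`
  let bit : (Fin 4 → L.O) → Fin 4 → Bool := fun w k => decide (φ k (w k) = w (σ k))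
  have hbit : ∀ w ∈ E, ∀ w' ∈ E, ∀ k, w k = w' k → bit w k = bit w' k → w (σ k) = w' (σ k) := by
    intro w hw w' hw' k e eb
    simp only [bit, decide_eq_decide] at eb
    by_cases h : φ k (w k) = w (σ k)
    · rw [← h, ← (eb.1 h), e]
    · have h' : ¬ φ k (w' k) = w' (σ k) := fun h' => h (eb.2 h')
      have e1 := (L.mem_T.1 (hrel w hw k)).resolve_left fun h0 => h (Subtype.ext (mul_inv_eq_one.1 h0))
      have e2 := (L.mem_T.1 (hrel w' hw' k)).resolve_left fun h0 => h' (Subtype.ext (mul_inv_eq_one.1 h0))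
      rw [← e, ← e1] at e2
      exact Subtype.ext (inv_injective (mul_left_cancel e2)).symm
  have hO : Nat.card L.O = 8 := L.card_O
  rcases shapes s b with h | ⟨a, c, a', c', hcov, ha, hcc⟩ | hneg | ⟨a, c, d, e, hcov, ha, hcc, hd, hsign⟩
  · exact absurd h hne
  · have ea := L.slot_eq hg.1 hg.2.1 hφ he ha
    have ec := L.slot_eq hg.1 hg.2.1 hφ he hcc
    have hle : Nat.card E ≤ 256 := by
      refine le_trans (Nat.card_le_card_of_injective (β := L.O × L.O × Bool × Bool)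
        (fun w => ((w : Fin 4 → L.O) a, (w : Fin 4 → L.O) c, bit w a, bit w c)) ?_) (by simp only [Nat.card_prod, hO, Nat.card_eq_fintype_card (α := Bool), Fintype.card_bool]; norm_num)
      rintro ⟨w, hw⟩ ⟨w', hw'⟩ h
      simp only [Prod.mk.injEq] at h
      obtain ⟨h1, h2, h3, h4⟩ := h
      refine Subtype.ext (funext fun k => ?_)
      rcases hcov k with rfl | rfl | rfl | rfl
      · exact h1
      · exact h2
      · rw [← ea]; exact hbit w hw w' hw' a h1 h3
      · rw [← ec]; exact hbit w hw w' hw' c h2 h4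
    exact ⟨by omega, fun _ => by omega⟩
  · have hfix : ∀ k, σ k = k := fun k => L.slot_eq hg.1 hg.2.1 hφ he (Or.inr (hneg k))
    have h4 : ∀ k, Nat.card {x : L.O // (φ k x : G) * (x : G)⁻¹ ∈ Subgroup.zpowers L.t} ≤ 4 := fun k =>
      L.fixed_le_four hg.1 hg.2.1 (fun x => by rw [hins, hfix]) (hneg k)
    have hle : Nat.card E ≤ 256 := by
      refine le_trans (Nat.card_le_card_of_injective
        (β := ∀ k : Fin 4, {x : L.O // (φ k x : G) * (x : G)⁻¹ ∈ Subgroup.zpowers L.t})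
        (fun w k => ⟨(w : Fin 4 → L.O) k, by simpa [hfix] using hrel w w.2 k⟩) ?_) ?_
      · intro w w' h
        exact Subtype.ext (funext fun k => congrArg Subtype.val (congrFun h k))
      · rw [Nat.card_pi]
        exact le_trans (Finset.prod_le_prod' fun k _ => h4 k) (by simp)
    exact ⟨by omega, fun _ => by omega⟩
  · have ea := L.slot_eq hg.1 hg.2.1 hφ he ha
    have ec := L.slot_eq hg.1 hg.2.1 hφ he hcc
    have ed := L.slot_eq hg.1 hg.2.1 hφ he hd
    have key : ∀ A C : L.O → Prop, (∀ w ∈ E, A (w a)) → (∀ w ∈ E, C (w c)) →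
        Nat.card E ≤ Nat.card {x // A x} * Nat.card {x // C x} * 16 := by
      intro A C hA hC
      refine le_trans (Nat.card_le_card_of_injective (β := {x // A x} × {x // C x} × L.O × Bool)
        (fun w => (⟨(w : Fin 4 → L.O) a, hA w w.2⟩, ⟨(w : Fin 4 → L.O) c, hC w w.2⟩, (w : Fin 4 → L.O) d, bit w d))
        ?_) (le_of_eq ?_)
      · rintro ⟨w, hw⟩ ⟨w', hw'⟩ h
        simp only [Prod.mk.injEq, Subtype.mk.injEq] at h
        obtain ⟨h1, h2, h3, h4⟩ := h
        refine Subtype.ext (funext fun k => ?_)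
        rcases hcov k with rfl | rfl | rfl | rfl
        · exact h1
        · exact h2
        · exact h3
        · rw [← ed]; exact hbit w hw w' hw' d h3 h4
      · simp only [Nat.card_prod, hO, Nat.card_eq_fintype_card (α := Bool), Fintype.card_bool]; ring
    have htop := key (fun _ => True) (fun _ => True) (fun _ _ => trivial) (fun _ _ => trivial)
    have htrue : Nat.card {x : L.O // True} = 8 := by rw [Nat.card_congr (Equiv.subtypeUnivEquiv fun _ => trivial), hO]
    rw [htrue] at htop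
    refine ⟨by omega, fun hb => ?_⟩
    obtain ⟨na, nc⟩ := hsign.resolve_right hb
    have h4 := key (fun x => (φ a x : G) * (x : G)⁻¹ ∈ Subgroup.zpowers L.t)
      (fun x => (φ c x : G) * (x : G)⁻¹ ∈ Subgroup.zpowers L.t)
      (fun w hw => by simpa [ea] using hrel w hw a) (fun w hw => by simpa [ec] using hrel w hw c)
    have k1 := L.fixed_le_four hg.1 hg.2.1 (φ := φ a) (fun x => by rw [hins, ea]) na
    have k2 := L.fixed_le_four hg.1 hg.2.1 (φ := φ c) (fun x => by rw [hins, ec]) nc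
    have := Nat.mul_le_mul k1 k2
    omega

end Loc

end CfsgLib.OEightLocal
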