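import Cfsg.Agent.Lib.OEightLocal.TwoV
import Cfsg.Agent.Lib.OEightLocal.CentTwo
import Cfsg.Agent.Lib.OEightLocal.OneFocal
import Cfsg.Agent.Lib.OEightLocal.InvW
import Cfsg.Agent.Lib.FiTwentyThreeType.Order

/-!
The subgroup of index two of `C(i₂)`: it contains no conjugate of the outer involution `u`.
-/

set_option autoImplicit false
set_option linter.unusedSectionVars false
set_option linter.style.haveILetI false

namespace CfsgLib.OEightLocal

theorem psp_conj_index : ((MulAut.conj : Cfsg.PSp 2 (ZMod 3) →* _).range).index = 2 := by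
  haveI : Fact (Nat.Prime 3) := ⟨Nat.prime_three⟩
  have hF : Fintype.card (ZMod 3) = 3 := ZMod.card 3
  have hc := CfsgLib.FiTwentyThreeType.card_psp (F := ZMod 3) hF
  have ha := CfsgLib.FiTwentyThreeType.card_aut_psp (F := ZMod 3) hF
  haveI := CfsgLib.FiTwentyThreeType.psp_simple (F := ZMod 3) hF
  haveI : Finite (Cfsg.PSp 2 (ZMod 3)) := Nat.finite_of_card_ne_zero (by rw [hc]; norm_num)
  have hk : (MulAut.conj : Cfsg.PSp 2 (ZMod 3) →* _).ker = ⊥ := by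
    rcases Subgroup.Normal.eq_bot_or_eq_top
      (H := (MulAut.conj : Cfsg.PSp 2 (ZMod 3) →* _).ker) inferInstance with h | h
    · exact h
    exfalso
    have hcomm : ∀ x y : Cfsg.PSp 2 (ZMod 3), x * y = y * x := fun x y => by
      have hx : MulAut.conj x = 1 := MonoidHom.mem_ker.1 (h ▸ Subgroup.mem_top x)
      have := congrArg (fun σ : MulAut (Cfsg.PSp 2 (ZMod 3)) => σ y) hx
      simp only [MulAut.conj_apply, MulAut.one_apply] at this
      exact mul_inv_eq_iff_eq_mul.1 this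
    letI : CommGroup (Cfsg.PSp 2 (ZMod 3)) := { (inferInstance : Group (Cfsg.PSp 2 (ZMod 3))) with mul_comm := hcomm }
    have hp := IsSimpleGroup.prime_card (α := Cfsg.PSp 2 (ZMod 3))
    rw [hc] at hp
    norm_num at hp
  have h := Subgroup.card_mul_index (MulAut.conj : Cfsg.PSp 2 (ZMod 3) →* _).range
  rw [← Nat.card_congr (MonoidHom.ofInjective ((MonoidHom.ker_eq_bot_iff _).1 hk)).toEquiv, ha, hc] at h
  omega

theorem orbit_e1 : ∀ e : V, e 2 = 0 → qJ e = -1 → ∃ i j : Fin 3,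
    fp^[i] (fr (fp^[j] ![0, 1, 0, 0])) = e ∨ fp^[i] (fr (fp^[j] ![0, 1, 0, 0])) = -e := by decide +kernel

theorem perp_e1 : ∀ e : V, e 2 = 0 → bJ ![0, 1, 0, 0] e = 0 → qJ e = -1 →
    e = ![1, 0, 0, -1] ∨ e = -![1, 0, 0, -1] := by decide +kernel

theorem perp_frame : ∀ w : V, bJ w ![0, 1, 0, 0] = 0 → bJ w ![1, 0, 0, -1] = 0 → bJ w ![0, 0, 1, 0] = 0 →
    qJ w = 1 → w = ![1, 0, 0, 1] ∨ w = -![1, 0, 0, 1] := by decide +kernel

theorem pair_D : ∀ w : V, w 2 = 0 → qJ w = 1 → ∃ d d' : V, d 2 = 0 ∧ d' 2 = 0 ∧ qJ d = -1 ∧ qJ d' = -1 ∧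
    bJ w d = 0 ∧ bJ w d' = 0 ∧ bJ d d' = 0 := by decide +kernel

theorem uν_map : ∀ v : V, lin ![![0, 0, 0, -1], ![0, 1, 0, 0], ![0, 0, 1, 0], ![-1, 0, 0, 0]] (ft (fr v)) =
    -fu v := by decide +kernel

theorem orth_i2 : ∀ v : V, bJ v ![0, 0, 1, 0] = -v 2 := by decide +kernel

theorem i2_ne : (![0, 0, 1, 0] : V) ≠ 0 := by decide

theorem i2_not_line : ∀ c : ZMod 3, qJ (c • ![1, 0, 0, 0]) ≠ qJ ![0, 0, 1, 0] := by decide +kernel

variable {G : Type*} [Group G] [Finite G] (L : Loc G)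

namespace Loc

/-- The subgroup of index two of `C(i₂)`. -/
theorem exists_inner (hm : L.m = 2) : ∃ K : Subgroup G, (∀ g, Commute g L.i₂ → ∀ x ∈ K, g * x * g⁻¹ ∈ K) ∧
    (∀ g, Commute g L.i₂ → ∀ h, Commute h L.i₂ → g ∉ K → h ∉ K → g * h ∈ K) ∧
    L.O ≤ K ∧ L.S₀ ≤ K ∧ L.u * L.ν ∉ K := by
  classical
  haveI : Fact (Nat.Prime 3) := ⟨Nat.prime_three⟩
  obtain ⟨e⟩ := L.bar_i₂_aut hm
  set Γ := Subgroup.centralizer ({L.i₂} : Set G)
  have hΓ : ∀ {g : G}, g ∈ Γ ↔ Commute g L.i₂ := Subgroup.mem_centralizer_singleton_iff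
  set H : Subgroup Γ := (MulAut.conj : Cfsg.PSp 2 (ZMod 3) →* _).range.comap (e.toMonoidHom.comp L.q₂)
  have hH : H.index = 2 := by
    rw [Subgroup.index_comap_of_surjective]
    · exact psp_conj_index
    · exact e.surjective.comp (QuotientGroup.mk'_surjective _)
  haveI := Subgroup.normal_of_index_eq_two hH
  set K := H.map Γ.subtype
  have hmem : ∀ {g : G} (hg : g ∈ Γ), g ∈ K ↔ (⟨g, hg⟩ : Γ) ∈ H := fun {g} hg =>
    Subgroup.mem_map_iff_mem Γ.subtype_injective (x := (⟨g, hg⟩ : Γ))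
  have hconj : ∀ g, Commute g L.i₂ → ∀ x ∈ K, g * x * g⁻¹ ∈ K := by
    rintro g hg _ ⟨x, hx, rfl⟩
    exact ⟨⟨g, hΓ.2 hg⟩ * x * ⟨g, hΓ.2 hg⟩⁻¹, Subgroup.Normal.conj_mem inferInstance x hx _, rfl⟩
  have h3 : ∀ x, Commute x L.i₂ → x ^ 3 = 1 → x ∈ K := fun x hx h => by
    have h2 := Subgroup.sq_mem_of_index_two hH (⟨x, hΓ.2 hx⟩ : Γ)
    have : (⟨x, hΓ.2 hx⟩ : Γ) = ((⟨x, hΓ.2 hx⟩ : Γ) ^ 2) ^ 2 := Subtype.ext (by
      show x = (x ^ 2) ^ 2
      rw [← pow_mul, show (2 * 2 : ℕ) = 3 + 1 from rfl, pow_succ, h, one_mul])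
    exact (hmem (hΓ.2 hx)).2 (this ▸ pow_mem h2 2)
  have hS : L.S₀ ≤ K := (Subgroup.closure_le _).2 (by
    rintro x (rfl | rfl | rfl | rfl | rfl)
    exacts [h3 _ L.comm_zi₂ L.cube_z, h3 _ L.comm_i₁i₂ L.cube_i₁, h3 _ (Commute.refl _) L.cube_i₂,
      h3 _ L.comm_yi₂ L.cube_y, h3 _ L.comm_pi₂ L.cube_p])
  have hy : L.y ∈ K := hS (Subgroup.subset_closure (by simp))
  have hcomm : ∀ w, Commute w L.i₂ → w * L.y * w⁻¹ * L.y⁻¹ ∈ K := fun w hw =>
    mul_mem (hconj w hw _ hy) (inv_mem hy)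
  have hO : L.O ≤ K := by
    intro w hw
    obtain ⟨v, hv, v1, vt⟩ := L.exists_noncentral
    have hc : ∀ {x : G}, x ∈ L.O → Commute x L.i₂ := fun hx => (L.O_comm _ hx).2.2
    set x := v * L.y * v⁻¹ * L.y⁻¹ with hx
    have hxK : x ∈ K := hcomm v (hc hv)
    obtain ⟨m1, m2⟩ := L.y_moves hv v1 vt
    have hxO : x ∈ L.O := by
      rw [hx, show v * L.y * v⁻¹ * L.y⁻¹ = v * (L.y * v⁻¹ * L.y⁻¹) by group]
      exact mul_mem hv (L.O_y _ (inv_mem hv))
    have hx1 : x ≠ 1 := fun h => m1 (by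
      rw [hx] at h
      have := mul_inv_eq_one.1 h
      calc L.y * v * L.y⁻¹ = v * L.y * v⁻¹ * v * L.y⁻¹ := by rw [this]
        _ = v := by group)
    have hxt : x ≠ L.t := fun h => m2 (by
      have e2 : L.y * v⁻¹ * L.y⁻¹ = v⁻¹ * L.t := by rw [← h, hx]; group
      rw [show L.y * v * L.y⁻¹ = (L.y * v⁻¹ * L.y⁻¹)⁻¹ by group, e2, mul_inv_rev, inv_inv, L.t_inv,
        (L.O_comm_t hv).eq])
    have htK : L.t ∈ K := L.O_sq hxO hx1 hxt ▸ mul_mem hxK hxK
    by_cases w1 : w = 1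
    · exact w1 ▸ one_mem _
    by_cases wt : w = L.t
    · exact wt ▸ htK
    obtain ⟨k, hk⟩ := L.O_orbit hxO hx1 hxt hw w1 wt
    have hyk : L.y ^ k.val * x * (L.y ^ k.val)⁻¹ ∈ K := mul_mem (mul_mem (pow_mem hy _) hxK) (inv_mem (pow_mem hy _))
    rcases hk with hk | hk
    · exact hk ▸ hyk
    · rw [show w = L.y ^ k.val * x * (L.y ^ k.val)⁻¹ * L.t by rw [hk, mul_assoc, L.t_sq, mul_one]]
      exact mul_mem hyk htK
  have htwo : ∀ g, Commute g L.i₂ → ∀ h, Commute h L.i₂ → g ∉ K → h ∉ K → g * h ∈ K := fun g hg h hh g0 h0 => by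
    rw [hmem (mul_mem (hΓ.2 hg) (hΓ.2 hh)),
      show (⟨g * h, mul_mem (hΓ.2 hg) (hΓ.2 hh)⟩ : Γ) = ⟨g, hΓ.2 hg⟩ * ⟨h, hΓ.2 hh⟩ from rfl,
      Subgroup.mul_mem_iff_of_index_two hH]
    exact iff_of_false (fun h' => g0 ((hmem _).2 h')) (fun h' => h0 ((hmem _).2 h'))
  refine ⟨K, hconj, htwo, hO, hS, fun huν => ?_⟩
  -- otherwise the normaliser of the Sylow subgroup covers `C(i₂)` inside `K`
  have hT : (L.S₀.subgroupOf Γ).index % 3 ≠ 0 := by
    intro h0
    obtain ⟨T, hT1, hT2⟩ := Sylow.exists_subgroup_card_pow_succ (p := 3) (n := 5) (G := Γ)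
      (by
        obtain ⟨d, hd⟩ := Nat.dvd_of_mod_eq_zero h0
        refine ⟨d, ?_⟩
        rw [← (L.S₀.subgroupOf Γ).card_mul_index, hd,
          Nat.card_congr (Subgroup.subgroupOfEquivOfLe (fun x hx => (L.S₀_le hx))).toEquiv, L.card_S₀]
        ring)
      (H := L.S₀.subgroupOf Γ) (by
        rw [Nat.card_congr (Subgroup.subgroupOfEquivOfLe (fun x hx => (L.S₀_le hx))).toEquiv, L.card_S₀]; norm_num)
    have hp : IsPGroup 3 (T.map Γ.subtype) := (IsPGroup.of_card hT1).map _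
    obtain ⟨P, hP⟩ := hp.exists_le_sylow
    obtain ⟨S, hSeq⟩ := L.sylow
    obtain ⟨g, hg⟩ := MulAction.exists_smul_eq G S P
    have hcard : Nat.card (T.map Γ.subtype) = 729 := by
      rw [Subgroup.card_map_of_injective Γ.subtype_injective, hT1]; norm_num
    have hTP : T.map Γ.subtype = (P : Subgroup G) := Subgroup.eq_of_le_of_card_ge hP (by
      rw [hcard, ← hg, Sylow.coe_subgroup_smul]
      show Nat.card ((S : Subgroup G).map (MulAut.conj g).toMonoidHom : Subgroup G) ≤ 729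
      rw [Subgroup.card_map_of_injective (MulAut.conj g).injective, hSeq, L.card_S])
    have hzc : g⁻¹ * L.i₂ * g ∈ Subgroup.zpowers L.z := by
      refine L.mem_zpowers_of_central fun s hs => ?_
      have hs' : g * s * g⁻¹ ∈ T.map Γ.subtype := by
        rw [hTP, ← hg, Sylow.coe_subgroup_smul]
        exact Subgroup.smul_mem_pointwise_smul s (MulAut.conj g) _ (hSeq ▸ hs)
      obtain ⟨w, -, hw⟩ := hs'
      have hc : Commute (g * s * g⁻¹) L.i₂ := hw ▸ hΓ.1 w.2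
      have := hc.map (MulAut.conj g⁻¹).toMonoidHom
      simp only [MulEquiv.coe_toMonoidHom, MulAut.conj_apply, inv_inv] at this
      rw [show g⁻¹ * (g * s * g⁻¹) * g = s by group] at this
      exact this.eq
    obtain ⟨n, hn⟩ := Subgroup.mem_zpowers_iff.1 hzc
    have hi : L.i₂ = g * L.z ^ n * g⁻¹ := by rw [hn]; group
    have hn' : L.z ^ n = L.jel ((n : ZMod 3) • ![1, 0, 0, 0]) := by
      rw [jel_smul, jel_z, ← zpow_natCast, zpow_eq_zpow_emod' n L.cube_z,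
        show (((n : ZMod 3).val : ℕ) : ℤ) = n % 3 by exact_mod_cast ZMod.val_intCast n]
      norm_num
    have hne : ((n : ZMod 3) • ![1, 0, 0, 0] : V) ≠ 0 := fun h0 => L.i₂_ne (by
      rw [hi, hn', h0, jel_zero]; group)
    exact i2_not_line _ ((isConj_jel_iff L hne (w := ![0, 0, 1, 0]) i2_ne).1
      (isConj_iff.2 ⟨g, by rw [← hn', ← hi, jel_i2]⟩))
  have hp : IsPGroup 3 (L.S₀.subgroupOf Γ) :=
    (L.S_pgroup.to_le (Subgroup.closure_mono (by
      intro x; simp only [Set.mem_insert_iff, Set.mem_singleton_iff]; tauto))).comap_subtype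
  let P : Sylow 3 Γ := hp.toSylow fun h => hT (Nat.mod_eq_zero_of_dvd h)
  have hPH : (P : Subgroup Γ) ≤ H := fun x hx => (hmem x.2).1 (hS hx)
  have htop : Subgroup.normalizer ((P : Subgroup Γ) : Set Γ) ⊔ H = ⊤ :=
    Sylow.normalizer_sup_eq_top' P hPH
  have hN : Subgroup.normalizer ((P : Subgroup Γ) : Set Γ) ≤ H := by
    intro g hg
    have hgS : (g : G) ∈ Subgroup.normalizer (Subgroup.closure {L.z, L.i₁, L.i₂, L.y, L.p} : Set G) := by
      refine Subgroup.mem_normalizer_iff.2 fun x => ⟨fun hx => ?_, fun hx => ?_⟩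
      · exact (Subgroup.mem_normalizer_iff.1 hg ⟨x, L.S₀_le hx⟩).1 hx
      · have hxΓ : x ∈ Γ := by
          have := mul_mem (mul_mem (inv_mem g.2) (L.S₀_le hx)) g.2
          rwa [show (g : G)⁻¹ * ((g : G) * x * (g : G)⁻¹) * g = x by group] at this
        exact (Subgroup.mem_normalizer_iff.1 hg ⟨x, hxΓ⟩).2 hx
    obtain ⟨n, hn⟩ := Subgroup.mem_zpowers_iff.1 (normS0 L hgS).2
    have hcz : ∀ x : G, Commute x L.z → Commute x L.i₂ → x ∈ K := fun x h1 h2 => by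
      have hx : x ∈ Subgroup.centralizer ({L.z} : Set G) ⊓ Γ :=
        ⟨Subgroup.mem_centralizer_singleton_iff.2 h1, hΓ.2 h2⟩
      rw [L.cz_i₂_eq] at hx
      exact sup_le hS hO hx
    have gi : Commute (g : G) L.i₂ := hΓ.1 g.2
    refine (hmem g.2).1 ?_
    obtain h | h | h : n % 3 = 0 ∨ n % 3 = 1 ∨ n % 3 = 2 := by omega
    all_goals rw [zpow_eq_zpow_emod' n L.cube_z, Nat.cast_ofNat, h] at hn
    all_goals simp only [zpow_zero, zpow_one, zpow_ofNat, pow_zero, pow_one] at hn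
    · exact absurd (conj_eq_one_iff.1 hn.symm) L.z_ne
    · exact hcz _ (mul_inv_eq_iff_eq_mul.1 hn.symm) gi
    · have huc : Commute (L.u * L.ν) L.i₂ := hΓ.1 (L.uν_mem hm)
      have hinv : L.u * L.ν * L.z * (L.u * L.ν)⁻¹ = L.z⁻¹ := by
        rw [show L.u * L.ν * L.z * (L.u * L.ν)⁻¹ = L.u * (L.ν * L.z * L.ν⁻¹) * L.u⁻¹ by group, L.ν_z,
          ← conj_inv, fix_eq L.comm_uz]
      have hk : L.u * L.ν * g ∈ K := hcz _ (mul_inv_eq_iff_eq_mul.1 (by
        rw [show L.u * L.ν * g * L.z * (L.u * L.ν * g)⁻¹ =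
          L.u * L.ν * ((g : G) * L.z * (g : G)⁻¹) * (L.u * L.ν)⁻¹ by group, ← hn, ← conj_pow, hinv,
          inv_pow, inv_eq_iff_mul_eq_one, ← pow_succ, L.cube_z])) (huc.mul_left gi)
      have := mul_mem (inv_mem huν) hk
      rwa [inv_mul_cancel_left] at this
  rw [sup_eq_right.2 hN] at htop
  rw [htop, Subgroup.index_top] at hH
  omega

set_option maxHeartbeats 1000000 in
/-- An involution of the subgroup of index two of `C(i₂)` is not conjugate to `u`. -/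
theorem not_conj_inner (hm : L.m = 2) {K : Subgroup G}
    (hK : (∀ g, Commute g L.i₂ → ∀ x ∈ K, g * x * g⁻¹ ∈ K) ∧
      (∀ g, Commute g L.i₂ → ∀ h, Commute h L.i₂ → g ∉ K → h ∉ K → g * h ∈ K) ∧
      L.O ≤ K ∧ L.S₀ ≤ K ∧ L.u * L.ν ∉ K)
    {v g : G} (hv : g * L.u * g⁻¹ = v) (hi : Commute v L.i₂) (hvK : v ∈ K) : False := by
  classical
  obtain ⟨hconj, -, hO, hS, huν⟩ := hK
  -- a conjugator carrying an element of `⟨z, i₁, y⟩` to `i₂`
  have h2 : Commute L.u (g⁻¹ * L.i₂ * g) := by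
    have := hi.map (MulAut.conj g⁻¹).toMonoidHom
    simp only [MulEquiv.coe_toMonoidHom, MulAut.conj_apply, inv_inv] at this
    rwa [← hv, show g⁻¹ * (g * L.u * g⁻¹) * g = L.u by group] at this
  obtain ⟨c, hc, hcJ⟩ := L.exists_conj_J' hm (x := g⁻¹ * L.i₂ * g)
    (by rw [show g⁻¹ * L.i₂ * g = g⁻¹ * L.i₂ * g⁻¹⁻¹ by group, conj_pow, L.cube_i₂]; group) h2
  obtain ⟨w0, hw0⟩ := (mem_J L).1 (L.J'_le_J hcJ)
  set k := g * c⁻¹ with hk
  have hki : k * L.jel w0 * k⁻¹ = L.i₂ := by rw [hw0, hk]; group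
  have hkv : k * L.u * k⁻¹ = v := by
    rw [hk, show g * c⁻¹ * L.u * (g * c⁻¹)⁻¹ = g * (c⁻¹ * L.u * c) * g⁻¹ by group,
      hc.symm.inv_left.eq, inv_mul_cancel_right, hv]
  have hq0 : qJ w0 = 1 := by
    have hne : w0 ≠ 0 := fun h0 => L.i₂_ne (by rw [← hki, h0, jel_zero]; group)
    exact ((isConj_jel_iff L hne (w := ![0, 0, 1, 0]) (by decide)).1
      (isConj_iff.2 ⟨k, by rw [hki, jel_i2]⟩)).trans (by decide +kernel)
  have hw2 : w0 2 = 0 := by
    have hc2 : Commute L.u (L.jel w0) := hw0 ▸ L.J'_comm_u hcJ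
    have h3 : fu w0 = w0 := jel_injective L (by rw [← act_u_two L hm w0, fix_eq hc2])
    have h4 : -w0 2 = w0 2 := congrFun h3 2
    revert h4; generalize w0 2 = c; revert c; decide
  obtain ⟨d, d', hd2, hd2', hqd, hqd', hwd, hwd', hdd⟩ := pair_D w0 hw2 hq0
  have hcu : ∀ x : V, x 2 = 0 → Commute (L.jel x) L.u := fun x hx => by
    refine (mul_inv_eq_iff_eq_mul.1 ?_).symm
    rw [act_u_two L hm]
    congr 1
    funext i; fin_cases i <;> simp [fu, hx]
  -- move `w0` to `i₂`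
  obtain ⟨n, f, hf, hfw⟩ := exists_conj L (v := w0) (w := ![0, 0, 1, 0])
    (fun h0 => by rw [h0] at hq0; exact absurd hq0 (by decide +kernel)) (by decide)
    (by rw [hq0]; decide +kernel)
  have e2 : ∀ x, bJ w0 x = 0 → (f x) 2 = 0 := fun x hx => by
    have h := bJ_act L hf x w0
    rw [hfw, orth_i2, show bJ x w0 = bJ w0 x by simp [bJ]; ring, hx, neg_eq_zero] at h
    exact h
  obtain ⟨i, j, hij⟩ := orbit_e1 (f d) (e2 d hwd) (by rw [qJ_act L hf, hqd])
  obtain ⟨r, hr⟩ : ∃ r, L.Flip r := ⟨L.rf, L.rf_flip⟩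
  set m := L.p ^ (i : ℕ) * r * L.p ^ (j : ℕ) with hmdef
  have hmact : L.Act m (fun x => fp^[i] (fr (fp^[j] x))) :=
    ((Act_iterate L (act_p L) i).mul hr.act).mul (Act_iterate L (act_p L) j)
  have hmi : Commute m L.i₂ :=
    ((L.comm_pi₂.pow_left _).mul_left hr.comm_i₂).mul_left (L.comm_pi₂.pow_left _)
  obtain ⟨fi, hfi, hii⟩ := hmact.inv
  set h := m⁻¹ * n * k⁻¹ with hh
  have hhi : Commute h L.i₂ := mul_inv_eq_iff_eq_mul.1 (by
    rw [hh, show m⁻¹ * n * k⁻¹ * L.i₂ * (m⁻¹ * n * k⁻¹)⁻¹ = m⁻¹ * (n * (k⁻¹ * L.i₂ * k) * n⁻¹) * m by group,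
      show k⁻¹ * L.i₂ * k = L.jel w0 by rw [← hki]; group, hf, hfw, jel_i2, mul_assoc,
      ← hmi.eq, inv_mul_cancel_left])
  set v' := h * v * h⁻¹ with hv'
  have hv'i : Commute v' L.i₂ := (hhi.mul_left hi).mul_left hhi.inv_left
  have hv'K : v' ∈ K := hconj h hhi v hvK
  set φ : V → V := fun x => fi (f x)
  have hφ : L.Act (m⁻¹ * n) φ := hfi.mul hf
  have hfix : ∀ x : V, x 2 = 0 → Commute v' (L.jel (φ x)) := fun x hx => by
    have := (hcu x hx).symm.map (MulAut.conj (h * k)).toMonoidHom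
    simp only [MulEquiv.coe_toMonoidHom, MulAut.conj_apply] at this
    rwa [show h * k * L.u * (h * k)⁻¹ = v' by rw [hv', ← hkv]; group,
      show h * k = m⁻¹ * n by rw [hh]; group, hφ] at this
  have hneg : ∀ x, fp^[i] (fr (fp^[j] (-x))) = -fp^[i] (fr (fp^[j] x)) := fun x => by
    rw [← neg_one_smul (ZMod 3) x, hmact.map_smul, neg_one_smul]
  have he1 : φ d = ![0, 1, 0, 0] ∨ φ d = -![0, 1, 0, 0] := by
    rcases hij with h0 | h0
    · left; exact hmact.injective (by simp only [φ]; rw [hii]; exact h0.symm)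
    · right; refine hmact.injective ?_
      simp only [φ]; rw [hii, hneg, h0, neg_neg]
  have hbφ := bJ_act L hφ
  have hd1 : φ d' = ![1, 0, 0, -1] ∨ φ d' = -![1, 0, 0, -1] := by
    refine perp_e1 _ ?_ ?_ (by rw [qJ_act L hφ, hqd'])
    · have h := hbφ d' w0
      have hw' : φ w0 = ![0, 0, 1, 0] := hmact.injective (by
        simp only [φ]; rw [hii, hfw]
        exact (jel_injective L (by rw [← hmact, jel_i2, fix_eq hmi])).symm)
      rw [hw', orth_i2, show bJ d' w0 = bJ w0 d' by simp [bJ]; ring, hwd', neg_eq_zero] at h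
      exact h
    · have h := hbφ d d'
      rw [hdd] at h
      rcases he1 with e | e <;> rw [e] at h
      · exact h
      · rw [show bJ (-![0, 1, 0, 0]) (φ d') = -bJ ![0, 1, 0, 0] (φ d') by simp [bJ], neg_eq_zero] at h
        exact h
  have sgn_fix : ∀ {x y : V}, Commute v' (L.jel x) → (x = y ∨ x = -y) → Commute v' (L.jel y) := by
    rintro x y hc (rfl | rfl)
    · exact hc
    · rw [jel_neg] at hc; exact Commute.inv_right_iff.1 hc
  have c1 := sgn_fix (hfix d hd2) he1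
  have cd := sgn_fix (hfix d' hd2') hd1
  obtain ⟨fv, hfv⟩ := exists_act_map L (L.cent_D_le hm (e := ![0, 1, 0, 0]) (by decide +kernel) c1)
  have f1 : fv ![0, 1, 0, 0] = ![0, 1, 0, 0] := jel_injective L (by rw [← hfv, fix_eq c1])
  have fd : fv ![1, 0, 0, -1] = ![1, 0, 0, -1] := jel_injective L (by rw [← hfv, fix_eq cd])
  have f2 : fv ![0, 0, 1, 0] = ![0, 0, 1, 0] := jel_injective L (by rw [← hfv, jel_i2, fix_eq hv'i])
  have hb := bJ_act L hfv
  have hw := perp_frame (fv ![1, 0, 0, 1]) (by rw [← f1, hb]; decide +kernel) (by rw [← fd, hb]; decide +kernel)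
    (by rw [← f2, hb]; decide +kernel) (by rw [qJ_act L hfv]; decide +kernel)
  have hfneg : ∀ x, fv (-x) = -fv x := fun x => by
    rw [← neg_one_smul (ZMod 3) x, hfv.map_smul, neg_one_smul]
  have ez : (![1, 0, 0, 0] : V) = -![1, 0, 0, -1] + -![1, 0, 0, 1] := by decide
  have ey : (![0, 0, 0, 1] : V) = ![1, 0, 0, -1] + -![1, 0, 0, 1] := by decide
  have hv'2 : v' * v' = 1 := by
    rw [hv', ← hkv, conj_mul, conj_mul, ← pow_two L.u, ← L.u_ord hm, pow_orderOf_eq_one]; group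
  have hv'1 : v' ≠ 1 := by
    rw [hv', ← hkv]
    intro h0
    have h1 : L.u = 1 := by rwa [conj_eq_one_iff, conj_eq_one_iff] at h0
    have := L.u_ord hm
    rw [h1, orderOf_one] at this
    omega
  have hJK : ∀ x ∈ L.J, x ∈ K := fun x hx => hS (Subgroup.closure_mono (by
    intro x; simp only [Set.mem_insert_iff, Set.mem_singleton_iff]; tauto) hx)
  rcases hw with hw | hw
  · -- then the involution lies in `J`
    refine hv'1 ?_
    have hid : L.Act v' id := hfv.congr fun x => by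
      rw [hfv.eq_lin]
      have a0 : fv ![1, 0, 0, 0] = ![1, 0, 0, 0] := by rw [ez, hfv.add, hfneg, hfneg, fd, hw]
      have a3 : fv ![0, 0, 0, 1] = ![0, 0, 0, 1] := by rw [ey, hfv.add, hfneg, fd, hw]
      rw [a0, f1, f2, a3]
      funext i; fin_cases i <;> simp [lin]
    obtain ⟨x, hx⟩ := (mem_J L).1 (mem_J_of_act L hid)
    exact Cent.eq_one_of_coprime (m := 2) (n := 3) (by rw [pow_two, hv'2]) (hx ▸ cube_jel L x) (by norm_num)
  · obtain ⟨q, hq⟩ : ∃ q, q = L.p * r * L.p := ⟨_, rfl⟩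
    have hqi : Commute q L.i₂ := hq ▸ (L.comm_pi₂.mul_left hr.comm_i₂).mul_left L.comm_pi₂
    have hR : L.t * (q * L.t * q⁻¹) ∈ K := mul_mem (hO L.t_mem) (hconj q hqi _ (hO L.t_mem))
    have hqact : L.Act (q * L.t * q⁻¹) fr := by
      obtain ⟨qi, hqi', hqq⟩ := (hq ▸ ((act_p L).mul hr.act).mul (act_p L) : L.Act q (fp ∘ fr ∘ fp)).inv
      refine (((hq ▸ ((act_p L).mul hr.act).mul (act_p L) : L.Act q (fp ∘ fr ∘ fp)).mul (act_t L)).mul hqi').congr
        fun x => ?_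
      have hx := hqq x
      conv_rhs => rw [← hx]
      simp only [Function.comp_apply]
      exact (show ∀ y : V, fp (fr (fp (ft y))) = fr (fp (fr (fp y))) by decide +kernel) _
    have hact : L.Act (v' * (L.t * (q * L.t * q⁻¹))) (fun x => -fu x) :=
      (hfv.mul ((act_t L).mul hqact)).congr fun x => by
        simp only [Function.comp_apply]
        rw [hfv.eq_lin]
        have a0 : fv ![1, 0, 0, 0] = ![0, 0, 0, -1] := by
          rw [ez, hfv.add, hfneg, hfneg, fd, hw]; decide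
        have a3 : fv ![0, 0, 0, 1] = ![-1, 0, 0, 0] := by
          rw [ey, hfv.add, hfneg, fd, hw]; decide
        rw [a0, f1, f2, a3]
        exact uν_map x
    have hun : L.Act (L.u * L.ν) (fun x => -fu x) := ((act_u_two L hm).mul (act_nu L)).congr fun x => by
      simp only [Function.comp_apply]
      funext i; fin_cases i <;> simp [fu]
    obtain ⟨fu', hfu', huu⟩ := hun.inv
    have hJ : v' * (L.t * (q * L.t * q⁻¹)) * (L.u * L.ν)⁻¹ ∈ L.J :=
      mem_J_of_act L ((hact.mul hfu').congr fun x => by simpa using huu x)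
    refine huν ?_
    have h5 := mul_mem (inv_mem (hJK _ hJ)) (mul_mem hv'K hR)
    rwa [show (v' * (L.t * (q * L.t * q⁻¹)) * (L.u * L.ν)⁻¹)⁻¹ * (v' * (L.t * (q * L.t * q⁻¹))) = L.u * L.ν by
      group] at h5

end Loc

end CfsgLib.OEightLocal
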