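import Cfsg.Agent.Lib.OEightLocal.InvWInst
import Mathlib.GroupTheory.QuotientGroup.Basic

/-!
Coordinates on `W` modulo `⟨t⟩`, the action of `u` and of the elements of `C_J(t)` on them.
-/

set_option autoImplicit false
set_option linter.unusedSectionVars false
set_option linter.style.haveILetI false

namespace CfsgLib.OEightLocal.Loc

variable {G : Type*} [Group G] [Finite G] (L : Loc G)

/-- `⟨t⟩` inside `O`. -/
def Tq : Subgroup L.O := (Subgroup.zpowers L.t).subgroupOf L.O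

theorem mem_Tq {x : L.O} : x ∈ L.Tq ↔ (x : G) ∈ Subgroup.zpowers L.t := Iff.rfl

instance : (L.Tq).Normal := ⟨fun a ha g => by
  rw [L.mem_Tq] at ha ⊢
  obtain ⟨n, hn⟩ := Subgroup.mem_zpowers_iff.1 ha
  simp only [Subgroup.coe_mul, Subgroup.coe_inv]
  rw [← hn, ((L.O_comm_t g.2).zpow_right n).eq, mul_inv_cancel_right]
  exact Subgroup.zpow_mem _ (Subgroup.mem_zpowers _) n⟩

/-- The classes of `O` modulo its centre. -/
abbrev Ob : Type _ := L.O ⧸ L.Tq

/-- The class of an element. -/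
def cl : L.O →* L.Ob := QuotientGroup.mk' L.Tq

theorem cl_eq_one {x : L.O} : L.cl x = 1 ↔ (x : G) ∈ Subgroup.zpowers L.t :=
  QuotientGroup.eq_one_iff x

theorem cl_surj (a : L.Ob) : ∃ x, L.cl x = a := QuotientGroup.mk'_surjective _ a

theorem Ob_sq (a : L.Ob) : a * a = 1 := by
  obtain ⟨x, rfl⟩ := L.cl_surj a
  rw [← map_mul, L.cl_eq_one]
  exact L.sq_T x.2

theorem Ob_inv (a : L.Ob) : a⁻¹ = a := inv_eq_of_mul_eq_one_right (L.Ob_sq a)

theorem Ob_comm (a b : L.Ob) : a * b = b * a := by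
  calc a * b = (a * b)⁻¹ := (L.Ob_inv _).symm
    _ = b⁻¹ * a⁻¹ := mul_inv_rev a b
    _ = b * a := by rw [L.Ob_inv, L.Ob_inv]

/-- The rotation of the classes. -/
noncomputable def yb (c : ZMod 3) : L.Ob →* L.Ob :=
  QuotientGroup.map L.Tq L.Tq (L.yc c) fun x hx => by
    rw [Subgroup.mem_comap, L.mem_Tq]
    obtain ⟨n, hn⟩ := Subgroup.mem_zpowers_iff.1 ((L.mem_Tq).1 hx)
    show L.y ^ c.val * (x : G) * (L.y ^ c.val)⁻¹ ∈ _
    rw [← hn, ((L.comm_ty.symm.pow_left _).zpow_right n).eq, mul_inv_cancel_right]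
    exact Subgroup.zpow_mem _ (Subgroup.mem_zpowers _) n

theorem yb_cl (c : ZMod 3) (x : L.O) : L.yb c (L.cl x) = L.cl (L.yc c x) := rfl

theorem yb_zero (a : L.Ob) : L.yb 0 a = a := by
  obtain ⟨x, rfl⟩ := L.cl_surj a
  rw [yb_cl, yc_zero]

theorem yb_add (c d : ZMod 3) (a : L.Ob) : L.yb c (L.yb d a) = L.yb (c + d) a := by
  obtain ⟨x, rfl⟩ := L.cl_surj a
  rw [yb_cl, yb_cl, yb_cl]
  refine congrArg L.cl (Subtype.ext ?_)
  show L.y ^ c.val * (L.y ^ d.val * (x : G) * (L.y ^ d.val)⁻¹) * (L.y ^ c.val)⁻¹ =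
    L.y ^ (c + d).val * (x : G) * (L.y ^ (c + d).val)⁻¹
  rw [pow_val_add L.cube_y]; group

theorem yb_fpf {c : ZMod 3} (hc : c ≠ 0) {a : L.Ob} (h : L.yb c a = a) : a = 1 := by
  obtain ⟨x, rfl⟩ := L.cl_surj a
  refine L.cl_eq_one.2 (L.yc_fpf hc ?_)
  have h' : L.cl (L.yc c x * x⁻¹) = 1 := by rw [map_mul, map_inv, ← yb_cl, h, mul_inv_cancel]
  simpa using L.cl_eq_one.1 h'

theorem yb_injective (c : ZMod 3) : Function.Injective (L.yb c) := fun a b h => by
  have := congrArg (L.yb (-c)) h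
  rwa [yb_add, yb_add, neg_add_cancel, yb_zero, yb_zero] at this

theorem Ob_orbit {a b : L.Ob} (ha : a ≠ 1) (hb : b ≠ 1) : ∃ k : ZMod 3, L.yb k a = b := by
  obtain ⟨x, rfl⟩ := L.cl_surj a
  obtain ⟨w, rfl⟩ := L.cl_surj b
  have out : ∀ v : L.O, L.cl v ≠ 1 → (v : G) ≠ 1 ∧ (v : G) ≠ L.t := fun v hv =>
    ⟨fun h => hv (L.cl_eq_one.2 (h ▸ one_mem _)), fun h => hv (L.cl_eq_one.2 (h ▸ Subgroup.mem_zpowers _))⟩
  obtain ⟨x1, xt⟩ := out x ha
  obtain ⟨w1, wt⟩ := out w hb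
  obtain ⟨k, hk⟩ := L.O_orbit x.2 x1 xt w.2 w1 wt
  refine ⟨k, ?_⟩
  rw [yb_cl]
  rcases hk with h | h
  · exact congrArg L.cl (Subtype.ext h)
  · have : L.yc k x = w * ⟨L.t, L.t_mem⟩ := Subtype.ext h
    rw [this, map_mul, (L.cl_eq_one (x := ⟨L.t, L.t_mem⟩)).2 (Subgroup.mem_zpowers _), mul_one]

/-- The coordinates modulo `⟨t⟩`. -/
noncomputable def bar (x : G) : Fin 4 → L.Ob := by
  classical
  exact if h : x ∈ L.W then fun k => L.cl (((L.mem_W L.comm_O).1 h).choose k) else 1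

theorem bar_emb (c : Fin 4 → L.O) : L.bar (L.emb L.comm_O c) = fun k => L.cl (c k) := by
  classical
  have hW : L.emb L.comm_O c ∈ L.W := (L.mem_W L.comm_O).2 ⟨c, rfl⟩
  rw [bar, dif_pos hW]
  set c' := ((L.mem_W L.comm_O).1 hW).choose with hc'
  have he : L.emb L.comm_O c' = L.emb L.comm_O c := ((L.mem_W L.comm_O).1 hW).choose_spec
  funext k
  have h : L.emb L.comm_O (c' * c⁻¹) = 1 := by rw [map_mul, map_inv, he, mul_inv_cancel]
  have hk := (L.emb_mem_T L.comm_O).1 (h ▸ one_mem _ : L.emb L.comm_O (c' * c⁻¹) ∈ Subgroup.zpowers L.t) k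
  rw [← L.cl_eq_one, Pi.mul_apply, Pi.inv_apply, map_mul, map_inv, mul_inv_eq_one] at hk
  exact hk

theorem exists_coord {x : G} (hx : x ∈ L.W) : ∃ c, L.emb L.comm_O c = x := (L.mem_W L.comm_O).1 hx

theorem bar_mul {x w : G} (hx : x ∈ L.W) (hw : w ∈ L.W) : L.bar (x * w) = L.bar x * L.bar w := by
  obtain ⟨c, rfl⟩ := L.exists_coord hx
  obtain ⟨d, rfl⟩ := L.exists_coord hw
  rw [← map_mul, bar_emb, bar_emb, bar_emb]
  funext k
  simp

theorem bar_inv {x : G} (hx : x ∈ L.W) : L.bar x⁻¹ = L.bar x := by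
  obtain ⟨c, rfl⟩ := L.exists_coord hx
  rw [← map_inv, bar_emb, bar_emb]
  funext k
  rw [Pi.inv_apply, map_inv, L.Ob_inv]

theorem bar_eq_one {x : G} (hx : x ∈ L.W) : L.bar x = 1 ↔ x ∈ Subgroup.zpowers L.t := by
  obtain ⟨c, rfl⟩ := L.exists_coord hx
  rw [bar_emb, L.emb_mem_T L.comm_O, funext_iff]
  exact forall_congr' fun k => L.cl_eq_one

theorem bar_eq {x w : G} (hx : x ∈ L.W) (hw : w ∈ L.W) :
    L.bar x = L.bar w ↔ x * w⁻¹ ∈ Subgroup.zpowers L.t := by
  rw [← L.bar_eq_one (mul_mem hx (inv_mem hw)), L.bar_mul hx (inv_mem hw), L.bar_inv hw]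
  constructor
  · intro h; rw [h]; funext k; exact L.Ob_sq _
  · intro h
    funext k
    have hk := congrFun h k
    rw [Pi.mul_apply, Pi.one_apply] at hk
    calc L.bar x k = L.bar x k * (L.bar w k * L.bar w k) := by rw [L.Ob_sq, mul_one]
      _ = L.bar w k := by rw [← mul_assoc, hk, one_mul]

theorem bar_jel {v : V} (hv : v 1 = 0) {x : G} (hx : x ∈ L.W) :
    L.bar (L.jel v * x * (L.jel v)⁻¹) = fun k => L.yb (bJ v (pt k)) (L.bar x k) := by
  obtain ⟨c, rfl⟩ := L.exists_coord hx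
  rw [L.emb_turn L.comm_O hv, bar_emb, bar_emb]
  rfl

/-- `u` fixes the first two factors and exchanges the other two. -/
theorem bar_u (hm : L.m = 2) {x : G} (hx : x ∈ L.W) :
    L.bar (L.u * x * L.u⁻¹) = fun k => L.bar x (Equiv.swap (2 : Fin 4) 3 k) := by
  have hu2 : L.u * L.u = 1 := by
    rw [← pow_two, ← L.u_ord hm]; exact pow_orderOf_eq_one _
  have hui : L.u⁻¹ = L.u := inv_eq_of_mul_eq_one_right hu2
  have hf := L.rf_flip
  -- the exchange of `z` and `y` moved by `u` differs from it by an element commuting with `O`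
  set n1 := L.rf⁻¹ * L.u * L.rf with hn1
  have hn1u : ∀ w ∈ L.O, Commute n1 w := by
    have hact : L.Act n1 fu := by
      rw [hn1, hf.inv_eq]
      exact ((hf.act.mul (act_u_two L hm)).mul hf.act).congr (by decide +kernel)
    set j := L.u * n1 with hj
    have hjJ : j ∈ L.J := mem_J_of_act L (((act_u_two L hm).mul hact).congr (by decide +kernel))
    obtain ⟨v, hv⟩ := (mem_J L).1 hjJ
    have hjt : Commute j L.t :=
      L.comm_ut.mul_left ((hf.comm_t.inv_left.mul_left L.comm_ut).mul_left hf.comm_t)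
    have hv1 : v 1 = 0 := by
      have h := congrFun (jel_injective L ((act_t L v).symm.trans (by rw [hv]; exact fix_eq hjt.symm) :
        L.jel (ft v) = L.jel v)) 1
      simp [ft] at h
      exact (by decide : ∀ c : ZMod 3, -c = c → c = 0) _ h
    have hn1j : n1 = L.u * L.jel v := by rw [hv, hj, ← mul_assoc, hu2, one_mul]
    have hsq : n1 * n1 = 1 := by
      rw [hn1, hf.inv_eq, show L.rf * L.u * L.rf * (L.rf * L.u * L.rf) =
        L.rf * L.u * (L.rf * L.rf) * L.u * L.rf by group, hf.sq, mul_one, mul_assoc L.rf L.u L.u, hu2, mul_one,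
        hf.sq]
    have hfix : fu v + v = 0 := by
      refine jel_injective L ?_
      rw [jel_add, jel_zero, ← act_u_two L hm v, ← hsq, hn1j, hui]
      simp only [mul_assoc]
    have hv3 : v 3 = 0 := by
      have h := congrFun hfix 3
      simp [fu] at h
      exact (by decide : ∀ c : ZMod 3, c + c = 0 → c = 0) _ h
    intro w hw
    rw [hn1j]
    refine (L.u_O w hw).mul_left (mul_inv_eq_iff_eq_mul.1 ?_)
    rw [L.O_jel hv1 hw, hv3, ZMod.val_zero, pow_zero]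
    simp
  have hua : L.u * L.a * L.u⁻¹ = L.a⁻¹ := L.u_a hm
  have ha3 : L.a⁻¹ = L.a * L.a := inv_eq_of_mul_eq_one_right (by rw [← pow_two, ← pow_succ', L.cube_a])
  have hur : L.u * L.rf = L.rf * n1 := by rw [hn1]; group
  have key : ∀ (k : Fin 4) (w : L.O), L.u * L.ins k w * L.u⁻¹ = L.ins (Equiv.swap (2 : Fin 4) 3 k) w := by
    intro k w
    have hconj : ∀ g, Commute g (w : G) → ∀ h : G, (h * g) * (w : G) * (h * g)⁻¹ = h * w * h⁻¹ := by
      intro g hg h
      calc (h * g) * (w : G) * (h * g)⁻¹ = h * (g * w * g⁻¹) * h⁻¹ := by group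
        _ = _ := by rw [fix_eq hg]
    rw [ins_apply, ins_apply, show L.u * (L.pz k * (w : G) * (L.pz k)⁻¹) * L.u⁻¹ =
      L.u * L.pz k * (w : G) * (L.u * L.pz k)⁻¹ by group]
    have ha1 : L.u * L.a = L.a * L.a * L.u := by rw [← ha3, ← hua, inv_mul_cancel_right]
    have h2 : L.u * (L.a * L.rf) = L.a * L.a * L.rf * n1 := by
      rw [← mul_assoc, ha1, mul_assoc (L.a * L.a), hur, ← mul_assoc]
    have h3 : L.u * (L.a * L.a * L.rf) = L.a * L.rf * n1 := by
      have h4 : L.u * (L.a * L.a) = L.a * L.u := by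
        rw [← mul_assoc, ha1, mul_assoc (L.a * L.a), ha1, ← mul_assoc]
        rw [show L.a * L.a * (L.a * L.a) = L.a * (L.a * L.a * L.a) by group,
          show L.a * L.a * L.a = 1 by rw [← pow_two, ← pow_succ, L.cube_a], mul_one]
      rw [← mul_assoc, h4, mul_assoc L.a, hur, ← mul_assoc]
    fin_cases k
    · show L.u * 1 * (w : G) * (L.u * 1)⁻¹ = 1 * (w : G) * 1⁻¹
      simp [fix_eq (L.u_O w w.2)]
    · show L.u * L.rf * (w : G) * (L.u * L.rf)⁻¹ = L.rf * (w : G) * L.rf⁻¹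
      rw [hur, hconj _ (hn1u w w.2)]
    · show L.u * (L.a * L.rf) * (w : G) * (L.u * (L.a * L.rf))⁻¹ = L.a * L.a * L.rf * (w : G) * (L.a * L.a * L.rf)⁻¹
      rw [h2, hconj _ (hn1u w w.2)]
    · show L.u * (L.a * L.a * L.rf) * (w : G) * (L.u * (L.a * L.a * L.rf))⁻¹ = L.a * L.rf * (w : G) * (L.a * L.rf)⁻¹
      rw [h3, hconj _ (hn1u w w.2)]
  obtain ⟨c, rfl⟩ := L.exists_coord hx
  let P : (Fin 4 → L.O) →* (Fin 4 → L.O) :=
    MonoidHom.pi fun j => Pi.evalMonoidHom _ (Equiv.swap (2 : Fin 4) 3 j)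
  have h : (MulAut.conj L.u).toMonoidHom.comp (L.emb L.comm_O) = (L.emb L.comm_O).comp P := by
    refine MonoidHom.pi_ext fun k w => ?_
    have e : P (Pi.mulSingle k w) = Pi.mulSingle (Equiv.swap (2 : Fin 4) 3 k) w := by
      funext j
      show (Pi.mulSingle k w : Fin 4 → L.O) (Equiv.swap (2 : Fin 4) 3 j) = _
      rcases eq_or_ne j (Equiv.swap (2 : Fin 4) 3 k) with rfl | hj
      · simp
      · rw [Pi.mulSingle_eq_of_ne hj, Pi.mulSingle_eq_of_ne fun h => hj (by rw [← h, Equiv.swap_apply_self])]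
    simp only [MonoidHom.comp_apply, MulEquiv.coe_toMonoidHom, MulAut.conj_apply, e, emb_single]
    exact key k w
  have h' : L.u * L.emb L.comm_O c * L.u⁻¹ = L.emb L.comm_O (P c) :=
    congrArg (fun φ : (Fin 4 → L.O) →* G => φ c) h
  rw [h', bar_emb, bar_emb]
  rfl

end CfsgLib.OEightLocal.Loc
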