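import Cfsg.Agent.Lib.OEightLocal.TwoF
import Cfsg.Agent.Lib.OEightLocal.Trans

/-!
The 2-group `T = W F`: `W` is invariant under its normaliser, and the centraliser sizes of the conjugates
of `u` in it.
-/

set_option autoImplicit false
set_option linter.unusedSectionVars false
set_option linter.style.haveILetI false

namespace CfsgLib.OEightLocal

theorem card_sup_mul {G : Type*} [Group G] (A B : Subgroup G)
    (hB : B ≤ Subgroup.normalizer (A : Set G)) :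
    Nat.card ↥(A ⊔ B) * Nat.card ↥(A ⊓ B) = Nat.card A * Nat.card B := by
  haveI := Subgroup.normal_subgroupOf_of_le_normalizer hB
  haveI := Subgroup.normal_subgroupOf_sup_of_le_normalizer hB
  have e := Nat.card_congr (QuotientGroup.quotientInfEquivProdNormalizerQuotient B A hB).toEquiv
  have hcard : Nat.card (A.subgroupOf B) = Nat.card ↥(A ⊓ B) := by
    rw [← Subgroup.inf_subgroupOf_right,
      Nat.card_congr (Subgroup.subgroupOfEquivOfLe (inf_le_right : A ⊓ B ≤ B)).toEquiv]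
  have h1 := (A.subgroupOf B).card_mul_index
  have h2 := (A.subgroupOf (B ⊔ A)).card_mul_index
  rw [Subgroup.index_eq_card] at h1 h2
  rw [Nat.card_congr (Subgroup.subgroupOfEquivOfLe (le_sup_right : A ≤ B ⊔ A)).toEquiv, ← e] at h2
  rw [hcard] at h1
  rw [sup_comm, ← h1, ← h2]
  ring

variable {G : Type*} [Group G] [Finite G] (L : Loc G)

namespace Loc

theorem W_comm {a b : G} (ha : a ∈ L.W) (hb : b ∈ L.W) : a * b * a⁻¹ * b⁻¹ ∈ Subgroup.zpowers L.t := by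
  obtain ⟨x, rfl⟩ := (L.mem_W L.comm_O).1 ha
  obtain ⟨y, rfl⟩ := (L.mem_W L.comm_O).1 hb
  rw [← map_inv, ← map_inv, ← map_mul, ← map_mul, ← map_mul]
  exact (L.emb_mem_T L.comm_O).2 fun k => L.comm_T (x k).2 (y k).2

theorem W_sq {a : G} (ha : a ∈ L.W) : a * a ∈ Subgroup.zpowers L.t := by
  obtain ⟨x, rfl⟩ := (L.mem_W L.comm_O).1 ha
  rw [← map_mul]
  exact (L.emb_mem_T L.comm_O).2 fun k => L.sq_T (x k).2

/-- The two-group `W F`. -/
noncomputable def T₀ : Subgroup G := L.W ⊔ L.FS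

/-- Its part without `u`. -/
noncomputable def T₁ : Subgroup G := L.W ⊔ L.FS₁

theorem FS₁_le : L.FS₁ ≤ L.FS := fun _ ⟨s, h⟩ => ⟨s, false, h⟩

theorem t_mem_FS₁ : L.t ∈ L.FS₁ := ⟨_, L.isSgn_t⟩

theorem mem_T₀ {x : G} : x ∈ L.T₀ ↔ ∃ w ∈ L.W, ∃ f ∈ L.FS, x = w * f := by
  constructor
  · intro hx
    have hx' : x ∈ ((L.W ⊔ L.FS : Subgroup G) : Set G) := hx
    rw [Subgroup.coe_mul_of_right_le_normalizer_left _ _ (L.FS_le_NT.trans L.NT_le_norm_W)] at hx'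
    obtain ⟨w, hw, f, hf, rfl⟩ := hx'
    exact ⟨w, hw, f, hf, rfl⟩
  · rintro ⟨w, hw, f, hf, rfl⟩
    exact mul_mem (Subgroup.mem_sup_left hw) (Subgroup.mem_sup_right hf)

theorem mem_T₁ {x : G} : x ∈ L.T₁ ↔ ∃ w ∈ L.W, ∃ f ∈ L.FS₁, x = w * f := by
  constructor
  · intro hx
    have hx' : x ∈ ((L.W ⊔ L.FS₁ : Subgroup G) : Set G) := hx
    rw [Subgroup.coe_mul_of_right_le_normalizer_left _ _
      ((L.FS₁_le.trans L.FS_le_NT).trans L.NT_le_norm_W)] at hx'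
    obtain ⟨w, hw, f, hf, rfl⟩ := hx'
    exact ⟨w, hw, f, hf, rfl⟩
  · rintro ⟨w, hw, f, hf, rfl⟩
    exact mul_mem (Subgroup.mem_sup_left hw) (Subgroup.mem_sup_right hf)

theorem T₁_le : L.T₁ ≤ L.T₀ := sup_le le_sup_left (L.FS₁_le.trans le_sup_right)

theorem T₀_le_M₀ : L.T₀ ≤ L.M₀ := sup_le le_sup_left (L.FS_le_NT.trans le_sup_right)

theorem T₀_ct {x : G} (hx : x ∈ L.T₀) : Commute x L.t :=
  Subgroup.mem_centralizer_singleton_iff.1 (L.M₀_le_ct (L.T₀_le_M₀ hx))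

theorem W_inf_of_le {B : Subgroup G} (hB : B ≤ L.NT) (ht : L.t ∈ B) : L.W ⊓ B = Subgroup.zpowers L.t :=
  le_antisymm (fun x hx => (L.W_inf_NJ L.comm_O).le ⟨hx.1, (L.mem_NT.1 (hB hx.2)).1⟩)
    (le_inf (Subgroup.zpowers_le.2 L.t_mem_W) (Subgroup.zpowers_le.2 ht))

theorem card_T₀ (hm : L.m = 2) : Nat.card L.T₀ = 8192 := by
  have h := card_sup_mul L.W L.FS (L.FS_le_NT.trans L.NT_le_norm_W)
  rw [L.W_inf_of_le L.FS_le_NT (L.FS₁_le L.t_mem_FS₁), L.t_ord_zpowers, L.card_W_eq, L.card_FS hm] at h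
  show Nat.card ↥(L.W ⊔ L.FS) = 8192
  omega

theorem card_T₁ (hm : L.m = 2) : Nat.card L.T₁ = 4096 := by
  have h := card_sup_mul L.W L.FS₁ ((L.FS₁_le.trans L.FS_le_NT).trans L.NT_le_norm_W)
  rw [L.W_inf_of_le (L.FS₁_le.trans L.FS_le_NT) L.t_mem_FS₁, L.t_ord_zpowers, L.card_W_eq, L.card_FS₁ hm] at h
  show Nat.card ↥(L.W ⊔ L.FS₁) = 4096
  omega

theorem card_M₀_eq (hm : L.m = 2) : Nat.card ↥L.M₀ = 663552 := by
  have h := card_sup_mul L.W L.NT L.NT_le_norm_W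
  have ht : L.t ∈ L.NT := L.gens_NT.2.2.2.2.2
  rw [L.W_inf_of_le le_rfl ht, L.t_ord_zpowers, L.card_W_eq,
    show Nat.card L.NT = 1296 * L.m from card_normJ_t L, hm] at h
  show Nat.card ↥(L.W ⊔ L.NT) = 663552
  omega

theorem T₀_norm_W : L.T₀ ≤ Subgroup.normalizer (L.W : Set G) :=
  sup_le Subgroup.le_normalizer (L.FS_le_NT.trans L.NT_le_norm_W)

theorem sgn_mem_T {f : G} {s : Fin 4 → Bool} {b : Bool} (h : L.IsSgn f s b)
    (ht : b = false ∧ s 0 = false ∧ s 1 = false ∧ s 2 = false) : f ∈ Subgroup.zpowers L.t := by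
  obtain ⟨rfl, h0, h1, h2⟩ := ht
  have hs : s = ![false, false, false, s 3] := by funext k; fin_cases k <;> simp [h0, h1, h2]
  rw [hs] at h
  cases h3 : s 3 <;> rw [h3] at h
  · rw [show (![false, false, false, false] : Fin 4 → Bool) = fun _ => false by decide] at h
    rw [L.sgn_unique h L.isSgn_one]; exact one_mem _
  · rw [L.sgn_unique h L.isSgn_t]; exact Subgroup.mem_zpowers _

/-- The centraliser on `W` modulo `⟨t⟩` depends on the coset of `W`. -/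
theorem CW_coset {w f c : G} (hw : w ∈ L.W) (hc : c ∈ L.W) :
    (w * f) * c * (w * f)⁻¹ * c⁻¹ ∈ Subgroup.zpowers L.t ↔ f * c * f⁻¹ * c⁻¹ ∈ Subgroup.zpowers L.t := by
  have hwt : Commute w L.t := Subgroup.mem_centralizer_singleton_iff.1 (L.W_le_ct hw)
  have fixT : ∀ τ ∈ Subgroup.zpowers L.t, ∀ x : G, Commute x L.t → x * τ * x⁻¹ = τ := fun τ hτ x hx => by
    obtain ⟨n, rfl⟩ := Subgroup.mem_zpowers_iff.1 hτ
    exact fix_eq (hx.zpow_right n)
  have e : w * f * c * (w * f)⁻¹ * c⁻¹ = w * (f * c * f⁻¹ * c⁻¹) * w⁻¹ * (w * c * w⁻¹ * c⁻¹) := by group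
  rw [e, Subgroup.mul_mem_cancel_right _ (L.W_comm hw hc)]
  constructor
  · intro h
    have := fixT _ h w⁻¹ hwt.inv_left
    rw [show w⁻¹ * (w * (f * c * f⁻¹ * c⁻¹) * w⁻¹) * w⁻¹⁻¹ = f * c * f⁻¹ * c⁻¹ by group] at this
    rw [this]; exact h
  · intro h
    rw [fixT _ h w hwt]; exact h

theorem cent_W {x : G} (hx : x ∈ L.T₀) (h : ∀ c ∈ L.W, Commute x c) : x ∈ Subgroup.zpowers L.t := by
  obtain ⟨w, hw, f, ⟨s, b, hf⟩, rfl⟩ := L.mem_T₀.1 hx
  by_cases ht : b = false ∧ s 0 = false ∧ s 1 = false ∧ s 2 = false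
  · have hfT := L.sgn_mem_T hf ht
    exact L.center_W_mem L.comm_O (mul_mem hw ((Subgroup.zpowers_le.2 L.t_mem_W) hfT)) h
  exfalso
  have h1 : L.W ≤ L.CW f := fun c hc => ⟨hc, (L.CW_coset hw hc).1 (by
    rw [(h c hc).eq, mul_inv_cancel_right, mul_inv_cancel]; exact one_mem _)⟩
  have h2 := (L.CW_bound hf ht).1
  have h3 := Subgroup.card_le_of_le h1
  rw [L.card_W_eq] at h3
  omega

theorem conj_t_of_normalizes {g : G} (hg : ∀ x ∈ L.T₀, g * x * g⁻¹ ∈ L.T₀)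
    (hg' : ∀ x ∈ L.T₀, g⁻¹ * x * g ∈ L.T₀) : Commute g L.t := by
  have htT : L.t ∈ L.T₀ := Subgroup.mem_sup_left L.t_mem_W
  have h1 : g * L.t * g⁻¹ ∈ Subgroup.zpowers L.t := L.cent_W (hg _ htT) fun c hc => by
    have hc' := hg' c (Subgroup.mem_sup_left hc)
    have := (L.T₀_ct hc').map (MulAut.conj g).toMonoidHom
    simp only [MulEquiv.coe_toMonoidHom, MulAut.conj_apply] at this
    rw [show g * (g⁻¹ * c * g) * g⁻¹ = c by group] at this
    exact this.symm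
  rcases L.mem_T.1 h1 with h | h
  · exact absurd (conj_eq_one_iff.1 h) (t_ne L)
  · exact mul_inv_eq_iff_eq_mul.1 h

/-- `W` is invariant under the normaliser of `T₀`. -/
theorem W_char (hm : L.m = 2) {g : G} (hg : ∀ x ∈ L.T₀, g * x * g⁻¹ ∈ L.T₀)
    (hg' : ∀ x ∈ L.T₀, g⁻¹ * x * g ∈ L.T₀) : g ∈ Subgroup.normalizer (L.W : Set G) := by
  classical
  have hgt := L.conj_t_of_normalizes hg hg'
  set W' := L.W.map (MulAut.conj g).toMonoidHom with hW'
  suffices hle : W' ≤ L.W by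
    have he : W' = L.W := Subgroup.eq_of_le_of_card_ge hle
      (le_of_eq (Subgroup.card_map_of_injective (MulAut.conj g).injective).symm)
    exact Subgroup.mem_normalizer_iff_map_conj_eq.mpr he
  have hW'T : W' ≤ L.T₀ := by
    rintro _ ⟨w, hw, rfl⟩; exact hg w (Subgroup.mem_sup_left hw)
  have hcomm : ∀ a ∈ W', ∀ b ∈ W', a * b * a⁻¹ * b⁻¹ ∈ Subgroup.zpowers L.t := by
    rintro _ ⟨a, ha, rfl⟩ _ ⟨b, hb, rfl⟩
    obtain ⟨n, hn⟩ := Subgroup.mem_zpowers_iff.1 (L.W_comm ha hb)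
    refine Subgroup.mem_zpowers_iff.2 ⟨n, ?_⟩
    simp only [MulEquiv.coe_toMonoidHom, MulAut.conj_apply]
    rw [show g * a * g⁻¹ * (g * b * g⁻¹) * (g * a * g⁻¹)⁻¹ * (g * b * g⁻¹)⁻¹ =
      g * (a * b * a⁻¹ * b⁻¹) * g⁻¹ by group, ← hn, fix_eq (hgt.zpow_right n)]
  have hsq : ∀ a ∈ W', a * a ∈ L.W := by
    rintro _ ⟨a, ha, rfl⟩
    obtain ⟨n, hn⟩ := Subgroup.mem_zpowers_iff.1 (L.W_sq ha)
    simp only [MulEquiv.coe_toMonoidHom, MulAut.conj_apply]
    rw [show g * a * g⁻¹ * (g * a * g⁻¹) = g * (a * a) * g⁻¹ by group, ← hn, fix_eq (hgt.zpow_right n)]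
    exact zpow_mem L.t_mem_W n
  set Y := L.W ⊓ W'
  have hY : ∀ {x w f : G}, x ∈ W' → w ∈ L.W → x = w * f → Y ≤ L.CW f := fun {x w f} hx hw e c hc =>
    ⟨hc.1, (L.CW_coset hw hc.1).1 (e ▸ hcomm x hx c hc.2)⟩
  have hW'card : Nat.card W' = 512 := by
    rw [hW', Subgroup.card_map_of_injective (MulAut.conj g).injective, L.card_W_eq]; norm_num
  have hnorm : W' ≤ Subgroup.normalizer (L.W : Set G) := hW'T.trans L.T₀_norm_W
  have hsup : Nat.card ↥(L.W ⊔ W') * Nat.card Y = 512 * 512 := by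
    rw [card_sup_mul L.W W' hnorm, hW'card, L.card_W_eq]; norm_num
  intro x hx
  by_contra hxW
  obtain ⟨w, hw, f, ⟨s, b, hf⟩, e⟩ := L.mem_T₀.1 (hW'T hx)
  have hne : ∀ {x w f : G} {s : Fin 4 → Bool} {b : Bool}, x ∉ L.W → w ∈ L.W → x = w * f → L.IsSgn f s b →
      ¬ (b = false ∧ s 0 = false ∧ s 1 = false ∧ s 2 = false) := fun {x w f s b} hxW hw e hf ht =>
    hxW (e ▸ mul_mem hw ((Subgroup.zpowers_le.2 L.t_mem_W) (L.sgn_mem_T hf ht)))
  by_cases hsmall : ∃ x ∈ W', x ∉ L.W ∧ ∀ w ∈ L.W, ∀ f, ∀ s b, x = w * f → L.IsSgn f s b → ¬ Big s b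
  · obtain ⟨x, hx, hxW, hb⟩ := hsmall
    obtain ⟨w, hw, f, ⟨s, b, hf⟩, e⟩ := L.mem_T₀.1 (hW'T hx)
    have h32 := (L.CW_bound hf (hne hxW hw e hf)).2 (hb w hw f s b e hf)
    have h1 := Subgroup.card_le_of_le (hY hx hw e)
    have htop : L.W ⊔ W' = L.T₀ := by
      refine Subgroup.eq_of_le_of_card_ge (sup_le le_sup_left hW'T) ?_
      rw [L.card_T₀ hm]
      have h3 : 0 < Nat.card Y := Nat.card_pos
      nlinarith
    obtain ⟨q, hq⟩ := L.exists_sgn hm ![false, true, false, false] true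
    have hqT : q ∈ ((L.W ⊔ W' : Subgroup G) : Set G) := by
      rw [htop]; exact L.mem_T₀.2 ⟨1, one_mem _, q, ⟨_, _, hq⟩, (one_mul q).symm⟩
    rw [Subgroup.coe_mul_of_right_le_normalizer_left _ _ hnorm] at hqT
    obtain ⟨a, ha, c, hc, hac⟩ := hqT
    have hq2 : q * q ∈ L.W := by
      rw [← hac, show a * c * (a * c) = a * (c * a * c⁻¹) * (c * c) by group]
      exact mul_mem (mul_mem ha ((Subgroup.mem_normalizer_iff.1 (hnorm hc) a).1 ha)) (hsq c hc)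
    have hq3 := (L.W_inf_NJ L.comm_O).le ⟨hq2, mul_mem hq.1.mem_normalizer hq.1.mem_normalizer⟩
    rcases L.mem_T.1 hq3 with h | h
    · have := (L.sgn_inj (h ▸ hq.mul L hq) L.isSgn_one).1
      exact absurd (congrFun this 1) (by decide)
    · have := (L.sgn_inj (h ▸ hq.mul L hq) L.isSgn_t).1
      exact absurd (congrFun this 1) (by decide)
  push Not at hsmall
  -- all the cosets are of the type of `u`
  obtain ⟨w₀, hw₀, f₀, s₀, b₀, e₀, hf₀, hB₀⟩ := hsmall x hx hxW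
  have h128 := (L.CW_bound hf₀ (hne hxW hw₀ e₀ hf₀)).1
  have hY128 := (Subgroup.card_le_of_le (hY hx hw₀ e₀)).trans h128
  have hall : ∀ y ∈ W', y ∈ L.W ∨ x * y ∈ L.W := by
    intro y hy
    by_cases hyW : y ∈ L.W
    · exact Or.inl hyW
    refine Or.inr ?_
    by_contra hxy
    obtain ⟨w₁, hw₁, f₁, s₁, b₁, e₁, hf₁, hB₁⟩ := hsmall y hy hyW
    obtain ⟨w₂, hw₂, f₂, s₂, b₂, e₂, hf₂, hB₂⟩ := hsmall (x * y) (mul_mem hx hy) hxy
    -- the signs of the product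
    have hfw : f₀ * w₁ * f₀⁻¹ ∈ L.W :=
      L.NT_norm_W (L.FS_le_NT ⟨_, _, hf₀⟩) hw₁
    have h01 : f₂⁻¹ * (f₀ * f₁) ∈ L.W := by
      have h4 : w₀ * (f₀ * w₁ * f₀⁻¹) * (f₀ * f₁) = w₂ * f₂ := by rw [← e₂, e₀, e₁]; group
      have h5 : f₂⁻¹ * (f₀ * f₁) = f₂⁻¹ * ((w₀ * (f₀ * w₁ * f₀⁻¹))⁻¹ * w₂) * f₂⁻¹⁻¹ := by
        rw [show f₂⁻¹ * ((w₀ * (f₀ * w₁ * f₀⁻¹))⁻¹ * w₂) * f₂⁻¹⁻¹ =
          f₂⁻¹ * ((w₀ * (f₀ * w₁ * f₀⁻¹))⁻¹ * (w₂ * f₂)) by group, ← h4, inv_mul_cancel_left]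
      rw [h5]
      exact L.NT_norm_W (inv_mem (L.FS_le_NT ⟨_, _, hf₂⟩)) (mul_mem (inv_mem (mul_mem hw₀ hfw)) hw₂)
    have hT := (L.W_inf_of_le L.FS_le_NT (L.FS₁_le L.t_mem_FS₁)).le
      ⟨h01, mul_mem (L.FS.inv_mem ⟨_, _, hf₂⟩) (L.FS.mul_mem ⟨_, _, hf₀⟩ ⟨_, _, hf₁⟩)⟩
    have hb : b₂ = (b₀ ^^ b₁) := by
      rcases L.mem_T.1 hT with h | h
      · exact ((L.sgn_inj (inv_mul_eq_one.1 h ▸ hf₂) (hf₀.mul L hf₁))).2
      · have e3 : f₀ * f₁ = f₂ * L.t := by rw [← h, mul_inv_cancel_left]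
        have := (L.sgn_inj (e3 ▸ hf₀.mul L hf₁) (hf₂.mul L L.isSgn_t)).2
        simpa using this.symm
    rw [hB₀.1, hB₁.1, hB₂.1] at hb
    exact absurd hb (by decide)
  have h512 : Nat.card W' ≤ 2 * Nat.card Y := by
    rw [← Nat.card_eq_two_iff.2 ⟨false, true, by decide, Set.eq_univ_of_forall fun b => by cases b <;> simp⟩,
      ← Nat.card_prod]
    refine Nat.card_le_card_of_injective (fun y : W' =>
      if h : (y : G) ∈ L.W then (false, (⟨y, h, y.2⟩ : Y)) else (true, ⟨x * y, (hall y y.2).resolve_left h,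
        mul_mem hx y.2⟩)) fun a c h => ?_
    by_cases ha : (a : G) ∈ L.W <;> by_cases hc : (c : G) ∈ L.W
    · simp only [ha, hc, dite_true, Prod.mk.injEq, true_and] at h
      exact Subtype.ext (congrArg (fun z : Y => (z : G)) (by exact h))
    · simp [ha, hc] at h
    · simp [ha, hc] at h
    · simp only [ha, hc, dite_false, Prod.mk.injEq, true_and] at h
      exact Subtype.ext (mul_left_cancel (congrArg (fun z : Y => (z : G)) (by exact h)))
  omega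

/-- The centraliser of `u` on `W` modulo `⟨t⟩` is large. -/
theorem CW_u (hm : L.m = 2) : 32 < Nat.card (L.CW L.u) := by
  classical
  set hc := L.comm_O
  have hu := L.isSgn_u hm
  obtain ⟨σ, φ, hφ, he⟩ := L.emb_NT hc (L.mem_NT_of_act hu.1 hu.2.1)
  have s0 : σ 0 = 0 := L.slot_eq hu.1 hu.2.1 hφ he (Or.inl (by decide +kernel))
  have s1 : σ 1 = 1 := L.slot_eq hu.1 hu.2.1 hφ he (Or.inl (by decide +kernel))
  have s2 : σ 2 = 3 := L.slot_eq hu.1 hu.2.1 hφ he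
    ((by decide +kernel : fgm (fun _ => false) true (pt 2) = pt 3 ∨ fgm (fun _ => false) true (pt 2) = -pt 3))
  have s3 : σ 3 = 2 := L.slot_eq hu.1 hu.2.1 hφ he
    ((by decide +kernel : fgm (fun _ => false) true (pt 3) = pt 2 ∨ fgm (fun _ => false) true (pt 3) = -pt 2))
  have hins : ∀ k x, L.u * L.ins k x * L.u⁻¹ = L.ins (σ k) (φ k x) := by
    intro k x
    rw [← L.emb_single hc k, he, ← L.emb_single hc (σ k)]
    congr 1
    funext i
    rcases eq_or_ne i (σ k) with rfl | hi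
    · simp
    · rw [Pi.mulSingle_eq_of_ne hi, Pi.mulSingle_eq_of_ne fun h => hi (by rw [← h, Equiv.apply_symm_apply]),
        map_one]
  have hu2 : L.u * L.u = 1 := by rw [← pow_two, ← L.u_ord hm, pow_orderOf_eq_one]
  have p0 : ∀ x, φ 0 x = x := fun x => L.ins_injective 0 (by
    have := hins 0 x
    rw [s0, ins_apply, pz_zero] at this
    simp only [one_mul, inv_one, mul_one] at this
    rw [fix_eq (L.u_O _ x.2)] at this
    rw [← this, ins_apply, pz_zero]; simp)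
  have hcomm : ∀ w ∈ L.O, Commute L.u (L.rf * w * L.rf⁻¹) := by
    intro w hw
    have hr := L.rf_flip
    obtain ⟨v, hv⟩ := (mem_J L).1 (mem_J_of_act L (x := L.u * L.rf * L.u * L.rf)
      (((((act_u_two L hm).mul hr.act).mul (act_u_two L hm)).mul hr.act).congr fun v => by
        simp only [Function.comp_apply, id]
        exact (by decide +kernel : ∀ v : V, fu (fr (fu (fr v))) = v) v))
    have ri := hr.inv_eq
    have ui : L.u⁻¹ = L.u := inv_eq_of_mul_eq_one_right hu2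
    have hinvv : fu v = -v := jel_injective L (by
      rw [← act_u_two L hm v, jel_neg, hv, ui, mul_inv_rev, mul_inv_rev, mul_inv_rev, ri, ui]
      calc L.u * (L.u * L.rf * L.u * L.rf) * L.u = L.u * L.u * L.rf * L.u * L.rf * L.u := by group
        _ = _ := by rw [hu2, one_mul]; group)
    have hv1 : v 1 = 0 := by
      have := congrFun hinvv 1
      simp [fu] at this
      revert this; generalize v 1 = c; revert c; decide
    have hv0 : v 0 = 0 := by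
      have := congrFun hinvv 0
      simp [fu] at this
      revert this; generalize v 0 = c; revert c; decide
    refine mul_inv_eq_iff_eq_mul.1 ?_
    have hinsw := L.conj_ins hv1 1 ⟨w, hw⟩
    rw [show bJ v (pt 1) = 0 from (by
      show bJ v ![0, 0, 0, 1] = 0
      simp [bJ, hv0]), yc_zero, ins_apply, show L.pz 1 = L.rf from rfl] at hinsw
    have e : L.u * L.rf = L.jel v * L.rf * L.u := by
      rw [hv]
      calc L.u * L.rf = L.u * L.rf * L.u * (L.rf * L.rf) * L.u := by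
            rw [hr.sq, mul_one, mul_assoc (L.u * L.rf), hu2, mul_one]
        _ = _ := by group
    calc L.u * (L.rf * w * L.rf⁻¹) * L.u⁻¹ = L.u * L.rf * w * (L.u * L.rf)⁻¹ := by group
      _ = L.jel v * (L.rf * (L.u * w * L.u⁻¹) * L.rf⁻¹) * (L.jel v)⁻¹ := by rw [e]; group
      _ = _ := by rw [fix_eq (L.u_O w hw)]; exact hinsw
  have p1 : ∀ x, φ 1 x = x := fun x => L.ins_injective 1 (by
    have := hins 1 x
    rw [s1] at this
    rw [← this, ins_apply, show L.pz 1 = L.rf from rfl, fix_eq (hcomm x x.2)])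
  have p32 : ∀ x, φ 3 (φ 2 x) = x := fun x => L.ins_injective 2 (by
    have h2 := hins 2 x
    have h3 := hins 3 (φ 2 x)
    rw [s2] at h2
    rw [s3, ← h2] at h3
    rw [← h3, show L.u * (L.u * L.ins 2 x * L.u⁻¹) * L.u⁻¹ = L.u * L.u * L.ins 2 x * (L.u * L.u)⁻¹ by group, hu2]
    simp)
  set E := (L.CW L.u).comap (L.emb hc)
  have hE : Nat.card E = 8 * Nat.card (L.CW L.u) := by
    have h := E.card_mul_index
    rw [Nat.card_fun, Nat.card_fin, L.card_O, Subgroup.index_comap, L.emb_range hc] at h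
    have h2 := Subgroup.relIndex_mul_relIndex ⊥ (L.CW L.u) L.W bot_le (L.CW_le L.u)
    rw [Subgroup.relIndex_bot_left, Subgroup.relIndex_bot_left, L.card_W hc] at h2
    have hne0 : (L.CW L.u).relIndex L.W ≠ 0 := fun h0 => by rw [h0, mul_zero] at h2; norm_num at h2
    have : Nat.card E * (L.CW L.u).relIndex L.W = 8 * Nat.card (L.CW L.u) * (L.CW L.u).relIndex L.W := by
      rw [h, mul_assoc, h2]; norm_num
    exact Nat.eq_of_mul_eq_mul_right (Nat.pos_of_ne_zero hne0) this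
  have hmem : ∀ a b c : L.O, ![a, b, c, φ 2 c] ∈ E := by
    intro a b c
    refine ⟨(L.mem_W hc).2 ⟨_, rfl⟩, ?_⟩
    rw [he]
    have : (fun j => φ (σ.symm j) ((![a, b, c, φ 2 c] : Fin 4 → L.O) (σ.symm j))) = ![a, b, c, φ 2 c] := by
      funext j
      have i0 : σ.symm 0 = 0 := by rw [Equiv.symm_apply_eq, s0]
      have i1 : σ.symm 1 = 1 := by rw [Equiv.symm_apply_eq, s1]
      have i2 : σ.symm 2 = 3 := by rw [Equiv.symm_apply_eq, s3]
      have i3 : σ.symm 3 = 2 := by rw [Equiv.symm_apply_eq, s2]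
      fin_cases j
      · show φ (σ.symm 0) _ = a; simp [i0, p0]
      · show φ (σ.symm 1) _ = b; simp [i1, p1]
      · show φ (σ.symm 2) _ = c; simp [i2, p32]
      · show φ (σ.symm 3) _ = φ 2 c; simp [i3]
    rw [this, mul_inv_cancel]; exact one_mem _
  have h512 : 512 ≤ Nat.card E := by
    refine le_trans (le_of_eq ?_) (Nat.card_le_card_of_injective
      (fun p : L.O × L.O × L.O => (⟨_, hmem p.1 p.2.1 p.2.2⟩ : E)) fun p q h => ?_)
    · simp only [Nat.card_prod, show Nat.card L.O = 8 from L.card_O]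
    · have h' := congrArg Subtype.val h
      exact Prod.ext (congrFun h' 0) (Prod.ext (congrFun h' 1) (congrFun h' 2))
  omega

/-- A conjugate of `u` by an element normalising `T₀` lies in a coset of the type of `u`. -/
theorem u_image (hm : L.m = 2) {g : G} (hg : ∀ x ∈ L.T₀, g * x * g⁻¹ ∈ L.T₀)
    (hg' : ∀ x ∈ L.T₀, g⁻¹ * x * g ∈ L.T₀) :
    ∃ w ∈ L.W, ∃ f s, g * L.u * g⁻¹ = w * f ∧ L.IsSgn f s true ∧ s 0 = false ∧ s 1 = s 2 := by
  have hgt := L.conj_t_of_normalizes hg hg'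
  have hgW := L.W_char hm hg hg'
  have huT : L.u ∈ L.T₀ := Subgroup.mem_sup_right ⟨_, _, L.isSgn_u hm⟩
  obtain ⟨w, hw, f, ⟨s, b, hf⟩, e⟩ := L.mem_T₀.1 (hg _ huT)
  have hle : (L.CW L.u).map (MulAut.conj g).toMonoidHom ≤ L.CW f := by
    rintro _ ⟨c, ⟨hcW, hc⟩, rfl⟩
    have hc' : g * c * g⁻¹ ∈ L.W := (Subgroup.mem_normalizer_iff.1 hgW c).1 hcW
    refine ⟨hc', (L.CW_coset hw hc').1 ?_⟩
    rw [← e]
    obtain ⟨n, hn⟩ := Subgroup.mem_zpowers_iff.1 hc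
    refine Subgroup.mem_zpowers_iff.2 ⟨n, ?_⟩
    rw [show g * L.u * g⁻¹ * (g * c * g⁻¹) * (g * L.u * g⁻¹)⁻¹ * (g * c * g⁻¹)⁻¹ =
      g * (L.u * c * L.u⁻¹ * c⁻¹) * g⁻¹ by group, ← hn, fix_eq (hgt.zpow_right n)]
  have hcard := Subgroup.card_le_of_le hle
  rw [Subgroup.card_map_of_injective (MulAut.conj g).injective] at hcard
  have hu := L.CW_u hm
  have hne : ¬ (b = false ∧ s 0 = false ∧ s 1 = false ∧ s 2 = false) := fun ht => by
    -- `u` is not in `W`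
    have hW : g * L.u * g⁻¹ ∈ L.W := e ▸ mul_mem hw ((Subgroup.zpowers_le.2 L.t_mem_W) (L.sgn_mem_T hf ht))
    have hu' : L.u ∈ L.W := (Subgroup.mem_normalizer_iff.1 hgW L.u).2 hW
    have hT := (L.W_inf_of_le L.FS_le_NT (L.FS₁_le L.t_mem_FS₁)).le ⟨hu', ⟨_, _, L.isSgn_u hm⟩⟩
    rcases L.mem_T.1 hT with h | h
    · exact absurd (L.sgn_inj (h ▸ L.isSgn_u hm) L.isSgn_one).2 (by decide)
    · exact absurd (L.sgn_inj (h ▸ L.isSgn_u hm) L.isSgn_t).2 (by decide)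
  by_cases hB : Big s b
  · obtain ⟨rfl, h0, h12⟩ := hB
    exact ⟨w, hw, f, s, e, hf, h0, h12⟩
  · have := (L.CW_bound hf hne).2 hB
    omega

end Loc

end CfsgLib.OEightLocal
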